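import Mathlib
import Cfsg.Prelude.Def_Blocks

set_option autoImplicit false

namespace Cfsg.Agent.Lib.Helper83

open scoped ComplexConjugate ComplexOrder
open Cfsg

universe u
variable {G : Type u} [Group G]

theorem isCharacter_of_irr {χ : G → ℂ} (h : IsIrrCharacter G χ) : IsCharacter G χ := by
  obtain ⟨n, ρ, _, h⟩ := h; exact ⟨n, ρ, h⟩

theorem IrrCharacter_isCharacter (χ : IrrCharacter G) : IsCharacter G (χ : G → ℂ) :=
  isCharacter_of_irr χ.2

/-- A character is a class function. -/
theorem char_conj_eq {χ : G → ℂ} (h : IsCharacter G χ) (g x : G) : χ (x * g * x⁻¹) = χ g := by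
  obtain ⟨n, ρ, rfl⟩ := h
  exact Representation.char_conj ρ g x

theorem char_isClassFunction {χ : G → ℂ} (h : IsCharacter G χ) : IsClassFunction G χ :=
  fun g x => char_conj_eq h g x

theorem char_mul_comm {χ : G → ℂ} (h : IsCharacter G χ) (g x : G) : χ (x * g) = χ (g * x) := by
  obtain ⟨n, ρ, rfl⟩ := h
  exact Representation.char_mul_comm ρ g x

/-- The value at `1` of the character of a representation on `Fin n → ℂ` is `n`. -/
theorem rep_char_one {n : ℕ} (ρ : Representation ℂ G (Fin n → ℂ)) : ρ.character 1 = n := by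
  simp [Representation.char_one]

theorem char_one_eq_nat {χ : G → ℂ} (h : IsCharacter G χ) : ∃ n : ℕ, χ 1 = n := by
  obtain ⟨n, ρ, rfl⟩ := h
  exact ⟨n, rep_char_one ρ⟩

theorem charDegree_cast {χ : G → ℂ} (h : IsCharacter G χ) : (charDegree χ : ℂ) = χ 1 := by
  obtain ⟨n, hn⟩ := char_one_eq_nat h
  simp [charDegree, hn]

/-- The matrix of a representation. -/
noncomputable def repMat {n : ℕ} (ρ : Representation ℂ G (Fin n → ℂ)) (g : G) :
    Matrix (Fin n) (Fin n) ℂ := LinearMap.toMatrix' (ρ g)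

theorem repMat_mul {n : ℕ} (ρ : Representation ℂ G (Fin n → ℂ)) (g h : G) :
    repMat ρ (g * h) = repMat ρ g * repMat ρ h := by
  simp [repMat, map_mul, Module.End.mul_eq_comp, LinearMap.toMatrix'_comp]

theorem repMat_one {n : ℕ} (ρ : Representation ℂ G (Fin n → ℂ)) :
    repMat ρ 1 = 1 := by
  simp [repMat, Module.End.one_eq_id]

theorem repMat_trace {n : ℕ} (ρ : Representation ℂ G (Fin n → ℂ)) (g : G) :
    (repMat ρ g).trace = ρ.character g := by
  simp [repMat, Representation.character, LinearMap.trace_eq_matrix_trace ℂ (Pi.basisFun ℂ (Fin n)),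
    LinearMap.toMatrix_eq_toMatrix']

theorem rep_char_inv [Finite G] {n : ℕ} (ρ : Representation ℂ G (Fin n → ℂ)) (g : G) :
    ρ.character g⁻¹ = conj (ρ.character g) := by
  classical
  have := Fintype.ofFinite G
  set M := repMat ρ with hM
  set A : Matrix (Fin n) (Fin n) ℂ := ∑ x : G, (M x).conjTranspose * M x with hA
  have hApos : A.PosDef := by
    have h1 : A = (M 1).conjTranspose * M 1 + ∑ x ∈ Finset.univ.erase (1 : G), (M x).conjTranspose * M x := by
      rw [hA, Finset.add_sum_erase _ (fun x => (M x).conjTranspose * M x) (Finset.mem_univ _)]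
    rw [h1]
    apply Matrix.PosDef.add_posSemidef
    · rw [hM, repMat_one]; simpa using Matrix.PosDef.one
    · exact Matrix.posSemidef_sum _ fun i _ => Matrix.posSemidef_conjTranspose_mul_self _
  have hinv : (M g).conjTranspose * A * M g = A := by
    rw [hA, Finset.mul_sum, Finset.sum_mul]
    refine Fintype.sum_bijective (· * g) (Group.mulRight_bijective g) _ _ fun x => ?_
    simp only [hM, repMat_mul, Matrix.conjTranspose_mul, Matrix.mul_assoc]
  have hU := hApos.isUnit
  obtain ⟨U, hU'⟩ := hU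
  have hMg : M g⁻¹ * M g = 1 := by rw [hM, ← repMat_mul, inv_mul_cancel, repMat_one]
  have key : M g⁻¹ = A⁻¹ * (M g).conjTranspose * A := by
    have hAinv : A⁻¹ * A = 1 := Matrix.nonsing_inv_mul _ ((Matrix.isUnit_iff_isUnit_det _).1 ⟨U, hU'⟩)
    have h2 : A⁻¹ * (M g).conjTranspose * A * M g = 1 := by
      rw [Matrix.mul_assoc, Matrix.mul_assoc, ← Matrix.mul_assoc _ A, hinv, hAinv]
    have h3 : M g * M g⁻¹ = 1 := by rw [hM, ← repMat_mul, mul_inv_cancel, repMat_one]
    calc M g⁻¹ = (A⁻¹ * (M g).conjTranspose * A * M g) * M g⁻¹ := by rw [h2, Matrix.one_mul]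
      _ = A⁻¹ * (M g).conjTranspose * A := by rw [Matrix.mul_assoc _ (M g), h3, Matrix.mul_one]
  rw [← repMat_trace, ← repMat_trace, ← hM, key, Matrix.trace_mul_cycle,
    Matrix.mul_nonsing_inv _ ((Matrix.isUnit_iff_isUnit_det _).1 ⟨U, hU'⟩), Matrix.one_mul,
    Matrix.trace_conjTranspose]
  rfl

theorem char_inv [Finite G] {χ : G → ℂ} (h : IsCharacter G χ) (g : G) : χ g⁻¹ = conj (χ g) := by
  obtain ⟨n, ρ, rfl⟩ := h
  exact rep_char_inv ρ g

end Cfsg.Agent.Lib.Helper83
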