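import Mathlib
import Cfsg.Agent.Lib.Helper83.CharBasic

set_option autoImplicit false

namespace Cfsg.Agent.Lib.Helper83

open scoped ComplexConjugate ComplexOrder
open Cfsg

universe u
variable {G : Type u} [Group G]

section Inner
variable [Fintype G]

theorem classInner_def (φ ψ : G → ℂ) :
    classInner φ ψ = (Nat.card G : ℂ)⁻¹ * ∑ g : G, φ g * conj (ψ g) := rfl

theorem classInner_add_left (φ₁ φ₂ ψ : G → ℂ) :
    classInner (φ₁ + φ₂) ψ = classInner φ₁ ψ + classInner φ₂ ψ := by
  simp only [classInner_def, Pi.add_apply, add_mul, Finset.sum_add_distrib, mul_add]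

theorem classInner_add_right (φ ψ₁ ψ₂ : G → ℂ) :
    classInner φ (ψ₁ + ψ₂) = classInner φ ψ₁ + classInner φ ψ₂ := by
  simp only [classInner_def, Pi.add_apply, map_add, mul_add, Finset.sum_add_distrib]

theorem classInner_smul_left (c : ℂ) (φ ψ : G → ℂ) :
    classInner (c • φ) ψ = c * classInner φ ψ := by
  simp only [classInner_def, Pi.smul_apply, smul_eq_mul, Finset.mul_sum]
  congr 1; ext g; ring

theorem classInner_smul_right (c : ℂ) (φ ψ : G → ℂ) :
    classInner φ (c • ψ) = conj c * classInner φ ψ := by
  simp only [classInner_def, Pi.smul_apply, smul_eq_mul, Finset.mul_sum, map_mul]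
  congr 1; ext g; ring

theorem classInner_zero_left (ψ : G → ℂ) : classInner (0 : G → ℂ) ψ = 0 := by
  simp [classInner_def]

theorem classInner_zero_right (φ : G → ℂ) : classInner φ (0 : G → ℂ) = 0 := by
  simp [classInner_def]

theorem classInner_sum_left {ι : Type*} (s : Finset ι) (φ : ι → G → ℂ) (ψ : G → ℂ) :
    classInner (∑ i ∈ s, φ i) ψ = ∑ i ∈ s, classInner (φ i) ψ := by
  classical
  induction s using Finset.induction_on with
  | empty => simp [classInner_zero_left]
  | insert a s ha ih => rw [Finset.sum_insert ha, Finset.sum_insert ha, classInner_add_left, ih]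

theorem classInner_sum_right {ι : Type*} (s : Finset ι) (φ : G → ℂ) (ψ : ι → G → ℂ) :
    classInner φ (∑ i ∈ s, ψ i) = ∑ i ∈ s, classInner φ (ψ i) := by
  classical
  induction s using Finset.induction_on with
  | empty => simp [classInner_zero_right]
  | insert a s ha ih => rw [Finset.sum_insert ha, Finset.sum_insert ha, classInner_add_right, ih]

theorem classInner_neg_left (φ ψ : G → ℂ) : classInner (-φ) ψ = - classInner φ ψ := by
  have := classInner_smul_left (-1) φ ψ
  simpa using this

theorem classInner_sub_left (φ₁ φ₂ ψ : G → ℂ) :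
    classInner (φ₁ - φ₂) ψ = classInner φ₁ ψ - classInner φ₂ ψ := by
  rw [sub_eq_add_neg, classInner_add_left, classInner_neg_left, sub_eq_add_neg]

theorem classInner_conj_symm (φ ψ : G → ℂ) : conj (classInner φ ψ) = classInner ψ φ := by
  simp only [classInner_def, map_mul, map_sum, map_inv₀, Complex.conj_natCast, Complex.conj_conj]
  congr 1; apply Finset.sum_congr rfl; intro g _; ring

theorem card_ne_zero_complex : (Nat.card G : ℂ) ≠ 0 := by
  have : Nat.card G ≠ 0 := Nat.card_pos.ne'
  exact_mod_cast this

/-- First orthogonality relation for the characters of two irreducible representations on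
coordinate spaces. -/
theorem rep_orthonormal {n m : ℕ} (ρ : Representation ℂ G (Fin n → ℂ))
    (σ : Representation ℂ G (Fin m → ℂ)) (hρ : ρ.IsIrreducible) (hσ : σ.IsIrreducible) :
    classInner ρ.character σ.character = if ρ.character = σ.character then 1 else 0 := by
  classical
  haveI : Invertible (Nat.card G : ℂ) := invertibleOfNonzero card_ne_zero_complex
  have key := Representation.char_orthonormal ρ σ
  have h1 : classInner ρ.character σ.character
      = (Nat.card G : ℂ)⁻¹ * ∑ g : G, ρ.character g * σ.character g⁻¹ := by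
    rw [classInner_def]; congr 1; apply Finset.sum_congr rfl; intro g _
    rw [rep_char_inv]
  rw [h1, key]
  by_cases h : ρ.character = σ.character
  · rw [if_pos h]
    have key2 := Representation.char_orthonormal σ σ
    rw [if_pos ⟨Representation.Equiv.refl σ⟩] at key2
    rw [← key, h, key2]
  · rw [if_neg h, if_neg]
    rintro ⟨φ⟩
    exact h (Representation.char_iso φ).symm

theorem irr_orthonormal (χ ψ : IrrCharacter G) :
    classInner (χ : G → ℂ) (ψ : G → ℂ) = if χ = ψ then 1 else 0 := by
  classical
  obtain ⟨n, ρ, hρ, hχ⟩ := χ.2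
  obtain ⟨m, σ, hσ, hψ⟩ := ψ.2
  have h := rep_orthonormal ρ σ hρ hσ
  rw [hχ, hψ] at h
  rw [h]
  by_cases h' : χ = ψ
  · rw [if_pos h', if_pos (congrArg Subtype.val h')]
  · rw [if_neg h', if_neg (fun h'' => h' (Subtype.ext h''))]

theorem irr_inner_self (χ : IrrCharacter G) : classInner (χ : G → ℂ) (χ : G → ℂ) = 1 := by
  rw [irr_orthonormal, if_pos rfl]

theorem irr_inner_ne {χ ψ : IrrCharacter G} (h : χ ≠ ψ) :
    classInner (χ : G → ℂ) (ψ : G → ℂ) = 0 := by
  rw [irr_orthonormal, if_neg h]

theorem irr_linearIndependent :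
    LinearIndependent ℂ (fun χ : IrrCharacter G => (χ : G → ℂ)) := by
  classical
  rw [linearIndependent_iff']
  intro s c hc χ hχ
  have h := congrArg (fun f => classInner f (χ : G → ℂ)) hc
  simp only [classInner_sum_left, classInner_smul_left, classInner_zero_left] at h
  rw [Finset.sum_eq_single χ] at h
  · simpa [irr_inner_self] using h
  · intro ψ _ hψ; rw [irr_inner_ne hψ, mul_zero]
  · intro h'; exact absurd hχ h'

end Inner

instance irr_finite [Finite G] : Finite (IrrCharacter G) := by
  haveI := Fintype.ofFinite G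
  exact (irr_linearIndependent (G := G)).finite_of_isNoetherian

end Cfsg.Agent.Lib.Helper83
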