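import Mathlib
import Cfsg.Agent.Lib.Helper83.Orthogonality

set_option autoImplicit false

namespace Cfsg.Agent.Lib.Helper83

open scoped ComplexConjugate ComplexOrder MonoidAlgebra
open Cfsg

universe u
variable {G : Type u} [Group G]

/-- Transport a representation along a linear equivalence. -/
noncomputable def repTransport {V W : Type*} [AddCommGroup V] [Module ℂ V] [AddCommGroup W] [Module ℂ W]
    (ρ : Representation ℂ G V) (e : V ≃ₗ[ℂ] W) : Representation ℂ G W :=
  ((e.conjAlgEquiv ℂ : Module.End ℂ V ≃ₐ[ℂ] Module.End ℂ W) : Module.End ℂ V →* Module.End ℂ W).comp ρ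

theorem repTransport_apply {V W : Type*} [AddCommGroup V] [Module ℂ V] [AddCommGroup W] [Module ℂ W]
    (ρ : Representation ℂ G V) (e : V ≃ₗ[ℂ] W) (g : G) :
    repTransport ρ e g = e.toLinearMap ∘ₗ ρ g ∘ₗ e.symm.toLinearMap := rfl

/-- The transported representation is equivalent to the original one. -/
noncomputable def repTransportEquiv {V W : Type*} [AddCommGroup V] [Module ℂ V] [AddCommGroup W] [Module ℂ W]
    (ρ : Representation ℂ G V) (e : V ≃ₗ[ℂ] W) : Representation.Equiv ρ (repTransport ρ e) :=
  Representation.Equiv.mk e (by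
    intro g
    ext v
    simp [repTransport_apply])

theorem irreducible_of_equiv {V W : Type*} [AddCommGroup V] [Module ℂ V] [AddCommGroup W] [Module ℂ W]
    {ρ : Representation ℂ G V} {σ : Representation ℂ G W} (φ : Representation.Equiv ρ σ)
    (hρ : ρ.IsIrreducible) : σ.IsIrreducible := by
  rw [Representation.irreducible_iff_isSimpleModule_asModule] at hρ ⊢
  let f : ρ.asModule →ₗ[ℂ[G]] σ.asModule :=
    Representation.IntertwiningMap.equivLinearMapAsModule ρ σ φ.toIntertwiningMap
  have hf : Function.Bijective f := φ.toLinearEquiv.bijective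
  exact IsSimpleModule.congr (LinearEquiv.ofBijective f hf).symm

theorem isCharacter_of_rep {V : Type*} [AddCommGroup V] [Module ℂ V] [FiniteDimensional ℂ V]
    (ρ : Representation ℂ G V) : IsCharacter G ρ.character := by
  let e := (Module.finBasis ℂ V).equivFun
  exact ⟨_, repTransport ρ e, (Representation.char_iso (repTransportEquiv ρ e)).symm⟩

theorem isIrrCharacter_of_rep {V : Type*} [AddCommGroup V] [Module ℂ V] [FiniteDimensional ℂ V]
    (ρ : Representation ℂ G V) (hρ : ρ.IsIrreducible) : IsIrrCharacter G ρ.character := by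
  let e := (Module.finBasis ℂ V).equivFun
  exact ⟨_, repTransport ρ e, irreducible_of_equiv (repTransportEquiv ρ e) hρ,
    (Representation.char_iso (repTransportEquiv ρ e)).symm⟩

end Cfsg.Agent.Lib.Helper83

namespace Cfsg.Agent.Lib.Helper83

open scoped ComplexConjugate ComplexOrder MonoidAlgebra
open Cfsg

universe u
variable {G : Type u} [Group G]

section Central
variable [Fintype G]

/-- The element `∑ g, c g • g` of the group algebra. -/
noncomputable def grpAlgElt (c : G → ℂ) : ℂ[G] := ∑ g : G, MonoidAlgebra.single g (c g)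

theorem grpAlgElt_mem_center {c : G → ℂ} (hc : IsClassFunction G c) :
    grpAlgElt c ∈ Submonoid.center ℂ[G] := by
  rw [Submonoid.mem_center_iff]
  intro a
  induction a using MonoidAlgebra.induction_linear with
  | zero => simp
  | add x y hx hy => rw [add_mul, mul_add, hx, hy]
  | single h r =>
    simp only [grpAlgElt, Finset.mul_sum, Finset.sum_mul, MonoidAlgebra.single_mul_single]
    refine Fintype.sum_bijective (fun g => h * g * h⁻¹) ?_ _ _ ?_
    · exact (Group.mulRight_bijective h⁻¹).comp (Group.mulLeft_bijective h)
    · intro g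
      rw [hc g h, mul_comm r, inv_mul_cancel_right]

theorem trace_asAlgebraHom_grpAlgElt {V : Type*} [AddCommGroup V] [Module ℂ V]
    (ρ : Representation ℂ G V) (c : G → ℂ) :
    LinearMap.trace ℂ V (ρ.asAlgebraHom (grpAlgElt c)) = ∑ g : G, c g * ρ.character g := by
  simp [grpAlgElt, map_sum, Representation.character]

end Central

/-- Schur's lemma: a central element of the group algebra with trace zero acts as zero on an
irreducible representation. -/
theorem asAlgebraHom_eq_zero_of_trace_eq_zero {V : Type*} [AddCommGroup V] [Module ℂ V]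
    [FiniteDimensional ℂ V] (ρ : Representation ℂ G V) (hρ : ρ.IsIrreducible) {z : ℂ[G]}
    (hz : z ∈ Submonoid.center ℂ[G]) (htr : LinearMap.trace ℂ V (ρ.asAlgebraHom z) = 0) :
    ρ.asAlgebraHom z = 0 := by
  haveI := hρ
  obtain ⟨l, hl⟩ := (Representation.IsIrreducible.algebraMap_intertwiningMap_bijective_of_isAlgClosed
    (ρ := ρ)).2 (Representation.IntertwiningMap.centralAlgebraMul ρ hz)
  have h1 : ρ.asAlgebraHom z = l • (1 : Module.End ℂ V) := by
    have := congrArg Representation.IntertwiningMap.toLinearMap hl
    simp only [Representation.IntertwiningMap.algebraMap_apply] at this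
    rw [show (Representation.IntertwiningMap.centralAlgebraMul ρ hz).toLinearMap = ρ.asAlgebraHom z
      from rfl] at this
    rw [← this]; rfl
  rw [h1, map_smul, LinearMap.trace_one, smul_eq_mul, mul_eq_zero] at htr
  rcases htr with h | h
  · rw [h1, h, zero_smul]
  · have : Module.finrank ℂ V = 0 := by exact_mod_cast h
    have : Subsingleton V := Module.finrank_zero_iff.1 this
    exact Subsingleton.elim _ _

end Cfsg.Agent.Lib.Helper83

namespace Cfsg.Agent.Lib.Helper83

open scoped ComplexConjugate ComplexOrder MonoidAlgebra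
open Cfsg

universe u
variable {G : Type u} [Group G]

attribute [local instance] RestrictScalars.moduleOrig in
theorem finite_restrictScalars_sub [Finite G] (m : Submodule ℂ[G] ℂ[G]) :
    Module.Finite ℂ (RestrictScalars ℂ ℂ[G] m) := by
  haveI : Module.Finite ℂ[G] (RestrictScalars ℂ ℂ[G] m) := inferInstanceAs (Module.Finite ℂ[G] m)
  exact Module.Finite.trans ℂ[G] _

set_option backward.isDefEq.respectTransparency false in
/-- A central element of the group algebra acting as zero in every irreducible representation
is zero. -/
theorem grpAlg_eq_zero_of_acts_zero [Finite G] {z : ℂ[G]} (hz : z ∈ Submonoid.center ℂ[G])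
    (h : ∀ (V : Type u) [AddCommGroup V] [Module ℂ V] [FiniteDimensional ℂ V]
      (ρ : Representation ℂ G V), ρ.IsIrreducible → ρ.asAlgebraHom z = 0) : z = 0 := by
  haveI : NeZero (Nat.card G : ℂ) := ⟨by
    have : Nat.card G ≠ 0 := Nat.card_pos.ne'
    exact_mod_cast this⟩
  let N : Submodule ℂ[G] ℂ[G] :=
    { carrier := {x | z * x = 0}
      add_mem' := by
        intro a b ha hb
        simp only [Set.mem_ofPred_eq] at ha hb ⊢
        rw [mul_add, ha, hb, add_zero]
      zero_mem' := by simp
      smul_mem' := by
        intro a x hx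
        simp only [Set.mem_ofPred_eq, smul_eq_mul] at hx ⊢
        rw [← mul_assoc, ← (Submonoid.mem_center_iff.1 hz a), mul_assoc, hx, mul_zero] }
  have htop : sSup {m : Submodule ℂ[G] ℂ[G] | IsSimpleModule ℂ[G] m} = ⊤ :=
    IsSemisimpleModule.sSup_simples_eq_top ℂ[G] ℂ[G]
  have hle : sSup {m : Submodule ℂ[G] ℂ[G] | IsSimpleModule ℂ[G] m} ≤ N := by
    apply sSup_le
    intro m hm
    simp only [Set.mem_ofPred_eq] at hm
    intro x hx
    haveI := finite_restrictScalars_sub m
    have hirr : (Representation.ofModule (k := ℂ) (G := G) m).IsIrreducible :=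
      (Representation.isSimpleModule_iff_irreducible_ofModule m).1 hm
    have h0 := h _ (Representation.ofModule (k := ℂ) (G := G) m) hirr
    have h1 := Representation.ofModule_asAlgebraHom_apply_apply (k := ℂ) (G := G) m z
      ((RestrictScalars.addEquiv ℂ ℂ[G] m).symm ⟨x, hx⟩)
    rw [h0] at h1
    simp only [LinearMap.zero_apply, AddEquiv.apply_symm_apply] at h1
    have h2 : z • (⟨x, hx⟩ : m) = 0 := by
      have := congrArg (RestrictScalars.addEquiv ℂ ℂ[G] m) h1
      simpa using this.symm
    have h3 := congrArg Subtype.val h2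
    have h4 : z * x = 0 := by simpa using h3
    exact h4
  have h1 : (1 : ℂ[G]) ∈ N := by
    apply hle
    rw [htop]
    trivial
  simpa [N] using h1

end Cfsg.Agent.Lib.Helper83

namespace Cfsg.Agent.Lib.Helper83

open scoped ComplexConjugate ComplexOrder MonoidAlgebra
open Cfsg

universe u
variable {G : Type u} [Group G]

theorem grpAlgElt_apply [Fintype G] (c : G → ℂ) (g : G) : (grpAlgElt c).coeff g = c g := by
  classical
  simp only [grpAlgElt, MonoidAlgebra.coeff_sum, MonoidAlgebra.coeff_single,
    Finsupp.coe_finsetSum, Finset.sum_apply]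
  rw [Finset.sum_eq_single g]
  · simp
  · intro b _ hb; simp [hb]
  · intro h; exact absurd (Finset.mem_univ g) h

/-- Completeness: a class function orthogonal to all irreducible characters vanishes. -/
theorem eq_zero_of_classInner_irr_eq_zero [Fintype G] {f : G → ℂ} (hf : IsClassFunction G f)
    (h : ∀ χ : IrrCharacter G, classInner f (χ : G → ℂ) = 0) : f = 0 := by
  set c : G → ℂ := fun g => conj (f g) with hc
  have hcc : IsClassFunction G c := fun g x => by simp only [hc, hf g x]
  have hz := grpAlgElt_mem_center hcc
  have hzero : grpAlgElt c = 0 := by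
    apply grpAlg_eq_zero_of_acts_zero hz
    intro V _ _ _ ρ hρ
    apply asAlgebraHom_eq_zero_of_trace_eq_zero ρ hρ hz
    rw [trace_asAlgebraHom_grpAlgElt]
    have h1 := h ⟨ρ.character, isIrrCharacter_of_rep ρ hρ⟩
    simp only [classInner_def] at h1
    have h2 : ∑ g : G, f g * conj (ρ.character g) = 0 := by
      rcases mul_eq_zero.1 h1 with h' | h'
      · exact absurd (inv_eq_zero.1 h') card_ne_zero_complex
      · exact h'
    have h3 := congrArg conj h2
    simp only [map_sum, map_mul, Complex.conj_conj, map_zero] at h3
    exact h3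
  funext g
  have := grpAlgElt_apply c g
  rw [hzero] at this
  simp only [hc, MonoidAlgebra.coeff_zero, Finsupp.coe_zero, Pi.zero_apply] at this
  have h4 := congrArg conj this
  simpa using h4.symm

theorem isClassFunction_irr (χ : IrrCharacter G) : IsClassFunction G (χ : G → ℂ) :=
  char_isClassFunction (IrrCharacter_isCharacter χ)

theorem isClassFunction_add {f₁ f₂ : G → ℂ} (h₁ : IsClassFunction G f₁) (h₂ : IsClassFunction G f₂) :
    IsClassFunction G (f₁ + f₂) := fun g x => by simp [h₁ g x, h₂ g x]

theorem isClassFunction_sub {f₁ f₂ : G → ℂ} (h₁ : IsClassFunction G f₁) (h₂ : IsClassFunction G f₂) :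
    IsClassFunction G (f₁ - f₂) := fun g x => by simp [h₁ g x, h₂ g x]

theorem isClassFunction_smul (c : ℂ) {f : G → ℂ} (h : IsClassFunction G f) :
    IsClassFunction G (c • f) := fun g x => by simp [h g x]

theorem isClassFunction_zero : IsClassFunction G (0 : G → ℂ) := fun _ _ => rfl

theorem isClassFunction_sum {ι : Type*} (s : Finset ι) (f : ι → G → ℂ)
    (h : ∀ i ∈ s, IsClassFunction G (f i)) : IsClassFunction G (∑ i ∈ s, f i) := by
  intro g x
  simp only [Finset.sum_apply]
  exact Finset.sum_congr rfl fun i hi => h i hi g x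

/-- Every class function is the combination of the irreducible characters with coefficients given
by the inner products. -/
theorem classFunction_eq_sum_irr [Fintype G] [Fintype (IrrCharacter G)] {f : G → ℂ}
    (hf : IsClassFunction G f) :
    f = ∑ χ : IrrCharacter G, classInner f (χ : G → ℂ) • (χ : G → ℂ) := by
  classical
  have key : f - ∑ χ : IrrCharacter G, classInner f (χ : G → ℂ) • (χ : G → ℂ) = 0 := by
    apply eq_zero_of_classInner_irr_eq_zero
    · exact isClassFunction_sub hf (isClassFunction_sum _ _ fun χ _ =>
        isClassFunction_smul _ (isClassFunction_irr χ))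
    · intro ψ
      rw [classInner_sub_left, classInner_sum_left]
      simp only [classInner_smul_left, irr_orthonormal]
      simp
  exact sub_eq_zero.1 key

end Cfsg.Agent.Lib.Helper83
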