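import Mathlib
import Cfsg.Agent.Lib.Helper83.Completeness

set_option autoImplicit false

namespace Cfsg.Agent.Lib.Helper83

open scoped ComplexConjugate ComplexOrder MonoidAlgebra
open Cfsg

universe u
variable {G : Type u} [Group G]

/-- The index of the centralizer of `g` is the size of the conjugacy class of `g`. -/
theorem index_centralizer_eq_card_conj (g : G) :
    (Subgroup.centralizer ({g} : Set G)).index = Nat.card {x : G // IsConj g x} := by
  unfold Subgroup.index
  apply Nat.card_congr
  refine (((MulAction.orbitEquivQuotientStabilizer (ConjAct G) g).trans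
    (Subgroup.quotientEquivOfEq (ConjAct.stabilizer_eq_centralizer g))).symm).trans ?_
  refine Equiv.subtypeEquivRight ?_
  intro x
  rw [ConjAct.mem_orbit_conjAct, isConj_comm]

theorem card_centralizer_mul_card_conj (g : G) :
    Nat.card (Subgroup.centralizer ({g} : Set G)) * Nat.card {x : G // IsConj g x} = Nat.card G := by
  rw [← index_centralizer_eq_card_conj, Subgroup.card_mul_index]

section
variable [Fintype G] [Fintype (IrrCharacter G)]

open Classical in
/-- Second orthogonality relation. -/
theorem second_orthogonality (g h : G) :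
    ∑ χ : IrrCharacter G, (χ : G → ℂ) g * conj ((χ : G → ℂ) h) =
      if IsConj g h then (Nat.card (Subgroup.centralizer ({h} : Set G)) : ℂ) else 0 := by
  set f : G → ℂ := fun x => if IsConj h x then 1 else 0 with hf
  have hfc : IsClassFunction G f := by
    intro x y
    simp only [hf]
    have : IsConj h (y * x * y⁻¹) ↔ IsConj h x := by
      constructor
      · intro h1; exact h1.trans (isConj_iff.2 ⟨y⁻¹, by group⟩)
      · intro h1; exact h1.trans (isConj_iff.2 ⟨y, rfl⟩)
    rw [if_congr this rfl rfl]
  have hinner : ∀ χ : IrrCharacter G, classInner f (χ : G → ℂ) =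
      (Nat.card G : ℂ)⁻¹ * (Nat.card {x : G // IsConj h x} : ℂ) * conj ((χ : G → ℂ) h) := by
    intro χ
    rw [classInner_def, mul_assoc]
    congr 1
    have h1 : ∀ x : G, f x * conj ((χ : G → ℂ) x) = if IsConj h x then conj ((χ : G → ℂ) h) else 0 := by
      intro x
      simp only [hf]
      split_ifs with hx
      · obtain ⟨c, hc⟩ := isConj_iff.1 hx
        rw [one_mul, ← hc, isClassFunction_irr χ h c]
      · rw [zero_mul]
    simp only [h1]
    rw [← Finset.sum_filter, Finset.sum_const, nsmul_eq_mul]
    congr 2
    rw [Nat.card_eq_fintype_card, Fintype.card_subtype]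
  have hexp := congrFun (classFunction_eq_sum_irr hfc) g
  simp only [Finset.sum_apply, Pi.smul_apply, smul_eq_mul, hinner] at hexp
  have hcard := card_centralizer_mul_card_conj h
  have hcardC : (Nat.card (Subgroup.centralizer ({h} : Set G)) : ℂ) * (Nat.card {x : G // IsConj h x} : ℂ)
      = (Nat.card G : ℂ) := by exact_mod_cast hcard
  have hne : (Nat.card {x : G // IsConj h x} : ℂ) ≠ 0 := by
    intro h0
    rw [h0, mul_zero] at hcardC
    exact card_ne_zero_complex hcardC.symm
  have hsum : ∑ χ : IrrCharacter G, (χ : G → ℂ) g * conj ((χ : G → ℂ) h)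
      = (Nat.card G : ℂ) * (Nat.card {x : G // IsConj h x} : ℂ)⁻¹ * f g := by
    rw [hexp, Finset.mul_sum]
    apply Finset.sum_congr rfl
    intro χ _
    field_simp [card_ne_zero_complex (G := G)]
  rw [hsum]
  simp only [hf]
  by_cases hgh : IsConj g h
  · rw [if_pos hgh, if_pos hgh.symm, mul_one, ← hcardC]
    field_simp
  · rw [if_neg hgh, if_neg (fun h' => hgh h'.symm), mul_zero]

end

end Cfsg.Agent.Lib.Helper83

namespace Cfsg.Agent.Lib.Helper83

open scoped ComplexConjugate ComplexOrder MonoidAlgebra
open Cfsg

universe u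
variable {G : Type u} [Group G]

theorem char_one_conj {χ : G → ℂ} (h : IsCharacter G χ) : conj (χ 1) = χ 1 := by
  obtain ⟨n, hn⟩ := char_one_eq_nat h
  rw [hn, Complex.conj_natCast]

section
variable [Fintype G] [Fintype (IrrCharacter G)]

omit [Fintype G] [Fintype (IrrCharacter G)] in
theorem centralizer_one_card : Nat.card (Subgroup.centralizer ({1} : Set G)) = Nat.card G := by
  have : Subgroup.centralizer ({1} : Set G) = ⊤ := by
    ext x; simp [Subgroup.mem_centralizer_iff]
  rw [this, Subgroup.card_top]

/-- The sum of the squares of the degrees of the irreducible characters is the group order. -/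
theorem sum_irr_degree_sq : ∑ χ : IrrCharacter G, ((χ : G → ℂ) 1) ^ 2 = (Nat.card G : ℂ) := by
  classical
  have h := second_orthogonality (G := G) 1 1
  rw [if_pos (IsConj.refl 1), centralizer_one_card] at h
  rw [← h]
  apply Finset.sum_congr rfl
  intro χ _
  rw [char_one_conj (IrrCharacter_isCharacter χ), sq]

/-- The regular character: `∑ χ(1) χ(g)` is `|G|` at `g = 1` and `0` elsewhere. -/
theorem sum_irr_degree_mul (g : G) [Decidable (g = 1)] :
    ∑ χ : IrrCharacter G, (χ : G → ℂ) 1 * (χ : G → ℂ) g = if g = 1 then (Nat.card G : ℂ) else 0 := by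
  classical
  have h := second_orthogonality (G := G) g 1
  rw [centralizer_one_card] at h
  have h2 : ∑ χ : IrrCharacter G, (χ : G → ℂ) 1 * (χ : G → ℂ) g
      = ∑ χ : IrrCharacter G, (χ : G → ℂ) g * conj ((χ : G → ℂ) 1) := by
    apply Finset.sum_congr rfl
    intro χ _
    rw [char_one_conj (IrrCharacter_isCharacter χ), mul_comm]
  rw [h2, h]
  have : IsConj g 1 ↔ g = 1 := isConj_one_left
  simp only [this]

/-- The number of irreducible characters equals the number of conjugacy classes. -/
theorem card_irr_eq_card_conjClasses : Nat.card (IrrCharacter G) = Nat.card (ConjClasses G) := by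
  classical
  have h1 : ∑ g : G, ∑ χ : IrrCharacter G, (χ : G → ℂ) g * conj ((χ : G → ℂ) g)
      = ∑ g : G, (Nat.card (Subgroup.centralizer ({g} : Set G)) : ℂ) := by
    apply Finset.sum_congr rfl
    intro g _
    rw [second_orthogonality, if_pos (IsConj.refl g)]
  rw [Finset.sum_comm] at h1
  have h2 : ∀ χ : IrrCharacter G, ∑ g : G, (χ : G → ℂ) g * conj ((χ : G → ℂ) g) = (Nat.card G : ℂ) := by
    intro χ
    have := irr_inner_self χ
    rw [classInner_def] at this
    field_simp [card_ne_zero_complex (G := G)] at this
    exact this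
  simp only [h2, Finset.sum_const, Finset.card_univ, nsmul_eq_mul] at h1
  have h3 : ∑ g : G, Nat.card (Subgroup.centralizer ({g} : Set G))
      = Nat.card {p : G × G // Commute p.1 p.2} := by
    rw [Nat.card_congr (Equiv.subtypeProdEquivSigmaSubtype (fun a b : G => Commute a b)),
      Nat.card_sigma]
    apply Finset.sum_congr rfl
    intro g _
    apply Nat.card_congr
    refine Equiv.subtypeEquivRight ?_
    intro x
    rw [Subgroup.mem_centralizer_iff]
    simp only [Set.mem_singleton_iff, forall_eq]
    exact ⟨fun h => h, fun h => h⟩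
  rw [card_comm_eq_card_conjClasses_mul_card] at h3
  have h4 : (Fintype.card (IrrCharacter G) : ℂ) * (Nat.card G : ℂ)
      = ((Nat.card (ConjClasses G) * Nat.card G : ℕ) : ℂ) := by
    rw [h1, ← h3]; push_cast; rfl
  have h5 : Fintype.card (IrrCharacter G) * Nat.card G = Nat.card (ConjClasses G) * Nat.card G := by
    exact_mod_cast h4
  rw [Nat.card_eq_fintype_card]
  exact Nat.eq_of_mul_eq_mul_right Nat.card_pos h5

end

end Cfsg.Agent.Lib.Helper83
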