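import Mathlib
import Cfsg.Agent.Lib.Helper83.SecondOrth

set_option autoImplicit false

namespace Cfsg.Agent.Lib.Helper83

open scoped ComplexConjugate ComplexOrder MonoidAlgebra
open Cfsg

universe u
variable {G : Type u} [Group G]

/-- Schur's lemma: a central element of the group algebra acts on an irreducible representation
as the scalar `trace / dim`. -/
theorem asAlgebraHom_central_eq_smul {V : Type*} [AddCommGroup V] [Module ℂ V]
    [FiniteDimensional ℂ V] (ρ : Representation ℂ G V) (hρ : ρ.IsIrreducible) {z : ℂ[G]}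
    (hz : z ∈ Submonoid.center ℂ[G]) :
    ρ.asAlgebraHom z =
      (LinearMap.trace ℂ V (ρ.asAlgebraHom z) / (Module.finrank ℂ V : ℂ)) • (1 : Module.End ℂ V) := by
  haveI := hρ
  obtain ⟨l, hl⟩ := (Representation.IsIrreducible.algebraMap_intertwiningMap_bijective_of_isAlgClosed
    (ρ := ρ)).2 (Representation.IntertwiningMap.centralAlgebraMul ρ hz)
  have h1 : ρ.asAlgebraHom z = l • (1 : Module.End ℂ V) := by
    have := congrArg Representation.IntertwiningMap.toLinearMap hl
    simp only [Representation.IntertwiningMap.algebraMap_apply] at this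
    rw [show (Representation.IntertwiningMap.centralAlgebraMul ρ hz).toLinearMap = ρ.asAlgebraHom z
      from rfl] at this
    rw [← this]; rfl
  by_cases hV : (Module.finrank ℂ V : ℂ) = 0
  · have : Module.finrank ℂ V = 0 := by exact_mod_cast hV
    have : Subsingleton V := Module.finrank_zero_iff.1 this
    exact Subsingleton.elim _ _
  · rw [h1, map_smul, LinearMap.trace_one, smul_eq_mul, mul_div_assoc, div_self hV, mul_one]

/-- Master formula: for an irreducible character `χ` and a class function `c`,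
`∑ x, c x * χ (g * x) = χ g * (∑ x, c x * χ x) / χ 1`. -/
theorem irr_sum_classFunction_mul [Fintype G] (χ : IrrCharacter G) {c : G → ℂ}
    (hc : IsClassFunction G c) (g : G) :
    ∑ x : G, c x * (χ : G → ℂ) (g * x) =
      (χ : G → ℂ) g * (∑ x : G, c x * (χ : G → ℂ) x) / (χ : G → ℂ) 1 := by
  obtain ⟨n, ρ, hρ, hχ⟩ := χ.2
  have hz := grpAlgElt_mem_center hc
  have h1 := asAlgebraHom_central_eq_smul ρ hρ hz
  rw [trace_asAlgebraHom_grpAlgElt] at h1
  have h2 : ρ g * ρ.asAlgebraHom (grpAlgElt c) = ∑ x : G, c x • ρ (g * x) := by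
    simp only [grpAlgElt, map_sum, Representation.asAlgebraHom_single, Finset.mul_sum, map_mul,
      mul_smul_comm]
  have h3 := congrArg (LinearMap.trace ℂ (Fin n → ℂ)) h2
  rw [h1] at h3
  simp only [mul_smul_comm, mul_one, map_smul, map_sum, smul_eq_mul] at h3
  have hone : (Module.finrank ℂ (Fin n → ℂ) : ℂ) = (χ : G → ℂ) 1 := by
    rw [← hχ, Representation.char_one]
  rw [hone] at h3
  simp only [← hχ] at h3 ⊢
  simp only [Representation.character] at h3 ⊢
  rw [← h3]
  ring

/-- Generalized orthogonality: `∑ a, χ (g * (a * h * a⁻¹)) = |G| χ(g) χ(h) / χ(1)`. -/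
theorem irr_sum_conj_mul [Fintype G] (χ : IrrCharacter G) (g h : G) :
    ∑ a : G, (χ : G → ℂ) (g * (a * h * a⁻¹)) =
      (Nat.card G : ℂ) * (χ : G → ℂ) g * (χ : G → ℂ) h / (χ : G → ℂ) 1 := by
  classical
  -- c x = number of a with a h a⁻¹ = x
  set c : G → ℂ := fun x => ∑ a : G, if a * h * a⁻¹ = x then 1 else 0 with hc
  have hcc : IsClassFunction G c := by
    intro x y
    simp only [hc]
    refine (Fintype.sum_bijective (fun a => y * a) (Group.mulLeft_bijective y) _ _ fun a => ?_).symm
    have : y * a * h * (y * a)⁻¹ = y * x * y⁻¹ ↔ a * h * a⁻¹ = x := by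
      constructor
      · intro h1
        have : y * (a * h * a⁻¹) * y⁻¹ = y * x * y⁻¹ := by rw [← h1]; group
        exact mul_left_cancel (mul_right_cancel this)
      · intro h1; rw [← h1]; group
    rw [if_congr this rfl rfl]
  have key : ∀ F : G → ℂ, ∑ x : G, c x * F x = ∑ a : G, F (a * h * a⁻¹) := by
    intro F
    simp only [hc, Finset.sum_mul]
    rw [Finset.sum_comm]
    apply Finset.sum_congr rfl
    intro a _
    simp
  have h1 := irr_sum_classFunction_mul χ hcc g
  rw [key (fun x => (χ : G → ℂ) (g * x)), key (fun x => (χ : G → ℂ) x)] at h1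
  rw [h1]
  have : ∀ a : G, (χ : G → ℂ) (a * h * a⁻¹) = (χ : G → ℂ) h := fun a => isClassFunction_irr χ h a
  simp only [this, Finset.sum_const, Finset.card_univ, nsmul_eq_mul, Nat.card_eq_fintype_card]
  ring

end Cfsg.Agent.Lib.Helper83
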