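import Mathlib
import Cfsg.Agent.Lib.Helper83.Central

set_option autoImplicit false

namespace Cfsg.Agent.Lib.Helper83

open scoped ComplexConjugate ComplexOrder MonoidAlgebra
open Cfsg

universe u
variable {G : Type u} [Group G]

/-- The inner product of two characters is a natural number. -/
theorem classInner_char_nat [Fintype G] {χ ψ : G → ℂ} (hχ : IsCharacter G χ) (hψ : IsCharacter G ψ) :
    ∃ n : ℕ, classInner χ ψ = n := by
  obtain ⟨n, ρ, rfl⟩ := hχ
  obtain ⟨m, σ, rfl⟩ := hψ
  haveI : Invertible (Nat.card G : ℂ) := invertibleOfNonzero card_ne_zero_complex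
  refine ⟨Module.finrank ℂ (Representation.IntertwiningMap σ ρ), ?_⟩
  rw [← Representation.card_inv_mul_sum_char_mul_char_eq_finrank σ ρ, classInner_def]
  congr 1; apply Finset.sum_congr rfl; intro g _
  rw [rep_char_inv]

/-- The multiplicity of the irreducible character `ψ` in `χ`. -/
noncomputable def irrMult [Fintype G] (χ : G → ℂ) (ψ : IrrCharacter G) : ℕ :=
  ⌊(classInner χ (ψ : G → ℂ)).re⌋₊

theorem irrMult_cast [Fintype G] {χ : G → ℂ} (hχ : IsCharacter G χ) (ψ : IrrCharacter G) :
    (irrMult χ ψ : ℂ) = classInner χ (ψ : G → ℂ) := by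
  obtain ⟨n, hn⟩ := classInner_char_nat hχ (IrrCharacter_isCharacter ψ)
  simp [irrMult, hn]

/-- A character is the sum of the irreducible characters with natural multiplicities. -/
theorem char_eq_sum_irrMult [Fintype G] [Fintype (IrrCharacter G)] {χ : G → ℂ}
    (hχ : IsCharacter G χ) :
    χ = ∑ ψ : IrrCharacter G, (irrMult χ ψ : ℂ) • (ψ : G → ℂ) := by
  have := classFunction_eq_sum_irr (char_isClassFunction hχ)
  simp only [irrMult_cast hχ]
  exact this

theorem classInner_sum_irr_left [Fintype G] [Fintype (IrrCharacter G)] (c : IrrCharacter G → ℂ)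
    (ψ : IrrCharacter G) :
    classInner (∑ φ : IrrCharacter G, c φ • (φ : G → ℂ)) (ψ : G → ℂ) = c ψ := by
  classical
  rw [classInner_sum_left]
  simp only [classInner_smul_left, irr_orthonormal]
  simp

/-- Norm of a combination of irreducible characters. -/
theorem classInner_sum_irr_self [Fintype G] [Fintype (IrrCharacter G)] (c : IrrCharacter G → ℂ) :
    classInner (∑ φ : IrrCharacter G, c φ • (φ : G → ℂ)) (∑ φ : IrrCharacter G, c φ • (φ : G → ℂ))
      = ∑ φ : IrrCharacter G, c φ * conj (c φ) := by
  rw [classInner_sum_right]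
  apply Finset.sum_congr rfl
  intro ψ _
  rw [classInner_smul_right, classInner_sum_irr_left, mul_comm]

/-- A character of norm one is irreducible. -/
theorem isIrrCharacter_of_norm_one [Fintype G] {χ : G → ℂ} (hχ : IsCharacter G χ)
    (h1 : classInner χ χ = 1) : IsIrrCharacter G χ := by
  classical
  haveI : Fintype (IrrCharacter G) := Fintype.ofFinite _
  have hexp := char_eq_sum_irrMult hχ
  have hnorm := classInner_sum_irr_self (G := G) (fun ψ => (irrMult χ ψ : ℂ))
  rw [← hexp, h1] at hnorm
  have h2 : (1 : ℕ) = ∑ ψ : IrrCharacter G, irrMult χ ψ * irrMult χ ψ := by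
    have : ((1 : ℕ) : ℂ) = ((∑ ψ : IrrCharacter G, irrMult χ ψ * irrMult χ ψ : ℕ) : ℂ) := by
      push_cast
      rw [hnorm]
      apply Finset.sum_congr rfl
      intro ψ _
      rw [Complex.conj_natCast]
    exact_mod_cast this
  -- exactly one multiplicity is 1
  have h3 : ∃ ψ : IrrCharacter G, irrMult χ ψ ≠ 0 := by
    by_contra hcon
    push Not at hcon
    simp [hcon] at h2
  obtain ⟨ψ, hψ⟩ := h3
  have h4 : ∀ φ : IrrCharacter G, φ ≠ ψ → irrMult χ φ = 0 := by
    intro φ hφ
    by_contra hne
    have h5 : irrMult χ ψ * irrMult χ ψ + irrMult χ φ * irrMult χ φ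
        ≤ ∑ ψ : IrrCharacter G, irrMult χ ψ * irrMult χ ψ := by
      have hsub : ({ψ, φ} : Finset (IrrCharacter G)) ⊆ Finset.univ := Finset.subset_univ _
      have := Finset.sum_le_sum_of_subset (f := fun ψ : IrrCharacter G => irrMult χ ψ * irrMult χ ψ) hsub
      rwa [Finset.sum_pair (Ne.symm hφ)] at this
    have h6 : 1 ≤ irrMult χ ψ * irrMult χ ψ := Nat.mul_pos (Nat.pos_of_ne_zero hψ) (Nat.pos_of_ne_zero hψ)
    have h7 : 1 ≤ irrMult χ φ * irrMult χ φ := Nat.mul_pos (Nat.pos_of_ne_zero hne) (Nat.pos_of_ne_zero hne)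
    omega
  have h8 : irrMult χ ψ * irrMult χ ψ = 1 := by
    rw [Finset.sum_eq_single ψ (fun φ _ hφ => by rw [h4 φ hφ, Nat.mul_zero]) (fun h => absurd (Finset.mem_univ ψ) h)] at h2
    exact h2.symm
  have h9 : irrMult χ ψ = 1 := by
    exact Nat.eq_one_of_mul_eq_one_right h8
  have h10 : χ = (ψ : G → ℂ) := by
    rw [hexp, Finset.sum_eq_single ψ]
    · rw [h9]; simp
    · intro φ _ hφ; rw [h4 φ hφ]; simp
    · intro h; exact absurd (Finset.mem_univ ψ) h
  rw [h10]
  exact ψ.2

end Cfsg.Agent.Lib.Helper83

namespace Cfsg.Agent.Lib.Helper83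

open scoped ComplexConjugate ComplexOrder MonoidAlgebra
open Cfsg

universe u v
variable {G : Type u} [Group G]

theorem isCharacter_zero : IsCharacter G (0 : G → ℂ) := by
  refine ⟨0, 1, ?_⟩
  funext g
  simp [Representation.character]

theorem isCharacter_add {χ ψ : G → ℂ} (hχ : IsCharacter G χ) (hψ : IsCharacter G ψ) :
    IsCharacter G (χ + ψ) := by
  obtain ⟨n, ρ, rfl⟩ := hχ
  obtain ⟨m, σ, rfl⟩ := hψ
  have h := isCharacter_of_rep (ρ.prod σ)
  have h2 : (ρ.prod σ).character = ρ.character + σ.character := by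
    funext g
    simp only [Representation.character, Pi.add_apply]
    exact LinearMap.trace_prodMap' (ρ g) (σ g)
  rwa [h2] at h

theorem isCharacter_mul {χ ψ : G → ℂ} (hχ : IsCharacter G χ) (hψ : IsCharacter G ψ) :
    IsCharacter G (χ * ψ) := by
  obtain ⟨n, ρ, rfl⟩ := hχ
  obtain ⟨m, σ, rfl⟩ := hψ
  have h := isCharacter_of_rep (ρ.tprod σ)
  rwa [Representation.char_tensor] at h

theorem isCharacter_sum {ι : Type*} (s : Finset ι) (f : ι → G → ℂ)
    (h : ∀ i ∈ s, IsCharacter G (f i)) : IsCharacter G (∑ i ∈ s, f i) := by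
  classical
  induction s using Finset.induction_on with
  | empty => simpa using isCharacter_zero
  | insert a s ha ih =>
    rw [Finset.sum_insert ha]
    exact isCharacter_add (h a (Finset.mem_insert_self a s))
      (ih fun i hi => h i (Finset.mem_insert_of_mem hi))

theorem isCharacter_nsmul (n : ℕ) {χ : G → ℂ} (hχ : IsCharacter G χ) :
    IsCharacter G ((n : ℂ) • χ) := by
  induction n with
  | zero => simpa using isCharacter_zero
  | succ n ih =>
    have : ((n + 1 : ℕ) : ℂ) • χ = (n : ℂ) • χ + χ := by
      push_cast; rw [add_smul, one_smul]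
    rw [this]
    exact isCharacter_add ih hχ

/-- Composition of a character with a group homomorphism is a character. -/
theorem isCharacter_comp_hom {H : Type v} [Group H] (φ : H →* G) {χ : G → ℂ}
    (hχ : IsCharacter G χ) : IsCharacter H (fun h => χ (φ h)) := by
  obtain ⟨n, ρ, rfl⟩ := hχ
  exact ⟨n, ρ.comp φ, rfl⟩

/-- Restriction of a character to a subgroup is a character. -/
theorem isCharacter_restrict (H : Subgroup G) {χ : G → ℂ} (hχ : IsCharacter G χ) :
    IsCharacter H (fun h : H => χ (h : G)) :=
  isCharacter_comp_hom H.subtype hχ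

/-- The complex conjugate of a character is a character. -/
theorem isCharacter_conj [Finite G] {χ : G → ℂ} (hχ : IsCharacter G χ) :
    IsCharacter G (fun g => conj (χ g)) := by
  obtain ⟨n, ρ, rfl⟩ := hχ
  have h := isCharacter_of_rep ρ.dual
  have h2 : ρ.dual.character = fun g => conj (ρ.character g) := by
    funext g
    rw [Representation.char_dual, rep_char_inv]
  rwa [h2] at h

/-- A class function all of whose inner products with irreducible characters are natural
numbers is a character. -/
theorem isCharacter_of_classInner_nat [Fintype G] {f : G → ℂ} (hf : IsClassFunction G f)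
    (h : ∀ ψ : IrrCharacter G, ∃ n : ℕ, classInner f (ψ : G → ℂ) = n) : IsCharacter G f := by
  haveI : Fintype (IrrCharacter G) := Fintype.ofFinite _
  rw [classFunction_eq_sum_irr hf]
  apply isCharacter_sum
  intro ψ _
  obtain ⟨n, hn⟩ := h ψ
  rw [hn]
  exact isCharacter_nsmul n (IrrCharacter_isCharacter ψ)

/-- The trivial character is irreducible. -/
theorem isCharacter_one : IsCharacter G (fun _ => (1 : ℂ)) := by
  refine ⟨1, 1, ?_⟩
  funext g
  simp [Representation.character]

theorem isIrrCharacter_one [Finite G] : IsIrrCharacter G (fun _ => (1 : ℂ)) := by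
  haveI := Fintype.ofFinite G
  apply isIrrCharacter_of_norm_one isCharacter_one
  simp only [classInner_def, map_one, mul_one, Finset.sum_const, Finset.card_univ, nsmul_eq_mul,
    Nat.card_eq_fintype_card]
  exact inv_mul_cancel₀ (by
    have := card_ne_zero_complex (G := G)
    rwa [Nat.card_eq_fintype_card] at this)

/-- The trivial character as an element of `IrrCharacter G`. -/
noncomputable def trivChar (G : Type u) [Group G] [Finite G] : IrrCharacter G :=
  ⟨fun _ => 1, isIrrCharacter_one⟩

theorem trivChar_apply [Finite G] (g : G) : (trivChar G : G → ℂ) g = 1 := rfl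

end Cfsg.Agent.Lib.Helper83
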