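import Cfsg.Agent.Lib.Helper83.BG102B

set_option autoImplicit false

/-! Bender–Glauberman Theorem 10.2: assembly, with the fusion control of Lemma 10.1 (a) as a
hypothesis. -/

namespace Cfsg.Agent.Lib.Helper83.BG102

open Cfsg Cfsg.Agent.Lib.Helper55 Cfsg.Agent.Lib.Helper39

variable {G : Type*} [Group G] [Finite G]

/-- `α(M) ⊆ σ(M)` -/
theorem alpha_subset_sigma (hG : IsMinSimpleOddOrder G) {M : Subgroup G} (hM : IsCoatom M) :
    alpha M ⊆ sigma M := by
  rintro p ⟨hp, hr⟩
  have : Fact p.Prime := ⟨hp⟩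
  exact Cfsg.Agent.Lib.Helper31.Bg10.mem_sigma_of_rank_three hG hM hr

/-- **Bender–Glauberman, Theorem 10.2**, from the fusion control of Lemma 10.1 (a). -/
theorem main (hG : IsMinSimpleOddOrder G) (M : Subgroup G) (hM : IsCoatom M)
    (hfus : ∀ (p : ℕ) [Fact p.Prime], p ∈ sigma M → ∀ X : Subgroup G, IsPGroup p X → X ≠ ⊥ →
      X ≤ M → ∀ g : G, X.map (MulAut.conj g).toMonoidHom ≤ M →
        ∃ m ∈ M, ∃ c ∈ Subgroup.centralizer (X : Set G), g = m * c) :
    IsPiHallOf (alpha M) (alphaCore M) M ∧ IsPiHall (alpha M) (alphaCore M) ∧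
      alphaCore M ≤ sigmaCore M ∧ RankLE 2 (↥M ⧸ piCore (alpha M) ↥M) ∧
      Group.IsNilpotent ↥((commutator ↥M).map (QuotientGroup.mk' (piCore (alpha M) ↥M))) := by
  classical
  have hsolv : Group.IsSolvable ↥M := ms_solvable hG hM.ne_top
  have hodd : Odd (Nat.card M) := ms_odd hG M
  have hAπ : IsPiGroup (alpha M) (piCore (alpha M) ↥M) := isPiGroup_piCore _
  have hασ : alpha M ⊆ sigma M := alpha_subset_sigma hG hM
  have hidx : ∀ p : ℕ, p.Prime → p ∈ alpha M → ¬ p ∣ (piCore (alpha M) ↥M).index := by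
    intro p hp hpα
    have : Fact p.Prime := ⟨hp⟩
    obtain ⟨P, hP⟩ := exists_sylow_le_commutator hG (hασ hpα) (hfus p (hασ hpα))
    have hle := sylow_le_piCore hodd (alpha M)
      (fun q hq hqα => by_contra (fun h => hqα ⟨hq, h⟩)) p hpα P hP
    exact not_dvd_index_of_sylow_le P hle
  have hcardA : Nat.card (alphaCore M) = Nat.card (piCore (alpha M) ↥M) :=
    Subgroup.card_map_of_injective (Subgroup.subtype_injective M)
  have hAM : alphaCore M ≤ M := Subgroup.map_subtype_le _
  have hrel : (alphaCore M).relIndex M = (piCore (alpha M) ↥M).index := by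
    unfold Subgroup.relIndex alphaCore Subgroup.subgroupOf
    rw [Subgroup.comap_map_eq_self_of_injective (Subgroup.subtype_injective M)]
  have hpi : ∀ p : ℕ, p.Prime → p ∣ Nat.card (alphaCore M) → p ∈ alpha M := by
    intro p hp hd
    rw [hcardA] at hd
    exact hAπ p hp hd
  have hrank : RankLE 2 (↥M ⧸ piCore (alpha M) ↥M) := by
    intro p hp
    have : Fact p.Prime := ⟨hp⟩
    by_cases hpα : p ∈ alpha M
    · intro E hEc hEe
      have hEp : IsPGroup p E := isPGroup_of_pow_eq_one hEe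
      obtain ⟨n, hn⟩ := hEp.exists_card_eq
      rcases Nat.eq_zero_or_pos n with h0 | hpos
      · rw [hn, h0, pow_zero]
        exact Nat.one_le_pow _ _ hp.pos
      · exfalso
        apply hidx p hp hpα
        rw [Subgroup.index_eq_card]
        have h1 : p ∣ Nat.card E := by rw [hn]; exact dvd_pow_self p hpos.ne'
        exact h1.trans (Subgroup.card_subgroup_dvd_card E)
    · have hr : PRankLE p 2 ↥M := by_contra (fun h => hpα ⟨hp, h⟩)
      have hcop : (Nat.card (piCore (alpha M) ↥M)).Coprime p :=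
        Nat.Coprime.symm ((Nat.Prime.coprime_iff_not_dvd hp).2 (fun hd => hpα (hAπ p hp hd)))
      exact Cfsg.Agent.Lib.Helper26.Rank2Solv.pRankLE_quotient _ hcop hr
  refine ⟨⟨hAM, hpi, ?_⟩, ⟨hpi, ?_⟩, ?_, hrank, ?_⟩
  · intro p hp hpα
    rw [hrel]
    exact hidx p hp hpα
  · intro p hp hpα
    have : Fact p.Prime := ⟨hp⟩
    rw [← Subgroup.relIndex_mul_index hAM, hrel]
    intro hd
    rcases (Nat.Prime.dvd_mul hp).mp hd with h | h
    · exact hidx p hp hpα h
    · exact not_dvd_index_of_mem_sigma (hασ hpα) h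
  · unfold alphaCore sigmaCore
    apply Subgroup.map_mono
    exact le_piCore (sigma M) (piCore (alpha M) ↥M) (fun p hp hd => hασ (hAπ p hp hd))
  · have hmap : (commutator ↥M).map (QuotientGroup.mk' (piCore (alpha M) ↥M))
        = commutator (↥M ⧸ piCore (alpha M) ↥M) := by
      rw [commutator_def, commutator_def, Subgroup.map_commutator,
        Subgroup.map_top_of_surjective _ (QuotientGroup.mk'_surjective _)]
    have hQodd : Odd (Nat.card (↥M ⧸ piCore (alpha M) ↥M)) := by
      apply Odd.of_dvd_nat hodd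
      rw [← Subgroup.index_eq_card]
      exact Subgroup.index_dvd_card _
    have hnil := (Cfsg.Agent.S1451.result hQodd (Or.inl hrank)).1
    rw [hmap]
    exact hnil

end Cfsg.Agent.Lib.Helper83.BG102
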