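import Mathlib
import Cfsg.Agent.Lib.Helper38.PGroup

/-!
# A `p`-group lemma for BG 11.5

`P` a finite `p`-group, `A ≤ P` elementary abelian of order `p ^ 2` with `A = Ω₁(C_P(A))`, `A` not central
in `P`.  Then `Z = Ω₁(Z(P))` has order `p`, lies in `A`, and `N_P(A)` is transitive on the subgroups of
order `p` of `A` other than `Z`.
-/

set_option autoImplicit false

namespace Cfsg.Agent.Lib.Helper83.BG11

variable {G : Type*} [Group G]

/-- a subgroup of prime order is generated by any of its nontrivial elements -/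
theorem eq_zpowers_of_card_prime {p : ℕ} [Fact p.Prime] {X : Subgroup G} (hX : Nat.card X = p)
    {x : G} (hx : x ∈ X) (hx1 : x ≠ 1) : X = Subgroup.zpowers x := by
  have hp : p.Prime := Fact.out
  have hfin : Finite X := Nat.finite_of_card_ne_zero (by rw [hX]; exact hp.pos.ne')
  have hle : Subgroup.zpowers x ≤ X := Subgroup.zpowers_le.mpr hx
  have hdvd : Nat.card (Subgroup.zpowers x) ∣ p := hX ▸ Subgroup.card_dvd_of_le hle
  have hne : Nat.card (Subgroup.zpowers x) ≠ 1 := by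
    intro h1
    rw [Subgroup.card_eq_one, Subgroup.zpowers_eq_bot] at h1
    exact hx1 h1
  have hcard : Nat.card (Subgroup.zpowers x) = p := (hp.eq_one_or_self_of_dvd _ hdvd).resolve_left hne
  exact (Subgroup.eq_of_le_of_card_ge hle (by rw [hX, hcard])).symm

/-- two subgroups of prime order sharing a nontrivial element coincide -/
theorem eq_of_card_prime_of_mem {p : ℕ} [Fact p.Prime] {X Y : Subgroup G} (hX : Nat.card X = p)
    (hY : Nat.card Y = p) {x : G} (hxX : x ∈ X) (hxY : x ∈ Y) (hx1 : x ≠ 1) : X = Y := by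
  rw [eq_zpowers_of_card_prime hX hxX hx1, eq_zpowers_of_card_prime hY hxY hx1]

/-- `Ω₁(Z(P))` as a subgroup of the ambient group -/
def omegaCenter (p : ℕ) (P : Subgroup G) : Subgroup G where
  carrier := {x | x ∈ P ∧ (∀ y ∈ P, x * y = y * x) ∧ x ^ p = 1}
  mul_mem' := by
    rintro x y ⟨hx, hxc, hxp⟩ ⟨hy, hyc, hyp⟩
    refine ⟨P.mul_mem hx hy, fun t ht => ?_, ?_⟩
    · rw [mul_assoc, hyc t ht, ← mul_assoc, hxc t ht, mul_assoc]
    · rw [(show Commute x y from hxc y hy).mul_pow, hxp, hyp, one_mul]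
  one_mem' := ⟨P.one_mem, fun y _ => by simp, one_pow p⟩
  inv_mem' := by
    rintro x ⟨hx, hxc, hxp⟩
    refine ⟨P.inv_mem hx, fun t ht => ?_, by rw [inv_pow, hxp, inv_one]⟩
    have h := hxc t ht
    calc x⁻¹ * t = x⁻¹ * (t * x) * x⁻¹ := by group
      _ = x⁻¹ * (x * t) * x⁻¹ := by rw [h]
      _ = t * x⁻¹ := by group

theorem mem_omegaCenter {p : ℕ} {P : Subgroup G} {x : G} :
    x ∈ omegaCenter p P ↔ x ∈ P ∧ (∀ y ∈ P, x * y = y * x) ∧ x ^ p = 1 := Iff.rfl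

theorem omegaCenter_le (p : ℕ) (P : Subgroup G) : omegaCenter p P ≤ P := fun _ hx => hx.1

/-- `Ω₁(Z(P))` is normalized by everything that normalizes `P` -/
theorem normalizer_le_normalizer_omegaCenter (p : ℕ) (P : Subgroup G) :
    Subgroup.normalizer (P : Set G) ≤ Subgroup.normalizer (omegaCenter p P : Set G) := by
  intro g hg
  have key : ∀ g : G, g ∈ Subgroup.normalizer (P : Set G) → ∀ x ∈ omegaCenter p P,
      g * x * g⁻¹ ∈ omegaCenter p P := by
    intro g hg x hx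
    obtain ⟨hxP, hxc, hxp⟩ := hx
    refine ⟨(Subgroup.mem_normalizer_iff.mp hg x).mp hxP, fun y hy => ?_, ?_⟩
    · have hy' : g⁻¹ * y * g ∈ P := by
        have := (Subgroup.mem_normalizer_iff.mp (Subgroup.inv_mem _ hg) y).mp hy
        simpa using this
      have h := hxc _ hy'
      calc g * x * g⁻¹ * y = g * (x * (g⁻¹ * y * g)) * g⁻¹ := by group
        _ = g * ((g⁻¹ * y * g) * x) * g⁻¹ := by rw [h]
        _ = y * (g * x * g⁻¹) := by group
    · rw [conj_pow, hxp, mul_one, mul_inv_cancel]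
  rw [Subgroup.mem_normalizer_iff]
  intro x
  refine ⟨key g hg x, fun hx => ?_⟩
  have := key g⁻¹ (Subgroup.inv_mem _ hg) _ hx
  simpa [mul_assoc] using this

/-- the subgroup `Ω₁(Z(P))` of a nontrivial finite `p`-group is nontrivial -/
theorem omegaCenter_ne_bot [Finite G] {p : ℕ} [Fact p.Prime] {P : Subgroup G} (hP : IsPGroup p P)
    (hP1 : P ≠ ⊥) : omegaCenter p P ≠ ⊥ := by
  have hnt : Nontrivial P := (Subgroup.nontrivial_iff_ne_bot P).mpr hP1
  have hcnt : Nontrivial (Subgroup.center P) := hP.center_nontrivial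
  have hcp : IsPGroup p (Subgroup.center P) := hP.to_subgroup _
  have hdvd : p ∣ Nat.card (Subgroup.center P) := by
    rcases hcp.card_eq_or_dvd with h | h
    · exact absurd h (Finite.one_lt_card (α := Subgroup.center P)).ne'
    · exact h
  obtain ⟨x, hx⟩ := exists_prime_orderOf_dvd_card' p hdvd
  intro hbot
  have hmem : ((x : P) : G) ∈ omegaCenter p P := by
    refine ⟨(x : P).2, fun y hy => ?_, ?_⟩
    · have := Subgroup.mem_center_iff.mp x.2 ⟨y, hy⟩
      exact (congrArg Subtype.val this).symm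
    · have h1 : x ^ p = 1 := by rw [← hx]; exact pow_orderOf_eq_one x
      have := congrArg (fun t : Subgroup.center P => ((t : P) : G)) h1
      simpa using this
  rw [hbot, Subgroup.mem_bot] at hmem
  have hx1 : x = 1 := by
    apply Subtype.ext; apply Subtype.ext; simpa using hmem
  rw [hx1, orderOf_one] at hx
  exact (Fact.out : p.Prime).one_lt.ne hx

/-- `N_P(A) ≠ C_P(A)` when `A = Ω₁(C_P(A))` is not central in the `p`-group `P`. -/
theorem exists_normalizing_not_centralizing [Finite G] {p : ℕ} [Fact p.Prime] {P A : Subgroup G}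
    (hP : IsPGroup p P) (hAP : A ≤ P) (hAc : ∀ a ∈ A, ∀ b ∈ A, a * b = b * a)
    (hAe : ∀ a ∈ A, a ^ p = 1)
    (hmax : ∀ x ∈ P, (∀ a ∈ A, x * a = a * x) → x ^ p = 1 → x ∈ A)
    (hnc : ∃ x ∈ P, ∃ a ∈ A, x * a ≠ a * x) :
    ∃ n ∈ P, (∀ a ∈ A, n * a * n⁻¹ ∈ A) ∧ (∀ a ∈ A, n⁻¹ * a * n ∈ A) ∧ ∃ a ∈ A, n * a ≠ a * n := by
  set C : Subgroup G := P ⊓ Subgroup.centralizer (A : Set G) with hC
  have hCP : C.subgroupOf P < ⊤ := by
    rw [lt_top_iff_ne_top]
    intro h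
    obtain ⟨x, hx, a, ha, hxa⟩ := hnc
    have h1 : (⟨x, hx⟩ : P) ∈ C.subgroupOf P := h ▸ Subgroup.mem_top _
    rw [Subgroup.mem_subgroupOf] at h1
    have h2 := Subgroup.mem_centralizer_iff.mp h1.2 a ha
    exact hxa h2.symm
  have hnil : Group.IsNilpotent P := hP.isNilpotent
  have hlt := Group.normalizerCondition_of_isNilpotent (G := P) _ hCP
  obtain ⟨n', hn'N, hn'C⟩ := SetLike.exists_of_lt hlt
  have key : ∀ m : P, m ∈ Subgroup.normalizer ((C.subgroupOf P : Subgroup P) : Set P) → ∀ a ∈ A,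
      (m : G) * a * (m : G)⁻¹ ∈ A := by
    intro m hm a ha
    have haC : (⟨a, hAP ha⟩ : P) ∈ C.subgroupOf P := by
      rw [Subgroup.mem_subgroupOf]
      refine Subgroup.mem_inf.mpr ⟨hAP ha, ?_⟩
      rw [Subgroup.mem_centralizer_iff]
      intro b hb
      exact hAc b hb a ha
    have h1 := (Subgroup.mem_normalizer_iff.mp hm _).mp haC
    rw [Subgroup.mem_subgroupOf] at h1
    have h2 : (m : G) * a * (m : G)⁻¹ ∈ C := by simpa using h1
    refine hmax _ h2.1 (fun b hb => ?_) ?_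
    · exact (Subgroup.mem_centralizer_iff.mp h2.2 b hb).symm
    · rw [conj_pow, hAe a ha, mul_one, mul_inv_cancel]
  refine ⟨n', n'.2, key n' hn'N, ?_, ?_⟩
  · intro a ha
    have := key n'⁻¹ (Subgroup.inv_mem _ hn'N) a ha
    simpa using this
  · by_contra hcon
    push Not at hcon
    apply hn'C
    rw [Subgroup.mem_subgroupOf]
    refine Subgroup.mem_inf.mpr ⟨n'.2, ?_⟩
    rw [Subgroup.mem_centralizer_iff]
    intro a ha
    exact (hcon a ha).symm

/-- elements of the join of two elementwise commuting subgroups are products -/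
theorem exists_mul_of_mem_sup_comm {X Y : Subgroup G} (hc : ∀ a ∈ X, ∀ b ∈ Y, a * b = b * a)
    {x : G} (hx : x ∈ X ⊔ Y) : ∃ x₁ ∈ X, ∃ x₂ ∈ Y, x = x₁ * x₂ := by
  let T : Subgroup G :=
    { carrier := {x | ∃ x₁ ∈ X, ∃ x₂ ∈ Y, x = x₁ * x₂}
      mul_mem' := by
        rintro _ _ ⟨x₁, hx₁, x₂, hx₂, rfl⟩ ⟨y₁, hy₁, y₂, hy₂, rfl⟩
        refine ⟨x₁ * y₁, X.mul_mem hx₁ hy₁, x₂ * y₂, Y.mul_mem hx₂ hy₂, ?_⟩
        have h := hc y₁ hy₁ x₂ hx₂
        calc x₁ * x₂ * (y₁ * y₂) = x₁ * (x₂ * y₁) * y₂ := by group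
          _ = x₁ * (y₁ * x₂) * y₂ := by rw [h]
          _ = x₁ * y₁ * (x₂ * y₂) := by group
      one_mem' := ⟨1, X.one_mem, 1, Y.one_mem, (one_mul 1).symm⟩
      inv_mem' := by
        rintro _ ⟨x₁, hx₁, x₂, hx₂, rfl⟩
        refine ⟨x₁⁻¹, X.inv_mem hx₁, x₂⁻¹, Y.inv_mem hx₂, ?_⟩
        have h := hc x₁⁻¹ (X.inv_mem hx₁) x₂⁻¹ (Y.inv_mem hx₂)
        rw [mul_inv_rev, h] }
  have hXT : X ≤ T := fun a ha => ⟨a, ha, 1, Y.one_mem, (mul_one a).symm⟩
  have hYT : Y ≤ T := fun b hb => ⟨1, X.one_mem, b, hb, (one_mul b).symm⟩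
  exact (sup_le hXT hYT) hx

/-- **the `p`-group lemma for BG 11.5.** -/
theorem exists_conj_line [Finite G] {p : ℕ} [Fact p.Prime] {P A : Subgroup G}
    (hP : IsPGroup p P) (hAP : A ≤ P) (hAc : ∀ a ∈ A, ∀ b ∈ A, a * b = b * a)
    (hAe : ∀ a ∈ A, a ^ p = 1) (hA2 : Nat.card A = p ^ 2)
    (hmax : ∀ x ∈ P, (∀ a ∈ A, x * a = a * x) → x ^ p = 1 → x ∈ A)
    (hnc : ∃ x ∈ P, ∃ a ∈ A, x * a ≠ a * x) :
    omegaCenter p P ≤ A ∧ Nat.card (omegaCenter p P) = p ∧
      ∀ A0 A1 : Subgroup G, A0 ≤ A → A1 ≤ A → Nat.card A0 = p → Nat.card A1 = p →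
        A0 ≠ omegaCenter p P → A1 ≠ omegaCenter p P →
        ∃ n ∈ P, n ∈ Subgroup.normalizer (A : Set G) ∧
          A0.map (MulAut.conj n).toMonoidHom = A1 := by
  have hp : p.Prime := Fact.out
  set Z := omegaCenter p P with hZ
  have hZA : Z ≤ A := fun x hx => hmax x hx.1 (fun a ha => hx.2.1 a (hAP ha)) hx.2.2
  have hA1 : A ≠ ⊥ := by
    intro h
    rw [h, Subgroup.card_bot] at hA2
    have := Nat.one_lt_pow two_ne_zero hp.one_lt
    omega
  have hP1 : P ≠ ⊥ := fun h => hA1 (le_bot_iff.mp (h ▸ hAP))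
  have hZ1 : Z ≠ ⊥ := omegaCenter_ne_bot hP hP1
  have hZneA : Z ≠ A := by
    intro h
    obtain ⟨x, hx, a, ha, hxa⟩ := hnc
    have : a ∈ Z := h ▸ ha
    exact hxa (this.2.1 x hx).symm
  have hZcard : Nat.card Z = p := by
    have hdvd : Nat.card Z ∣ p ^ 2 := hA2 ▸ Subgroup.card_dvd_of_le hZA
    obtain ⟨i, hi, hci⟩ := (Nat.dvd_prime_pow hp).mp hdvd
    interval_cases i
    · exfalso; apply hZ1; rwa [pow_zero, Subgroup.card_eq_one] at hci
    · simpa using hci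
    · exfalso; apply hZneA; exact Subgroup.eq_of_le_of_card_ge hZA (by rw [hci, hA2])
  refine ⟨hZA, hZcard, ?_⟩
  obtain ⟨n, hnP, hnA, hnA', a₁, ha₁, hna₁⟩ :=
    exists_normalizing_not_centralizing hP hAP hAc hAe hmax hnc
  have hnN : n ∈ Subgroup.normalizer (A : Set G) := by
    rw [Subgroup.mem_normalizer_iff]
    intro x
    refine ⟨hnA x, fun hx => ?_⟩
    have := hnA' _ hx
    simpa [mul_assoc] using this
  -- the homomorphism `a ↦ [n, a]`
  let κ : A →* A := MonoidHom.mk'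
    (fun a => ⟨n * a * n⁻¹ * (a : G)⁻¹, A.mul_mem (hnA a a.2) (A.inv_mem a.2)⟩) (by
      intro a b
      apply Subtype.ext
      simp only [Subgroup.coe_mul]
      have hcomm : (a : G)⁻¹ * (n * b * n⁻¹) = (n * b * n⁻¹) * (a : G)⁻¹ :=
        hAc _ (A.inv_mem a.2) _ (hnA b b.2)
      have hcomm2 : (b : G)⁻¹ * (a : G)⁻¹ = (a : G)⁻¹ * (b : G)⁻¹ :=
        hAc _ (A.inv_mem b.2) _ (A.inv_mem a.2)
      calc n * ((a : G) * b) * n⁻¹ * ((a : G) * b)⁻¹
          = (n * a * n⁻¹) * (n * b * n⁻¹) * ((b : G)⁻¹ * (a : G)⁻¹) := by group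
        _ = (n * a * n⁻¹) * (n * b * n⁻¹) * ((a : G)⁻¹ * (b : G)⁻¹) := by rw [hcomm2]
        _ = (n * a * n⁻¹) * ((n * b * n⁻¹) * (a : G)⁻¹) * (b : G)⁻¹ := by group
        _ = (n * a * n⁻¹) * ((a : G)⁻¹ * (n * b * n⁻¹)) * (b : G)⁻¹ := by rw [hcomm]
        _ = n * a * n⁻¹ * (a : G)⁻¹ * (n * b * n⁻¹ * (b : G)⁻¹) := by group)
  have hκ : ∀ a : A, ((κ a : A) : G) = n * a * n⁻¹ * (a : G)⁻¹ := fun a => rfl
  have hker : ∀ a : A, a ∈ κ.ker ↔ n * (a : G) = a * n := by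
    intro a
    rw [MonoidHom.mem_ker, ← Subtype.coe_inj, hκ, Subgroup.coe_one]
    constructor
    · intro h
      have : n * a * n⁻¹ = a := by
        have := congrArg (· * (a : G)) h
        simpa using this
      calc n * (a : G) = n * a * n⁻¹ * n := by group
        _ = a * n := by rw [this]
    · intro h
      calc n * (a : G) * n⁻¹ * (a : G)⁻¹ = (n * a) * n⁻¹ * (a : G)⁻¹ := by group
        _ = (a * n) * n⁻¹ * (a : G)⁻¹ := by rw [h]
        _ = 1 := by group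
  -- `C_A(n) = Z`
  set K : Subgroup G := κ.ker.map A.subtype with hK
  have hKA : K ≤ A := Subgroup.map_subtype_le _
  have hmemK : ∀ a : G, a ∈ K ↔ a ∈ A ∧ n * a = a * n := by
    intro a
    constructor
    · rintro ⟨a', ha', rfl⟩
      exact ⟨a'.2, (hker a').mp ha'⟩
    · rintro ⟨haA, hc⟩
      exact ⟨⟨a, haA⟩, (hker ⟨a, haA⟩).mpr hc, rfl⟩
  have hZK : Z ≤ K := by
    intro z hz
    rw [hmemK]
    exact ⟨hZA hz, (hz.2.1 n hnP).symm⟩
  have hKneA : K ≠ A := by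
    intro h
    have : a₁ ∈ K := h ▸ ha₁
    exact hna₁ ((hmemK a₁).mp this).2
  have hKcard : Nat.card K = p := by
    have hdvd : Nat.card K ∣ p ^ 2 := hA2 ▸ Subgroup.card_dvd_of_le hKA
    have hpd : p ∣ Nat.card K := hZcard ▸ Subgroup.card_dvd_of_le hZK
    obtain ⟨i, hi, hci⟩ := (Nat.dvd_prime_pow hp).mp hdvd
    interval_cases i
    · exfalso
      rw [hci, pow_zero] at hpd
      exact hp.one_lt.ne' (Nat.dvd_one.mp hpd)
    · simpa using hci
    · exfalso; apply hKneA; exact Subgroup.eq_of_le_of_card_ge hKA (by rw [hci, hA2])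
  have hKZ : K = Z := (Subgroup.eq_of_le_of_card_ge hZK (by rw [hKcard, hZcard])).symm
  have hkercard : Nat.card κ.ker = p := by
    rw [← hKcard, hK, Subgroup.card_map_of_injective A.subtype_injective]
  have hrangecard : Nat.card κ.range = p := by
    have h1 := Subgroup.card_eq_card_quotient_mul_card_subgroup κ.ker
    have h2 : Nat.card (A ⧸ κ.ker) = Nat.card κ.range :=
      Nat.card_congr (QuotientGroup.quotientKerEquivRange κ).toEquiv
    rw [hA2, h2, hkercard, pow_two] at h1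
    exact (Nat.eq_of_mul_eq_mul_right hp.pos h1).symm
  set D : Subgroup G := κ.range.map A.subtype with hD
  have hDA : D ≤ A := Subgroup.map_subtype_le _
  have hDcard : Nat.card D = p := by
    rw [hD, Subgroup.card_map_of_injective A.subtype_injective, hrangecard]
  have hmemD : ∀ a : A, n * a * n⁻¹ * (a : G)⁻¹ ∈ D := fun a => ⟨κ a, ⟨a, rfl⟩, rfl⟩
  have hnD : n ∈ Subgroup.normalizer (D : Set G) := by
    apply Subgroup.mem_normalizer_fintype
    rintro d ⟨d', ⟨a, rfl⟩, rfl⟩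
    have h1 := hmemD ⟨n * a * n⁻¹, hnA a a.2⟩
    have h2 : n * ((A.subtype (κ a)) : G) * n⁻¹ =
        n * (n * (a : G) * n⁻¹) * n⁻¹ * (n * (a : G) * n⁻¹)⁻¹ := by
      show n * (n * (a : G) * n⁻¹ * (a : G)⁻¹) * n⁻¹ = _
      group
    rw [SetLike.mem_coe, h2]
    exact h1
  -- `n` centralizes `D`
  have hnDc : ∀ d ∈ D, n * d = d * n := by
    set N' : Subgroup G := P ⊓ Subgroup.normalizer (D : Set G) with hN'
    have hN'p : IsPGroup p N' := hP.to_le inf_le_left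
    have hDN' : D ≤ N' := le_inf (hDA.trans hAP) Subgroup.le_normalizer
    have hnN' : n ∈ N' := ⟨hnP, hnD⟩
    have hnorm : (D.subgroupOf N').Normal :=
      (Subgroup.normal_subgroupOf_iff_le_normalizer hDN').mpr inf_le_right
    have hne : D.subgroupOf N' ≠ ⊥ := by
      intro h
      rw [Subgroup.subgroupOf_eq_bot, disjoint_iff, inf_of_le_left hDN'] at h
      rw [h, Subgroup.card_bot] at hDcard
      exact hp.one_lt.ne hDcard
    obtain ⟨x, hxD, hxZ, hx1⟩ :=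
      Cfsg.Agent.Lib.Helper38.normal_inf_center_ne_bot p hN'p (D.subgroupOf N') hne
    have hxD' : (x : G) ∈ D := Subgroup.mem_subgroupOf.mp hxD
    have hx1' : (x : G) ≠ 1 := fun h => hx1 (Subtype.ext h)
    have hDx := eq_zpowers_of_card_prime hDcard hxD' hx1'
    have hnx : n * (x : G) = x * n := by
      have := Subgroup.mem_center_iff.mp hxZ ⟨n, hnN'⟩
      exact congrArg Subtype.val this
    intro d hd
    rw [hDx] at hd
    obtain ⟨k, rfl⟩ := Subgroup.mem_zpowers_iff.mp hd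
    exact ((show Commute n (x : G) from hnx).zpow_right k).eq
  have hDZ : D ≤ Z := by
    intro d hd
    rw [← hKZ, hmemK]
    exact ⟨hDA hd, hnDc d hd⟩
  -- the main argument
  intro A0 A1 hA0 hA1' hc0 hc1 hne0 hne1
  have hA0bot : A0 ≠ ⊥ := by
    intro h
    rw [h, Subgroup.card_bot] at hc0
    exact hp.one_lt.ne hc0
  obtain ⟨⟨a₀, ha₀A0⟩, ha₀1⟩ := (Subgroup.ne_bot_iff_exists_ne_one).mp hA0bot
  have ha₀1' : a₀ ≠ 1 := fun h => ha₀1 (Subtype.ext h)
  have ha₀Z : a₀ ∉ Z := fun h => hne0 (eq_of_card_prime_of_mem hc0 hZcard ha₀A0 h ha₀1')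
  have ha₀A : a₀ ∈ A := hA0 ha₀A0
  set w : G := n * a₀ * n⁻¹ * a₀⁻¹ with hw
  have hwD : w ∈ D := hmemD ⟨a₀, ha₀A⟩
  have hwZ : w ∈ Z := hDZ hwD
  have hw1 : w ≠ 1 := by
    intro h
    apply ha₀Z
    rw [← hKZ, hmemK]
    refine ⟨ha₀A, ?_⟩
    have : n * a₀ * n⁻¹ = a₀ := by
      have := congrArg (· * a₀) h
      simpa [hw] using this
    calc n * a₀ = n * a₀ * n⁻¹ * n := by group
      _ = a₀ * n := by rw [this]
  have hZw : Z = Subgroup.zpowers w := eq_zpowers_of_card_prime hZcard hwZ hw1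
  have hnw : Commute n w := (hwZ.2.1 n hnP).symm
  have hna₀ : n * a₀ * n⁻¹ = w * a₀ := by rw [hw]; group
  have hpow : ∀ i : ℕ, n ^ i * a₀ * (n ^ i)⁻¹ = w ^ i * a₀ := by
    intro i
    induction i with
    | zero => simp
    | succ i ih =>
      have h1 : n * w ^ i * n⁻¹ = w ^ i := by
        have := (hnw.pow_right i).eq
        calc n * w ^ i * n⁻¹ = (n * w ^ i) * n⁻¹ := by group
          _ = (w ^ i * n) * n⁻¹ := by rw [this]
          _ = w ^ i := by group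
      calc n ^ (i + 1) * a₀ * (n ^ (i + 1))⁻¹ = n * (n ^ i * a₀ * (n ^ i)⁻¹) * n⁻¹ := by
            rw [pow_succ']; group
        _ = n * (w ^ i * a₀) * n⁻¹ := by rw [ih]
        _ = (n * w ^ i * n⁻¹) * (n * a₀ * n⁻¹) := by group
        _ = w ^ i * (w * a₀) := by rw [h1, hna₀]
        _ = w ^ (i + 1) * a₀ := by rw [pow_succ]; group
  -- `A = A1 ⊔ Z`
  have hsup : A1 ⊔ Z = A := by
    have hle : A1 ⊔ Z ≤ A := sup_le hA1' hZA
    have hdvd : Nat.card (A1 ⊔ Z : Subgroup G) ∣ p ^ 2 := hA2 ▸ Subgroup.card_dvd_of_le hle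
    have hpd : p ∣ Nat.card (A1 ⊔ Z : Subgroup G) := hc1 ▸ Subgroup.card_dvd_of_le le_sup_left
    obtain ⟨i, hi, hci⟩ := (Nat.dvd_prime_pow hp).mp hdvd
    interval_cases i
    · exfalso
      rw [hci, pow_zero] at hpd
      exact hp.one_lt.ne' (Nat.dvd_one.mp hpd)
    · exfalso
      have h1 : A1 = A1 ⊔ Z :=
        Subgroup.eq_of_le_of_card_ge le_sup_left (by rw [hci, hc1, pow_one])
      have h2 : Z ≤ A1 := h1 ▸ le_sup_right
      exact hne1 (Subgroup.eq_of_le_of_card_ge h2 (by rw [hc1, hZcard])).symm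
    · exact Subgroup.eq_of_le_of_card_ge hle (by rw [hci, hA2])
  have ha₀sup : a₀ ∈ A1 ⊔ Z := hsup ▸ ha₀A
  obtain ⟨x₁, hx₁, x₂, hx₂, hx⟩ := exists_mul_of_mem_sup_comm
    (fun a ha b hb => hAc a (hA1' ha) b (hZA hb)) ha₀sup
  have hx₂inv : x₂⁻¹ ∈ Subgroup.zpowers w := hZw ▸ Z.inv_mem hx₂
  rw [← mem_powers_iff_mem_zpowers] at hx₂inv
  obtain ⟨i, hi⟩ := (Submonoid.mem_powers_iff _ _).mp hx₂inv
  have hx₁eq : x₁ = n ^ i * a₀ * (n ^ i)⁻¹ := by
    rw [hpow i, hi]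
    have hc := hAc a₀ ha₀A x₂⁻¹ (hZA (Z.inv_mem hx₂))
    rw [← hc, hx]
    group
  have hx₁1 : x₁ ≠ 1 := by
    intro h
    rw [h, one_mul] at hx
    exact ha₀Z (hx ▸ hx₂)
  refine ⟨n ^ i, P.pow_mem hnP i, Subgroup.pow_mem _ hnN i, ?_⟩
  have hcm : Nat.card (A0.map (MulAut.conj (n ^ i)).toMonoidHom) = p := by
    rw [Subgroup.card_map_of_injective (MulAut.conj (n ^ i)).injective, hc0]
  refine eq_of_card_prime_of_mem hcm hc1 (x := x₁) ?_ hx₁ hx₁1
  refine ⟨a₀, ha₀A0, ?_⟩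
  rw [hx₁eq]
  rfl

end Cfsg.Agent.Lib.Helper83.BG11
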