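import Mathlib
import Cfsg.Agent.S0058
import Cfsg.Agent.S1350
import Cfsg.Agent.S1405
import Cfsg.Agent.S1451
import Cfsg.Agent.Lib.Helper71.BG11a
import Cfsg.Agent.Lib.Helper68.BGCentAb2
import Cfsg.Agent.Lib.Helper83.BG11ePG

/-!
# BG 11.5 / 11.6 (team numbering): Sylow `p`-subgroups of an exceptional maximal subgroup are abelian
-/

set_option autoImplicit false
set_option linter.unusedSectionVars false
set_option linter.style.haveILetI false

namespace Cfsg.Agent.Lib.Helper83.BG11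

open Cfsg Cfsg.Agent.Lib.Helper55 Cfsg.Agent.Lib.Helper31 Cfsg.Agent.Lib.Helper71.BG10
  Cfsg.Agent.Lib.Helper71.BG11

variable {G : Type*} [Group G] [Finite G]

/-- `M_σ ≠ 1` for a maximal subgroup of a minimal simple group of odd order (BG Theorem 10.2(e)). -/
theorem sigmaCore_ne_bot (hG : IsMinSimpleOddOrder G) {M : Subgroup G} (hM : IsCoatom M)
    (hM1 : M ≠ ⊥) : sigmaCore M ≠ ⊥ := by
  intro hbot
  have hHall := (Cfsg.Agent.S1350.result hG M hM).1
  have hsolv : Group.IsSolvable M := ms_solvable hG hM.1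
  have hodd : Odd (Nat.card M) := ms_odd hG M
  -- a prime of `σ(M)` dividing `|M|` gives a contradiction
  have key : ∀ q : ℕ, q.Prime → q ∣ Nat.card M → q ∈ sigma M → False := by
    intro q hq hqM hqs
    have h1 := hHall.2.2 q hq hqs
    rw [hbot, Subgroup.relIndex_bot_left] at h1
    exact h1 hqM
  by_cases hr : RankLE 2 M
  · obtain ⟨-, -, h3⟩ := Cfsg.Agent.S1451.result (G := M) hodd (Or.inl hr)
    have hcard : Nat.card M ≠ 1 := by
      intro h
      exact hM1 (Subgroup.card_eq_one.mp h)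
    have hne : (Nat.card M).primeFactors.Nonempty := by
      rw [Nat.nonempty_primeFactors]
      have : 0 < Nat.card M := Nat.card_pos
      omega
    obtain ⟨q₀, hq₀, hmax⟩ := Finset.exists_max_image _ id hne
    have hq₀p : q₀.Prime := Nat.prime_of_mem_primeFactors hq₀
    have hq₀M : q₀ ∣ Nat.card M := Nat.dvd_of_mem_primeFactors hq₀
    have : Fact q₀.Prime := ⟨hq₀p⟩
    obtain ⟨N, hNchar, hNπ, hNidx⟩ := h3 (q₀ - 1)
    have hNp : IsPGroup q₀ N := by
      have hall : ∀ {d : ℕ}, d.Prime → d ∣ Nat.card N → d = q₀ := by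
        intro d hd hdN
        have h1 := hNπ d hd hdN
        have h2 : d ∣ Nat.card M := hdN.trans (Subgroup.card_subgroup_dvd_card N)
        have h3 : d ≤ q₀ := hmax d (Nat.mem_primeFactors.mpr ⟨hd, h2, Nat.card_pos.ne'⟩)
        have h4 : q₀ - 1 < d := h1.2
        omega
      exact IsPGroup.of_card (Nat.eq_prime_pow_of_unique_prime_dvd Nat.card_pos.ne' hall)
    have hNi : ¬ q₀ ∣ N.index := hNidx q₀ hq₀p ⟨hq₀p, Nat.sub_lt hq₀p.pos one_pos⟩
    have hN1 : N ≠ ⊥ := by
      intro h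
      rw [h, Subgroup.index_bot] at hNi
      exact hNi hq₀M
    have hNn : N.Normal := inferInstance
    set Q : Subgroup G := N.map M.subtype with hQ
    have hQ1 : Q ≠ ⊥ := by
      intro h
      apply hN1
      rw [hQ, Subgroup.map_eq_bot_iff_of_injective _ M.subtype_injective] at h
      exact h
    have hQM : Q ≤ M := Subgroup.map_subtype_le _
    have hMQ : M ≤ Subgroup.normalizer (Q : Set G) := by
      intro m hm
      rw [Subgroup.mem_normalizer_iff]
      intro x
      constructor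
      · rintro ⟨y, hy, rfl⟩
        exact ⟨⟨m, hm⟩ * y * ⟨m, hm⟩⁻¹, hNn.conj_mem y hy ⟨m, hm⟩, rfl⟩
      · rintro ⟨y, hy, hyx⟩
        have h1 := hNn.conj_mem y hy ⟨m, hm⟩⁻¹
        refine ⟨⟨m, hm⟩⁻¹ * y * ⟨m, hm⟩⁻¹⁻¹, h1, ?_⟩
        simp only [Subgroup.subtype_apply, Subgroup.coe_mul, Subgroup.coe_inv, inv_inv] at hyx ⊢
        rw [hyx]
        group
    have hnorm : Subgroup.normalizer (Q : Set G) = M := ms_normalizer_eq hG hM hQ1 hQM hMQ
    refine key q₀ hq₀p hq₀M ⟨hq₀p, hq₀M, hNp.toSylow hNi, ?_⟩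
    rw [IsPGroup.toSylow_coe, ← hQ, hnorm]
  · unfold RankLE at hr
    push Not at hr
    obtain ⟨q, hq, hqr⟩ := hr
    have hqα : q ∈ alpha M := ⟨hq, hqr⟩
    obtain ⟨hαHall, -, hαle, -, -⟩ := Cfsg.Agent.S1405.result hG M hM
    have hαbot : alphaCore M = ⊥ := le_bot_iff.mp (hbot ▸ hαle)
    have h1 := hαHall.2.2 q hq hqα
    rw [hαbot, Subgroup.relIndex_bot_left] at h1
    apply h1
    unfold PRankLE at hqr
    push Not at hqr
    obtain ⟨B, -, hBe, hBc⟩ := hqr
    have hB1 : B ≠ ⊥ := by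
      intro h
      rw [h, Subgroup.card_bot] at hBc
      have := Nat.one_le_pow 2 q hq.pos
      omega
    obtain ⟨⟨b, hb⟩, hb1⟩ := (Subgroup.ne_bot_iff_exists_ne_one).mp hB1
    have hb1' : b ≠ 1 := fun h => hb1 (Subtype.ext h)
    have : Fact q.Prime := ⟨hq⟩
    have hord : orderOf b = q := orderOf_eq_prime (hBe b hb) hb1'
    rw [← hord]
    exact orderOf_dvd_natCard b

variable {M A A0 : Subgroup G} {p : ℕ} [Fact p.Prime]

theorem centralizer_singleton_le_zpowers (a : G) :
    Subgroup.centralizer ({a} : Set G) ≤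
      Subgroup.centralizer ((Subgroup.zpowers a : Subgroup G) : Set G) := by
  intro x hx
  rw [Subgroup.mem_centralizer_iff]
  intro y hy
  obtain ⟨k, rfl⟩ := Subgroup.mem_zpowers_iff.mp hy
  have h1 : a * x = x * a := Subgroup.mem_centralizer_iff.mp hx a rfl
  exact ((show Commute a x from h1).zpow_left k).eq

theorem exc_dvd_card (h : Exc M p A A0) : p ∣ Nat.card M :=
  dvd_trans (by rw [h.card]; exact dvd_pow_self p two_ne_zero) (Subgroup.card_dvd_of_le h.le)

theorem exc_comm (h : Exc M p A A0) : ∀ a ∈ A, ∀ b ∈ A, a * b = b * a := by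
  intro a ha b hb
  exact congrArg Subtype.val (h.elem.1.is_comm.comm ⟨a, ha⟩ ⟨b, hb⟩)

/-- `N_G(P) ≰ M` for a Sylow `p`-subgroup `P` of `M` -/
theorem normalizer_sylow_not_le (h : Exc M p A A0) {P : Subgroup G} (hP : IsSylowIn p M P) :
    ¬ Subgroup.normalizer (P : Set G) ≤ M := by
  intro hle
  apply h.notSigma
  refine ⟨Fact.out, exc_dvd_card h, hP.toSylow, ?_⟩
  rw [hP.map_toSylow]
  exact hle

/-- an elementary abelian group of order `p ^ 2` is not cyclic -/
theorem not_isCyclic_of_elem {B : Subgroup G} (hB : IsElementaryAbelian p B)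
    (hc : Nat.card B = p ^ 2) : ¬ IsCyclic B := by
  intro hcyc
  obtain ⟨b, hb⟩ := hcyc.exists_generator
  have hp : p.Prime := Fact.out
  have h1 : orderOf b = Nat.card B := orderOf_eq_card_of_forall_mem_zpowers hb
  have h2 : b ^ p = 1 := by
    apply Subtype.ext
    have := hB.2 b b.2
    simpa using this
  have h3 : orderOf b ∣ p := orderOf_dvd_of_pow_eq_one h2
  rw [h1, hc] at h3
  have h4 := Nat.le_of_dvd hp.pos h3
  have h5 : p < p ^ 2 := by
    calc p = p ^ 1 := (pow_one p).symm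
      _ < p ^ 2 := Nat.pow_lt_pow_right hp.one_lt (by norm_num)
  omega

theorem isElementaryAbelian_cj {B : Subgroup G} (hB : IsElementaryAbelian p B) (g : G) :
    IsElementaryAbelian p (cj g B) := by
  refine ⟨⟨⟨?_⟩⟩, ?_⟩
  · rintro ⟨x, hx⟩ ⟨y, hy⟩
    apply Subtype.ext
    obtain ⟨x', hx', rfl⟩ := hx
    obtain ⟨y', hy', rfl⟩ := hy
    have h1 : x' * y' = y' * x' := congrArg Subtype.val (hB.1.is_comm.comm ⟨x', hx'⟩ ⟨y', hy'⟩)
    show (MulAut.conj g).toMonoidHom x' * (MulAut.conj g).toMonoidHom y' =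
      (MulAut.conj g).toMonoidHom y' * (MulAut.conj g).toMonoidHom x'
    rw [← map_mul, ← map_mul, h1]
  · rintro x ⟨x', hx', rfl⟩
    rw [← map_pow, hB.2 x' hx', map_one]

/-- **BG 11.5** (team numbering): the Sylow `p`-subgroups of an exceptional maximal subgroup are abelian. -/
theorem sylow_comm (hG : IsMinSimpleOddOrder G) (h : Exc M p A A0) {P : Subgroup G}
    (hP : IsSylowIn p M P) (hAP : A ≤ P) : ∀ x ∈ P, ∀ y ∈ P, x * y = y * x := by
  have hpp : p.Prime := Fact.out
  have hAc := exc_comm h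
  have hmaxP : ∀ x ∈ P, (∀ a ∈ A, x * a = a * x) → x ^ p = 1 → x ∈ A := by
    intro x _ hx hxp
    exact h.mem_of_cent hG (Subgroup.mem_centralizer_iff.mpr (fun a ha => (hx a ha).symm)) hxp
  by_cases hnc : ∃ x ∈ P, ∃ a ∈ A, x * a ≠ a * x
  · exfalso
    obtain ⟨hZA, hZcard, htrans⟩ := exists_conj_line hP.2.1 hAP hAc h.elem.2 h.card hmaxP hnc
    set Z := omegaCenter p P with hZdef
    obtain ⟨g, hgN, hgM⟩ := SetLike.not_le_iff_exists.mp (normalizer_sylow_not_le h hP)
    have hgP : cj g P = P := cj_eq_self_iff.mpr hgN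
    have hgZn : g ∈ Subgroup.normalizer (Z : Set G) :=
      normalizer_le_normalizer_omegaCenter p P hgN
    have hgZ : cj g Z = Z := cj_eq_self_iff.mpr hgZn
    have hAg : A ≤ cj g M := by
      have : P ≤ cj g M := by
        have := cj_mono (g := g) hP.1
        rwa [hgP] at this
      exact hAP.trans this
    have hZA0 : A0 ≠ Z := by
      intro hEq
      apply hgM
      apply h.norm
      rw [hEq]
      exact hgZn
    -- the lines of `A` other than `Z` are conjugate to `A0`, so their `g`-conjugates are fixed point free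
    have hfpf : ∀ A1 : Subgroup G, A1 ≤ A → Nat.card A1 = p → A1 ≠ Z →
        sigmaCore M ⊓ Subgroup.centralizer ((cj g A1 : Subgroup G) : Set G) = ⊥ := by
      intro A1 hA1 hc1 hne1
      obtain ⟨n, hnP, hnN, hnA⟩ := htrans A0 A1 h.le0 hA1 h.card0 hc1 hZA0 hne1
      have hnM : n ∈ M := hP.1 hnP
      have hgn : g * n ∉ M := by
        intro hc
        apply hgM
        have := M.mul_mem hc (M.inv_mem hnM)
        simpa using this
      have hAgn : A ≤ cj (g * n) M := by
        rw [cj_mul, cj_eq_self_of_mem hnM]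
        exact hAg
      have h1 := h.sigmaCore_inf_cent hG hgn hAgn
      rw [cj_mul] at h1
      have h2 : cj n A0 = A1 := hnA
      rwa [h2] at h1
    -- `Z` centralizes `M_σ`
    have hcjA : cj g A ≤ P := by
      have := cj_mono (g := g) hAP
      rwa [hgP] at this
    have hK : sigmaCore M ≤ Subgroup.centralizer (Z : Set G) := by
      have hel := isElementaryAbelian_cj h.elem g
      have hcard : Nat.card (cj g A) = p ^ 2 := by rw [card_cj, h.card]
      haveI := hel.1
      have hB'nc : ¬ IsCyclic (cj g A) := not_isCyclic_of_elem hel hcard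
      have hB'K : cj g A ≤ Subgroup.normalizer (sigmaCore M : Set G) :=
        (hcjA.trans hP.1).trans (le_normalizer_sigmaCore M)
      have hcop : (Nat.card (cj g A)).Coprime (Nat.card (sigmaCore M)) := by
        rw [card_cj]
        exact h.coprime_sigmaCore hG
      have hgen := Cfsg.Agent.S0058.result (cj g A) (sigmaCore M) hB'nc hB'K hcop
      rw [← hgen]
      apply iSup₂_le
      rintro a ⟨haB, ha1⟩
      by_cases haZ : a ∈ Z
      · have hZa := eq_zpowers_of_card_prime hZcard haZ ha1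
        intro x hx
        rw [hZa]
        exact centralizer_singleton_le_zpowers a hx.2
      · have hap : a ^ p = 1 := hel.2 a haB
        have hBc : Nat.card (Subgroup.zpowers a) = p := by
          rw [Nat.card_zpowers]
          exact orderOf_eq_prime hap ha1
        have hBle : Subgroup.zpowers a ≤ cj g A := Subgroup.zpowers_le.mpr haB
        have hA1 : cj g⁻¹ (Subgroup.zpowers a) ≤ A := by
          rw [← le_cj_iff]
          exact hBle
        have hc1 : Nat.card (cj g⁻¹ (Subgroup.zpowers a)) = p := by rw [card_cj, hBc]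
        have hne1 : cj g⁻¹ (Subgroup.zpowers a) ≠ Z := by
          intro hEq
          apply haZ
          have h1 : cj g (cj g⁻¹ (Subgroup.zpowers a)) = cj g Z := by rw [hEq]
          rw [cj_cj_inv, hgZ] at h1
          rw [← h1]
          exact Subgroup.mem_zpowers a
        have h2 := hfpf _ hA1 hc1 hne1
        rw [cj_cj_inv] at h2
        have h3 : sigmaCore M ⊓ Subgroup.centralizer ({a} : Set G) ≤
            sigmaCore M ⊓ Subgroup.centralizer ((Subgroup.zpowers a : Subgroup G) : Set G) :=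
          inf_le_inf_left _ (centralizer_singleton_le_zpowers a)
        rw [h2] at h3
        exact h3.trans bot_le
    -- contradiction with 11.1(b)
    have hK1 : sigmaCore M ≠ ⊥ := sigmaCore_ne_bot hG h.coatom h.M_ne_bot
    have hKc : Nat.card (sigmaCore M) ≠ 1 := fun h1 => hK1 (Subgroup.card_eq_one.mp h1)
    obtain ⟨q, hqp, hqK⟩ := Nat.exists_prime_and_dvd hKc
    haveI : Fact q.Prime := ⟨hqp⟩
    have hsolvA : Group.IsSolvable A := ms_solvable hG h.ne_top
    have hAK : A ≤ Subgroup.normalizer (sigmaCore M : Set G) :=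
      h.le.trans (le_normalizer_sigmaCore M)
    obtain ⟨S1, hAS1⟩ := Cfsg.Agent.S0023.result A (sigmaCore M) hAK (h.coprime_sigmaCore hG)
      (Or.inl hsolvA) q
    have hS1 : IsSylowIn q (sigmaCore M) ((S1 : Subgroup (sigmaCore M)).map (sigmaCore M).subtype) :=
      isSylowIn_of_sylow S1
    have hAK2 : A ≤ Subgroup.normalizer ((cj g (sigmaCore M) : Subgroup G) : Set G) := by
      rw [← cj_normalizer]
      exact hAg.trans (cj_mono (le_normalizer_sigmaCore M))
    have hcop2 : (Nat.card A).Coprime (Nat.card (cj g (sigmaCore M))) := by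
      rw [card_cj]
      exact h.coprime_sigmaCore hG
    obtain ⟨S2, hAS2⟩ := Cfsg.Agent.S0023.result A (cj g (sigmaCore M)) hAK2 hcop2
      (Or.inl hsolvA) q
    have hS2 : IsSylowIn q (cj g (sigmaCore M))
        ((S2 : Subgroup (cj g (sigmaCore M))).map (cj g (sigmaCore M)).subtype) :=
      isSylowIn_of_sylow S2
    have hqK2 : q ∣ Nat.card (cj g (sigmaCore M)) := by rw [card_cj]; exact hqK
    have hQ1 := sylow_ne_bot hqK hS1
    have hQ2 := sylow_ne_bot hqK2 hS2
    have hK2 : cj g (sigmaCore M) ≤ Subgroup.centralizer (Z : Set G) := by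
      have h1 := cj_mono (g := g) hK
      rwa [cj_centralizer, hgZ] at h1
    rcases h.cent_inf_eq_bot hG hgM hAg hS1.1 hS2.1 hS1.2.1 hS2.2.1 hAS1 hAS2 hZA hZcard with h1 | h1
    · apply hQ1
      rw [← h1]
      exact (inf_of_le_left (hS1.1.trans hK)).symm
    · apply hQ2
      rw [← h1]
      exact (inf_of_le_left (hS2.1.trans hK2)).symm
  · push Not at hnc
    obtain ⟨R, hPR⟩ := hP.2.1.exists_le_sylow
    have hcomm := (Cfsg.Agent.Lib.Helper68.BGCentAb.comm_of_sylow hG p R A (hAP.trans hPR) h.elem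
      h.card (fun B _ hB hAB => h.maxElem hG B hB hAB)).1
    have hmem : ∀ x ∈ P, x ∈ (R : Subgroup G) ⊓ Subgroup.centralizer (A : Set G) := by
      intro x hx
      refine Subgroup.mem_inf.mpr ⟨hPR hx, ?_⟩
      rw [Subgroup.mem_centralizer_iff]
      intro a ha
      exact (hnc x hx a ha).symm
    intro x hx y hy
    exact hcomm x (hmem x hx) y (hmem y hy)

/-- the hypotheses of the exceptional case are invariant under conjugation by elements of `M` -/
theorem exc_cj (h : Exc M p A A0) {m : G} (hm : m ∈ M) : Exc M p (cj m A) (cj m A0) where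
  coatom := h.coatom
  notSigma := h.notSigma
  le := by
    have := cj_mono (g := m) h.le
    rwa [cj_eq_self_of_mem hm] at this
  elem := isElementaryAbelian_cj h.elem m
  card := by rw [card_cj, h.card]
  le0 := cj_mono h.le0
  card0 := by rw [card_cj, h.card0]
  norm := by
    rw [← cj_normalizer]
    have := cj_mono (g := m) h.norm
    rwa [cj_eq_self_of_mem hm] at this

/-- **BG 11.5**, for an arbitrary Sylow `p`-subgroup of `M`. -/
theorem sylow_comm' (hG : IsMinSimpleOddOrder G) (h : Exc M p A A0) {P : Subgroup G}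
    (hP : IsSylowIn p M P) : ∀ x ∈ P, ∀ y ∈ P, x * y = y * x := by
  obtain ⟨m, hm, hmA⟩ := hP.exists_conj_le h.le h.isPGroup
  exact sylow_comm hG (exc_cj h hm) hP hmA

/-- **BG 11.6(a)**: `A = Ω₁(P)`. -/
theorem mem_iff_pow (hG : IsMinSimpleOddOrder G) (h : Exc M p A A0) {P : Subgroup G}
    (hP : IsSylowIn p M P) (hAP : A ≤ P) : ∀ x ∈ P, x ^ p = 1 ↔ x ∈ A := by
  intro x hx
  constructor
  · intro hxp
    refine h.mem_of_cent hG ?_ hxp
    rw [Subgroup.mem_centralizer_iff]
    intro a ha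
    exact sylow_comm hG h hP hAP a (hAP ha) x hx
  · exact h.elem.2 x

/-- `N_G(P) ≤ N_G(A)` -/
theorem normalizer_sylow_le (hG : IsMinSimpleOddOrder G) (h : Exc M p A A0) {P : Subgroup G}
    (hP : IsSylowIn p M P) (hAP : A ≤ P) :
    Subgroup.normalizer (P : Set G) ≤ Subgroup.normalizer (A : Set G) := by
  have key : ∀ g : G, g ∈ Subgroup.normalizer (P : Set G) → ∀ a ∈ A, g * a * g⁻¹ ∈ A := by
    intro g hg a ha
    have h1 : g * a * g⁻¹ ∈ P := (Subgroup.mem_normalizer_iff.mp hg a).mp (hAP ha)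
    refine (mem_iff_pow hG h hP hAP _ h1).mp ?_
    rw [conj_pow, h.elem.2 a ha, mul_one, mul_inv_cancel]
  intro g hg
  rw [Subgroup.mem_normalizer_iff]
  intro x
  refine ⟨key g hg x, fun hx => ?_⟩
  have := key g⁻¹ (Subgroup.inv_mem _ hg) _ hx
  simpa [mul_assoc] using this

/-- there is `g ∈ N_G(P) \ M`; it normalizes `A` -/
theorem exists_normalizing (hG : IsMinSimpleOddOrder G) (h : Exc M p A A0) {P : Subgroup G}
    (hP : IsSylowIn p M P) (hAP : A ≤ P) :
    ∃ g : G, g ∈ Subgroup.normalizer (P : Set G) ∧ g ∈ Subgroup.normalizer (A : Set G) ∧ g ∉ M := by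
  obtain ⟨g, hgN, hgM⟩ := SetLike.not_le_iff_exists.mp (normalizer_sylow_not_le h hP)
  exact ⟨g, hgN, normalizer_sylow_le hG h hP hAP hgN, hgM⟩

/-- `N_G(A) ≰ M` -/
theorem normalizer_not_le (hG : IsMinSimpleOddOrder G) (h : Exc M p A A0) :
    ¬ Subgroup.normalizer (A : Set G) ≤ M := by
  obtain ⟨P, hP, hAP⟩ := exists_isSylowIn_ge h.le h.isPGroup
  obtain ⟨g, -, hgA, hgM⟩ := exists_normalizing hG h hP hAP
  exact fun hle => hgM (hle hgA)

/-- for `g ∈ N_G(A) \ M` the line `g A0 g⁻¹ ≤ A` is fixed point free on `M_σ` -/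
theorem sigmaCore_inf_cent_cj (hG : IsMinSimpleOddOrder G) (h : Exc M p A A0) {g : G}
    (hgA : g ∈ Subgroup.normalizer (A : Set G)) (hgM : g ∉ M) :
    cj g A0 ≤ A ∧ Nat.card (cj g A0) = p ∧
      sigmaCore M ⊓ Subgroup.centralizer ((cj g A0 : Subgroup G) : Set G) = ⊥ := by
  have hgAe : cj g A = A := cj_eq_self_iff.mpr hgA
  have hAg : A ≤ cj g M := by
    have := cj_mono (g := g) h.le
    rwa [hgAe] at this
  refine ⟨?_, by rw [card_cj, h.card0], h.sigmaCore_inf_cent hG hgM hAg⟩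
  have := cj_mono (g := g) h.le0
  rwa [hgAe] at this

/-- **BG 11.6(b)**: `C_{M_σ}(A) = 1`. -/
theorem sigmaCore_inf_cent_A (hG : IsMinSimpleOddOrder G) (h : Exc M p A A0) :
    sigmaCore M ⊓ Subgroup.centralizer (A : Set G) = ⊥ := by
  obtain ⟨P, hP, hAP⟩ := exists_isSylowIn_ge h.le h.isPGroup
  obtain ⟨g, -, hgA, hgM⟩ := exists_normalizing hG h hP hAP
  obtain ⟨hle, -, hfpf⟩ := sigmaCore_inf_cent_cj hG h hgA hgM
  refine le_bot_iff.mp (hfpf ▸ inf_le_inf_left _ ?_)
  exact Subgroup.centralizer_le (SetLike.coe_subset_coe.mpr hle)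

/-- an element of odd order is a power of its square -/
theorem mem_of_sq_mem {H : Subgroup G} {g : G} (hodd : Odd (orderOf g)) (hg : g ^ 2 ∈ H) : g ∈ H := by
  obtain ⟨k, hk⟩ := hodd
  have h1 : g = (g ^ 2) ^ (k + 1) := by
    rw [← pow_mul]
    have : 2 * (k + 1) = orderOf g + 1 := by omega
    rw [this, pow_succ, pow_orderOf_eq_one, one_mul]
  rw [h1]
  exact H.pow_mem hg _

/-- **BG 11.6(c)**: two distinct fixed point free lines, generating `A`. -/
theorem exists_fpf (hG : IsMinSimpleOddOrder G) (h : Exc M p A A0) :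
    ∃ A1 A2 : Subgroup G, A1 ≤ A ∧ A2 ≤ A ∧ Nat.card A1 = p ∧ Nat.card A2 = p ∧ A1 ≠ A2 ∧
      sigmaCore M ⊓ Subgroup.centralizer (A1 : Set G) = ⊥ ∧
      sigmaCore M ⊓ Subgroup.centralizer (A2 : Set G) = ⊥ ∧ A1 ⊔ A2 = A := by
  have hpp : p.Prime := Fact.out
  obtain ⟨P, hP, hAP⟩ := exists_isSylowIn_ge h.le h.isPGroup
  obtain ⟨g, -, hgA, hgM⟩ := exists_normalizing hG h hP hAP
  have hgA' : g⁻¹ ∈ Subgroup.normalizer (A : Set G) := Subgroup.inv_mem _ hgA
  have hgM' : g⁻¹ ∉ M := fun hc => hgM (by simpa using M.inv_mem hc)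
  obtain ⟨h1le, h1c, h1f⟩ := sigmaCore_inf_cent_cj hG h hgA hgM
  obtain ⟨h2le, h2c, h2f⟩ := sigmaCore_inf_cent_cj hG h hgA' hgM'
  have hne : cj g A0 ≠ cj g⁻¹ A0 := by
    intro hEq
    apply hgM
    have h3 : cj (g ^ 2) A0 = A0 := by
      rw [pow_two, cj_mul, hEq, cj_cj_inv]
    have h4 : g ^ 2 ∈ M := h.norm (cj_eq_self_iff.mp h3)
    have hodd : Odd (orderOf g) := Odd.of_dvd_nat hG.1 (orderOf_dvd_natCard g)
    exact mem_of_sq_mem hodd h4
  refine ⟨cj g A0, cj g⁻¹ A0, h1le, h2le, h1c, h2c, hne, h1f, h2f, ?_⟩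
  -- the join of two distinct lines is `A`
  have hle : cj g A0 ⊔ cj g⁻¹ A0 ≤ A := sup_le h1le h2le
  have hdvd : Nat.card (cj g A0 ⊔ cj g⁻¹ A0 : Subgroup G) ∣ p ^ 2 :=
    h.card ▸ Subgroup.card_dvd_of_le hle
  have hpd : p ∣ Nat.card (cj g A0 ⊔ cj g⁻¹ A0 : Subgroup G) :=
    h1c ▸ Subgroup.card_dvd_of_le le_sup_left
  obtain ⟨i, hi, hci⟩ := (Nat.dvd_prime_pow hpp).mp hdvd
  interval_cases i
  · exfalso
    rw [hci, pow_zero] at hpd
    exact hpp.one_lt.ne' (Nat.dvd_one.mp hpd)
  · exfalso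
    have e1 : cj g A0 = cj g A0 ⊔ cj g⁻¹ A0 :=
      Subgroup.eq_of_le_of_card_ge le_sup_left (by rw [hci, h1c, pow_one])
    have e2 : cj g⁻¹ A0 ≤ cj g A0 := e1 ▸ le_sup_right
    exact hne (Subgroup.eq_of_le_of_card_ge e2 (by rw [h1c, h2c])).symm
  · exact Subgroup.eq_of_le_of_card_ge hle (by rw [hci, h.card])

end Cfsg.Agent.Lib.Helper83.BG11
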