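import Cfsg.Agent.Lib.Helper71.BG11e
import Cfsg.Agent.Lib.Helper83.BG11e

/-!
# BG 11.5 / 11.6 in the shape `Hyp116 G` of helper71's `Leaves G`
-/

set_option autoImplicit false

namespace Cfsg.Agent.Lib.Helper83.BG11

open Cfsg Cfsg.Agent.Lib.Helper55 Cfsg.Agent.Lib.Helper71.BG11

variable {G : Type*} [Group G] [Finite G]

/-- BG 11.5 + 11.6 for a Sylow `p`-subgroup `P ≥ A` of an exceptional maximal subgroup -/
theorem str116 (hG : IsMinSimpleOddOrder G) {M A A0 : Subgroup G} {p : ℕ} [Fact p.Prime]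
    (h : Exc M p A A0) {P : Subgroup G} (hP : IsSylowIn p M P) (hAP : A ≤ P) :
    Str116 M A P p where
  comm := sylow_comm hG h hP hAP
  mem_iff := mem_iff_pow hG h hP hAP
  not_le := normalizer_sylow_not_le h hP
  norm_le := normalizer_sylow_le hG h hP hAP
  cent := sigmaCore_inf_cent_A hG h
  fpf := by
    obtain ⟨A1, A2, h1, h2, c1, c2, hne, f1, f2, -⟩ := exists_fpf hG h
    exact ⟨A1, A2, ⟨h1, h2, c1, c2, hne, f1, f2⟩⟩

/-- the `h116` field of `Leaves G` -/
theorem hyp116 (hG : IsMinSimpleOddOrder G) : Hyp116 G :=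
  fun _ _ _ _ _ h _ hP hAP => str116 hG h hP hAP

end Cfsg.Agent.Lib.Helper83.BG11
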