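import Mathlib
import Cfsg.Agent.S1350
import Cfsg.Agent.S1415
import Cfsg.Agent.S1420
import Cfsg.Agent.S1423
import Cfsg.Agent.Lib.Helper15.BG139Defs
import Cfsg.Agent.Lib.Helper31.BG12a
import Cfsg.Agent.Lib.Helper31.FittingHall
import Cfsg.Agent.Lib.Helper13.BG12B
import Cfsg.Agent.Lib.Helper16.BG134Asm
import Cfsg.Agent.Lib.Helper41.BG134Z
import Cfsg.Agent.Lib.Helper54.BG134A3a
import Cfsg.Agent.Lib.Helper71.BG10Hall
import Cfsg.Agent.Lib.Helper71.BG10Sub
import Cfsg.Agent.Lib.Helper71.BG11a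
import Cfsg.Agent.Lib.Helper12.CNMaxSub

/-!
# BG Theorem 13.9 (S1378), keystone 137818 (K-S1378-K3b): `sigma_primes`

Step 16(i) of `notes/BG13_9_proof_helper15.md`: in the case `r ∈ σ(H)`, every prime divisor of
`|C_{M_σ}(P)|` lies in `τ₁(H)`.
-/

set_option autoImplicit false
set_option linter.unusedSectionVars false
set_option linter.unusedVariables false
set_option linter.style.haveILetI false

namespace Cfsg.Agent.Lib.Helper83.BG139

open Cfsg Cfsg.Agent.Lib.Helper55 Cfsg.Agent.Lib.Helper31.BG134 Cfsg.Agent.Lib.Helper15.BG139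

variable {G : Type*} [Group G] [Finite G]

theorem k3b_beta_subset_sigma (hG : IsMinSimpleOddOrder G) {M : Subgroup G} (hM : IsCoatom M)
    {t : ℕ} (ht : t ∈ beta M) : t ∈ sigma M :=
  Cfsg.Agent.Lib.Helper71.BG10.alpha_subset_sigma hG hM ht.1

/-- S1423 for a subgroup of prime order `t ∈ β(M)`. -/
theorem k3b_uniq_of_beta (hG : IsMinSimpleOddOrder G) {M : Subgroup G} (hM : IsCoatom M) {t : ℕ}
    (ht : t ∈ beta M) {X : Subgroup G} (hXM : X ≤ M) (hXc : Nat.card X = t) :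
    Subgroup.centralizer (X : Set G) ≤ M ∧
      ∀ L : Subgroup G, IsCoatom L → Subgroup.centralizer (X : Set G) ≤ L → L = M := by
  have htp : t.Prime := ht.1.1
  haveI : Fact t.Prime := ⟨htp⟩
  exact (Cfsg.Agent.S1423.result hG M hM t (k3b_beta_subset_sigma hG hM ht) X hXM hXc default
    (Or.inl ht)).1

/-- the normalizer of a subgroup `X` of prime order `t ∈ β(M)` lies in `M` -/
theorem k3b_normalizer_le_of_beta (hG : IsMinSimpleOddOrder G) {M : Subgroup G} (hM : IsCoatom M)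
    {t : ℕ} (ht : t ∈ beta M) {X : Subgroup G} (hXM : X ≤ M) (hXc : Nat.card X = t) :
    Subgroup.normalizer (X : Set G) ≤ M := by
  have htp : t.Prime := ht.1.1
  obtain ⟨h1, h2⟩ := k3b_uniq_of_beta hG hM ht hXM hXc
  have hX1 : X ≠ ⊥ := by
    intro h
    rw [h, Subgroup.card_bot] at hXc
    exact htp.one_lt.ne hXc
  have hXtop : X ≠ ⊤ := by
    intro h
    apply hM.1
    rw [eq_top_iff, ← h]; exact hXM
  obtain ⟨L, hL, hNL⟩ :=
    Cfsg.Agent.Lib.Helper12.CNMaxSub.exists_coatom_normalizer_le hG hX1 hXtop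
  have hCN : Subgroup.centralizer (X : Set G) ≤ Subgroup.normalizer (X : Set G) :=
    Subgroup.centralizer_le_normalizer _
  have := h2 L hL (hCN.trans hNL)
  rw [← this]; exact hNL

/-- **KEYSTONE 137818  K-S1378-K3b**  (step 16(i)). -/
theorem sigma_primes {M N P H : Subgroup G} {r : ℕ} (lM : Loc M P H r) (lN : Loc N P H r)
    (hnc : ∀ g : G, cj g M ≠ N) (hrσ : r ∈ sigma H)
    (hTOOL : ∀ Y : Subgroup G, Y ≤ M → Y ≤ H →
      (∀ q : ℕ, q.Prime → q ∣ Nat.card Y → q ∉ sigma H) → Y ≤ CP M P) :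
    ∀ t : ℕ, t.Prime → t ∣ Nat.card ↥(CP M P) → t ∈ tau1 H := by
  intro t ht htd
  have hG := lM.o.hG
  have hM := lM.o.hM
  have hN := lN.o.hM
  have hH := lM.hH
  haveI : Fact t.Prime := ⟨ht⟩
  have hr : r.Prime := lM.o.hr1.1
  haveI : Fact r.Prime := ⟨hr⟩
  have hHallH := (Cfsg.Agent.S1350.result hG H hH).1
  have hPH : P ≤ H := Subgroup.le_normalizer.trans lM.hNH
  -- Cauchy: `x` of order `t` in `C_{M_σ}(P)`
  obtain ⟨x, hx⟩ := exists_prime_orderOf_dvd_card' t htd
  have hxG : orderOf (x : G) = t := by rw [Subgroup.orderOf_coe, hx]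
  set X : Subgroup G := Subgroup.zpowers (x : G) with hXdef
  have hXC : X ≤ CP M P := Subgroup.zpowers_le.mpr x.2
  have hXc : Nat.card X = t := by rw [hXdef, Nat.card_zpowers, hxG]
  have htβ : t ∈ beta M := lM.o.hCβ t ht htd
  have htσM : t ∈ sigma M := k3b_beta_subset_sigma hG hM htβ
  have htσH : t ∉ sigma H := fun h => lM.hσ t h htσM
  have hCH : CP M P ≤ H := by
    have h := lM.hC
    rw [← h]; exact inf_le_right
  have hXH : X ≤ H := hXC.trans hCH
  have hXM : X ≤ M :=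
    hXC.trans (inf_le_left.trans (Cfsg.Agent.Lib.Helper71.BG11.sigmaCore_le M))
  have htH : t ∣ Nat.card H := by
    rw [← hXc]; exact Subgroup.card_dvd_of_le hXH
  have hXprimes : ∀ p : ℕ, p.Prime → p ∣ Nat.card X → p = t := by
    intro p hp hpd
    rw [hXc] at hpd
    exact (Nat.prime_dvd_prime_iff_eq hp ht).mp hpd
  obtain ⟨hCXM, hCXuniq⟩ := k3b_uniq_of_beta hG hM htβ hXM hXc
  rcases Cfsg.Agent.Lib.Helper16.BG134.mem_tau_cases hG hH ht htH htσH with h1 | h2 | h3
  · exact h1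
  · -- `t ∈ τ₂(H)`: S1420(d) makes `H` the only maximal subgroup over `C_G(x)`; so is `M`
    exfalso
    obtain ⟨EH, hEH, -⟩ := Cfsg.Agent.Lib.Helper13.BG12.exists_complIn_ge hG hH hHallH
      (K := ⊥) bot_le (by
        intro p hp hpd
        rw [Subgroup.card_bot] at hpd
        exact absurd (Nat.dvd_one.mp hpd) hp.one_lt.ne')
    have h20 := (Cfsg.Agent.S1420.result hG H hH EH hEH).2.2.2
    -- `P ≤ H_σ`
    have hPσ : P ≤ sigmaCore H := by
      apply Cfsg.Agent.Lib.Helper71.BG10.le_of_isPiHallOf_normal hHallH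
        (Cfsg.Agent.Lib.Helper71.BG11.le_normalizer_sigmaCore H) hPH
      intro s hs hsd
      rw [lM.o.hPc] at hsd
      rw [(Nat.prime_dvd_prime_iff_eq hs hr).mp hsd]
      exact hrσ
    -- a non-identity element of `P`
    have hP1 : P ≠ ⊥ := by
      intro h
      have := lM.o.hPc
      rw [h, Subgroup.card_bot] at this
      exact hr.one_lt.ne this
    obtain ⟨y, hyP, hy1⟩ : ∃ y ∈ P, y ≠ (1 : G) := by
      by_contra hno
      push Not at hno
      apply hP1
      rw [eq_bot_iff]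
      intro z hz
      rw [Subgroup.mem_bot]; exact hno z hz
    have hxH : (x : G) ∈ H := hXH (Subgroup.mem_zpowers _)
    have hx1 : (x : G) ≠ 1 := by
      intro h
      rw [h, orderOf_one] at hxG
      exact ht.one_lt.ne hxG
    have hxcomm : (x : G) * y = y * (x : G) :=
      (Subgroup.mem_centralizer_iff.mp x.2.2 y hyP).symm
    have hxhat : (x : G) ∈ sigmaHat H := ⟨hxH, y, hPσ hyP, hy1, hxcomm⟩
    have hxτ : ∀ p : ℕ, p.Prime → p ∣ orderOf (x : G) → p ∈ tau2 H := by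
      intro p hp hpd
      rw [hxG] at hpd
      rw [(Nat.prime_dvd_prime_iff_eq hp ht).mp hpd]
      exact h2
    obtain ⟨-, huniqH⟩ := h20 (x : G) hxH hx1 hxτ hxhat
    -- `C_G({x}) ≤ C_G(X) ≤ M`
    have hCx : Subgroup.centralizer ({(x : G)} : Set G) ≤ Subgroup.centralizer (X : Set G) := by
      intro g hg
      rw [Subgroup.mem_centralizer_iff] at hg ⊢
      intro z hz
      obtain ⟨k, rfl⟩ := Subgroup.mem_zpowers_iff.mp hz
      have hc : Commute (x : G) g := hg (x : G) (Set.mem_singleton _)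
      exact (hc.zpow_left k).eq
    have hMH : M = H := huniqH M hM (hCx.trans hCXM)
    apply lM.hnc 1
    rw [cj_one]; exact hMH
  · -- `t ∈ τ₃(H)`
    exfalso
    obtain ⟨EH, hEH, hXEH⟩ := Cfsg.Agent.Lib.Helper13.BG12.exists_complIn_ge hG hH hHallH
      hXH (by
        intro p hp hpd
        rw [hXprimes p hp hpd]; exact htσH)
    have hEHH : EH ≤ H := hEH.1
    have hEHsolv : Group.IsSolvable ↥EH :=
      ms_solvable hG (ne_top_of_le_ne_top hH.1 hEHH)
    obtain ⟨E₃, hE₃, hXE₃⟩ := Cfsg.Agent.Lib.Helper54.BG134.exists_isPiHallOf_ge hEHsolv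
      (tau3 H) hXEH (by
        intro p hp hpd
        rw [hXprimes p hp hpd]; exact h3)
    obtain ⟨hE₃c, -, hE₃n⟩ := (Cfsg.Agent.S1415.result hG H hH EH hEH).2.2 E₃ hE₃
    -- `EH ≤ N_G(X)`
    have hEHX : EH ≤ Subgroup.normalizer (X : Set G) := by
      intro e he
      rw [← cj_eq_self_iff]
      have h1 : cj e E₃ = E₃ := cj_eq_self_iff.mpr (hE₃n he)
      have h2' : cj e X ≤ E₃ := by
        rw [← h1]; exact cj_mono hXE₃
      exact Cfsg.Agent.Lib.Helper41.BG134.z_eq_of_le_cyclic hE₃c h2' hXE₃ (card_cj e X)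
    have hEHM : EH ≤ M := hEHX.trans (k3b_normalizer_le_of_beta hG hM htβ hXM hXc)
    have hEHC : EH ≤ CP M P := hTOOL EH hEHM hEHH
      (Cfsg.Agent.Lib.Helper13.BG12.complIn_prime_not_mem_sigma hHallH hEH)
    -- a prime divisor `t'` of `|C_{N_σ}(P)|`
    have hCN1 : Nat.card ↥(CP N P) ≠ 1 := by
      intro h
      exact lN.o.hC1 (Subgroup.card_eq_one.mp h)
    obtain ⟨t', ht', ht'd⟩ := Nat.exists_prime_and_dvd hCN1
    have ht'βN : t' ∈ beta N := lN.o.hCβ t' ht' ht'd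
    have ht'σN : t' ∈ sigma N := k3b_beta_subset_sigma hG hN ht'βN
    have ht'σH : t' ∉ sigma H := fun h => lN.hσ t' h ht'σN
    have hCNH : CP N P ≤ H := by
      have h := lN.hC
      rw [← h]; exact inf_le_right
    have ht'H : t' ∣ Nat.card H := ht'd.trans (Subgroup.card_dvd_of_le hCNH)
    have hcard : Nat.card EH * Nat.card (sigmaCore H) = Nat.card H :=
      Cfsg.Agent.Lib.Helper31.IsComplIn.card_mul hEH
    rw [← hcard] at ht'H
    have ht'EH : t' ∣ Nat.card EH := by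
      rcases (Nat.Prime.dvd_mul ht').mp ht'H with h | h
      · exact h
      · exact absurd (Cfsg.Agent.Lib.Helper71.BG11.sigmaCore_pi hG hH ht' h) ht'σH
    have ht'CM : t' ∣ Nat.card ↥(CP M P) := ht'EH.trans (Subgroup.card_dvd_of_le hEHC)
    have ht'βM : t' ∈ beta M := lM.o.hCβ t' ht' ht'CM
    exact Cfsg.Agent.Lib.Helper31.BG12.alpha_sigma_disjoint hG hM hN hnc ht'βM.1 ht'σN

end Cfsg.Agent.Lib.Helper83.BG139
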