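import Mathlib
import Cfsg.Agent.Lib.Helper83.BG139K3b
import Cfsg.Agent.Lib.Helper21.BG139K3a
import Cfsg.Agent.Lib.Helper18.BG134Fr
import Cfsg.Agent.Lib.Helper29.Sup

/-!
# BG Theorem 13.9 (S1378), keystone 137819 (K-S1378-K3c): `sigma_final`

Step 16(ii) of `notes/BG13_9_proof_helper15.md`: the final contradiction in the case `r ∈ σ(H)`.
-/

set_option autoImplicit false
set_option linter.unusedSectionVars false
set_option linter.unusedVariables false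
set_option linter.style.haveILetI false

namespace Cfsg.Agent.Lib.Helper83.BG139

open Cfsg Cfsg.Agent.Lib.Helper55 Cfsg.Agent.Lib.Helper31.BG134 Cfsg.Agent.Lib.Helper15.BG139

variable {G : Type*} [Group G] [Finite G]

/-- the index in `H` of a complement `EH` of `H_σ` is `|H_σ|` -/
theorem k3c_relIndex_compl {H EH : Subgroup G} (hEH : IsComplIn EH (sigmaCore H) H) :
    EH.relIndex H = Nat.card (sigmaCore H) := by
  have hc1 : Nat.card EH * Nat.card (sigmaCore H) = Nat.card H :=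
    Cfsg.Agent.Lib.Helper31.IsComplIn.card_mul hEH
  have hc2 : Nat.card (EH.subgroupOf H) * (EH.subgroupOf H).index = Nat.card H :=
    Subgroup.card_mul_index _
  have hc3 : Nat.card (EH.subgroupOf H) = Nat.card EH :=
    Nat.card_congr (Subgroup.subgroupOfEquivOfLe hEH.1).toEquiv
  have hpos : 0 < Nat.card EH := Nat.card_pos
  rw [hc3, ← hc1] at hc2
  exact Nat.eq_of_mul_eq_mul_left hpos hc2

/-- a `q`-subgroup `Z` of `H`, `q ∈ τ₁(H)`, is `H`-conjugate into any Hall `τ₁(H)`-subgroup `E₁` of any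
complement `EH` of `H_σ` in `H`. -/
theorem k3c_exists_conj_le (hG : IsMinSimpleOddOrder G) {H EH E₁ Z : Subgroup G} (hH : IsCoatom H)
    (hEH : IsComplIn EH (sigmaCore H) H) (hE₁ : IsPiHallOf (tau1 H) E₁ EH) {q : ℕ}
    [Fact q.Prime] (hq : q ∈ tau1 H) (hZH : Z ≤ H) (hZ : IsPGroup q Z) :
    ∃ k ∈ H, cj k Z ≤ E₁ := by
  obtain ⟨T, hT, -⟩ := exists_isSylowIn_ge (p := q) (K := E₁) (Z := ⊥) bot_le IsPGroup.of_bot
  have hE₁H : E₁ ≤ H := hE₁.1.trans hEH.1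
  have hTH : T ≤ H := hT.1.trans hE₁H
  have h1 : ¬ q ∣ T.relIndex E₁ := Cfsg.Agent.Lib.Helper71.BG10.sylow_not_dvd_relIndex hT
  have h2 : ¬ q ∣ E₁.relIndex EH := hE₁.2.2 q hq.1 hq
  have h3 : ¬ q ∣ EH.relIndex H := by
    rw [k3c_relIndex_compl hEH]
    intro hd
    exact hq.2.1 (Cfsg.Agent.Lib.Helper71.BG11.sigmaCore_pi hG hH hq.1 hd)
  have h4 : ¬ q ∣ T.relIndex H := by
    rw [← Subgroup.relIndex_mul_relIndex T E₁ H hT.1 hE₁H,
      ← Subgroup.relIndex_mul_relIndex E₁ EH H hE₁.1 hEH.1]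
    intro hd
    rcases (Nat.Prime.dvd_mul hq.1).mp hd with hd | hd
    · exact h1 hd
    · rcases (Nat.Prime.dvd_mul hq.1).mp hd with hd | hd
      · exact h2 hd
      · exact h3 hd
  have hTS : IsSylowIn q H T :=
    Cfsg.Agent.Lib.Helper18.BG134.isSylowIn_of_not_dvd_relIndex hTH hT.2.1 h4
  obtain ⟨k, hk, hkT⟩ := hTS.exists_conj_le hZH hZ
  exact ⟨k, hk, hkT.trans hT.1⟩

/-- **KEYSTONE 137819  K-S1378-K3c**  (step 16(ii)). -/
theorem sigma_final {M N P H : Subgroup G} {r : ℕ} (lM : Loc M P H r) (lN : Loc N P H r)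
    (hnc : ∀ g : G, cj g M ≠ N) (hrσ : r ∈ sigma H)
    (hpa : ∀ EH E₁ : Subgroup G, IsComplIn EH (sigmaCore H) H → IsPiHallOf (tau1 H) E₁ EH →
      PrimeAct H E₁)
    (hM1 : ∀ t : ℕ, t.Prime → t ∣ Nat.card ↥(CP M P) → t ∈ tau1 H)
    (hN1 : ∀ t : ℕ, t.Prime → t ∣ Nat.card ↥(CP N P) → t ∈ tau1 H) : False := by
  have hG := lM.o.hG
  have hM := lM.o.hM
  have hN := lN.o.hM
  have hH := lM.hH
  have hr : r.Prime := lM.o.hr1.1
  haveI : Fact r.Prime := ⟨hr⟩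
  have hHallH := (Cfsg.Agent.S1350.result hG H hH).1
  have hPH : P ≤ H := Subgroup.le_normalizer.trans lM.hNH
  have hPM : P ≤ M := lM.o.hPM
  -- prime divisors `t` of `|C_{M_σ}(P)|` and `t'` of `|C_{N_σ}(P)|`
  have hCM1 : Nat.card ↥(CP M P) ≠ 1 := fun h => lM.o.hC1 (Subgroup.card_eq_one.mp h)
  have hCN1 : Nat.card ↥(CP N P) ≠ 1 := fun h => lN.o.hC1 (Subgroup.card_eq_one.mp h)
  obtain ⟨t, ht, htd⟩ := Nat.exists_prime_and_dvd hCM1
  obtain ⟨t', ht', ht'd⟩ := Nat.exists_prime_and_dvd hCN1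
  haveI : Fact t.Prime := ⟨ht⟩
  haveI : Fact t'.Prime := ⟨ht'⟩
  have htτ : t ∈ tau1 H := hM1 t ht htd
  have ht'τ : t' ∈ tau1 H := hN1 t' ht' ht'd
  have htβ : t ∈ beta M := lM.o.hCβ t ht htd
  have ht'βN : t' ∈ beta N := lN.o.hCβ t' ht' ht'd
  have ht'σN : t' ∈ sigma N := k3b_beta_subset_sigma hG hN ht'βN
  -- `X = ⟨x⟩ ≤ C_{M_σ}(P)` of order `t`
  obtain ⟨x, hx⟩ := exists_prime_orderOf_dvd_card' t htd
  have hxG : orderOf (x : G) = t := by rw [Subgroup.orderOf_coe, hx]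
  set X : Subgroup G := Subgroup.zpowers (x : G) with hXdef
  have hXC : X ≤ CP M P := Subgroup.zpowers_le.mpr x.2
  have hXc : Nat.card X = t := by rw [hXdef, Nat.card_zpowers, hxG]
  have hCH : CP M P ≤ H := by
    have h := lM.hC
    rw [← h]; exact inf_le_right
  have hXH : X ≤ H := hXC.trans hCH
  have hXM : X ≤ M :=
    hXC.trans (inf_le_left.trans (Cfsg.Agent.Lib.Helper71.BG11.sigmaCore_le M))
  have hXprimes : ∀ p : ℕ, p.Prime → p ∣ Nat.card X → p = t := by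
    intro p hp hpd
    rw [hXc] at hpd
    exact (Nat.prime_dvd_prime_iff_eq hp ht).mp hpd
  have hx1 : (x : G) ≠ 1 := by
    intro h
    rw [h, orderOf_one] at hxG
    exact ht.one_lt.ne hxG
  -- `X' = ⟨x'⟩ ≤ C_{N_σ}(P)` of order `t'`
  obtain ⟨x', hx'⟩ := exists_prime_orderOf_dvd_card' t' ht'd
  have hx'G : orderOf (x' : G) = t' := by rw [Subgroup.orderOf_coe, hx']
  set X' : Subgroup G := Subgroup.zpowers (x' : G) with hX'def
  have hX'C : X' ≤ CP N P := Subgroup.zpowers_le.mpr x'.2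
  have hX'c : Nat.card X' = t' := by rw [hX'def, Nat.card_zpowers, hx'G]
  have hCNH : CP N P ≤ H := by
    have h := lN.hC
    rw [← h]; exact inf_le_right
  have hX'H : X' ≤ H := hX'C.trans hCNH
  have hX'p : IsPGroup t' X' := IsPGroup.of_card (n := 1) (by rw [hX'c, pow_one])
  -- the complement `EH ≥ X` and its Hall `τ₁(H)`-subgroup `E₁ ≥ X`
  obtain ⟨EH, hEH, hXEH⟩ := Cfsg.Agent.Lib.Helper13.BG12.exists_complIn_ge hG hH hHallH
    hXH (by
      intro p hp hpd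
      rw [hXprimes p hp hpd]; exact htτ.2.1)
  have hEHH : EH ≤ H := hEH.1
  have hEHsolv : Group.IsSolvable ↥EH :=
    ms_solvable hG (ne_top_of_le_ne_top hH.1 hEHH)
  obtain ⟨E₁, hE₁, hXE₁⟩ := Cfsg.Agent.Lib.Helper54.BG134.exists_isPiHallOf_ge hEHsolv
    (tau1 H) hXEH (by
      intro p hp hpd
      rw [hXprimes p hp hpd]; exact htτ)
  have hE₁c : IsCyclic ↥E₁ := (Cfsg.Agent.S1415.result hG H hH EH hEH).2.1 E₁ hE₁
  -- `X'' = cj k X' ≤ E₁`
  obtain ⟨k, hkH, hkX'⟩ := k3c_exists_conj_le hG hH hEH hE₁ ht'τ hX'H hX'p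
  have hX''c : Nat.card ↥(cj k X') = t' := by rw [card_cj, hX'c]
  -- `P ≤ H_σ`
  have hPσ : P ≤ sigmaCore H := by
    apply Cfsg.Agent.Lib.Helper71.BG10.le_of_isPiHallOf_normal hHallH
      (Cfsg.Agent.Lib.Helper71.BG11.le_normalizer_sigmaCore H) hPH
    intro s hs hsd
    rw [lM.o.hPc] at hsd
    rw [(Nat.prime_dvd_prime_iff_eq hs hr).mp hsd]
    exact hrσ
  -- prime action: `P ≤ H_σ ∩ C(x) ≤ C(E₁)`
  have hxE₁ : (x : G) ∈ E₁ := hXE₁ (Subgroup.mem_zpowers _)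
  have hpa' := hpa EH E₁ hEH hE₁ (x : G) hxE₁ hx1
  have hPCx : P ≤ Subgroup.centralizer ({(x : G)} : Set G) := by
    intro y hy
    rw [Subgroup.mem_centralizer_iff]
    intro z hz
    rw [Set.mem_singleton_iff] at hz
    subst hz
    exact (Subgroup.mem_centralizer_iff.mp x.2.2 y hy).symm
  have hPE₁ : P ≤ Subgroup.centralizer (E₁ : Set G) := (le_inf hPσ hPCx).trans hpa'
  have hX''CP : cj k X' ≤ Subgroup.centralizer (P : Set G) := by
    intro z hz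
    rw [Subgroup.mem_centralizer_iff]
    intro y hy
    exact (Subgroup.mem_centralizer_iff.mp (hPE₁ hy) z (hkX' hz)).symm
  -- `X''` centralizes `X` (`E₁` is abelian), so `X'' ≤ C_G(X) ≤ M`
  have hX''CX : cj k X' ≤ Subgroup.centralizer (X : Set G) := by
    intro z hz
    rw [Subgroup.mem_centralizer_iff]
    intro y hy
    have hc := (IsCyclic.isMulCommutative (α := ↥E₁)).is_comm.comm ⟨y, hXE₁ hy⟩ ⟨z, hkX' hz⟩
    exact congrArg Subtype.val hc
  obtain ⟨hCXM, -⟩ := k3b_uniq_of_beta hG hM htβ hXM hXc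
  have hX''M : cj k X' ≤ M := hX''CX.trans hCXM
  have hX''sup : cj k X' ≤ CP M P ⊔ P :=
    (le_inf hX''M (hX''CP.trans (Subgroup.centralizer_le_normalizer _))).trans lM.o.hNP
  have hdvd : t' ∣ Nat.card ↥(CP M P) * Nat.card P := by
    rw [← hX''c]
    exact (Subgroup.card_dvd_of_le hX''sup).trans
      (Cfsg.Agent.Lib.Helper29.card_sup_dvd_of_le_normalizer (CP M P) P
        (Cfsg.Agent.Lib.Helper21.BG139.k3a_le_normalizer_CP hPM))
  rcases (Nat.Prime.dvd_mul ht').mp hdvd with h | h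
  · -- `t' ∈ β(M) ⊆ α(M)` and `t' ∈ σ(N)`
    have ht'βM : t' ∈ beta M := lM.o.hCβ t' ht' h
    exact Cfsg.Agent.Lib.Helper31.BG12.alpha_sigma_disjoint hG hM hN hnc ht'βM.1 ht'σN
  · -- `t' = r`: but `r ∈ τ₁(N)` is not in `σ(N)`
    rw [lM.o.hPc] at h
    have : t' = r := (Nat.prime_dvd_prime_iff_eq ht' hr).mp h
    rw [this] at ht'σN
    exact lN.o.hr1.2.1 ht'σN

end Cfsg.Agent.Lib.Helper83.BG139
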