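import Mathlib
import Cfsg.Agent.Lib.Helper15.BG142Defs
import Cfsg.Agent.Lib.Helper54.BG134A3a

/-!
# BG Theorem 14.2 (S1430), keystone 143013 (K-TX-13): `cent_compl_of_tau1`
-/

set_option autoImplicit false
set_option linter.unusedSectionVars false
set_option linter.unusedVariables false

namespace Cfsg.Agent.Lib.Helper83.BG142

open Cfsg Cfsg.Agent.Lib.Helper55 Cfsg.Agent.Lib.Helper31.BG134 Cfsg.Agent.Lib.Helper15.BG139
  Cfsg.Agent.Lib.Helper15.BG142

variable {G : Type*} [Group G] [Finite G]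

/-- **KEYSTONE 143013  K-TX-13**. -/
theorem cent_compl_of_tau1 (hG : IsMinSimpleOddOrder G) {L EL S T P : Subgroup G} (hL : IsCoatom L)
    (hEL : IsComplIn EL (sigmaCore L) L) (hτ2 : ∀ u : ℕ, u ∉ tau2 L) {t : ℕ} (ht : t ∈ tau1 L)
    (hTE : T ≤ EL) (hTc : Nat.card T = t) (hSL : S ≤ sigmaCore L)
    (hder : ⁅EL, EL⁆ ≤ Subgroup.centralizer (S : Set G))
    (hPS : P ≤ S ⊓ Subgroup.centralizer (T : Set G))
    (hpa : ∀ E₁ : Subgroup G, IsPiHallOf (tau1 L) E₁ EL → PrimeAct L E₁) :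
    P ≤ Subgroup.centralizer (EL : Set G) := by
  obtain ⟨E₁, E₃, hE₁, hE₁c, hTE₁, hE₃, hE₃c, hE₃', hE₃n, hfac⟩ :=
    Cfsg.Agent.Lib.Helper54.BG134.exists_hall_tau1_tau3 hG hL hEL ht hTE hTc (fun s _ _ => hτ2 s)
  have hpaE := hpa E₁ hE₁
  have htp : t.Prime := ht.1
  -- a nontrivial element of `T`
  have hT1 : T ≠ ⊥ := by
    intro h
    rw [h, Subgroup.card_bot] at hTc
    exact htp.one_lt.ne hTc
  obtain ⟨x, hxT, hx1⟩ : ∃ x : G, x ∈ T ∧ x ≠ 1 := by
    obtain ⟨x, hx⟩ := (Subgroup.ne_bot_iff_exists_ne_one).mp hT1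
    exact ⟨(x : G), x.2, fun h => hx (Subtype.ext h)⟩
  intro y hyP
  have hyS : y ∈ S := (hPS hyP).1
  have hyT : y ∈ Subgroup.centralizer (T : Set G) := (hPS hyP).2
  -- `y` centralizes `E₁`
  have hyE₁ : y ∈ Subgroup.centralizer (E₁ : Set G) := by
    apply hpaE x (hTE₁ hxT) hx1
    refine ⟨hSL hyS, ?_⟩
    show y ∈ Subgroup.centralizer ({x} : Set G)
    rw [Subgroup.mem_centralizer_iff]
    intro z hz
    rw [Set.mem_singleton_iff] at hz
    subst hz
    exact Subgroup.mem_centralizer_iff.mp hyT z hxT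
  rw [Subgroup.mem_centralizer_iff]
  intro e he
  obtain ⟨a, ha, b, hb, rfl⟩ := hfac e he
  have h1 : a * y = y * a := by
    have := Subgroup.mem_centralizer_iff.mp (hder (hE₃' ha)) y hyS
    exact this.symm
  have h2 : b * y = y * b := Subgroup.mem_centralizer_iff.mp hyE₁ b hb
  calc a * b * y = a * (b * y) := mul_assoc _ _ _
    _ = a * (y * b) := by rw [h2]
    _ = (a * y) * b := (mul_assoc _ _ _).symm
    _ = y * a * b := by rw [h1]
    _ = y * (a * b) := mul_assoc _ _ _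

end Cfsg.Agent.Lib.Helper83.BG142
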