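import Mathlib
import Cfsg.Agent.S0025
import Cfsg.Agent.S1350
import Cfsg.Agent.Lib.Helper15.BG142Defs
import Cfsg.Agent.Lib.Helper13.BG12B
import Cfsg.Agent.Lib.Helper54.BG134A3a
import Cfsg.Agent.Lib.Helper29.Sup
import Cfsg.Agent.Lib.Helper55.SylowIn

/-!
# BG Theorem 14.2 (S1430), keystone 143009 (K-TX-9): `exists_sylow_compl`

Coprime action + Frattini + Hall.
-/

set_option autoImplicit false
set_option linter.unusedSectionVars false
set_option linter.unusedVariables false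
set_option linter.style.haveILetI false

namespace Cfsg.Agent.Lib.Helper83.BG142

open Cfsg Cfsg.Agent.Lib.Helper55 Cfsg.Agent.Lib.Helper31.BG134 Cfsg.Agent.Lib.Helper15.BG139
  Cfsg.Agent.Lib.Helper15.BG142

variable {G : Type*} [Group G] [Finite G]

/-- Frattini argument in subgroup form: `K ≤ L` normalized by `L`, `S` a Sylow `p`-subgroup of `K`:
`L = K · N_L(S)`. -/
theorem frattini_isSylowIn {p : ℕ} [Fact p.Prime] {L K S : Subgroup G} (hKL : K ≤ L)
    (hLK : L ≤ Subgroup.normalizer (K : Set G)) (hS : IsSylowIn p K S) :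
    ∀ l ∈ L, ∃ k ∈ K, ∃ n ∈ L ⊓ Subgroup.normalizer (S : Set G), l = k * n := by
  intro l hl
  have h1 : IsSylowIn p K (cj l S) := by
    have := isSylowIn_cj hS l
    rwa [cj_eq_self_iff.mpr (hLK hl)] at this
  obtain ⟨k, hk, hkS⟩ := hS.exists_conj h1
  refine ⟨k, hk, k⁻¹ * l, ⟨L.mul_mem (L.inv_mem (hKL hk)) hl, ?_⟩, by group⟩
  show k⁻¹ * l ∈ Subgroup.normalizer (S : Set G)
  rw [← cj_eq_self_iff, cj_mul, ← hkS, cj_inv_cj]

/-- **KEYSTONE 143009  K-TX-9**. -/
theorem exists_sylow_compl (hG : IsMinSimpleOddOrder G) {L A T : Subgroup G} (hL : IsCoatom L)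
    {p : ℕ} [Fact p.Prime] (hp : p ∈ sigma L) (hA : IsPGroup p A) (hAL : A ≤ sigmaCore L)
    (hTL : T ≤ L) (hTA : T ≤ Subgroup.normalizer (A : Set G))
    (hTσ : ∀ q : ℕ, q.Prime → q ∣ Nat.card T → q ∉ sigma L) :
    ∃ S EL : Subgroup G, IsSylowIn p (sigmaCore L) S ∧ A ≤ S ∧ IsComplIn EL (sigmaCore L) L ∧
      T ≤ EL ∧ EL ≤ Subgroup.normalizer (S : Set G) := by
  have hHall := (Cfsg.Agent.S1350.result hG L hL).1
  have hKL : sigmaCore L ≤ L := hHall.1
  have hLK : L ≤ Subgroup.normalizer (sigmaCore L : Set G) :=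
    Cfsg.Agent.Lib.Helper31.le_normalizer_piCoreOf (sigma L) L
  have hTtop : T ≠ ⊤ := fun h => hL.1 (top_le_iff.mp (h ▸ hTL))
  have hsolvT : Group.IsSolvable ↥T := ms_solvable hG hTtop
  have hcop : (Nat.card T).Coprime (Nat.card (sigmaCore L)) :=
    Cfsg.Agent.Lib.Helper13.BG12.coprime_of_primes_disjoint hTσ hHall.2.1
  -- a `T`-invariant Sylow `p`-subgroup of `L_σ` over `A`
  obtain ⟨P, hAP, hTP⟩ := Cfsg.Agent.S0025.result T (sigmaCore L) (hTL.trans hLK) hcop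
    (Or.inl hsolvT) p A hAL hA hTA
  obtain ⟨S, hSdef⟩ : ∃ S : Subgroup G, S = (P : Subgroup ↥(sigmaCore L)).map
      (sigmaCore L).subtype := ⟨_, rfl⟩
  rw [← hSdef] at hAP hTP
  have hS : IsSylowIn p (sigmaCore L) S := by rw [hSdef]; exact isSylowIn_of_sylow P
  -- `N := N_L(S)`
  obtain ⟨N, hNdef⟩ : ∃ N : Subgroup G, N = L ⊓ Subgroup.normalizer (S : Set G) := ⟨_, rfl⟩
  have hNL : N ≤ L := by rw [hNdef]; exact inf_le_left
  have hNS : N ≤ Subgroup.normalizer (S : Set G) := by rw [hNdef]; exact inf_le_right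
  have hfr : ∀ l ∈ L, ∃ k ∈ sigmaCore L, ∃ n ∈ N, l = k * n := by
    rw [hNdef]; exact frattini_isSylowIn hKL hLK hS
  have hNtop : N ≠ ⊤ := fun h => hL.1 (top_le_iff.mp (h ▸ hNL))
  have hsolvN : Group.IsSolvable ↥N := ms_solvable hG hNtop
  have hTN : T ≤ N := by rw [hNdef]; exact le_inf hTL hTP
  obtain ⟨EL, hEL, hTEL⟩ := Cfsg.Agent.Lib.Helper54.BG134.exists_isPiHallOf_ge hsolvN (sigma L)ᶜ
    hTN (fun q hq hqd => hTσ q hq hqd)
  have hELL : EL ≤ L := hEL.1.trans hNL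
  refine ⟨S, EL, hS, hAP, ?_, hTEL, hEL.1.trans hNS⟩
  -- `EL` is a complement: counting
  have c1 : (Nat.card EL).Coprime (Nat.card (sigmaCore L)) :=
    Cfsg.Agent.Lib.Helper13.BG12.coprime_of_primes_disjoint (fun q hq hqd => hEL.2.1 q hq hqd)
      hHall.2.1
  -- `|L_σ| * |L : L_σ| = |L|`
  have e2 : Nat.card ((sigmaCore L).subgroupOf L) * ((sigmaCore L).subgroupOf L).index =
      Nat.card L := Subgroup.card_mul_index _
  rw [Nat.card_congr (Subgroup.subgroupOfEquivOfLe hKL).toEquiv] at e2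
  have e2' : Nat.card (sigmaCore L) * (sigmaCore L).relIndex L = Nat.card L := e2
  -- `|EL| * |N : EL| = |N|`
  have e1 : Nat.card (EL.subgroupOf N) * (EL.subgroupOf N).index = Nat.card N :=
    Subgroup.card_mul_index _
  rw [Nat.card_congr (Subgroup.subgroupOfEquivOfLe hEL.1).toEquiv] at e1
  have e1' : Nat.card EL * EL.relIndex N = Nat.card N := e1
  -- `|L| ∣ |L_σ| * |N|`
  have hsup : sigmaCore L ⊔ N = L := by
    apply le_antisymm (sup_le hKL hNL)
    intro l hl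
    obtain ⟨k, hk, n, hn, rfl⟩ := hfr l hl
    exact Subgroup.mul_mem _ (Subgroup.mem_sup_left hk) (Subgroup.mem_sup_right hn)
  have hdvd : Nat.card L ∣ Nat.card (sigmaCore L) * Nat.card N := by
    have := Cfsg.Agent.Lib.Helper29.card_sup_dvd_of_le_normalizer (sigmaCore L) N (hNL.trans hLK)
    rwa [hsup] at this
  have hidx_dvd : (sigmaCore L).relIndex L ∣ Nat.card N := by
    rw [← e2'] at hdvd
    exact (Nat.mul_dvd_mul_iff_left Nat.card_pos).mp hdvd
  -- primes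
  have hi1 : ∀ q : ℕ, q.Prime → q ∣ EL.relIndex N → q ∈ sigma L := fun q hq hqd => by
    by_contra h
    exact hEL.2.2 q hq h hqd
  have hi2 : ∀ q : ℕ, q.Prime → q ∣ (sigmaCore L).relIndex L → q ∉ sigma L :=
    fun q hq hqd hqσ => hHall.2.2 q hq hqσ hqd
  have c2 : ((sigmaCore L).relIndex L).Coprime (EL.relIndex N) :=
    Cfsg.Agent.Lib.Helper13.BG12.coprime_of_primes_disjoint hi2 hi1
  have d2 : (sigmaCore L).relIndex L ∣ Nat.card EL := by
    rw [← e1'] at hidx_dvd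
    exact c2.dvd_of_dvd_mul_right hidx_dvd
  have d1 : Nat.card EL ∣ (sigmaCore L).relIndex L := by
    have : Nat.card EL ∣ Nat.card (sigmaCore L) * (sigmaCore L).relIndex L := by
      rw [e2']; exact Subgroup.card_dvd_of_le hELL
    exact c1.dvd_of_dvd_mul_left this
  have e3 : Nat.card EL = (sigmaCore L).relIndex L := Nat.dvd_antisymm d1 d2
  apply Cfsg.Agent.Lib.Helper13.BG12.isComplIn_of_card hELL hKL hLK c1
  rw [e3, mul_comm]; exact e2'

end Cfsg.Agent.Lib.Helper83.BG142
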