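import Mathlib
import Cfsg.Agent.S1418
import Cfsg.Agent.Lib.Helper15.BG142Defs
import Cfsg.Agent.Lib.Helper83.BG139K3b
import Cfsg.Agent.Lib.Helper21.BG139K3a
import Cfsg.Agent.Lib.Helper29.Sup
import Cfsg.Agent.Lib.Helper55.Uniq3

/-!
# BG Theorem 14.2 (S1430), keystone 143003 (K-TX-3): `Bad.act`

The data `T2` of a BAD triple (copy of `Helper83.BG139.Loc.tau2_act` with `Loc` replaced by `Bad`).
-/

set_option autoImplicit false
set_option linter.unusedSectionVars false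
set_option linter.unusedVariables false
set_option linter.style.haveILetI false

namespace Cfsg.Agent.Lib.Helper83.BG142

open Cfsg Cfsg.Agent.Lib.Helper55 Cfsg.Agent.Lib.Helper31.BG134 Cfsg.Agent.Lib.Helper15.BG139
  Cfsg.Agent.Lib.Helper15.BG142

variable {G : Type*} [Group G] [Finite G]

/-- **KEYSTONE 143003  K-TX-3**. -/
theorem Bad.act {M P H : Subgroup G} {p : ℕ} (b : Bad M P H p)
    (hb : (∀ g : G, cj g M ≠ H) ∧ (∀ q : ℕ, q ∈ sigma H → q ∉ sigma M) ∧
      sigmaCore M ⊓ H = CP M P)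
    (hF : ∀ A Y : Subgroup G, P ≤ A → IsElementaryAbelian p A → Nat.card A = p ^ 2 →
      Y ≤ CP M P → (Nat.card Y).Prime → A ≤ Subgroup.centralizer (Y : Set G) → False) :
    ∃ EH A : Subgroup G, T2 M P H EH A p := by
  have hG := b.hG
  have hM := b.hM
  have hH := b.hH
  have hr2 : p ∈ tau2 H := b.hp2
  have hr : p.Prime := hr2.1
  haveI : Fact p.Prime := ⟨hr⟩
  have hHallH := (Cfsg.Agent.S1350.result hG H hH).1
  have hPH : P ≤ H := Subgroup.le_normalizer.trans b.hNH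
  have hPM : P ≤ M := b.hPM
  have hPc : Nat.card P = p := b.hPc
  have hCH : CP M P ≤ H := by
    have h := hb.2.2
    rw [← h]; exact inf_le_right
  have hKH : CP M P ⊔ P ≤ H := sup_le hCH hPH
  -- `C_{M_σ}(P) P` is a `σ(H)'`-group
  have hK : ∀ q : ℕ, q.Prime → q ∣ Nat.card ↥(CP M P ⊔ P) → q ∉ sigma H := by
    intro q hq hqd
    have h1 : q ∣ Nat.card ↥(CP M P) * Nat.card P :=
      hqd.trans (Cfsg.Agent.Lib.Helper29.card_sup_dvd_of_le_normalizer (CP M P) P
        (Cfsg.Agent.Lib.Helper21.BG139.k3a_le_normalizer_CP hPM))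
    rcases (Nat.Prime.dvd_mul hq).mp h1 with h | h
    · have hqM : q ∈ sigma M := Cfsg.Agent.Lib.Helper71.BG11.sigmaCore_pi hG hM hq
        (h.trans (Subgroup.card_dvd_of_le inf_le_left))
      exact fun hqH => hb.2.1 q hqH hqM
    · rw [hPc] at h
      rw [(Nat.prime_dvd_prime_iff_eq hq hr).mp h]
      exact hr2.2.1
  obtain ⟨EH, hEH, hCE⟩ := Cfsg.Agent.Lib.Helper13.BG12.exists_complIn_ge hG hH hHallH hKH hK
  obtain ⟨A, hAE, hA, hAc⟩ :=
    Cfsg.Agent.Lib.Helper13.BG12.exists_elemAb_sq_le_compl hG hH hHallH hr2 hEH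
  obtain ⟨⟨hAn, hAall⟩, -, -⟩ := Cfsg.Agent.S1418.result hG H hH EH hEH p hr2 A ⟨hAE, hA, hAc⟩
  have hPE : P ≤ EH := le_sup_right.trans hCE
  have hPA : P ≤ A := hAall P hPE hPc
  refine ⟨EH, A, ⟨hEH, hCE, hAE, hA, hAc, hAn, hPA, ?_⟩⟩
  intro X hXC hX1
  -- `P ≤ A ∩ C(X)`
  have hPCX : P ≤ Subgroup.centralizer (X : Set G) := by
    intro y hy
    rw [Subgroup.mem_centralizer_iff]
    intro z hz
    exact (Subgroup.mem_centralizer_iff.mp (hXC hz).2 y hy).symm
  have hPle : P ≤ A ⊓ Subgroup.centralizer (X : Set G) := le_inf hPA hPCX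
  by_contra hne
  -- then `A ≤ C(X)`
  have hn1 : p ∣ Nat.card ↥(A ⊓ Subgroup.centralizer (X : Set G)) := by
    rw [← hPc]; exact Subgroup.card_dvd_of_le hPle
  have hn2 : Nat.card ↥(A ⊓ Subgroup.centralizer (X : Set G)) ∣ p ^ 2 := by
    rw [← hAc]; exact Subgroup.card_dvd_of_le inf_le_left
  obtain ⟨k, hk2, hk⟩ := (Nat.dvd_prime_pow hr).mp hn2
  have hAX : A ≤ Subgroup.centralizer (X : Set G) := by
    interval_cases k
    · rw [hk, pow_zero] at hn1
      exact absurd (Nat.dvd_one.mp hn1) hr.one_lt.ne'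
    · exfalso
      apply hne
      symm
      apply Subgroup.eq_of_le_of_card_ge hPle
      rw [hk, pow_one, hPc]
    · have : A ⊓ Subgroup.centralizer (X : Set G) = A := by
        apply Subgroup.eq_of_le_of_card_ge inf_le_left
        rw [hk, hAc]
      rw [← this]; exact inf_le_right
  -- a subgroup `Y ≤ X` of prime order
  have hXc1 : Nat.card X ≠ 1 := fun h => hX1 (Subgroup.card_eq_one.mp h)
  obtain ⟨q, hq, hqd⟩ := Nat.exists_prime_and_dvd hXc1
  haveI : Fact q.Prime := ⟨hq⟩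
  obtain ⟨y, hy⟩ := exists_prime_orderOf_dvd_card' q hqd
  have hyG : orderOf (y : G) = q := by rw [Subgroup.orderOf_coe, hy]
  have hYX : Subgroup.zpowers (y : G) ≤ X := Subgroup.zpowers_le.mpr y.2
  have hYc : Nat.card ↥(Subgroup.zpowers (y : G)) = q := by rw [Nat.card_zpowers, hyG]
  exact hF A (Subgroup.zpowers (y : G)) hPA hA hAc (hYX.trans hXC) (by rw [hYc]; exact hq)
    (hAX.trans (Subgroup.centralizer_le (SetLike.coe_subset_coe.mpr hYX)))

end Cfsg.Agent.Lib.Helper83.BG142
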