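import Mathlib
import Cfsg.Agent.S1350
import Cfsg.Agent.S1417
import Cfsg.Agent.Lib.Helper03.FrobSub
import Cfsg.Agent.Lib.Helper11.BG14DDefs
import Cfsg.Agent.Lib.Helper13.BG12B
import Cfsg.Agent.Lib.Helper29.Sup
import Cfsg.Agent.Lib.Helper31.BG15KA
import Cfsg.Agent.Lib.Helper64.BG14K
import Cfsg.Agent.Lib.Helper83.BG11e

/-!
# BG Theorem 14.7(f), local half: a maximal subgroup of type `P₂` has `|K|` prime  (helper83)

`M` maximal, `K ≠ 1` a Hall `κ(M)`-subgroup.  If some prime divisor of `|M|` lies outside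
`κ(M) ∪ σ(M)` (i.e. the complement `U` of the standard factorisation is nontrivial), then `|K|` is
a prime.

Proof.  Let `U` be the abelian Hall `(κ ∪ σ)'`-subgroup of `M` of S1430(2) (`K` acts on it without
fixed points).  If `|K|` is not a prime, `K` has a subgroup `1 < K₀ < K`.  The Frobenius–Wielandt
fixed point formula (`Helper03.FrobSub.wielandt_sub`) for the Frobenius groups `U K` and `U K₀`
acting on `M_σ`, together with the prime action `C_{M_σ}(K₀) = C_{M_σ}(K)` (S1430(1)), gives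
`|C_{M_σ}(U)| = |M_σ|`: `U` centralizes `M_σ`.  A prime `r` of `|U|` is then in `κ(M)` (rank one) or
contradicts S1417(d) (rank two).
-/

set_option autoImplicit false
set_option linter.unusedSectionVars false
set_option linter.unusedVariables false
set_option linter.style.haveILetI false

namespace Cfsg.Agent.Lib.Helper83.BG147

open Cfsg Cfsg.Agent.Lib.Helper11.BG14D Cfsg.Agent.Lib.Helper55

/-- centralizer of a join -/
theorem inf_centralizer_sup {X : Type*} [Group X] (N U E : Subgroup X) :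
    N ⊓ Subgroup.centralizer ((U ⊔ E : Subgroup X) : Set X) =
      (N ⊓ Subgroup.centralizer (E : Set X)) ⊓ Subgroup.centralizer (U : Set X) := by
  apply le_antisymm
  · intro x hx
    obtain ⟨hxN, hxC⟩ := Subgroup.mem_inf.mp hx
    refine Subgroup.mem_inf.mpr ⟨Subgroup.mem_inf.mpr ⟨hxN, ?_⟩, ?_⟩
    · exact Subgroup.centralizer_le (show (E : Set X) ⊆ ((U ⊔ E : Subgroup X) : Set X) from
        fun y hy => (le_sup_right : E ≤ U ⊔ E) hy) hxC
    · exact Subgroup.centralizer_le (show (U : Set X) ⊆ ((U ⊔ E : Subgroup X) : Set X) from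
        fun y hy => (le_sup_left : U ≤ U ⊔ E) hy) hxC
  · intro x hx
    obtain ⟨hx1, hxU⟩ := Subgroup.mem_inf.mp hx
    obtain ⟨hxN, hxE⟩ := Subgroup.mem_inf.mp hx1
    refine Subgroup.mem_inf.mpr ⟨hxN, ?_⟩
    have h1 : U ≤ Subgroup.centralizer ((Subgroup.zpowers x : Subgroup X) : Set X) := by
      rw [Subgroup.le_centralizer_iff, Subgroup.zpowers_le]
      exact hxU
    have h2 : E ≤ Subgroup.centralizer ((Subgroup.zpowers x : Subgroup X) : Set X) := by
      rw [Subgroup.le_centralizer_iff, Subgroup.zpowers_le]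
      exact hxE
    have h3 : Subgroup.zpowers x ≤ Subgroup.centralizer ((U ⊔ E : Subgroup X) : Set X) := by
      rw [Subgroup.le_centralizer_iff]
      exact sup_le h1 h2
    exact h3 (Subgroup.mem_zpowers x)

/-- **Frobenius–Wielandt, twice.**  A Frobenius group `U K` (`K` without fixed points on the nilpotent
`U`) acts coprimely on the solvable group `N`, and some subgroup `1 < K₀ < K` has the same fixed
points on `N` as `K`: then `U` centralizes `N`. -/
theorem le_centralizer_of_wielandt {X : Type*} [Group X] [Finite X] (U K K₀ N : Subgroup X)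
    (hUn : ∀ e ∈ K, ∀ u ∈ U, e * u * e⁻¹ ∈ U)
    (hfpf : ∀ e ∈ K, e ≠ 1 → ∀ u ∈ U, e * u = u * e → u = 1)
    (hnil : Group.IsNilpotent U)
    (hNn : ∀ x ∈ U ⊔ K, ∀ h ∈ N, x * h * x⁻¹ ∈ N)
    (hsolv : Group.IsSolvable N) (hcop : Nat.Coprime (Nat.card N) (Nat.card ↥(U ⊔ K)))
    (hK₀ : K₀ ≤ K) (hK₀b : K₀ ≠ ⊥) (hK₀K : K₀ ≠ K)
    (hpr : N ⊓ Subgroup.centralizer (K₀ : Set X) = N ⊓ Subgroup.centralizer (K : Set X)) :
    N ≤ Subgroup.centralizer (U : Set X) := by
  have hle : U ⊔ K₀ ≤ U ⊔ K := sup_le_sup_left hK₀ U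
  have w1 := Cfsg.Agent.Lib.Helper03.FrobSub.wielandt_sub U K N hUn hfpf hnil hNn hsolv hcop
  have w2 := Cfsg.Agent.Lib.Helper03.FrobSub.wielandt_sub U K₀ N
    (fun e he => hUn e (hK₀ he)) (fun e he => hfpf e (hK₀ he)) hnil
    (fun x hx => hNn x (hle hx)) hsolv
    (Nat.Coprime.coprime_dvd_right (Subgroup.card_dvd_of_le hle) hcop)
  have hD : N ⊓ Subgroup.centralizer ((U ⊔ K₀ : Subgroup X) : Set X) =
      N ⊓ Subgroup.centralizer ((U ⊔ K : Subgroup X) : Set X) := by
    rw [inf_centralizer_sup, inf_centralizer_sup, hpr]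
  rw [hD, hpr] at w2
  set d := Nat.card ↥(N ⊓ Subgroup.centralizer ((U ⊔ K : Subgroup X) : Set X)) with hd
  set s := Nat.card ↥(N ⊓ Subgroup.centralizer (K : Set X)) with hs
  set c := Nat.card ↥(N ⊓ Subgroup.centralizer (U : Set X)) with hc
  set m := Nat.card N with hm
  have hdpos : 0 < d := Nat.card_pos
  have hspos : 0 < s := Nat.card_pos
  have hcpos : 0 < c := Nat.card_pos
  have hmpos : 0 < m := Nat.card_pos
  -- `|K₀| < |K|`
  have hlt : Nat.card K₀ < Nat.card K := by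
    rcases Nat.lt_or_ge (Nat.card K₀) (Nat.card K) with h | h
    · exact h
    · exact absurd (Subgroup.eq_of_le_of_card_ge hK₀ h) hK₀K
  obtain ⟨t, ht⟩ : ∃ t, Nat.card K = Nat.card K₀ + t + 1 := ⟨Nat.card K - Nat.card K₀ - 1, by omega⟩
  set k₀ := Nat.card K₀ with hk₀
  -- cross-multiply
  have e1 : (d ^ k₀ * s ^ k₀ * (m * c)) * d ^ (t + 1) = (d ^ k₀ * s ^ k₀ * (m * c)) * s ^ (t + 1) := by
    calc (d ^ k₀ * s ^ k₀ * (m * c)) * d ^ (t + 1)
        = (d ^ (k₀ + t + 1) * m) * (s ^ k₀ * c) := by ring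
      _ = (s ^ (k₀ + t + 1) * c) * (d ^ k₀ * m) := by rw [← ht, w1, w2]
      _ = (d ^ k₀ * s ^ k₀ * (m * c)) * s ^ (t + 1) := by ring
  have hpos : 0 < d ^ k₀ * s ^ k₀ * (m * c) := by positivity
  have e2 : d ^ (t + 1) = s ^ (t + 1) := Nat.eq_of_mul_eq_mul_left hpos e1
  have hds : d = s := Nat.pow_left_injective (Nat.succ_ne_zero t) e2
  rw [hds] at w1
  have hmc : m = c := Nat.eq_of_mul_eq_mul_left (pow_pos hspos _) w1
  have heq : N ⊓ Subgroup.centralizer (U : Set X) = N :=
    Subgroup.eq_of_le_of_card_ge inf_le_left (by rw [← hc, ← hm, hmc])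
  rw [← heq]
  exact inf_le_right

variable {G : Type*} [Group G] [Finite G]

/-- **BG 14.7(f), local half** (general form).  `K ≠ 1` a Hall `κ(M)`-subgroup of the maximal
subgroup `M`; if some prime divisor of `|M|` is outside `κ(M) ∪ σ(M)` then `|K|` is a prime. -/
theorem card_prime_of_prime_not_mem (hG : IsMinSimpleOddOrder G) (h30 : H1430 G)
    {M K : Subgroup G} (hM : IsCoatom M) (hK : IsPiHallOf (kappa M) K M) (hK1 : K ≠ ⊥)
    {r : ℕ} (hr : r.Prime) (hrM : r ∣ Nat.card M) (hrκ : r ∉ kappa M) (hrσ : r ∉ sigma M) :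
    (Nat.card K).Prime := by
  obtain ⟨hpa, ⟨U, hUc, hUH, hKU, hfree⟩, -⟩ := h30 M hM K hK hK1
  by_contra hnp
  have hHall : IsPiHallOf (sigma M) (sigmaCore M) M := (Cfsg.Agent.S1350.result hG M hM).1
  have hσM : sigmaCore M ≤ M := hHall.1
  have hMσ : M ≤ Subgroup.normalizer (sigmaCore M : Set G) :=
    Cfsg.Agent.Lib.Helper31.le_normalizer_piCoreOf (sigma M) M
  have hKM : K ≤ M := hK.1
  have hUM : U ≤ M := hUH.1
  -- a subgroup `1 < K₀ < K`
  have hKcard : 1 < Nat.card K := (Subgroup.one_lt_card_iff_ne_bot (H := K)).mpr hK1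
  obtain ⟨p, hp, hpK⟩ := Nat.exists_prime_and_dvd (ne_of_gt hKcard)
  haveI : Fact p.Prime := ⟨hp⟩
  obtain ⟨k, hk⟩ := exists_prime_orderOf_dvd_card' p hpK
  have hkG : orderOf (k : G) = p := by rw [Subgroup.orderOf_coe, hk]
  have hk1 : (k : G) ≠ 1 := by
    intro h
    rw [h, orderOf_one] at hkG
    exact hp.one_lt.ne hkG
  set K₀ : Subgroup G := Subgroup.zpowers (k : G) with hK₀def
  have hK₀K : K₀ ≤ K := Subgroup.zpowers_le.mpr k.2
  have hK₀card : Nat.card K₀ = p := by rw [hK₀def, Nat.card_zpowers, hkG]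
  have hK₀b : K₀ ≠ ⊥ := by
    intro h
    rw [h, Subgroup.card_bot] at hK₀card
    exact hp.one_lt.ne hK₀card
  have hK₀ne : K₀ ≠ K := by
    intro h
    apply hnp
    rw [← h, hK₀card]
    exact hp
  have hpr : sigmaCore M ⊓ Subgroup.centralizer (K₀ : Set G) =
      sigmaCore M ⊓ Subgroup.centralizer (K : Set G) := by
    apply le_antisymm
    · rw [← hpa (k : G) k.2 hk1]
      apply inf_le_inf_left
      apply Subgroup.centralizer_le
      intro y hy
      rw [Set.mem_singleton_iff] at hy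
      rw [hy]
      exact Subgroup.mem_zpowers (k : G)
    · exact inf_le_inf_left _ (Subgroup.centralizer_le hK₀K)
  -- hypotheses of the Wielandt lemma
  have hUn : ∀ e ∈ K, ∀ u ∈ U, e * u * e⁻¹ ∈ U := by
    intro e he u hu
    exact (Subgroup.mem_normalizer_iff.mp (hKU he) u).mp hu
  have hfpf : ∀ e ∈ K, e ≠ 1 → ∀ u ∈ U, e * u = u * e → u = 1 := by
    intro e he he1 u hu hcomm
    have : u ∈ U ⊓ Subgroup.centralizer ({e} : Set G) := by
      refine Subgroup.mem_inf.mpr ⟨hu, ?_⟩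
      rw [Subgroup.mem_centralizer_iff]
      intro g hg
      rw [Set.mem_singleton_iff] at hg
      rw [hg]
      exact hcomm
    rw [hfree e he he1, Subgroup.mem_bot] at this
    exact this
  have hnil : Group.IsNilpotent U := by
    letI : CommGroup ↥U := { (inferInstance : Group ↥U) with mul_comm := fun a b => hUc.is_comm.comm a b }
    exact CommGroup.isNilpotent
  have hUKM : U ⊔ K ≤ M := sup_le hUM hKM
  have hNn : ∀ x ∈ U ⊔ K, ∀ h ∈ sigmaCore M, x * h * x⁻¹ ∈ sigmaCore M := by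
    intro x hx h hh
    exact (Subgroup.mem_normalizer_iff.mp (hMσ (hUKM hx)) h).mp hh
  have hσtop : sigmaCore M ≠ ⊤ := by
    intro h
    exact hM.1 (top_le_iff.mp (h ▸ hσM))
  have hsolv : Group.IsSolvable ↥(sigmaCore M) := ms_solvable hG hσtop
  have hcop : Nat.Coprime (Nat.card (sigmaCore M)) (Nat.card ↥(U ⊔ K)) := by
    apply Nat.Coprime.symm
    apply Cfsg.Agent.Lib.Helper13.BG12.coprime_of_primes_disjoint (π := sigma M) _ hHall.2.1
    intro q hq hqd
    have h1 : q ∣ Nat.card U * Nat.card K :=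
      hqd.trans (Cfsg.Agent.Lib.Helper29.card_sup_dvd_of_le_normalizer U K hKU)
    rcases (Nat.Prime.dvd_mul hq).mp h1 with h | h
    · exact (hUH.2.1 q hq h).2.2
    · exact (hK.2.1 q hq h).2.2.1
  have hcent : sigmaCore M ≤ Subgroup.centralizer (U : Set G) :=
    le_centralizer_of_wielandt U K K₀ (sigmaCore M) hUn hfpf hnil hNn hsolv hcop hK₀K hK₀b hK₀ne hpr
  -- `r` divides `|U|`
  have hcardM : Nat.card M = Nat.card U * U.relIndex M := by
    have h1 := Subgroup.card_mul_index (U.subgroupOf M)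
    rw [← h1, Nat.card_congr (Subgroup.subgroupOfEquivOfLe hUM).toEquiv]
    rfl
  have hrU : r ∣ Nat.card U := by
    rw [hcardM] at hrM
    rcases (Nat.Prime.dvd_mul hr).mp hrM with h | h
    · exact h
    · exact absurd h (hUH.2.2 r hr ⟨hr, hrκ, hrσ⟩)
  haveI : Fact r.Prime := ⟨hr⟩
  obtain ⟨x, hx⟩ := exists_prime_orderOf_dvd_card' r hrU
  have hxG : orderOf (x : G) = r := by rw [Subgroup.orderOf_coe, hx]
  set R : Subgroup G := Subgroup.zpowers (x : G) with hRdef
  have hRU : R ≤ U := Subgroup.zpowers_le.mpr x.2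
  have hRcard : Nat.card R = r := by rw [hRdef, Nat.card_zpowers, hxG]
  have hM1 : M ≠ ⊥ := by
    intro h
    rw [h, Subgroup.card_bot] at hrM
    exact hr.one_lt.ne' (Nat.dvd_one.mp hrM)
  have hσ1 : sigmaCore M ≠ ⊥ := Cfsg.Agent.Lib.Helper83.BG11.sigmaCore_ne_bot hG hM hM1
  -- `U` centralizes `M_σ`
  have hUcent : U ≤ Subgroup.centralizer (sigmaCore M : Set G) :=
    Subgroup.le_centralizer_iff.mp hcent
  by_cases h1 : PRankLE r 1 ↥M
  · -- rank one: `r ∈ κ(M)`
    apply hrκ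
    apply Cfsg.Agent.Lib.Helper64.BG14.mem_kappa_of_cent_ne_bot hG hM hr hrM hrσ h1
      (hRU.trans hUM) hRcard
    have : sigmaCore M ⊓ Subgroup.centralizer (R : Set G) = sigmaCore M := by
      apply inf_eq_left.mpr
      exact hcent.trans (Subgroup.centralizer_le hRU)
    rw [this]
    exact hσ1
  · -- rank two: S1417(d)
    have h2 : PRankLE r 2 ↥M := by
      by_contra h
      exact hrσ (Cfsg.Agent.Lib.Helper13.BG12.mem_sigma_of_not_pRankLE_two hG hM hr h)
    have hτ2 : r ∈ tau2 M := ⟨hr, hrσ, h2, h1⟩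
    obtain ⟨A, hAM, hAe, hAcard⟩ := Cfsg.Agent.Lib.Helper13.BG12.exists_elemAb_sq_of_tau2 hτ2
    have h17 := (Cfsg.Agent.S1417.result hG M hM r hτ2 A ⟨hAM, hAe, hAcard⟩).2.2.2.1
    -- every element of `M` killed by `r` centralizes `M_σ`
    set C : Subgroup G := M ⊓ Subgroup.centralizer (sigmaCore M : Set G) with hCdef
    have hUC : U ≤ C := le_inf hUM hUcent
    have hCM : C ≤ M := inf_le_left
    have hCn : (C.subgroupOf M).Normal := by
      rw [Subgroup.normal_subgroupOf_iff_le_normalizer hCM]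
      intro g hg
      rw [Subgroup.mem_normalizer_iff]
      intro h
      have hconj : ∀ g ∈ M, ∀ h ∈ C, g * h * g⁻¹ ∈ C := by
        intro g hg h hh
        obtain ⟨hhM, hhC⟩ := Subgroup.mem_inf.mp hh
        refine Subgroup.mem_inf.mpr ⟨M.mul_mem (M.mul_mem hg hhM) (M.inv_mem hg), ?_⟩
        rw [Subgroup.mem_centralizer_iff] at hhC ⊢
        intro y hy
        have hy' : g⁻¹ * y * g ∈ sigmaCore M := by
          have := (Subgroup.mem_normalizer_iff.mp (hMσ (M.inv_mem hg)) y).mp hy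
          simpa using this
        have := hhC _ hy'
        calc y * (g * h * g⁻¹) = g * ((g⁻¹ * y * g) * h) * g⁻¹ := by group
          _ = g * (h * (g⁻¹ * y * g)) * g⁻¹ := by rw [this]
          _ = g * h * g⁻¹ * y := by group
      constructor
      · exact hconj g hg h
      · intro hh
        have := hconj g⁻¹ (M.inv_mem hg) _ hh
        simpa [mul_assoc] using this
    have hrC : ¬ r ∣ C.relIndex M := by
      intro h
      have h3 : U.relIndex C * C.relIndex M = U.relIndex M := Subgroup.relIndex_mul_relIndex U C M hUC hCM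
      exact hUH.2.2 r hr ⟨hr, hrκ, hrσ⟩ (h3 ▸ Dvd.dvd.mul_left h _)
    have hAC : A ≤ Subgroup.centralizer (sigmaCore M : Set G) := by
      intro a ha
      have haM : a ∈ M := hAM ha
      have har : a ^ r = 1 := hAe.2 a ha
      have h4 : (⟨a, haM⟩ : ↥M) ^ (C.subgroupOf M).index ∈ C.subgroupOf M :=
        Subgroup.pow_index_mem (C.subgroupOf M) _
      rw [Subgroup.mem_subgroupOf] at h4
      have h5 : a ^ (C.relIndex M) ∈ C := by simpa [Subgroup.relIndex] using h4
      have hcop2 : Nat.Coprime (C.relIndex M) r :=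
        Nat.Coprime.symm ((Nat.Prime.coprime_iff_not_dvd hr).mpr hrC)
      -- `a` is a power of `a ^ n`
      have h6 : a ∈ Subgroup.zpowers (a ^ (C.relIndex M)) := by
        have hord : orderOf a ∣ r := orderOf_dvd_of_pow_eq_one har
        have hcop3 : Nat.Coprime (orderOf a) (C.relIndex M) :=
          Nat.Coprime.coprime_dvd_left hord hcop2.symm
        obtain ⟨j, hj⟩ := exists_pow_eq_self_of_coprime hcop3.symm
        have h7 : (a ^ C.relIndex M) ^ j ∈ Subgroup.zpowers (a ^ (C.relIndex M)) :=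
          Subgroup.pow_mem _ (Subgroup.mem_zpowers _) j
        rwa [hj] at h7
      exact (inf_le_right : C ≤ _) (Subgroup.zpowers_le.mpr h5 h6)
    apply hσ1
    rw [← h17]
    exact (inf_eq_left.mpr (Subgroup.le_centralizer_iff.mp hAC)).symm

/-- contrapositive form (helper71's request): if `|K|` is not a prime then `M` is of type `P₁`:
every prime divisor of `|M|` lies in `σ(M) ∪ κ(M)`. -/
theorem mem_sigma_or_kappa_of_not_prime (hG : IsMinSimpleOddOrder G) (h30 : H1430 G)
    {M K : Subgroup G} (hM : IsCoatom M) (hK : IsPiHallOf (kappa M) K M) (hK1 : K ≠ ⊥)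
    (hnp : ¬ (Nat.card K).Prime) :
    ∀ q : ℕ, q.Prime → q ∣ Nat.card M → q ∈ sigma M ∨ q ∈ kappa M := by
  intro q hq hqM
  by_contra h
  push Not at h
  exact hnp (card_prime_of_prime_not_mem hG h30 hM hK hK1 hq hqM h.2 h.1)

/-- **BG 14.7(f), local half** for a standard factorisation `M = K U M_σ`: `U ≠ 1` forces `|K|` prime. -/
theorem card_prime_of_sigmaDecomposition (hG : IsMinSimpleOddOrder G) (h30 : H1430 G)
    {M K U : Subgroup G} (hM : IsCoatom M) (hKU : IsSigmaDecomposition M K U) (hK1 : K ≠ ⊥)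
    (hU1 : U ≠ ⊥) : (Nat.card K).Prime := by
  have hUcard : 1 < Nat.card U := (Subgroup.one_lt_card_iff_ne_bot (H := U)).mpr hU1
  obtain ⟨r, hr, hrU⟩ := Nat.exists_prime_and_dvd (ne_of_gt hUcard)
  have hHall : IsPiHallOf (sigma M) (sigmaCore M) M := (Cfsg.Agent.S1350.result hG M hM).1
  have hE := Cfsg.Agent.Lib.Helper31.BG15.isComplIn_sup_of_sigmaDecomposition hG hM hKU
  have hrE : r ∣ Nat.card ↥(U ⊔ K) := hrU.trans (Subgroup.card_dvd_of_le le_sup_left)
  have hrσ : r ∉ sigma M :=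
    Cfsg.Agent.Lib.Helper13.BG12.complIn_prime_not_mem_sigma hHall hE r hr hrE
  have hrκ : r ∉ kappa M := Cfsg.Agent.Lib.Helper31.BG15.not_mem_kappa_of_dvd_card hKU hr hrU
  have hrM : r ∣ Nat.card M := hrU.trans (Subgroup.card_dvd_of_le hKU.compl.1)
  exact card_prime_of_prime_not_mem hG h30 hM hKU.hall hK1 hr hrM hrκ hrσ

end Cfsg.Agent.Lib.Helper83.BG147
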