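import Mathlib
import Cfsg.Agent.Lib.Helper71.BG1366Defs
import Cfsg.Agent.Lib.Helper83.BG147P2

/-!
# K-1366-D (keystone 136605): `isP1_of_card_not_prime`  (helper83)

`U ≠ 1 ⇒ |K|` prime, in the contrapositive form: if `|K|` is not a prime then `M` is of type `P₁`.
Proof: Frobenius–Wielandt twice, see `Cfsg.Agent.Lib.Helper83.BG147P2`.
-/

set_option autoImplicit false

namespace Cfsg.Agent.Lib.Helper83.BG1366

open Cfsg Subgroup Cfsg.Agent.Lib.Helper11.BG14D Cfsg.Agent.Lib.Helper71.BG1366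

variable {G : Type*} [Group G] [Finite G]

/-- **KEYSTONE 136605  K-1366-D**. -/
theorem isP1_of_card_not_prime (hG : IsMinSimpleOddOrder G) (h30 : H1430 G) {M K : Subgroup G}
    (hp : PPair M K) (hnp : ¬ (Nat.card K).Prime) : IsP1 M :=
  Cfsg.Agent.Lib.Helper83.BG147.mem_sigma_or_kappa_of_not_prime hG h30 hp.coatom hp.hall hp.ne hnp

end Cfsg.Agent.Lib.Helper83.BG1366
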