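import Mathlib
import Cfsg.Agent.Lib.Helper31.BG147Defs

/-!
# BG Theorem 14.7: the abstract `n`-way count (helper83)

`T i` (`i : ι`, at least two of them) pairwise disjoint subsets of `G - 1`, all disjoint from the class
support `V` of a set `W ⊆ Z` with `|Z| |V| = |W| |G|`, `1 ∉ V`; `|Z - W| + n ≤ 1 + Σ c i` and
`|G| (3 c i - 1) ≤ 3 |Z| |T i|`.  Then `False`: the sets have more than `|G| - 1` elements together.
-/

set_option autoImplicit false
set_option linter.unusedSectionVars false
set_option linter.unusedVariables false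
set_option linter.style.haveILetI false

namespace Cfsg.Agent.Lib.Helper83.BG147

open Cfsg

/-- pure arithmetic core of the count -/
theorem count_arith {g z w v n S C dz : ℕ} (hg : 0 < g) (hz : 0 < z) (hn : 2 ≤ n)
    (hv : z * v = w * g) (hdz : dz + w = z) (hZW : dz + n ≤ 1 + C)
    (hT : g * (3 * C) ≤ 3 * z * S + g * n)
    (hsum : S + v + 1 ≤ g) : False := by
  have f5 : 3 * z * (S + v + 1) ≤ 3 * z * g := Nat.mul_le_mul_left _ hsum
  have f3 : g * (z + n) ≤ g * (C + w + 1) := Nat.mul_le_mul_left g (by omega)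
  have f6 : g * 2 ≤ g * n := Nat.mul_le_mul_left g hn
  nlinarith [f5, f3, f6, hT, hv, hg, hz]

variable {G : Type*} [Group G] [Finite G]

open Cfsg.Agent.Lib.Helper31.BG147 in
/-- **the abstract `n`-way count.** -/
theorem count_false {ι : Type*} [Fintype ι] (Z : Subgroup G) (W : Set G) (T : ι → Set G) (c : ι → ℕ)
    (hcard : 2 ≤ Fintype.card ι)
    (hTdisj : ∀ i j, i ≠ j → Disjoint (T i) (T j))
    (hTW : ∀ i, Disjoint (T i) (csupp W))
    (h1T : ∀ i, (1 : G) ∉ T i) (h1W : (1 : G) ∉ csupp W)
    (hW : Nat.card Z * Set.ncard (csupp W) = Set.ncard W * Nat.card G)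
    (hWZ : W ⊆ (Z : Set G))
    (hZW : Set.ncard ((Z : Set G) \ W) + Fintype.card ι ≤ 1 + ∑ i, c i)
    (hT : ∀ i, Nat.card G * (3 * c i) ≤ 3 * Nat.card Z * Set.ncard (T i) + Nat.card G) : False := by
  classical
  haveI : Fintype G := Fintype.ofFinite G
  set V : Set G := csupp W with hVdef
  -- the union as a finset
  set A : Finset G := (Finset.univ.biUnion fun i => (T i).toFinset) ∪ V.toFinset with hA
  have hdisj1 : (↑(Finset.univ : Finset ι) : Set ι).PairwiseDisjoint fun i => (T i).toFinset := by
    intro i _ j _ hij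
    simp only [Function.onFun]
    rw [Set.disjoint_toFinset]
    exact hTdisj i j hij
  have hdisj2 : Disjoint (Finset.univ.biUnion fun i => (T i).toFinset) V.toFinset := by
    rw [Finset.disjoint_biUnion_left]
    intro i _
    rw [Set.disjoint_toFinset]
    exact hTW i
  have hAcard : A.card = (∑ i, Set.ncard (T i)) + Set.ncard V := by
    rw [hA, Finset.card_union_of_disjoint hdisj2, Finset.card_biUnion hdisj1]
    congr 1
    · apply Finset.sum_congr rfl
      intro i _
      rw [Set.ncard_eq_toFinset_card']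
    · rw [Set.ncard_eq_toFinset_card']
  have hAsub : A ⊆ Finset.univ.erase (1 : G) := by
    intro a ha
    rw [Finset.mem_erase]
    refine ⟨?_, Finset.mem_univ _⟩
    rintro rfl
    rw [hA, Finset.mem_union, Finset.mem_biUnion] at ha
    rcases ha with ⟨i, -, hi⟩ | h
    · exact h1T i (Set.mem_toFinset.mp hi)
    · exact h1W (Set.mem_toFinset.mp h)
  have hAle : A.card + 1 ≤ Nat.card G := by
    have h1 := Finset.card_le_card hAsub
    rw [Finset.card_erase_of_mem (Finset.mem_univ _), Finset.card_univ, ← Nat.card_eq_fintype_card] at h1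
    have : 0 < Nat.card G := Nat.card_pos
    omega
  -- `|Z - W| + |W| = |Z|`
  have hdz : Set.ncard ((Z : Set G) \ W) + Set.ncard W = Nat.card Z := by
    have := Set.ncard_sdiff_add_ncard_of_subset hWZ (Set.toFinite _)
    rw [this]
    exact (Nat.card_coe_set_eq _).symm ▸ rfl
  -- sum of the `hT`
  have hTsum : Nat.card G * (3 * ∑ i, c i) ≤
      3 * Nat.card Z * (∑ i, Set.ncard (T i)) + Nat.card G * Fintype.card ι := by
    have := Finset.sum_le_sum (fun i (_ : i ∈ Finset.univ) => hT i)
    rw [Finset.sum_add_distrib, ← Finset.mul_sum, ← Finset.mul_sum, ← Finset.mul_sum] at this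
    simpa [Finset.card_univ, mul_comm] using this
  rw [hAcard] at hAle
  exact count_arith (g := Nat.card G) (z := Nat.card Z) (w := Set.ncard W) (v := Set.ncard V)
    (n := Fintype.card ι) (S := ∑ i, Set.ncard (T i)) (C := ∑ i, c i)
    (dz := Set.ncard ((Z : Set G) \ W)) Nat.card_pos Nat.card_pos hcard hW hdz hZW hTsum hAle

end Cfsg.Agent.Lib.Helper83.BG147
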