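import Mathlib
import Cfsg.Agent.Lib.Helper83.BG147Count

/-!
# BG Theorem 14.7: small pure lemmas for the family assembly of the `n`-way count (helper83)
-/

set_option autoImplicit false
set_option linter.unusedSectionVars false
set_option linter.unusedVariables false
set_option linter.style.haveILetI false

namespace Cfsg.Agent.Lib.Helper83.BG147

/-- the `hT` input of `count_false` from S1377 + the `P₁` order formula: `g = |G|`, `i = |G : H|`,
`h = |H_σ|`, `k = |K_H|`, `c = |D_H|`, `z = |Z| = k c`, `t = |T_H| = (h - 1) i`, `3 c ≤ h`. -/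
theorem hT_arith {g z h k c i t : ℕ} (hi : i * (h * k) = g) (hz : z = k * c)
    (ht : t = (h - 1) * i) (h3 : 3 * c ≤ h) (hh : 0 < h) : g * (3 * c) ≤ 3 * z * t + g := by
  obtain ⟨h', rfl⟩ : ∃ h', h = h' + 1 := ⟨h - 1, by omega⟩
  subst hz ht
  rw [← hi]
  have e1 : i * ((h' + 1) * k) * (3 * c) = i * k * ((h' + 1) * (3 * c)) := by ring
  have e2 : 3 * (k * c) * ((h' + 1 - 1) * i) + i * ((h' + 1) * k) =
      i * k * (3 * c * h' + (h' + 1)) := by
    rw [Nat.add_sub_cancel]; ring
  rw [e1, e2]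
  apply Nat.mul_le_mul_left
  nlinarith

/-- union bound for a finite family of sets through a common point -/
theorem ncard_iUnion_add_card_le {α : Type*} [Finite α] {ι : Type*} [Fintype ι] (D : ι → Set α)
    (a : α) (ha : ∀ i, a ∈ D i) :
    Set.ncard (⋃ i, D i) + Fintype.card ι ≤ 1 + ∑ i, Set.ncard (D i) := by
  classical
  haveI : Fintype α := Fintype.ofFinite α
  have hsub : (⋃ i, D i) ⊆ {a} ∪ ⋃ i, (D i \ {a}) := by
    intro x hx
    obtain ⟨i, hi⟩ := Set.mem_iUnion.mp hx
    by_cases hxa : x = a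
    · left; exact hxa
    · right; exact Set.mem_iUnion.mpr ⟨i, hi, hxa⟩
  have h1 : Set.ncard (⋃ i, D i) ≤ 1 + Set.ncard (⋃ i, (D i \ {a})) := by
    calc Set.ncard (⋃ i, D i) ≤ Set.ncard ({a} ∪ ⋃ i, (D i \ {a})) :=
          Set.ncard_le_ncard hsub (Set.toFinite _)
      _ ≤ Set.ncard ({a} : Set α) + Set.ncard (⋃ i, (D i \ {a})) := Set.ncard_union_le _ _
      _ = 1 + Set.ncard (⋃ i, (D i \ {a})) := by rw [Set.ncard_singleton]
  have h2 : Set.ncard (⋃ i, (D i \ {a})) ≤ ∑ i, Set.ncard (D i \ {a}) := by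
    have : (⋃ i, (D i \ {a})) = ↑(Finset.univ.biUnion fun i => (D i \ {a}).toFinset) := by
      ext x
      simp
    rw [this, Set.ncard_coe_finset]
    refine (Finset.card_biUnion_le).trans ?_
    apply Finset.sum_le_sum
    intro i _
    rw [Set.ncard_eq_toFinset_card']
  have h3 : ∀ i, Set.ncard (D i \ {a}) + 1 = Set.ncard (D i) := by
    intro i
    exact Set.ncard_sdiff_singleton_add_one (ha i) (Set.toFinite _)
  have h4 : (∑ i, Set.ncard (D i \ {a})) + Fintype.card ι = ∑ i, Set.ncard (D i) := by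
    rw [← Finset.card_univ, Finset.card_eq_sum_ones, ← Finset.sum_add_distrib]
    exact Finset.sum_congr rfl fun i _ => h3 i
  omega

end Cfsg.Agent.Lib.Helper83.BG147
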