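import Mathlib
import Cfsg.Agent.Lib.Helper71.BG1366Defs
import Cfsg.Agent.Lib.Helper55.Basic
import Cfsg.Agent.Lib.Helper77.BG147N
import Cfsg.Agent.Lib.Helper29.BG147D1
import Cfsg.Agent.Lib.Helper83.BG147Fam

/-!
# K-1366-I (keystone 136610): `PFam.false`, the assembly of the `n`-way count  (helper83)

A `P`-family with at least two members does not exist (given the leaves E, F, G, H of the pack as
hypotheses).
-/

set_option autoImplicit false
set_option linter.unusedSectionVars false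
set_option linter.unusedVariables false
set_option linter.style.haveILetI false

namespace Cfsg.Agent.Lib.Helper83.BG1366

open Cfsg Subgroup Cfsg.Agent.Lib.Helper55 Cfsg.Agent.Lib.Helper11.BG14D Cfsg.Agent.Lib.Helper11.BG144
  Cfsg.Agent.Lib.Helper31.BG147 Cfsg.Agent.Lib.Helper71.BG1366

variable {G : Type*} [Group G] [Finite G]

/-- `K ⊔ K*` normalizes `K`. -/
theorem sup_Ks_le_normalizer_left (J KJ : Subgroup G) :
    KJ ⊔ Ks J KJ ≤ normalizer (KJ : Set G) :=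
  sup_le Subgroup.le_normalizer
    ((inf_le_right : Ks J KJ ≤ centralizer (KJ : Set G)).trans (Subgroup.centralizer_le_normalizer _))

/-- `K ⊔ K*` normalizes `K*` (for `K ≤ J`, `J` maximal). -/
theorem sup_Ks_le_normalizer_right (hG : IsMinSimpleOddOrder G) {J KJ : Subgroup G} (hJ : IsCoatom J)
    (hKJ : KJ ≤ J) :
    KJ ⊔ Ks J KJ ≤ normalizer ((Ks J KJ : Subgroup G) : Set G) := by
  refine sup_le ?_ Subgroup.le_normalizer
  intro k hk
  have hkJ : k ∈ normalizer ((sigmaCore J : Subgroup G) : Set G) :=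
    Cfsg.Agent.Lib.Helper71.BG11.le_normalizer_sigmaCore J (hKJ hk)
  have key : ∀ k ∈ KJ, ∀ y ∈ Ks J KJ, k * y * k⁻¹ ∈ Ks J KJ := by
    intro k hk y hy
    have hkJ : k ∈ normalizer ((sigmaCore J : Subgroup G) : Set G) :=
      Cfsg.Agent.Lib.Helper71.BG11.le_normalizer_sigmaCore J (hKJ hk)
    refine Subgroup.mem_inf.mpr ⟨?_, ?_⟩
    · exact (Subgroup.mem_normalizer_iff.mp hkJ y).mp hy.1
    · rw [Subgroup.mem_centralizer_iff]
      intro a ha
      have h1 : k⁻¹ * a * k ∈ KJ := KJ.mul_mem (KJ.mul_mem (KJ.inv_mem hk) ha) hk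
      have h2 := (Subgroup.mem_centralizer_iff.mp hy.2) (k⁻¹ * a * k) h1
      calc a * (k * y * k⁻¹) = k * ((k⁻¹ * a * k) * y) * k⁻¹ := by group
        _ = k * (y * (k⁻¹ * a * k)) * k⁻¹ := by rw [h2]
        _ = k * y * k⁻¹ * a := by group
  rw [Subgroup.mem_normalizer_iff]
  intro y
  constructor
  · intro hy
    exact key k hk y hy
  · intro hy
    have := key k⁻¹ (KJ.inv_mem hk) _ hy
    have e : k⁻¹ * (k * y * k⁻¹) * k⁻¹⁻¹ = y := by group
    rwa [e] at this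

/-- **KEYSTONE 136610  K-1366-I**. -/
theorem PFam.false (hG : IsMinSimpleOddOrder G) (h30 : H1430 G) (h31 : H1431 G) (h33 : H1433 G)
    {Z : Subgroup G} {F : Set (Subgroup G × Subgroup G)} (hF : PFam Z F)
    (h2 : ∃ p ∈ F, ∃ q ∈ F, p ≠ q)
    (hE : ∀ (M K : Subgroup G) (z g : G), IsCoatom M → IsPiHallOf (kappa M) K M → K ≠ ⊥ → z ∈ Zhat M K →
      g * z * g⁻¹ ∈ K ⊔ Ks M K → g ∈ K ⊔ Ks M K)
    (hFd : ∀ (J M K : Subgroup G), IsCoatom J → PPair M K →
      Disjoint (tildeOf J ((sigmaCore J : Set G) \ {1})) (csupp (Zhat M K)))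
    (hG' : ∀ (Z J KJ : Subgroup G), Mem Z J KJ → Nat.card G * (3 * Nat.card (Ks J KJ) - 1) ≤
      3 * Nat.card Z * Set.ncard (tildeOf J ((sigmaCore J : Set G) \ {1})))
    (hCnt : ∀ (s : Finset (Subgroup G × Subgroup G)) (Z : Subgroup G) (W : Set G), W ⊆ (Z : Set G) →
      (∀ n ∈ Z, ∀ w ∈ W, n * w * n⁻¹ ∈ W) → (∀ g : G, ∀ w ∈ W, g * w * g⁻¹ ∈ W → g ∈ Z) →
      ∀ (T : Subgroup G × Subgroup G → Set G) (c : Subgroup G × Subgroup G → ℕ),
      (∀ i ∈ s, ∀ j ∈ s, i ≠ j → Disjoint (T i) (T j)) →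
      (∀ i ∈ s, Disjoint (T i) (csupp W)) → (∀ i ∈ s, 1 ≤ c i) →
      Set.ncard ((Z : Set G) \ W) + s.card ≤ 1 + ∑ i ∈ s, c i →
      (∀ i ∈ s, Nat.card G * (3 * c i - 1) ≤ 3 * Nat.card Z * Set.ncard (T i)) →
      2 ≤ s.card → False) : False := by
  classical
  have hfin : F.Finite := Set.toFinite F
  have hs : ∀ p, p ∈ hfin.toFinset ↔ p ∈ F := fun p => Set.Finite.mem_toFinset hfin
  refine hCnt hfin.toFinset Z (WW F) ?_ ?_ ?_
    (fun p => tildeOf p.1 ((sigmaCore p.1 : Set G) \ {1})) (fun p => Nat.card (Ks p.1 p.2))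
    ?_ ?_ ?_ ?_ ?_ ?_
  · -- hWZ
    rintro z ⟨p, hp, hz⟩
    have := (hF.mem p hp).zeq
    rw [← this]
    exact hz.1
  · -- hnorm
    rintro n hn w ⟨p, hp, hw⟩
    refine ⟨p, hp, ?_⟩
    have hm := hF.mem p hp
    have hnZ : n ∈ p.2 ⊔ Ks p.1 p.2 := by rw [hm.zeq]; exact hn
    have hn1 := sup_Ks_le_normalizer_left p.1 p.2 hnZ
    have hn2 := sup_Ks_le_normalizer_right hG hm.pj.coatom hm.pj.hall.1 hnZ
    refine ⟨?_, ?_⟩
    · exact (p.2 ⊔ Ks p.1 p.2).mul_mem ((p.2 ⊔ Ks p.1 p.2).mul_mem hnZ hw.1)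
        ((p.2 ⊔ Ks p.1 p.2).inv_mem hnZ)
    · rintro (h | h)
      · exact hw.2 (Or.inl ((Subgroup.mem_normalizer_iff.mp hn1 w).mpr h))
      · exact hw.2 (Or.inr ((Subgroup.mem_normalizer_iff.mp hn2 w).mpr h))
  · -- hTI
    rintro g w ⟨p, hp, hw⟩ ⟨q, hq, hgw⟩
    have hm := hF.mem p hp
    have hmq := hF.mem q hq
    have h1 : g * w * g⁻¹ ∈ p.2 ⊔ Ks p.1 p.2 := by
      rw [hm.zeq, ← hmq.zeq]
      exact hgw.1
    have := hE p.1 p.2 w g hm.pj.coatom hm.pj.hall hm.pj.ne hw h1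
    rwa [hm.zeq] at this
  · -- hdisj
    intro p hp q hq hpq
    rw [hs] at hp hq
    exact Cfsg.Agent.Lib.Helper29.BG147.tilde_disjoint hG h33 (hF.mem p hp).pj.coatom
      (hF.mem q hq).pj.coatom (hF.nc p hp q hq hpq)
  · -- hdisjW
    intro p hp
    rw [hs] at hp
    rw [Set.disjoint_left]
    rintro a ha ⟨g, z, ⟨q, hq, hz⟩, rfl⟩
    have := hFd p.1 q.1 q.2 (hF.mem p hp).pj.coatom (hF.mem q hq).pj
    exact (Set.disjoint_left.mp this) ha ⟨g, z, hz, rfl⟩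
  · -- hc
    intro p _
    exact Nat.card_pos
  · -- hZW
    obtain ⟨p0, hp0, -⟩ := h2
    have hsub : ((Z : Set G) \ WW F) ⊆ ⋃ i : hfin.toFinset, ((Ks i.1.1 i.1.2 : Subgroup G) : Set G) := by
      rintro z ⟨hzZ, hzW⟩
      rw [Set.mem_iUnion]
      by_cases hz1 : z = 1
      · refine ⟨⟨p0, (hs p0).mpr hp0⟩, ?_⟩
        rw [hz1]
        exact (Ks p0.1 p0.2).one_mem
      · have hord : orderOf z ≠ 1 := fun h => hz1 (orderOf_eq_one_iff.mp h)
        obtain ⟨r, hr, hrz⟩ := Nat.exists_prime_and_dvd hord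
        have hrZ : r ∣ Nat.card Z := hrz.trans (Subgroup.orderOf_dvd_natCard _ hzZ)
        obtain ⟨p, hp, hrp⟩ := hF.cover r hr hrZ
        refine ⟨⟨p, (hs p).mpr hp⟩, ?_⟩
        have hm := hF.mem p hp
        have hzZ' : z ∈ p.2 ⊔ Ks p.1 p.2 := by rw [hm.zeq]; exact hzZ
        by_contra hzK
        have hzK2 : z ∉ p.2 := by
          intro hz2
          have h1 : r ∣ Nat.card p.2 := hrz.trans (Subgroup.orderOf_dvd_natCard _ hz2)
          have hcop := Cfsg.Agent.Lib.Helper77.BG147.coprime_card_Ks hG hm.pj.coatom hm.pj.hall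
          have := Nat.dvd_gcd h1 hrp
          rw [Nat.Coprime] at hcop
          rw [hcop] at this
          exact hr.one_lt.ne' (Nat.dvd_one.mp this)
        apply hzW
        refine ⟨p, hp, hzZ', ?_⟩
        rintro (h | h)
        · exact hzK2 h
        · exact hzK h
    have hle : Set.ncard ((Z : Set G) \ WW F) ≤
        Set.ncard (⋃ i : hfin.toFinset, ((Ks i.1.1 i.1.2 : Subgroup G) : Set G)) :=
      Set.ncard_le_ncard hsub (Set.toFinite _)
    have hU := Cfsg.Agent.Lib.Helper83.BG147.ncard_iUnion_add_card_le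
      (fun i : hfin.toFinset => ((Ks i.1.1 i.1.2 : Subgroup G) : Set G)) 1
      (fun i => (Ks i.1.1 i.1.2).one_mem)
    rw [Fintype.card_coe] at hU
    have hsum : ∑ i : hfin.toFinset, Set.ncard ((Ks i.1.1 i.1.2 : Subgroup G) : Set G) =
        ∑ i ∈ hfin.toFinset, Nat.card (Ks i.1 i.2) := by
      rw [← Finset.sum_coe_sort hfin.toFinset (fun i => Nat.card (Ks i.1 i.2))]
      rfl
    rw [hsum] at hU
    omega
  · -- hT
    intro p hp
    rw [hs] at hp
    exact hG' Z p.1 p.2 (hF.mem p hp)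
  · -- hn
    obtain ⟨p, hp, q, hq, hpq⟩ := h2
    exact Finset.one_lt_card.mpr ⟨p, (hs p).mpr hp, q, (hs q).mpr hq, hpq⟩

end Cfsg.Agent.Lib.Helper83.BG1366
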