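import Mathlib
import Cfsg.Agent.Lib.Helper83.Decompose

set_option autoImplicit false

namespace Cfsg.Agent.Lib.Helper83

open scoped ComplexConjugate ComplexOrder MonoidAlgebra
open Cfsg

universe u v
variable {G : Type u} [Group G]

/-- A character of degree one is multiplicative. -/
theorem char_deg_one_mul {χ : G → ℂ} (hχ : IsCharacter G χ) (h1 : χ 1 = 1) (g h : G) :
    χ (g * h) = χ g * χ h := by
  obtain ⟨n, ρ, rfl⟩ := hχ
  have hn : n = 1 := by
    have := rep_char_one ρ
    rw [h1] at this
    exact_mod_cast this.symm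
  subst hn
  simp only [← repMat_trace, Matrix.trace_fin_one, repMat_mul, Matrix.mul_apply,
    Finset.univ_unique, Finset.sum_singleton]
  rfl

theorem char_deg_one_inv_mul {χ : G → ℂ} (hχ : IsCharacter G χ) (h1 : χ 1 = 1) (g : G) :
    χ g⁻¹ * χ g = 1 := by
  rw [← char_deg_one_mul hχ h1, inv_mul_cancel, h1]

theorem char_deg_one_ne_zero {χ : G → ℂ} (hχ : IsCharacter G χ) (h1 : χ 1 = 1) (g : G) :
    χ g ≠ 0 := by
  intro h
  have := char_deg_one_inv_mul hχ h1 g
  rw [h, mul_zero] at this
  exact zero_ne_one this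

/-- A character of degree one, as a monoid homomorphism into `ℂ`. -/
noncomputable def linCharHom {χ : G → ℂ} (hχ : IsCharacter G χ) (h1 : χ 1 = 1) : G →* ℂ where
  toFun := χ
  map_one' := h1
  map_mul' := char_deg_one_mul hχ h1

theorem char_deg_one_commutator {χ : G → ℂ} (hχ : IsCharacter G χ) (h1 : χ 1 = 1) {x : G}
    (hx : x ∈ commutator G) : χ x = 1 := by
  have hker : commutator G ≤ (linCharHom hχ h1).ker := by
    rw [commutator_eq_closure]
    rw [Subgroup.closure_le]
    rintro _ ⟨a, b, rfl⟩
    rw [SetLike.mem_coe, MonoidHom.mem_ker, commutatorElement_def]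
    simp only [map_mul]
    have ha := char_deg_one_inv_mul hχ h1 a
    have hb := char_deg_one_inv_mul hχ h1 b
    change χ a * χ b * χ a⁻¹ * χ b⁻¹ = 1
    calc χ a * χ b * χ a⁻¹ * χ b⁻¹ = (χ a⁻¹ * χ a) * (χ b⁻¹ * χ b) := by ring
      _ = 1 := by rw [ha, hb, one_mul]
  exact hker hx

theorem char_deg_one_conj_mul [Finite G] {χ : G → ℂ} (hχ : IsCharacter G χ) (h1 : χ 1 = 1) (g : G) :
    χ g * conj (χ g) = 1 := by
  rw [← char_inv hχ, mul_comm]
  exact char_deg_one_inv_mul hχ h1 g

/-- A character of degree one is irreducible. -/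
theorem isIrrCharacter_of_deg_one [Finite G] {χ : G → ℂ} (hχ : IsCharacter G χ) (h1 : χ 1 = 1) :
    IsIrrCharacter G χ := by
  haveI := Fintype.ofFinite G
  apply isIrrCharacter_of_norm_one hχ
  simp only [classInner_def, char_deg_one_conj_mul hχ h1, Finset.sum_const, Finset.card_univ,
    nsmul_eq_mul, mul_one, Nat.card_eq_fintype_card]
  exact inv_mul_cancel₀ (by
    have := card_ne_zero_complex (G := G)
    rwa [Nat.card_eq_fintype_card] at this)

/-- A homomorphism to the units of `ℂ` gives a character. -/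
theorem isCharacter_of_hom (φ : G →* ℂˣ) : IsCharacter G (fun g => ((φ g : ℂˣ) : ℂ)) := by
  let ρ : Representation ℂ G (Fin 1 → ℂ) :=
    { toFun := fun g => ((φ g : ℂˣ) : ℂ) • (1 : Module.End ℂ (Fin 1 → ℂ))
      map_one' := by simp
      map_mul' := by
        intro a b
        simp only [map_mul, Units.val_mul, smul_mul_smul_comm, mul_one] }
  refine ⟨1, ρ, ?_⟩
  funext g
  simp [Representation.character, ρ]

theorem isIrrCharacter_of_hom [Finite G] (φ : G →* ℂˣ) :
    IsIrrCharacter G (fun g => ((φ g : ℂˣ) : ℂ)) :=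
  isIrrCharacter_of_deg_one (isCharacter_of_hom φ) (by simp)

end Cfsg.Agent.Lib.Helper83

namespace Cfsg.Agent.Lib.Helper83

open scoped ComplexConjugate ComplexOrder MonoidAlgebra
open Cfsg

universe u v
variable {G : Type u} [Group G]

/-- The degree of an irreducible character is nonzero. -/
theorem irr_degree_ne_zero [Finite G] (χ : IrrCharacter G) : (χ : G → ℂ) 1 ≠ 0 := by
  haveI := Fintype.ofFinite G
  intro h0
  obtain ⟨n, ρ, hρ, hχ⟩ := χ.2
  have hn : n = 0 := by
    have := rep_char_one ρ
    rw [hχ, h0] at this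
    exact_mod_cast this.symm
  subst hn
  have hzero : (χ : G → ℂ) = 0 := by
    rw [← hχ]
    funext g
    have : ρ g = 0 := Subsingleton.elim _ _
    simp [Representation.character, this]
  have := irr_inner_self χ
  rw [hzero, classInner_zero_left] at this
  exact zero_ne_one this

theorem irr_charDegree_pos [Finite G] (χ : IrrCharacter G) : 0 < charDegree (χ : G → ℂ) := by
  have h := charDegree_cast (IrrCharacter_isCharacter χ)
  have h2 := irr_degree_ne_zero χ
  rw [← h] at h2
  exact Nat.pos_of_ne_zero (by exact_mod_cast h2)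

end Cfsg.Agent.Lib.Helper83
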