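import Mathlib
import Cfsg.Agent.Lib.Helper83.Linear
import Cfsg.Agent.Lib.Helper04.CharScalar
import Cfsg.Agent.Lib.Helper82.CharSchur

set_option autoImplicit false

namespace Cfsg.Agent.Lib.Helper83

open scoped ComplexConjugate ComplexOrder MonoidAlgebra
open Cfsg

universe u v
variable {G : Type u} [Group G]

/-- `χ(g) = χ(1)` iff `g` acts trivially. -/
theorem rep_char_eq_one_iff [Finite G] {n : ℕ} (ρ : Representation ℂ G (Fin n → ℂ)) (g : G) :
    ρ.character g = ρ.character 1 ↔ ρ g = 1 := by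
  rw [Representation.char_one]
  exact Cfsg.Agent.Lib.Helper04.char_eq_finrank_iff ρ g

/-- The kernel of a character, as a subgroup. -/
noncomputable def charKer [Finite G] {χ : G → ℂ} (hχ : IsCharacter G χ) : Subgroup G where
  carrier := {g | χ g = χ 1}
  one_mem' := rfl
  mul_mem' := by
    intro a b ha hb
    obtain ⟨n, ρ, rfl⟩ := hχ
    simp only [Set.mem_ofPred_eq] at ha hb ⊢
    rw [rep_char_eq_one_iff] at ha hb ⊢
    rw [map_mul, ha, hb, one_mul]
  inv_mem' := by
    intro a ha
    obtain ⟨n, ρ, rfl⟩ := hχ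
    simp only [Set.mem_ofPred_eq] at ha ⊢
    rw [rep_char_eq_one_iff] at ha ⊢
    have : ρ a⁻¹ * ρ a = 1 := by rw [← map_mul, inv_mul_cancel, map_one]
    rw [ha, mul_one] at this
    exact this

theorem mem_charKer [Finite G] {χ : G → ℂ} (hχ : IsCharacter G χ) (g : G) :
    g ∈ charKer hχ ↔ χ g = χ 1 := Iff.rfl

instance charKer_normal [Finite G] {χ : G → ℂ} (hχ : IsCharacter G χ) : (charKer hχ).Normal := by
  constructor
  intro n hn g
  rw [mem_charKer] at hn ⊢
  rw [char_conj_eq hχ, hn]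

theorem card_charKer [Finite G] {χ : G → ℂ} (hχ : IsCharacter G χ) :
    Nat.card {g : G // χ g = χ 1} = Nat.card (charKer hχ) := rfl

/-- If `g` is in the kernel then `χ (g * x) = χ x`. -/
theorem char_mul_of_mem_ker [Finite G] {χ : G → ℂ} (hχ : IsCharacter G χ) {g : G}
    (hg : χ g = χ 1) (x : G) : χ (g * x) = χ x := by
  obtain ⟨n, ρ, rfl⟩ := hχ
  rw [rep_char_eq_one_iff] at hg
  simp only [Representation.character, map_mul, hg, one_mul]

theorem char_mul_of_mem_ker' [Finite G] {χ : G → ℂ} (hχ : IsCharacter G χ) {g : G}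
    (hg : χ g = χ 1) (x : G) : χ (x * g) = χ x := by
  obtain ⟨n, ρ, rfl⟩ := hχ
  rw [rep_char_eq_one_iff] at hg
  simp only [Representation.character, map_mul, hg, mul_one]

end Cfsg.Agent.Lib.Helper83

namespace Cfsg.Agent.Lib.Helper83

open scoped ComplexConjugate ComplexOrder MonoidAlgebra
open Cfsg

universe u v
variable {G : Type u} [Group G]

/-- Summing a function of the coset over `G` gives `|N|` times the sum over `G ⧸ N`. -/
theorem sum_comp_quotient_mk [Fintype G] (N : Subgroup G) [Fintype (G ⧸ N)] (F : G ⧸ N → ℂ) :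
    ∑ g : G, F (QuotientGroup.mk g) = (Nat.card N : ℂ) * ∑ q : G ⧸ N, F q := by
  classical
  rw [Finset.sum_comp F (QuotientGroup.mk : G → G ⧸ N), Finset.mul_sum]
  have himg : (Finset.univ : Finset G).image (QuotientGroup.mk : G → G ⧸ N) = Finset.univ := by
    ext q
    simp only [Finset.mem_image, Finset.mem_univ, true_and, iff_true]
    exact QuotientGroup.mk_surjective q
  rw [himg]
  apply Finset.sum_congr rfl
  intro q _
  have hcard : (Finset.univ.filter (fun a : G => (QuotientGroup.mk a : G ⧸ N) = q)).card = Nat.card N := by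
    have h := QuotientGroup.card_preimage_mk N ({q} : Set (G ⧸ N))
    have h1 : Nat.card ({q} : Set (G ⧸ N)) = 1 := by simp
    rw [h1, mul_one] at h
    rw [← h, Nat.card_eq_fintype_card, Fintype.card_subtype]
    congr 1
    ext x
    simp
  rw [hcard, nsmul_eq_mul]

theorem card_quotient_mul_card [Finite G] (N : Subgroup G) :
    (Nat.card (G ⧸ N) : ℂ) * (Nat.card N : ℂ) = (Nat.card G : ℂ) := by
  have := Subgroup.card_eq_card_quotient_mul_card_subgroup N
  rw [this]; push_cast; ring

/-- The inner product of inflated functions equals the inner product in the quotient. -/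
theorem classInner_comp_mk [Fintype G] (N : Subgroup G) [N.Normal] [Fintype (G ⧸ N)]
    (φ ψ : G ⧸ N → ℂ) :
    classInner (fun g : G => φ (QuotientGroup.mk g)) (fun g : G => ψ (QuotientGroup.mk g))
      = classInner φ ψ := by
  rw [classInner_def, classInner_def]
  rw [sum_comp_quotient_mk N (fun q => φ q * conj (ψ q)), ← card_quotient_mul_card N]
  have h1 : (Nat.card N : ℂ) ≠ 0 := by
    have : Nat.card N ≠ 0 := Nat.card_pos.ne'
    exact_mod_cast this
  have h2 : (Nat.card (G ⧸ N) : ℂ) ≠ 0 := by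
    have : Nat.card (G ⧸ N) ≠ 0 := Nat.card_pos.ne'
    exact_mod_cast this
  field_simp

/-- Inflation of a character of `G ⧸ N` is a character of `G`. -/
theorem isCharacter_inflate (N : Subgroup G) [N.Normal] {ψ : G ⧸ N → ℂ}
    (hψ : IsCharacter (G ⧸ N) ψ) : IsCharacter G (fun g : G => ψ (QuotientGroup.mk g)) :=
  isCharacter_comp_hom (QuotientGroup.mk' N) hψ

/-- Inflation of an irreducible character of `G ⧸ N` is an irreducible character of `G`. -/
theorem isIrrCharacter_inflate [Finite G] (N : Subgroup G) [N.Normal] {ψ : G ⧸ N → ℂ}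
    (hψ : IsIrrCharacter (G ⧸ N) ψ) : IsIrrCharacter G (fun g : G => ψ (QuotientGroup.mk g)) := by
  haveI := Fintype.ofFinite G
  haveI : Fintype (G ⧸ N) := Fintype.ofFinite _
  apply isIrrCharacter_of_norm_one (isCharacter_inflate N (isCharacter_of_irr hψ))
  rw [classInner_comp_mk]
  exact irr_inner_self ⟨ψ, hψ⟩

/-- A character with `N` in its kernel factors through `G ⧸ N`. -/
theorem exists_isCharacter_quotient [Finite G] (N : Subgroup G) [N.Normal] {χ : G → ℂ}
    (hχ : IsCharacter G χ) (hN : ∀ n ∈ N, χ n = χ 1) :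
    ∃ ψ : G ⧸ N → ℂ, IsCharacter (G ⧸ N) ψ ∧ ∀ g : G, ψ (QuotientGroup.mk g) = χ g := by
  obtain ⟨n, ρ, rfl⟩ := hχ
  have hker : N ≤ ρ.ker := by
    intro x hx
    rw [MonoidHom.mem_ker]
    exact (rep_char_eq_one_iff ρ x).1 (hN x hx)
  let ρ' : Representation ℂ (G ⧸ N) (Fin n → ℂ) := QuotientGroup.lift N ρ hker
  refine ⟨ρ'.character, ⟨n, ρ', rfl⟩, ?_⟩
  intro g
  simp only [Representation.character, ρ']
  rfl

theorem exists_isIrrCharacter_quotient [Finite G] (N : Subgroup G) [N.Normal] {χ : G → ℂ}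
    (hχ : IsIrrCharacter G χ) (hN : ∀ n ∈ N, χ n = χ 1) :
    ∃ ψ : G ⧸ N → ℂ, IsIrrCharacter (G ⧸ N) ψ ∧ ∀ g : G, ψ (QuotientGroup.mk g) = χ g := by
  haveI := Fintype.ofFinite G
  haveI : Fintype (G ⧸ N) := Fintype.ofFinite _
  obtain ⟨ψ, hψ, hψχ⟩ := exists_isCharacter_quotient N (isCharacter_of_irr hχ) hN
  refine ⟨ψ, ?_, hψχ⟩
  apply isIrrCharacter_of_norm_one hψ
  rw [← classInner_comp_mk N]
  have : (fun g : G => ψ (QuotientGroup.mk g)) = χ := funext hψχ
  rw [this]
  exact irr_inner_self ⟨χ, hχ⟩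

/-- Deflation of an irreducible character with `N` in its kernel. -/
noncomputable def irrDeflate [Finite G] (N : Subgroup G) [N.Normal]
    (χ : {χ : IrrCharacter G // ∀ n ∈ N, (χ : G → ℂ) n = (χ : G → ℂ) 1}) : IrrCharacter (G ⧸ N) :=
  ⟨Classical.choose (exists_isIrrCharacter_quotient N χ.1.2 χ.2),
    (Classical.choose_spec (exists_isIrrCharacter_quotient N χ.1.2 χ.2)).1⟩

theorem irrDeflate_apply [Finite G] (N : Subgroup G) [N.Normal]
    (χ : {χ : IrrCharacter G // ∀ n ∈ N, (χ : G → ℂ) n = (χ : G → ℂ) 1}) (g : G) :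
    (irrDeflate N χ : G ⧸ N → ℂ) (QuotientGroup.mk g) = (χ.1 : G → ℂ) g :=
  (Classical.choose_spec (exists_isIrrCharacter_quotient N χ.1.2 χ.2)).2 g

/-- Inflation of an irreducible character of the quotient. -/
noncomputable def irrInflate [Finite G] (N : Subgroup G) [N.Normal] (ψ : IrrCharacter (G ⧸ N)) :
    {χ : IrrCharacter G // ∀ n ∈ N, (χ : G → ℂ) n = (χ : G → ℂ) 1} :=
  ⟨⟨fun g => (ψ : G ⧸ N → ℂ) (QuotientGroup.mk g), isIrrCharacter_inflate N ψ.2⟩, by
    intro n hn
    have : (QuotientGroup.mk n : G ⧸ N) = QuotientGroup.mk 1 := by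
      rw [QuotientGroup.mk_one]
      exact (QuotientGroup.eq_one_iff n).2 hn
    simp only [this]⟩

theorem irrInflate_apply [Finite G] (N : Subgroup G) [N.Normal] (ψ : IrrCharacter (G ⧸ N))
    (g : G) : ((irrInflate N ψ).1 : G → ℂ) g = (ψ : G ⧸ N → ℂ) (QuotientGroup.mk g) := rfl

/-- Irreducible characters of `G ⧸ N` correspond to the irreducible characters of `G` with `N`
in the kernel. -/
noncomputable def irrQuotientEquiv [Finite G] (N : Subgroup G) [N.Normal] :
    IrrCharacter (G ⧸ N) ≃ {χ : IrrCharacter G // ∀ n ∈ N, (χ : G → ℂ) n = (χ : G → ℂ) 1} where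
  toFun := irrInflate N
  invFun := irrDeflate N
  left_inv ψ := by
    apply Subtype.ext
    funext q
    obtain ⟨g, rfl⟩ := QuotientGroup.mk_surjective q
    rw [irrDeflate_apply, irrInflate_apply]
  right_inv χ := by
    apply Subtype.ext
    apply Subtype.ext
    funext g
    rw [irrInflate_apply, irrDeflate_apply]

theorem irrQuotientEquiv_apply [Finite G] (N : Subgroup G) [N.Normal] (ψ : IrrCharacter (G ⧸ N))
    (g : G) : ((irrQuotientEquiv N ψ : IrrCharacter G) : G → ℂ) g
      = (ψ : G ⧸ N → ℂ) (QuotientGroup.mk g) := rfl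

theorem irrQuotientEquiv_symm_apply [Finite G] (N : Subgroup G) [N.Normal]
    (χ : {χ : IrrCharacter G // ∀ n ∈ N, (χ : G → ℂ) n = (χ : G → ℂ) 1}) (g : G) :
    ((irrQuotientEquiv N).symm χ : G ⧸ N → ℂ) (QuotientGroup.mk g) = (χ.1 : G → ℂ) g :=
  irrDeflate_apply N χ g

end Cfsg.Agent.Lib.Helper83

namespace Cfsg.Agent.Lib.Helper83

open scoped ComplexConjugate ComplexOrder MonoidAlgebra
open Cfsg

universe u v
variable {G : Type u} [Group G]

/-- The degree of an irreducible character divides the group order. -/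
theorem irr_charDegree_dvd_card [Finite G] (χ : IrrCharacter G) :
    charDegree (χ : G → ℂ) ∣ Nat.card G :=
  Cfsg.Agent.Lib.Helper82.IsIrrCharacter.charDegree_dvd_card χ.2

/-- The degree of an irreducible character divides the index of any normal subgroup contained in
its kernel. -/
theorem irr_charDegree_dvd_index [Finite G] (χ : IrrCharacter G) (N : Subgroup G) [N.Normal]
    (hN : ∀ n ∈ N, (χ : G → ℂ) n = (χ : G → ℂ) 1) : charDegree (χ : G → ℂ) ∣ N.index := by
  have h := irr_charDegree_dvd_card (irrDeflate N ⟨χ, hN⟩)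
  have h1 : (irrDeflate N ⟨χ, hN⟩ : G ⧸ N → ℂ) 1 = (χ : G → ℂ) 1 := by
    have := irrDeflate_apply N ⟨χ, hN⟩ 1
    rwa [QuotientGroup.mk_one] at this
  have h2 : charDegree (irrDeflate N ⟨χ, hN⟩ : G ⧸ N → ℂ) = charDegree (χ : G → ℂ) := by
    simp only [charDegree, h1]
  rw [h2] at h
  exact h

/-- The degree of an irreducible character divides the index of its kernel. -/
theorem irr_charDegree_dvd_index_ker [Finite G] (χ : IrrCharacter G) :
    charDegree (χ : G → ℂ) ∣ (charKer (IrrCharacter_isCharacter χ)).index :=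
  irr_charDegree_dvd_index χ _ (fun _ hn => hn)

/-- `|ker χ| * χ(1)` divides `|G|`. -/
theorem card_ker_mul_degree_dvd [Finite G] (χ : IrrCharacter G) :
    Nat.card {g : G // (χ : G → ℂ) g = (χ : G → ℂ) 1} * charDegree (χ : G → ℂ) ∣ Nat.card G := by
  rw [card_charKer (IrrCharacter_isCharacter χ), ← Subgroup.card_mul_index (charKer (IrrCharacter_isCharacter χ))]
  exact Nat.mul_dvd_mul_left _ (irr_charDegree_dvd_index_ker χ)

end Cfsg.Agent.Lib.Helper83

namespace Cfsg.Agent.Lib.Helper83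

open scoped ComplexConjugate ComplexOrder MonoidAlgebra
open Cfsg

universe u v
variable {G : Type u} [Group G]

open Classical in
theorem sum_subgroup_eq_sum_ite [Fintype G] (N : Subgroup G) [Fintype N] (F : G → ℂ) :
    ∑ n : N, F (n : G) = ∑ x : G, if x ∈ N then F x else 0 := by
  rw [← Finset.sum_filter]
  exact (Finset.sum_subtype (Finset.univ.filter (fun x => x ∈ N)) (by simp) F).symm

open Classical in
/-- For an irreducible character and a normal subgroup:
`∑_{n ∈ N} χ(g n) = χ(g) (∑_{n ∈ N} χ(n)) / χ(1)`. -/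
theorem irr_sum_normal_mul [Fintype G] (χ : IrrCharacter G) (N : Subgroup G) [N.Normal] [Fintype N]
    (g : G) :
    ∑ n : N, (χ : G → ℂ) (g * n) = (χ : G → ℂ) g * (∑ n : N, (χ : G → ℂ) n) / (χ : G → ℂ) 1 := by
  set c : G → ℂ := fun x => if x ∈ N then 1 else 0 with hc
  have hcc : IsClassFunction G c := by
    intro x y
    simp only [hc]
    have : y * x * y⁻¹ ∈ N ↔ x ∈ N := by
      constructor
      · intro h
        have := Subgroup.Normal.conj_mem (inferInstance : N.Normal) _ h y⁻¹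
        simpa [mul_assoc] using this
      · intro h
        exact Subgroup.Normal.conj_mem inferInstance _ h y
    rw [if_congr this rfl rfl]
  have h := irr_sum_classFunction_mul χ hcc g
  rw [sum_subgroup_eq_sum_ite N (fun x => (χ : G → ℂ) (g * x)), sum_subgroup_eq_sum_ite N (χ : G → ℂ)]
  simp only [hc, ite_mul, one_mul, zero_mul] at h
  exact h

/-- If the normal subgroup `N` is not in the kernel of the irreducible character `χ`, then
`∑_{n ∈ N} χ(n) = 0`. -/
theorem irr_sum_normal_eq_zero [Fintype G] (χ : IrrCharacter G) (N : Subgroup G) [N.Normal]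
    [Fintype N] (hN : ∃ x ∈ N, (χ : G → ℂ) x ≠ (χ : G → ℂ) 1) :
    ∑ n : N, (χ : G → ℂ) n = 0 := by
  obtain ⟨x, hx, hne⟩ := hN
  have h := irr_sum_normal_mul χ N x
  have h2 : ∑ n : N, (χ : G → ℂ) (x * n) = ∑ n : N, (χ : G → ℂ) n := by
    refine Fintype.sum_bijective (fun n : N => (⟨x, hx⟩ : N) * n) (Group.mulLeft_bijective _) _ _ ?_
    intro n
    rfl
  rw [h2] at h
  have hd := irr_degree_ne_zero χ
  rw [eq_div_iff hd] at h
  have h3 : (∑ n : N, (χ : G → ℂ) n) * ((χ : G → ℂ) 1 - (χ : G → ℂ) x) = 0 := by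
    rw [mul_sub, h]; ring
  rcases mul_eq_zero.1 h3 with h4 | h4
  · exact h4
  · exact absurd (sub_eq_zero.1 h4).symm hne

/-- If the normal subgroup `N` is not in the kernel of the irreducible character `χ`, then
`∑_{n ∈ N} χ(g n) = 0` for every `g`. -/
theorem irr_sum_coset_eq_zero [Fintype G] (χ : IrrCharacter G) (N : Subgroup G) [N.Normal]
    [Fintype N] (hN : ∃ x ∈ N, (χ : G → ℂ) x ≠ (χ : G → ℂ) 1) (g : G) :
    ∑ n : N, (χ : G → ℂ) (g * n) = 0 := by
  rw [irr_sum_normal_mul, irr_sum_normal_eq_zero χ N hN, mul_zero, zero_div]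

end Cfsg.Agent.Lib.Helper83
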