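import Mathlib
import Cfsg.Agent.Lib.Helper83.Quotient
import Cfsg.Agent.Lib.Helper34.GenChar

/-!
# Constituents of characters, degree of induced functions (helper83)
-/

set_option autoImplicit false

namespace Cfsg.Agent.Lib.Helper83

open scoped ComplexConjugate ComplexOrder MonoidAlgebra
open Cfsg

/-- Degree of an induced function. -/
theorem indFun_one_eq {G : Type*} [Group G] [Fintype G] (H : Subgroup G) (θ : H → ℂ) :
    Cfsg.indFun H θ 1 = (H.index : ℂ) * θ 1 := by
  classical
  unfold Cfsg.indFun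
  have h1 : ∀ x : G, Cfsg.extendByZero H θ (x⁻¹ * 1 * x) = θ 1 := by
    intro x
    have : x⁻¹ * 1 * x = ((1 : H) : G) := by simp
    rw [this]
    exact Cfsg.Agent.Lib.Helper34.extendByZero_coe H θ 1
  rw [Finset.sum_congr rfl (fun x _ => h1 x), Finset.sum_const, Finset.card_univ, nsmul_eq_mul,
    ← Nat.card_eq_fintype_card, ← Subgroup.card_mul_index H]
  have hH : (Nat.card H : ℂ) ≠ 0 := by
    exact_mod_cast Nat.card_pos.ne'
  push_cast
  field_simp

/-- A character having an irreducible constituent of at least its own degree equals it. -/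
theorem eq_of_constituent_of_degree_le {G : Type*} [Group G] [Fintype G] {ψ : G → ℂ}
    (hψ : Cfsg.IsCharacter G ψ) (χ : Cfsg.IrrCharacter G)
    (hc : Cfsg.classInner ψ (χ : G → ℂ) ≠ 0)
    (hdeg : Cfsg.charDegree ψ ≤ Cfsg.charDegree (χ : G → ℂ)) : ψ = (χ : G → ℂ) := by
  classical
  haveI : Fintype (Cfsg.IrrCharacter G) := Fintype.ofFinite _
  have hdec := char_eq_sum_irrMult hψ
  have hsum : Cfsg.charDegree ψ =
      ∑ ν : Cfsg.IrrCharacter G, irrMult ψ ν * Cfsg.charDegree (ν : G → ℂ) := by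
    have h1 : (Cfsg.charDegree ψ : ℂ) =
        ((∑ ν : Cfsg.IrrCharacter G, irrMult ψ ν * Cfsg.charDegree (ν : G → ℂ) : ℕ) : ℂ) := by
      rw [charDegree_cast hψ]
      conv_lhs => rw [hdec]
      rw [Finset.sum_apply]
      push_cast
      apply Finset.sum_congr rfl
      intro ν _
      rw [Pi.smul_apply, smul_eq_mul, charDegree_cast (IrrCharacter_isCharacter ν)]
    exact_mod_cast h1
  have hm : 1 ≤ irrMult ψ χ := by
    by_contra h
    have h0 : irrMult ψ χ = 0 := by omega
    apply hc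
    rw [← irrMult_cast hψ χ, h0, Nat.cast_zero]
  rw [← Finset.add_sum_erase _ _ (Finset.mem_univ χ)] at hsum
  have hpos := irr_charDegree_pos χ
  set R := ∑ ν ∈ Finset.univ.erase χ, irrMult ψ ν * Cfsg.charDegree (ν : G → ℂ) with hR
  have hmul : Cfsg.charDegree (χ : G → ℂ) ≤ irrMult ψ χ * Cfsg.charDegree (χ : G → ℂ) :=
    Nat.le_mul_of_pos_left _ hm
  have hR0 : R = 0 := by omega
  have hm1 : irrMult ψ χ = 1 := by
    have : irrMult ψ χ * Cfsg.charDegree (χ : G → ℂ) = 1 * Cfsg.charDegree (χ : G → ℂ) := by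
      omega
    exact Nat.eq_of_mul_eq_mul_right hpos this
  have hzero : ∀ ν ∈ Finset.univ.erase χ, irrMult ψ ν = 0 := by
    intro ν hν
    have := (Finset.sum_eq_zero_iff.1 hR0) ν hν
    rcases Nat.mul_eq_zero.1 this with h | h
    · exact h
    · exact absurd h (irr_charDegree_pos ν).ne'
  rw [hdec, Finset.sum_eq_single χ]
  · rw [hm1, Nat.cast_one, one_smul]
  · intro ν _ hν
    rw [hzero ν (Finset.mem_erase.2 ⟨hν, Finset.mem_univ _⟩), Nat.cast_zero, zero_smul]
  · intro h; exact absurd (Finset.mem_univ _) h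


/-- A character with nonzero degree has an irreducible constituent. -/
theorem exists_constituent {G : Type*} [Group G] [Fintype G] {ψ : G → ℂ}
    (hψ : Cfsg.IsCharacter G ψ) (h1 : ψ 1 ≠ 0) :
    ∃ χ : Cfsg.IrrCharacter G, Cfsg.classInner ψ (χ : G → ℂ) ≠ 0 := by
  classical
  haveI : Fintype (Cfsg.IrrCharacter G) := Fintype.ofFinite _
  by_contra hcon
  push_neg at hcon
  apply h1
  have hdec := char_eq_sum_irrMult hψ
  rw [hdec, Finset.sum_apply]
  apply Finset.sum_eq_zero
  intro χ _
  rw [irrMult_cast hψ χ, hcon χ, zero_smul, Pi.zero_apply]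

/-- Two irreducible characters with nonzero inner product are equal. -/
theorem irr_eq_of_classInner_ne_zero {G : Type*} [Group G] [Fintype G]
    {χ ψ : Cfsg.IrrCharacter G} (h : Cfsg.classInner (χ : G → ℂ) (ψ : G → ℂ) ≠ 0) : χ = ψ := by
  by_contra hne
  exact h (irr_inner_ne hne)

end Cfsg.Agent.Lib.Helper83
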