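import Mathlib
import Cfsg.Agent.Lib.Helper83.Quotient

set_option autoImplicit false

namespace Cfsg.Agent.Lib.Helper83

open scoped ComplexConjugate ComplexOrder MonoidAlgebra
open Cfsg

universe u v
variable {G : Type u} [Group G]

/-- Irreducible characters of a commutative group have degree one. -/
theorem irr_degree_one_of_comm (hcomm : ∀ a b : G, a * b = b * a) (χ : IrrCharacter G) :
    (χ : G → ℂ) 1 = 1 := by
  obtain ⟨n, ρ, hρ, hχ⟩ := χ.2
  haveI : IsMulCommutative G := ⟨⟨hcomm⟩⟩
  haveI := hρ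
  have h := Representation.IsIrreducible.finrank_eq_one_of_isMulCommutative ρ
  rw [← hχ, Representation.char_one, h, Nat.cast_one]

/-- `∑ |χ(g)|² = |G|` for an irreducible character. -/
theorem irr_sum_normSq [Fintype G] (χ : IrrCharacter G) :
    ∑ g : G, Complex.normSq ((χ : G → ℂ) g) = (Nat.card G : ℝ) := by
  have h := irr_inner_self χ
  rw [classInner_def] at h
  have hG := card_ne_zero_complex (G := G)
  have h2 : ∑ g : G, (χ : G → ℂ) g * conj ((χ : G → ℂ) g) = (Nat.card G : ℂ) := by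
    field_simp at h
    exact h
  simp only [Complex.mul_conj] at h2
  rw [← Complex.ofReal_sum] at h2
  exact_mod_cast h2

/-- For a character `θ` of a commutative group `A`: `|A| θ(1) ≤ ∑ |θ(a)|²`. -/
theorem comm_sum_normSq_ge {A : Type u} [Group A] [Fintype A] (hcomm : ∀ a b : A, a * b = b * a)
    {θ : A → ℂ} (hθ : IsCharacter A θ) :
    (Nat.card A : ℝ) * (θ 1).re ≤ ∑ a : A, Complex.normSq (θ a) := by
  classical
  haveI : Fintype (IrrCharacter A) := Fintype.ofFinite _
  have hexp := char_eq_sum_irrMult hθ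
  -- θ 1 = ∑ n_μ
  have h1 : θ 1 = ((∑ μ : IrrCharacter A, irrMult θ μ : ℕ) : ℂ) := by
    conv_lhs => rw [hexp]
    simp only [Finset.sum_apply, Pi.smul_apply, smul_eq_mul, irr_degree_one_of_comm hcomm, mul_one]
    push_cast; rfl
  -- ⟨θ,θ⟩ = ∑ n_μ²
  have h2 : classInner θ θ = ((∑ μ : IrrCharacter A, irrMult θ μ * irrMult θ μ : ℕ) : ℂ) := by
    conv_lhs => rw [hexp]
    rw [classInner_sum_irr_self]
    push_cast
    apply Finset.sum_congr rfl
    intro μ _
    rw [Complex.conj_natCast]
  have h3 : ∑ μ : IrrCharacter A, irrMult θ μ ≤ ∑ μ : IrrCharacter A, irrMult θ μ * irrMult θ μ := by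
    apply Finset.sum_le_sum
    intro μ _
    exact Nat.le_mul_self _
  have h4 : classInner θ θ = (Nat.card A : ℂ)⁻¹ * ((∑ a : A, Complex.normSq (θ a) : ℝ) : ℂ) := by
    rw [classInner_def]
    congr 1
    rw [Complex.ofReal_sum]
    apply Finset.sum_congr rfl
    intro a _
    rw [Complex.mul_conj]
  rw [h2] at h4
  have hA : (Nat.card A : ℝ) ≠ 0 := by
    have : Nat.card A ≠ 0 := Nat.card_pos.ne'
    exact_mod_cast this
  have h5 : ((∑ μ : IrrCharacter A, irrMult θ μ * irrMult θ μ : ℕ) : ℝ)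
      = (Nat.card A : ℝ)⁻¹ * ∑ a : A, Complex.normSq (θ a) := by
    have : (((∑ μ : IrrCharacter A, irrMult θ μ * irrMult θ μ : ℕ) : ℝ) : ℂ)
        = (((Nat.card A : ℝ)⁻¹ * ∑ a : A, Complex.normSq (θ a) : ℝ) : ℂ) := by
      push_cast
      push_cast at h4
      exact h4
    exact_mod_cast this
  have h6 : (θ 1).re = ((∑ μ : IrrCharacter A, irrMult θ μ : ℕ) : ℝ) := by
    rw [h1]; simp
  rw [h6]
  have h7 : ((∑ μ : IrrCharacter A, irrMult θ μ : ℕ) : ℝ)
      ≤ ((∑ μ : IrrCharacter A, irrMult θ μ * irrMult θ μ : ℕ) : ℝ) := by exact_mod_cast h3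
  rw [h5] at h7
  have hApos : (0 : ℝ) < Nat.card A := by
    have : 0 < Nat.card A := Nat.card_pos
    exact_mod_cast this
  calc (Nat.card A : ℝ) * ((∑ μ : IrrCharacter A, irrMult θ μ : ℕ) : ℝ)
      ≤ (Nat.card A : ℝ) * ((Nat.card A : ℝ)⁻¹ * ∑ a : A, Complex.normSq (θ a)) :=
        mul_le_mul_of_nonneg_left h7 hApos.le
    _ = ∑ a : A, Complex.normSq (θ a) := by field_simp

/-- For a character `χ` of `G` and a commutative subgroup `A`: `|A| χ(1) ≤ ∑_{a ∈ A} |χ(a)|²`. -/
theorem comm_subgroup_sum_normSq_ge {χ : G → ℂ} (hχ : IsCharacter G χ) (A : Subgroup G) [Fintype A]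
    (hA : ∀ a ∈ A, ∀ b ∈ A, a * b = b * a) :
    (Nat.card A : ℝ) * (χ 1).re ≤ ∑ a : A, Complex.normSq (χ a) := by
  have hcomm : ∀ a b : A, a * b = b * a := by
    intro a b
    apply Subtype.ext
    exact hA a a.2 b b.2
  exact comm_sum_normSq_ge hcomm (isCharacter_restrict A hχ)

end Cfsg.Agent.Lib.Helper83

namespace Cfsg.Agent.Lib.Helper83

open scoped ComplexConjugate ComplexOrder MonoidAlgebra
open Cfsg

universe u v
variable {G : Type u} [Group G]

/-- Natural-number form of the sum of squares of the degrees. -/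
theorem sum_charDegree_sq [Fintype G] [Fintype (IrrCharacter G)] :
    ∑ χ : IrrCharacter G, (charDegree (χ : G → ℂ)) ^ 2 = Nat.card G := by
  have h := sum_irr_degree_sq (G := G)
  have : ((∑ χ : IrrCharacter G, (charDegree (χ : G → ℂ)) ^ 2 : ℕ) : ℂ) = (Nat.card G : ℂ) := by
    push_cast
    rw [← h]
    apply Finset.sum_congr rfl
    intro χ _
    rw [charDegree_cast (IrrCharacter_isCharacter χ)]
  exact_mod_cast this

/-- An irreducible character which is constant equal to its degree is the trivial character. -/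
theorem eq_trivChar_of_forall_eq [Finite G] (χ : IrrCharacter G)
    (h : ∀ g : G, (χ : G → ℂ) g = (χ : G → ℂ) 1) : χ = trivChar G := by
  haveI := Fintype.ofFinite G
  by_contra hne
  have h1 := irr_inner_ne hne
  rw [classInner_def] at h1
  simp only [trivChar_apply, map_one, mul_one, h, Finset.sum_const, Finset.card_univ,
    nsmul_eq_mul] at h1
  have hd := irr_degree_ne_zero χ
  have hG : (Fintype.card G : ℂ) ≠ 0 := by simp
  have hG' := card_ne_zero_complex (G := G)
  rcases mul_eq_zero.1 h1 with h2 | h2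
  · exact hG' (inv_eq_zero.1 h2)
  · rcases mul_eq_zero.1 h2 with h3 | h3
    · exact hG h3
    · exact hd h3

theorem charDegree_trivChar [Finite G] : charDegree (trivChar G : G → ℂ) = 1 := by
  simp [charDegree, trivChar_apply]

theorem charDegree_re [Finite G] {χ : G → ℂ} (hχ : IsCharacter G χ) :
    (χ 1).re = (charDegree χ : ℝ) := by
  rw [← charDegree_cast hχ]; simp

open Classical in
theorem sum_subgroup_eq_sum_ite' {M : Type*} [AddCommMonoid M] [Fintype G] (N : Subgroup G)
    [Fintype N] (F : G → M) :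
    ∑ n : N, F (n : G) = ∑ x : G, if x ∈ N then F x else 0 := by
  rw [← Finset.sum_filter]
  exact (Finset.sum_subtype (Finset.univ.filter (fun x => x ∈ N)) (by simp) F).symm

/-- If the sum of `|χ|²` over a subgroup already exhausts `|G|`, then `χ` vanishes off it. -/
theorem irr_vanish_off_of_sum_ge [Fintype G] (χ : IrrCharacter G) (Q : Subgroup G) [Fintype Q]
    (h : (Nat.card G : ℝ) ≤ ∑ a : Q, Complex.normSq ((χ : G → ℂ) a)) (g : G) (hg : g ∉ Q) :
    (χ : G → ℂ) g = 0 := by
  classical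
  have htot := irr_sum_normSq χ
  rw [sum_subgroup_eq_sum_ite' Q (fun x => Complex.normSq ((χ : G → ℂ) x))] at h
  have hsplit : ∑ x : G, Complex.normSq ((χ : G → ℂ) x)
      = (∑ x : G, if x ∈ Q then Complex.normSq ((χ : G → ℂ) x) else 0)
        + ∑ x : G, if x ∈ Q then 0 else Complex.normSq ((χ : G → ℂ) x) := by
    rw [← Finset.sum_add_distrib]
    apply Finset.sum_congr rfl
    intro x _
    split_ifs <;> simp
  have hnonneg : ∀ x ∈ (Finset.univ : Finset G),
      0 ≤ (if x ∈ Q then 0 else Complex.normSq ((χ : G → ℂ) x)) := by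
    intro x _
    split_ifs
    · exact le_refl _
    · exact Complex.normSq_nonneg _
  have hzero : ∑ x : G, (if x ∈ Q then 0 else Complex.normSq ((χ : G → ℂ) x)) = 0 := by
    have h1 := Finset.sum_nonneg hnonneg
    linarith
  have := (Finset.sum_eq_zero_iff_of_nonneg hnonneg).1 hzero g (Finset.mem_univ _)
  rw [if_neg hg] at this
  exact Complex.normSq_eq_zero.1 this

end Cfsg.Agent.Lib.Helper83
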