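import Mathlib
import Cfsg.Agent.Lib.Helper83.Abelian

/-!
# Central elements, characters trivial on the commutator subgroup, counting linear characters
(helper83)
-/

set_option autoImplicit false

namespace Cfsg.Agent.Lib.Helper83

open scoped ComplexConjugate ComplexOrder MonoidAlgebra
open Cfsg

universe u v
variable {G : Type u} [Group G]

/-- `χ (g z) = χ g · χ z / χ 1` for `z` central and `χ` irreducible. -/
theorem irr_mul_central [Finite G] (χ : IrrCharacter G) {z : G} (hz : z ∈ Subgroup.center G)
    (g : G) : (χ : G → ℂ) (g * z) = (χ : G → ℂ) g * (χ : G → ℂ) z / (χ : G → ℂ) 1 := by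
  classical
  haveI := Fintype.ofFinite G
  set c : G → ℂ := fun x => if x = z then 1 else 0 with hc
  have hcc : IsClassFunction G c := by
    intro x y
    simp only [hc]
    have hiff : y * x * y⁻¹ = z ↔ x = z := by
      have hzy : y * z = z * y := (Subgroup.mem_center_iff.1 hz y)
      constructor
      · intro h
        have : x = y⁻¹ * z * y := by rw [← h]; group
        rw [this, mul_assoc, ← hzy, ← mul_assoc, inv_mul_cancel, one_mul]
      · intro h
        rw [h, hzy, mul_assoc, mul_inv_cancel, mul_one]
    rw [if_congr hiff rfl rfl]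
  have h := irr_sum_classFunction_mul χ hcc g
  simp only [hc, ite_mul, one_mul, zero_mul, Finset.sum_ite_eq', Finset.mem_univ, if_true] at h
  exact h

/-- `χ z · conj (χ z) = χ(1)²` for `z` central. -/
theorem irr_central_mul_conj [Finite G] (χ : IrrCharacter G) {z : G}
    (hz : z ∈ Subgroup.center G) :
    (χ : G → ℂ) z * conj ((χ : G → ℂ) z) = (χ : G → ℂ) 1 * (χ : G → ℂ) 1 := by
  have h := irr_mul_central χ hz z⁻¹
  rw [inv_mul_cancel, char_inv (IrrCharacter_isCharacter χ)] at h
  have hd := irr_degree_ne_zero χ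
  field_simp at h
  linear_combination -h

/-- `|χ z|² = χ(1)²` for `z` central. -/
theorem irr_central_normSq [Finite G] (χ : IrrCharacter G) {z : G}
    (hz : z ∈ Subgroup.center G) :
    Complex.normSq ((χ : G → ℂ) z) = ((charDegree (χ : G → ℂ) : ℝ)) ^ 2 := by
  have h := irr_central_mul_conj χ hz
  rw [Complex.mul_conj, ← charDegree_cast (IrrCharacter_isCharacter χ)] at h
  have h2 : ((Complex.normSq ((χ : G → ℂ) z) : ℝ) : ℂ)
      = (((charDegree (χ : G → ℂ) : ℝ) ^ 2 : ℝ) : ℂ) := by
    rw [h]; push_cast; ring
  exact_mod_cast h2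

/-- If `x⁻¹ g x = g z` with `z` central and `χ z ≠ χ 1`, then `χ g = 0`. -/
theorem irr_eq_zero_of_conj_eq_mul_central [Finite G] (χ : IrrCharacter G) {g x z : G}
    (hz : z ∈ Subgroup.center G) (hx : x⁻¹ * g * x = g * z)
    (hne : (χ : G → ℂ) z ≠ (χ : G → ℂ) 1) : (χ : G → ℂ) g = 0 := by
  have h1 : (χ : G → ℂ) (x⁻¹ * g * x) = (χ : G → ℂ) g := by
    have := isClassFunction_irr χ g x⁻¹
    rwa [inv_inv] at this
  rw [hx, irr_mul_central χ hz g] at h1
  have hd := irr_degree_ne_zero χ
  field_simp at h1
  have h2 : (χ : G → ℂ) g * ((χ : G → ℂ) z - (χ : G → ℂ) 1) = 0 := by linear_combination h1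
  rcases mul_eq_zero.1 h2 with h | h
  · exact h
  · exact absurd (sub_eq_zero.1 h) hne

/-- An irreducible character with the commutator subgroup in its kernel is linear. -/
theorem irr_linear_of_commutator_le [Finite G] (χ : IrrCharacter G)
    (h : ∀ x ∈ commutator G, (χ : G → ℂ) x = (χ : G → ℂ) 1) : (χ : G → ℂ) 1 = 1 := by
  obtain ⟨ψ, hψ, hψχ⟩ := exists_isIrrCharacter_quotient (commutator G) χ.2 h
  have hcomm : ∀ a b : G ⧸ commutator G, a * b = b * a := by
    intro a b
    exact @mul_comm (Abelianization G) _ a b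
  have h1 := irr_degree_one_of_comm hcomm ⟨ψ, hψ⟩
  have h2 := hψχ 1
  rw [← h2]
  exact h1

/-- Linear characters are exactly the irreducible characters trivial on the commutator
subgroup. -/
theorem irr_linear_iff_commutator_le [Finite G] (χ : IrrCharacter G) :
    (χ : G → ℂ) 1 = 1 ↔ ∀ x ∈ commutator G, (χ : G → ℂ) x = (χ : G → ℂ) 1 := by
  constructor
  · intro h x hx
    rw [h]
    exact char_deg_one_commutator (IrrCharacter_isCharacter χ) h hx
  · exact irr_linear_of_commutator_le χ

/-- The number of irreducible characters of a finite commutative group is its order. -/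
theorem card_irr_of_comm [Finite G] (hcomm : ∀ a b : G, a * b = b * a) :
    Nat.card (IrrCharacter G) = Nat.card G := by
  classical
  haveI := Fintype.ofFinite G
  haveI : Fintype (IrrCharacter G) := Fintype.ofFinite _
  have h := sum_charDegree_sq (G := G)
  have h1 : ∀ χ : IrrCharacter G, charDegree (χ : G → ℂ) = 1 := by
    intro χ
    have h2 := charDegree_cast (IrrCharacter_isCharacter χ)
    rw [irr_degree_one_of_comm hcomm χ] at h2
    exact_mod_cast h2
  simp only [h1, one_pow, Finset.sum_const, Finset.card_univ, smul_eq_mul, mul_one] at h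
  rw [Nat.card_eq_fintype_card, h]

/-- The number of linear characters is the index of the commutator subgroup. -/
theorem card_linear_eq_index_commutator [Finite G] :
    Nat.card {χ : IrrCharacter G // (χ : G → ℂ) 1 = 1} = (commutator G).index := by
  have hcomm : ∀ a b : G ⧸ commutator G, a * b = b * a := by
    intro a b
    exact @mul_comm (Abelianization G) _ a b
  have e1 : {χ : IrrCharacter G // (χ : G → ℂ) 1 = 1} ≃
      {χ : IrrCharacter G // ∀ n ∈ commutator G, (χ : G → ℂ) n = (χ : G → ℂ) 1} :=
    Equiv.subtypeEquivRight (fun χ => irr_linear_iff_commutator_le χ)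
  rw [Nat.card_congr e1, ← Nat.card_congr (irrQuotientEquiv (commutator G)),
    card_irr_of_comm hcomm]
  rfl

end Cfsg.Agent.Lib.Helper83
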