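import Mathlib
import Cfsg.Agent.Lib.Helper83.LinearCount

/-!
# Miscellaneous character lemmas (helper83)

product with a linear character, existence of nonlinear / nontrivial linear characters,
characters separate elements.
-/

set_option autoImplicit false

namespace Cfsg.Agent.Lib.Helper83

open scoped ComplexConjugate ComplexOrder MonoidAlgebra commutatorElement
open Cfsg

universe u v
variable {G : Type u} [Group G]

/-- The product of a linear character and an irreducible character is irreducible. -/
theorem isIrrCharacter_mul_linear [Finite G] {lam χ : G → ℂ} (hlam : IsCharacter G lam)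
    (h1 : lam 1 = 1) (hχ : IsIrrCharacter G χ) : IsIrrCharacter G (lam * χ) := by
  classical
  haveI := Fintype.ofFinite G
  have hc : IsCharacter G (lam * χ) := isCharacter_mul hlam (isCharacter_of_irr hχ)
  apply isIrrCharacter_of_norm_one hc
  have h := irr_inner_self (⟨χ, hχ⟩ : IrrCharacter G)
  rw [classInner_def] at h ⊢
  rw [← h]
  congr 1
  apply Finset.sum_congr rfl
  intro g _
  simp only [Pi.mul_apply, map_mul]
  have := char_deg_one_conj_mul hlam h1 g
  calc lam g * χ g * (conj (lam g) * conj (χ g))
      = (lam g * conj (lam g)) * (χ g * conj (χ g)) := by ring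
    _ = χ g * conj (χ g) := by rw [this, one_mul]

/-- A noncommutative finite group has a nonlinear irreducible character. -/
theorem exists_nonlinear_of_not_comm [Finite G] (h : ¬ ∀ a b : G, a * b = b * a) :
    ∃ χ : IrrCharacter G, (χ : G → ℂ) 1 ≠ 1 := by
  classical
  by_contra hcon
  push_neg at hcon
  apply h
  have h1 := card_linear_eq_index_commutator (G := G)
  have e : {χ : IrrCharacter G // (χ : G → ℂ) 1 = 1} ≃ IrrCharacter G :=
    Equiv.subtypeUnivEquiv hcon
  rw [Nat.card_congr e] at h1
  haveI := Fintype.ofFinite G
  haveI : Fintype (IrrCharacter G) := Fintype.ofFinite _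
  have h2 := sum_charDegree_sq (G := G)
  have h3 : ∀ χ : IrrCharacter G, charDegree (χ : G → ℂ) = 1 := by
    intro χ
    have := charDegree_cast (IrrCharacter_isCharacter χ)
    rw [hcon χ] at this
    exact_mod_cast this
  simp only [h3, one_pow, Finset.sum_const, Finset.card_univ, smul_eq_mul, mul_one] at h2
  rw [Nat.card_eq_fintype_card, h2] at h1
  have h4 := Subgroup.card_mul_index (commutator G)
  rw [← h1] at h4
  have hpos : 0 < Nat.card G := Nat.card_pos
  have h5 : Nat.card (commutator G) = 1 := by
    have : Nat.card (commutator G) * Nat.card G = 1 * Nat.card G := by rw [h4, one_mul]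
    exact Nat.eq_of_mul_eq_mul_right hpos this
  have hbot : commutator G = ⊥ := Subgroup.card_eq_one.1 h5
  intro a b
  have hab : ⁅a, b⁆ ∈ commutator G := by
    rw [commutator_def]
    exact Subgroup.commutator_mem_commutator (Subgroup.mem_top _) (Subgroup.mem_top _)
  rw [hbot, Subgroup.mem_bot] at hab
  exact commutatorElement_eq_one_iff_mul_comm.1 hab

/-- If the commutator subgroup is proper there is a nontrivial linear character. -/
theorem exists_nontrivial_linear [Finite G] (h : commutator G ≠ ⊤) :
    ∃ lam : IrrCharacter G, (lam : G → ℂ) 1 = 1 ∧ lam ≠ trivChar G := by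
  classical
  by_contra hcon
  push_neg at hcon
  have h1 := card_linear_eq_index_commutator (G := G)
  have hsub : Subsingleton {χ : IrrCharacter G // (χ : G → ℂ) 1 = 1} := by
    constructor
    intro a b
    apply Subtype.ext
    rw [hcon a.1 a.2, hcon b.1 b.2]
  have h2 : Nat.card {χ : IrrCharacter G // (χ : G → ℂ) 1 = 1} ≤ 1 :=
    Finite.card_le_one_iff_subsingleton.2 hsub
  rw [h1] at h2
  have h3 : (commutator G).index ≠ 0 := Subgroup.index_ne_zero_of_finite
  have h4 : (commutator G).index = 1 := by omega
  exact h (Subgroup.index_eq_one.1 h4)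

/-- Irreducible characters separate a nonidentity element from the identity. -/
theorem exists_irr_ne_of_ne_one [Finite G] {z : G} (hz : z ≠ 1) :
    ∃ ψ : IrrCharacter G, (ψ : G → ℂ) z ≠ (ψ : G → ℂ) 1 := by
  classical
  haveI := Fintype.ofFinite G
  haveI : Fintype (IrrCharacter G) := Fintype.ofFinite _
  by_contra hcon
  push_neg at hcon
  have horth := second_orthogonality (G := G) z 1
  have hnc : ¬ IsConj z 1 := fun h => hz (isConj_one_left.1 h)
  rw [if_neg hnc] at horth
  have h2 : ∑ χ : IrrCharacter G, (χ : G → ℂ) z * conj ((χ : G → ℂ) 1)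
      = ∑ χ : IrrCharacter G, ((χ : G → ℂ) 1) ^ 2 := by
    apply Finset.sum_congr rfl
    intro χ _
    rw [hcon χ, ← charDegree_cast (IrrCharacter_isCharacter χ), Complex.conj_natCast, pow_two]
  rw [h2, sum_irr_degree_sq] at horth
  exact card_ne_zero_complex horth

/-- Linear characters separate elements outside the commutator subgroup from the identity. -/
theorem exists_linear_ne_one_of_not_mem_commutator [Finite G] {g : G}
    (hg : g ∉ commutator G) :
    ∃ lam : IrrCharacter G, (lam : G → ℂ) 1 = 1 ∧ (lam : G → ℂ) g ≠ 1 := by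
  have hne : (QuotientGroup.mk g : G ⧸ commutator G) ≠ 1 := by
    intro h
    exact hg ((QuotientGroup.eq_one_iff g).1 h)
  obtain ⟨ψ, hψ⟩ := exists_irr_ne_of_ne_one hne
  have hcomm : ∀ a b : G ⧸ commutator G, a * b = b * a := by
    intro a b
    exact @mul_comm (Abelianization G) _ a b
  have hψ1 := irr_degree_one_of_comm hcomm ψ
  refine ⟨(irrInflate (commutator G) ψ).1, ?_, ?_⟩
  · rw [irrInflate_apply, QuotientGroup.mk_one]; exact hψ1
  · rw [irrInflate_apply]
    rw [hψ1] at hψ
    exact hψ

end Cfsg.Agent.Lib.Helper83
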