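import Mathlib

/-!
# K-GS (S4840, Gagola solvable case): shared definition

`Good p R` for a (normal) subgroup `R` of `Γ`:
* some normal subgroup `K` of `p`-power index has all its `p`-elements inside `C_Γ(R)`, and
* commutators of two elements of a Sylow `p`-subgroup centralize `R`.
-/

set_option autoImplicit false

namespace Cfsg.Agent.Lib.Helper83.GS

/-- `Good p R`: `Γ / C_Γ(R)` is `p`-nilpotent with commutative Sylow `p`-subgroups, in elementwise form. -/
def Good {Γ : Type*} [Group Γ] (p : ℕ) [Fact p.Prime] (R : Subgroup Γ) : Prop :=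
  (∃ K : Subgroup Γ, K.Normal ∧ (∃ a : ℕ, K.index = p ^ a) ∧
      ∀ x ∈ K, (∃ k : ℕ, x ^ (p ^ k) = 1) → x ∈ Subgroup.centralizer (R : Set Γ)) ∧
  (∀ P : Sylow p Γ, ∀ x ∈ (P : Subgroup Γ), ∀ y ∈ (P : Subgroup Γ),
      x * y * x⁻¹ * y⁻¹ ∈ Subgroup.centralizer (R : Set Γ))

end Cfsg.Agent.Lib.Helper83.GS
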