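import Mathlib
import Cfsg.Prelude.Def_Local
import Cfsg.Agent.Lib.Helper12.LBDefs
import Cfsg.Agent.Lib.Helper29.LBalance

/-!
# K-S1301-LB-FRAT: the Frattini step of the `L_{2'}`-balance induction
-/

set_option autoImplicit false
set_option linter.style.haveILetI false
universe u

namespace Cfsg.Agent.Lib.Helper83.LB

open Cfsg Cfsg.Agent.Lib.Helper12.LB
open scoped commutatorElement

variable {G : Type u} [Group G] [Finite G]

omit [Finite G] in
/-- elements of `R ⊔ D` are products when `R` normalizes `D` -/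
theorem frat_exists_mul {R D : Subgroup G} (hn : R ≤ Subgroup.normalizer (D : Set G)) {x : G}
    (hx : x ∈ R ⊔ D) : ∃ r ∈ R, ∃ d ∈ D, x = r * d := by
  have h := Subgroup.coe_mul_of_left_le_normalizer_right R D hn
  have hx' : x ∈ ((R ⊔ D : Subgroup G) : Set G) := hx
  rw [h] at hx'
  obtain ⟨r, hr, d, hd, rfl⟩ := Set.mem_mul.mp hx'
  exact ⟨r, hr, d, hd, rfl⟩

/-- a subgroup without odd quotients inside `M A`, `A` of odd order normalizing `M`, lies in `M` -/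
theorem frat_le_of_le_sup_odd (Q M A : Subgroup G)
    (hQ : Cfsg.Agent.Lib.Helper29.NoCoprimeIndexNormal 2 ↥Q)
    (hMA : A ≤ Subgroup.normalizer (M : Set G)) (hA : Odd (Nat.card A)) (h : Q ≤ M ⊔ A) :
    Q ≤ M := by
  have hnorm : (M.subgroupOf (M ⊔ A)).Normal :=
    Cfsg.Agent.Lib.Helper29.subgroupOf_sup_normal_of_le_normalizer M A hMA
  have hdvd : Nat.card ↥(M ⊔ A) ∣ Nat.card M * Nat.card A :=
    Cfsg.Agent.Lib.Helper29.card_sup_dvd_of_le_normalizer M A hMA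
  have h1 : Nat.card (M.subgroupOf (M ⊔ A)) * (M.subgroupOf (M ⊔ A)).index =
      Nat.card ↥(M ⊔ A) := Subgroup.card_mul_index _
  have h2 : Nat.card (M.subgroupOf (M ⊔ A)) = Nat.card M :=
    Nat.card_congr (Subgroup.subgroupOfEquivOfLe (le_sup_left : M ≤ M ⊔ A)).toEquiv
  have hidx : (M.subgroupOf (M ⊔ A)).index ∣ Nat.card A := by
    rw [← h1, h2] at hdvd
    exact Nat.dvd_of_mul_dvd_mul_left Nat.card_pos hdvd
  have hcop : ((M.subgroupOf (M ⊔ A)).index).Coprime 2 := by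
    have hodd : Odd (M.subgroupOf (M ⊔ A)).index := Odd.of_dvd_nat hA hidx
    exact Nat.coprime_two_right.mpr hodd
  have hQ' : Cfsg.Agent.Lib.Helper29.NoCoprimeIndexNormal 2 ↥(Q.subgroupOf (M ⊔ A)) :=
    Cfsg.Agent.Lib.Helper29.noCoprimeIndexNormal_of_mulEquiv 2 (Subgroup.subgroupOfEquivOfLe h) hQ
  have hle := Cfsg.Agent.Lib.Helper29.le_of_subnormal_index_coprime 2 (Q.subgroupOf (M ⊔ A)) hQ'
    (M.subgroupOf (M ⊔ A)) hnorm.isSubnormal hcop
  intro q hq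
  have hq' : (⟨q, h hq⟩ : ↥(M ⊔ A)) ∈ Q.subgroupOf (M ⊔ A) := Subgroup.mem_subgroupOf.mpr hq
  exact Subgroup.mem_subgroupOf.mp (hle hq')


/-- **K-S1301-LB-FRAT** (Frattini step). -/
theorem frattini_step (N Q : Subgroup G) (hQ : QC N Q) (S₁ : Sylow 2 ↥(layer G ⊓ N)) :
    Q ≤ layer G ∨ ∃ Q₃ : Subgroup G, ⁅Q₃, Q₃⁆ = Q₃ ∧
      Q₃ ≤ Subgroup.centralizer (((S₁ : Subgroup ↥(layer G ⊓ N)).map (layer G ⊓ N).subtype : Subgroup G) : Set G) ∧
      Q₃ ≤ Q ⊔ (OG N ⊓ layer G) ∧ Q ≤ Q₃ ⊔ (OG N ⊓ layer G) := by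
  classical
  haveI : Fact (Nat.Prime 2) := ⟨Nat.prime_two⟩
  haveI hEn : (layer G).Normal := Cfsg.Agent.Lib.Helper30.layer_normal
  obtain ⟨S, hS⟩ : ∃ S : Subgroup G,
      S = (S₁ : Subgroup ↥(layer G ⊓ N)).map (layer G ⊓ N).subtype := ⟨_, rfl⟩
  rw [← hS]
  have hSM : S ≤ layer G ⊓ N := hS ▸ Subgroup.map_subtype_le _
  have hS2 : IsPGroup 2 S := hS ▸ S₁.2.map _
  clear hS S₁
  set E : Subgroup G := layer G with hE
  set M : Subgroup G := E ⊓ N with hM
  set K : Subgroup ↥N := pPrimeCore 2 ↥N with hK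
  set D : Subgroup G := OG N ⊓ E with hD
  have hQN : Q ≤ N := hQ.comp.1
  have hcomp : IsComponent (img N Q) := hQ.comp.2
  have hON_le : OG N ≤ N := OG_le N
  have hKn : K.Normal := inferInstance
  have hON_conj : ∀ n ∈ N, ∀ x ∈ OG N, n * x * n⁻¹ ∈ OG N := by
    intro n hn x hx
    obtain ⟨hxN, hxK⟩ := mem_OG.mp hx
    refine mem_OG.mpr ⟨N.mul_mem (N.mul_mem hn hxN) (N.inv_mem hn), ?_⟩
    exact hKn.conj_mem ⟨x, hxN⟩ hxK ⟨n, hn⟩
  have hON_odd : Odd (Nat.card (OG N)) := by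
    have h1 : Nat.card (OG N) = Nat.card K :=
      Subgroup.card_map_of_injective N.subtype_injective
    rw [h1]
    exact Nat.coprime_two_right.mp (Cfsg.Agent.Lib.Helper29.pPrimeCore_coprime 2)
  have hMN_normal : (M.subgroupOf N).Normal := by
    have : M.subgroupOf N = E.subgroupOf N := Subgroup.inf_subgroupOf_right E N
    rw [this]; infer_instance
  have hMbar_normal : ((M.subgroupOf N).map (QuotientGroup.mk' K)).Normal :=
    hMN_normal.map _ (QuotientGroup.mk'_surjective K)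
  rcases Cfsg.Agent.Lib.Helper30.component_normal_dichotomy hcomp.1 hcomp.2 hMbar_normal with
    hle | hcomm
  · left
    have hQsup : Q ≤ E ⊔ OG N := by
      intro q hq
      have hqN := hQN hq
      have h1 : QuotientGroup.mk' K ⟨q, hqN⟩ ∈ img N Q :=
        Subgroup.mem_map_of_mem _ (Subgroup.mem_subgroupOf.mpr hq)
      obtain ⟨m, hm, hmq⟩ := hle h1
      have hmM : (m : G) ∈ M := Subgroup.mem_subgroupOf.mp hm
      rw [QuotientGroup.mk'_apply, QuotientGroup.mk'_apply, QuotientGroup.eq] at hmq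
      have h2 : ((m⁻¹ * ⟨q, hqN⟩ : ↥N) : G) ∈ OG N :=
        mem_OG.mpr ⟨(m⁻¹ * ⟨q, hqN⟩ : ↥N).2, hmq⟩
      have h3 : q = (m : G) * ((m⁻¹ * ⟨q, hqN⟩ : ↥N) : G) := by
        simp
      rw [h3]
      exact Subgroup.mul_mem_sup hmM.1 h2
    exact frat_le_of_le_sup_odd Q E (OG N) hQ.nci Subgroup.le_normalizer_of_normal hON_odd hQsup
  · right
    set Mbar : Subgroup (↥N ⧸ K) := (M.subgroupOf N).map (QuotientGroup.mk' K) with hMbar
    set T : Subgroup G :=
      ((Subgroup.centralizer (Mbar : Set (↥N ⧸ K))).comap (QuotientGroup.mk' K)).map N.subtype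
      with hT
    have hTN : T ≤ N := Subgroup.map_subtype_le _
    have hQbar_le : img N Q ≤ Subgroup.centralizer (Mbar : Set (↥N ⧸ K)) :=
      Subgroup.commutator_eq_bot_iff_le_centralizer.mp hcomm
    have hQT : Q ≤ T := by
      intro q hq
      have hqN := hQN hq
      refine ⟨⟨q, hqN⟩, ?_, rfl⟩
      exact hQbar_le (Subgroup.mem_map_of_mem _ (Subgroup.mem_subgroupOf.mpr hq))
    have hONT : OG N ≤ T := by
      intro x hx
      obtain ⟨hxN, hxK⟩ := mem_OG.mp hx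
      refine ⟨⟨x, hxN⟩, ?_, rfl⟩
      show QuotientGroup.mk' K ⟨x, hxN⟩ ∈ Subgroup.centralizer _
      have : QuotientGroup.mk' K ⟨x, hxN⟩ = 1 := (QuotientGroup.eq_one_iff _).mpr hxK
      rw [this]; exact Subgroup.one_mem _
    have hT4 : ∀ x ∈ T, ∀ m ∈ M, x * m * x⁻¹ * m⁻¹ ∈ D := by
      rintro _ ⟨x, hx, rfl⟩ m hm
      have hmN : m ∈ N := hm.2
      have hmbar : QuotientGroup.mk' K ⟨m, hmN⟩ ∈ Mbar :=
        Subgroup.mem_map_of_mem _ (Subgroup.mem_subgroupOf.mpr hm)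
      have hx' : QuotientGroup.mk' K x ∈ Subgroup.centralizer (Mbar : Set (↥N ⧸ K)) := hx
      have hc := Subgroup.mem_centralizer_iff.mp hx' _ hmbar
      refine ⟨mem_OG.mpr ⟨?_, ?_⟩, ?_⟩
      · exact (x * ⟨m, hmN⟩ * x⁻¹ * ⟨m, hmN⟩⁻¹ : ↥N).2
      · have : QuotientGroup.mk' K (x * ⟨m, hmN⟩ * x⁻¹ * ⟨m, hmN⟩⁻¹) = 1 := by
          rw [map_mul, map_mul, map_mul, map_inv, map_inv, ← hc]; group
        exact (QuotientGroup.eq_one_iff _).mp this
      · exact E.mul_mem (hEn.conj_mem m hm.1 x) (E.inv_mem hm.1)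
    have hDN : D ≤ N := inf_le_left.trans hON_le
    have hD_conj : ∀ n ∈ N, ∀ d ∈ D, n * d * n⁻¹ ∈ D := fun n hn d hd =>
      ⟨hON_conj n hn d hd.1, hEn.conj_mem d hd.2 n⟩
    have hN_normD : N ≤ Subgroup.normalizer (D : Set G) := by
      intro n hn
      rw [Subgroup.mem_normalizer_iff]
      intro d
      constructor
      · exact hD_conj n hn d
      · intro h
        have := hD_conj n⁻¹ (N.inv_mem hn) _ h
        simpa [mul_assoc] using this
    have hD_odd : Odd (Nat.card D) :=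
      Odd.of_dvd_nat hON_odd (Subgroup.card_dvd_of_le inf_le_left)
    set X : Subgroup G := Q ⊔ D with hX
    have hXT : X ≤ T := sup_le hQT (inf_le_left.trans hONT)
    have hXN : X ≤ N := hXT.trans hTN
    have hSD : S ⊓ D = ⊥ := by
      apply Disjoint.eq_bot
      apply Subgroup.disjoint_of_coprime_natCard
      obtain ⟨k, hk⟩ := IsPGroup.iff_card.mp hS2
      rw [hk]
      exact Nat.Coprime.pow_left k (Nat.coprime_two_left.mpr hD_odd)
    have hS_normD : S ≤ Subgroup.normalizer (D : Set G) := (hSM.trans inf_le_right).trans hN_normD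
    -- the Frattini argument
    have hKC : ∀ x ∈ X, ∃ d ∈ D, d * x ∈ Subgroup.centralizer (S : Set G) := by
      intro x hx
      set Y : Subgroup G := S ⊔ D with hY
      have hconj : ∀ s ∈ S, x * s * x⁻¹ ∈ Y := by
        intro s hs
        have h1 := hT4 x (hXT hx) s (hSM hs)
        have : x * s * x⁻¹ = s * (s⁻¹ * (x * s * x⁻¹ * s⁻¹) * s⁻¹⁻¹) := by group
        rw [this]
        exact Subgroup.mul_mem_sup hs
          (hD_conj _ (N.inv_mem (inf_le_right (a := E) (hSM hs))) _ h1)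
      have hSY : S ≤ Y := le_sup_left
      have hSY2 : IsPGroup 2 (S.subgroupOf Y) := hS2.comap_of_injective Y.subtype Y.subtype_injective
      have hidx : (S.subgroupOf Y).index ∣ Nat.card D := by
        have hdvd : Nat.card ↥(D ⊔ S) ∣ Nat.card D * Nat.card S :=
          Cfsg.Agent.Lib.Helper29.card_sup_dvd_of_le_normalizer D S hS_normD
        rw [sup_comm] at hdvd
        have h1 : Nat.card (S.subgroupOf Y) * (S.subgroupOf Y).index = Nat.card ↥Y :=
          Subgroup.card_mul_index _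
        have h2 : Nat.card (S.subgroupOf Y) = Nat.card S :=
          Nat.card_congr (Subgroup.subgroupOfEquivOfLe hSY).toEquiv
        rw [← h1, h2, mul_comm (Nat.card D)] at hdvd
        exact Nat.dvd_of_mul_dvd_mul_left Nat.card_pos hdvd
      have hnd : ¬ 2 ∣ (S.subgroupOf Y).index := by
        intro h2
        have : Odd (S.subgroupOf Y).index := Odd.of_dvd_nat hD_odd hidx
        exact (Nat.not_even_iff_odd.mpr this) (even_iff_two_dvd.mpr h2)
      let PY : Sylow 2 ↥Y := hSY2.toSylow hnd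
      have hR2 : IsPGroup 2 ((S.map (MulAut.conj x).toMonoidHom).subgroupOf Y) :=
        (hS2.map _).comap_of_injective Y.subtype Y.subtype_injective
      obtain ⟨P', hRP'⟩ := hR2.exists_le_sylow
      obtain ⟨y, hy⟩ := MulAction.exists_smul_eq ↥Y P' PY
      obtain ⟨s₀, hs₀, d₀, hd₀, hyeq⟩ := frat_exists_mul hS_normD y.2
      have hw : ∀ s ∈ S, d₀ * x * s * (d₀ * x)⁻¹ ∈ S := by
        intro s hs
        have hr : (⟨x * s * x⁻¹, hconj s hs⟩ : ↥Y) ∈ (P' : Subgroup ↥Y) := by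
          apply hRP'
          rw [Subgroup.mem_subgroupOf]
          exact ⟨s, hs, by simp [MulAut.conj_apply]⟩
        have h1 : y * ⟨x * s * x⁻¹, hconj s hs⟩ * y⁻¹ ∈ ((y • P' : Sylow 2 ↥Y) : Subgroup ↥Y) := by
          rw [Sylow.smul_def, Sylow.pointwise_smul_def]
          have := Subgroup.smul_mem_pointwise_smul _ (MulAut.conj y) _ hr
          simpa [MulAut.smul_def, MulAut.conj_apply] using this
        rw [hy] at h1
        have h2 : ((y * ⟨x * s * x⁻¹, hconj s hs⟩ * y⁻¹ : ↥Y) : G) ∈ S := by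
          have := (IsPGroup.mem_toSylow hSY2 hnd).mp h1
          exact Subgroup.mem_subgroupOf.mp this
        have h3 : ((y * ⟨x * s * x⁻¹, hconj s hs⟩ * y⁻¹ : ↥Y) : G) =
            s₀ * (d₀ * x * s * (d₀ * x)⁻¹) * s₀⁻¹ := by
          simp only [Subgroup.coe_mul, Subgroup.coe_inv, hyeq]
          group
        rw [h3] at h2
        have h4 := S.mul_mem (S.mul_mem (S.inv_mem hs₀) h2) hs₀
        have h5 : s₀⁻¹ * (s₀ * (d₀ * x * s * (d₀ * x)⁻¹) * s₀⁻¹) * s₀ = d₀ * x * s * (d₀ * x)⁻¹ := by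
          group
        rwa [h5] at h4
      refine ⟨d₀, hd₀, ?_⟩
      rw [Subgroup.mem_centralizer_iff]
      intro s hs
      have hwX : d₀ * x ∈ X := X.mul_mem (le_sup_right (a := Q) hd₀) hx
      have h1 : d₀ * x * s * (d₀ * x)⁻¹ * s⁻¹ ∈ D := hT4 _ (hXT hwX) s (hSM hs)
      have h2 : d₀ * x * s * (d₀ * x)⁻¹ * s⁻¹ ∈ S := S.mul_mem (hw s hs) (S.inv_mem hs)
      have h3 : d₀ * x * s * (d₀ * x)⁻¹ * s⁻¹ ∈ S ⊓ D := ⟨h2, h1⟩
      rw [hSD, Subgroup.mem_bot] at h3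
      have h4 : d₀ * x * s = (d₀ * x * s * (d₀ * x)⁻¹ * s⁻¹) * (s * (d₀ * x)) := by group
      rw [h4, h3, one_mul]
    -- commutators modulo `D`
    have hcomm_le : ∀ R : Subgroup G, R ≤ N → ⁅R ⊔ D, R ⊔ D⁆ ≤ ⁅R, R⁆ ⊔ D := by
      intro R hRN
      have hRn : R ≤ Subgroup.normalizer (D : Set G) := hRN.trans hN_normD
      rw [Subgroup.commutator_le]
      intro a ha b hb
      obtain ⟨r₁, hr₁, d₁, hd₁, rfl⟩ := frat_exists_mul hRn ha
      obtain ⟨r₂, hr₂, d₂, hd₂, rfl⟩ := frat_exists_mul hRn hb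
      have hid : ⁅r₁ * d₁, r₂ * d₂⁆ = ⁅r₁, r₂⁆ *
          (r₂ * (r₁ * ((r₂⁻¹ * d₁ * r₂⁻¹⁻¹) * d₂ * d₁⁻¹) * r₁⁻¹ * d₂⁻¹) * r₂⁻¹) := by
        simp only [commutatorElement_def]; group
      rw [hid]
      refine Subgroup.mul_mem_sup (Subgroup.commutator_mem_commutator hr₁ hr₂) ?_
      have h1 : r₂⁻¹ * d₁ * r₂⁻¹⁻¹ ∈ D := hD_conj _ (N.inv_mem (hRN hr₂)) _ hd₁
      have h2 : r₁ * ((r₂⁻¹ * d₁ * r₂⁻¹⁻¹) * d₂ * d₁⁻¹) * r₁⁻¹ ∈ D :=
        hD_conj _ (hRN hr₁) _ (D.mul_mem (D.mul_mem h1 hd₂) (D.inv_mem hd₁))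
      exact hD_conj _ (hRN hr₂) _ (D.mul_mem h2 (D.inv_mem hd₂))
    have hstep : ∀ R : Subgroup G, R ≤ X ⊓ Subgroup.centralizer (S : Set G) → Q ≤ R ⊔ D →
        Q ≤ ⁅R, R⁆ ⊔ D := by
      intro R hR1 hR2
      calc Q = ⁅Q, Q⁆ := hQ.perf.symm
        _ ≤ ⁅R ⊔ D, R ⊔ D⁆ := Subgroup.commutator_mono hR2 hR2
        _ ≤ ⁅R, R⁆ ⊔ D := hcomm_le R ((hR1.trans inf_le_left).trans hXN)
    have hmain : ∀ n : ℕ, ∀ R : Subgroup G, Nat.card R = n →
        R ≤ X ⊓ Subgroup.centralizer (S : Set G) → Q ≤ R ⊔ D →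
        ∃ Q₃ : Subgroup G, ⁅Q₃, Q₃⁆ = Q₃ ∧ Q₃ ≤ Subgroup.centralizer (S : Set G) ∧
          Q₃ ≤ X ∧ Q ≤ Q₃ ⊔ D := by
      intro n
      induction n using Nat.strong_induction_on with
      | _ n ih =>
        intro R hcard hR1 hR2
        by_cases hperf : ⁅R, R⁆ = R
        · exact ⟨R, hperf, hR1.trans inf_le_right, hR1.trans inf_le_left, hR2⟩
        · have hle : ⁅R, R⁆ ≤ R := Subgroup.commutator_le_self R
          have hcardlt : Nat.card ↥⁅R, R⁆ < n := by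
            by_contra hge
            rw [not_lt, ← hcard] at hge
            exact hperf (Subgroup.eq_of_le_of_card_ge hle hge)
          exact ih _ hcardlt ⁅R, R⁆ rfl (hle.trans hR1) (hstep R hR1 hR2)
    have hK1 : Q ≤ (X ⊓ Subgroup.centralizer (S : Set G)) ⊔ D := by
      intro q hq
      have hqX : q ∈ X := le_sup_left (b := D) hq
      obtain ⟨d, hd, hdq⟩ := hKC q hqX
      have h1 : d * q ∈ X ⊓ Subgroup.centralizer (S : Set G) :=
        ⟨X.mul_mem (le_sup_right (a := Q) hd) hqX, hdq⟩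
      have h2 : q = (d * q) * ((d * q)⁻¹ * d⁻¹ * (d * q)) := by group
      rw [h2]
      refine Subgroup.mul_mem_sup h1 ?_
      have := hD_conj _ (N.inv_mem (hXN h1.1)) _ (D.inv_mem hd)
      simpa using this
    obtain ⟨Q₃, h1, h2, h3, h4⟩ := hmain _ _ rfl le_rfl hK1
    exact ⟨Q₃, h1, h2, h3, h4⟩

end Cfsg.Agent.Lib.Helper83.LB
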