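import Mathlib

set_option autoImplicit false

namespace Cfsg.Agent.Lib.Helper83.Frob

open Module

variable {k : Type*} [Field k] {V : Type*} [AddCommGroup V] [Module k V]
variable {H : Type*} [Group H]

/-- `V'` is "free" for the representation `τ` of `H`: it is spanned by the translates of a
subspace `W` with `|H| * dim W ≤ dim V'`. -/
def HFreeOn (τ : Representation k H V) (V' : Submodule k V) : Prop :=
  ∃ W : Submodule k V, W ≤ V' ∧ (⨆ h : H, W.map (τ h)) = V' ∧
    Nat.card H * finrank k W ≤ finrank k V'

theorem tau_inj (τ : Representation k H V) (h : H) : Function.Injective (τ h) := by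
  intro x y hxy
  have := congrArg (τ h⁻¹) hxy
  simpa [← Module.End.mul_apply, ← map_mul] using this

theorem finrank_map_tau [FiniteDimensional k V] (τ : Representation k H V) (h : H)
    (W : Submodule k V) : finrank k (W.map (τ h)) = finrank k W :=
  (Submodule.equivMapOfInjective (τ h) (tau_inj τ h) W).finrank_eq.symm

theorem map_map_tau (τ : Representation k H V) (g h : H) (W : Submodule k V) :
    (W.map (τ h)).map (τ g) = W.map (τ (g * h)) := by
  rw [← Submodule.map_comp, map_mul]
  rfl

/-- From a spanning family with the right dimension count to an internal direct sum. -/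
theorem HFreeOn.isInternal [FiniteDimensional k V] [Finite H] [DecidableEq H] {τ : Representation k H V}
    (hf : HFreeOn τ ⊤) :
    ∃ W : Submodule k V, DirectSum.IsInternal (fun h : H => W.map (τ h)) := by
  obtain ⟨W, -, hsup, hdim⟩ := hf
  have := Fintype.ofFinite H
  refine ⟨W, ?_⟩
  rw [finrank_top] at hdim
  have hsurj : Function.Surjective (DirectSum.coeLinearMap (fun h : H => W.map (τ h))) := by
    rw [← LinearMap.range_eq_top, DirectSum.range_coeLinearMap, hsup]
  have hfr : finrank k (DirectSum H fun h => ↥(W.map (τ h))) = Nat.card H * finrank k W := by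
    rw [Module.finrank_directSum]
    simp only [finrank_map_tau]
    rw [Finset.sum_const, Finset.card_univ, Nat.card_eq_fintype_card, smul_eq_mul]
  have hle : finrank k V ≤ finrank k (DirectSum H fun h => ↥(W.map (τ h))) :=
    LinearMap.finrank_le_finrank_of_surjective hsurj
  have heq : finrank k (DirectSum H fun h => ↥(W.map (τ h))) = finrank k V := by
    omega
  have hinj : Function.Injective (DirectSum.coeLinearMap (fun h : H => W.map (τ h))) :=
    (LinearMap.injective_iff_surjective_of_finrank_eq_finrank heq).2 hsurj
  exact ⟨hinj, hsurj⟩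

theorem finrank_iSup_le_sum {ι : Type*} [Fintype ι] [FiniteDimensional k V]
    (A : ι → Submodule k V) : finrank k ↥(⨆ i, A i) ≤ ∑ i, finrank k (A i) := by
  classical
  rw [← DirectSum.range_coeLinearMap, ← Module.finrank_directSum]
  exact LinearMap.finrank_range_le _

/-- The orbit lemma: if `V` is the sum of subspaces `Vi i` permuted by `H`, with the right
dimension count, and each `Vi i` is free for the stabiliser of `i`, then `V` is free for `H`. -/
theorem orbit_lemma [FiniteDimensional k V] [Finite H] {I : Type*} [Fintype I] [MulAction H I]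
    (τ : Representation k H V) (Vi : I → Submodule k V) (htop : ⨆ i, Vi i = ⊤)
    (hdim : ∑ i, finrank k (Vi i) ≤ finrank k V)
    (hperm : ∀ h i, (Vi i).map (τ h) = Vi (h • i))
    (hloc : ∀ i, ∃ W : Submodule k V, W ≤ Vi i ∧
      (⨆ γ : MulAction.stabilizer H i, W.map (τ (γ : H))) = Vi i ∧
      Nat.card (MulAction.stabilizer H i) * finrank k W ≤ finrank k (Vi i)) :
    HFreeOn τ ⊤ := by
  classical
  have := Fintype.ofFinite H
  choose Wl hWle hWsup hWdim using hloc
  let Ω := MulAction.orbitRel.Quotient H I
  have := Fintype.ofFinite Ω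
  let W : Submodule k V := ⨆ ω : Ω, Wl ω.out
  refine ⟨W, le_top, ?_, ?_⟩
  · -- spanning
    rw [eq_top_iff, ← htop]
    refine iSup_le fun j => ?_
    -- `j` is in the orbit of its representative
    have hj : (Quotient.mk'' j : Ω).out ∈ MulAction.orbit H j := by
      have h1 : (Quotient.mk'' (Quotient.mk'' j : Ω).out : Ω) = Quotient.mk'' j :=
        Quotient.out_eq' _
      exact Quotient.exact' h1
    obtain ⟨g, hg⟩ := hj
    -- g • j = rep
    have hj' : j = g⁻¹ • (Quotient.mk'' j : Ω).out := by
      rw [← hg, inv_smul_smul]
    rw [hj', ← hperm, ← hWsup, Submodule.map_iSup]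
    refine iSup_le fun γ => ?_
    rw [map_map_tau]
    refine le_trans ?_ (le_iSup _ (g⁻¹ * (γ : H)))
    exact Submodule.map_mono (le_iSup (fun ω : Ω => Wl ω.out) (Quotient.mk'' j))
  · -- dimension count
    rw [finrank_top]
    have h1 : finrank k W ≤ ∑ ω : Ω, finrank k (Wl ω.out) := finrank_iSup_le_sum _
    have horb : ∀ j : I, finrank k (Vi j) = finrank k (Vi (Quotient.mk'' j : Ω).out) := by
      intro j
      have hj : (Quotient.mk'' j : Ω).out ∈ MulAction.orbit H j := by
        have h1 : (Quotient.mk'' (Quotient.mk'' j : Ω).out : Ω) = Quotient.mk'' j :=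
          Quotient.out_eq' _
        exact Quotient.exact' h1
      obtain ⟨g, hg⟩ := hj
      rw [← hg, ← hperm, finrank_map_tau]
    have hfib : ∀ ω : Ω, (Finset.univ.filter (fun j : I => (Quotient.mk'' j : Ω) = ω)).card *
        Nat.card (MulAction.stabilizer H ω.out) = Nat.card H := by
      intro ω
      have e1 : {j : I // (Quotient.mk'' j : Ω) = ω} ≃ MulAction.orbit H ω.out :=
        Equiv.subtypeEquivRight (fun j => by
          constructor
          · intro hjω
            have h1 : (Quotient.mk'' ω.out : Ω) = Quotient.mk'' j := by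
              rw [hjω]
              exact Quotient.out_eq' _
            have := Quotient.exact' h1
            exact MulAction.mem_orbit_symm.1 ((MulAction.orbitRel_apply).1 this)
          · intro hj
            have h1 : (Quotient.mk'' j : Ω) = Quotient.mk'' ω.out :=
              Quotient.sound' ((MulAction.orbitRel_apply).2 hj)
            rw [h1]
            exact Quotient.out_eq' _)
      have h2 : (Finset.univ.filter (fun j : I => (Quotient.mk'' j : Ω) = ω)).card =
          Nat.card (MulAction.orbit H ω.out) := by
        rw [← Nat.card_congr e1, Nat.card_eq_fintype_card, Fintype.card_subtype]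
      rw [h2, ← Nat.card_prod]
      exact Nat.card_congr (MulAction.orbitProdStabilizerEquivGroup H ω.out)
    calc Nat.card H * finrank k W ≤ Nat.card H * ∑ ω : Ω, finrank k (Wl ω.out) :=
          Nat.mul_le_mul_left _ h1
      _ = ∑ ω : Ω, Nat.card H * finrank k (Wl ω.out) := Finset.mul_sum _ _ _
      _ ≤ ∑ ω : Ω, (Finset.univ.filter (fun j : I => (Quotient.mk'' j : Ω) = ω)).card *
            finrank k (Vi ω.out) := by
          refine Finset.sum_le_sum fun ω _ => ?_
          rw [← hfib ω, mul_assoc]
          exact Nat.mul_le_mul_left _ (hWdim ω.out)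
      _ = ∑ ω : Ω, ∑ j ∈ Finset.univ.filter (fun j : I => (Quotient.mk'' j : Ω) = ω),
            finrank k (Vi j) := by
          refine Finset.sum_congr rfl fun ω _ => ?_
          rw [← smul_eq_mul, ← Finset.sum_const]
          refine Finset.sum_congr rfl fun j hj => ?_
          rw [horb j, (Finset.mem_filter.1 hj).2]
      _ = ∑ j : I, finrank k (Vi j) :=
          Finset.sum_fiberwise Finset.univ (fun j : I => (Quotient.mk'' j : Ω))
            (fun j => finrank k (Vi j))
      _ ≤ finrank k V := hdim

end Cfsg.Agent.Lib.Helper83.Frob
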