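import Mathlib

set_option autoImplicit false

namespace Cfsg.Agent.Lib.Helper83.Frob

open Module

/-- Galois descent with a normal basis: a group `Γ` acting faithfully on a field `K` and
semilinearly on a `K`-space `U`.  Then `U = ⨁_γ γ(θ) U^Γ` for a normal basis generator `θ`. -/
theorem galois_descent {K : Type*} [Field K] {Γ : Type*} [Group Γ] [Fintype Γ] [DecidableEq Γ]
    (φ : Γ →* RingAut K) (hφ : Function.Injective φ)
    {U : Type*} [AddCommGroup U] [Module K U]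
    (a : Γ → U →+ U) (ha1 : ∀ u, a 1 u = u) (hamul : ∀ γ δ u, a (γ * δ) u = a γ (a δ u))
    (hsl : ∀ γ (c : K) (u : U), a γ (c • u) = φ γ c • a γ u) :
    ∃ θ : K,
      (∀ u : U, ∃ f : Γ → U, (∀ γ δ, a δ (f γ) = f γ) ∧ u = ∑ γ, φ γ θ • f γ) ∧
      (∀ f : Γ → U, (∀ γ δ, a δ (f γ) = f γ) → ∑ γ, φ γ θ • f γ = 0 → ∀ γ, f γ = 0) := by
  let _ : MulSemiringAction Γ K := MulSemiringAction.compHom K φ
  have hsmul : ∀ (γ : Γ) (c : K), γ • c = φ γ c := fun γ c => rfl
  have : FaithfulSMul Γ K := ⟨fun {γ δ} h => hφ (RingEquiv.ext (fun c => by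
    have := h c
    rwa [hsmul, hsmul] at this))⟩
  let e : Γ ≃* (K ≃ₐ[FixedPoints.subfield Γ K] K) := FixedPoints.toAlgAutMulEquiv Γ K
  have he : ∀ γ c, e γ c = φ γ c := fun γ c => rfl
  let b := IsGalois.normalBasis (FixedPoints.subfield Γ K) K
  refine ⟨b 1, ?_⟩
  have hb : ∀ γ : Γ, b (e γ) = φ γ (b 1) := by
    intro γ
    rw [IsGalois.normalBasis_apply, he]
  -- the matrix
  let A : Matrix Γ Γ K := fun γ δ => φ (γ * δ) (b 1)
  have hAapp : ∀ γ δ, A γ δ = φ γ (φ δ (b 1)) := by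
    intro γ δ
    show φ (γ * δ) (b 1) = _
    rw [map_mul]
    rfl
  have hli : LinearIndependent K
      (fun γ : Γ => ((e γ : K ≃ₐ[FixedPoints.subfield Γ K] K) :
        K →ₐ[FixedPoints.subfield Γ K] K).toLinearMap) :=
    (linearIndependent_toLinearMap (FixedPoints.subfield Γ K) K K).comp
      (fun γ : Γ => ((e γ : K ≃ₐ[FixedPoints.subfield Γ K] K) :
        K →ₐ[FixedPoints.subfield Γ K] K))
      (fun γ δ h => e.injective (AlgEquiv.coe_toAlgHom_injective h))
  have hA : IsUnit A := by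
    rw [← Matrix.linearIndependent_rows_iff_isUnit, Fintype.linearIndependent_iff]
    intro c hc
    apply Fintype.linearIndependent_iff.1 hli c
    apply b.ext
    intro σ
    obtain ⟨δ, rfl⟩ := e.surjective σ
    have h1 := congrFun hc δ
    simp only [Finset.sum_apply, Pi.smul_apply, smul_eq_mul, Pi.zero_apply] at h1
    rw [LinearMap.zero_apply, LinearMap.sum_apply, ← h1]
    refine Finset.sum_congr rfl fun γ _ => ?_
    rw [LinearMap.smul_apply, smul_eq_mul]
    congr 1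
    show e γ (b (e δ)) = A γ δ
    rw [hb, he, hAapp]
  have hdet : IsUnit A.det := (Matrix.isUnit_iff_isUnit_det A).1 hA
  have hAB : A * A⁻¹ = 1 := Matrix.mul_nonsing_inv A hdet
  have hBA : A⁻¹ * A = 1 := Matrix.nonsing_inv_mul A hdet
  -- the inverse matrix is permuted by the action
  have hB : ∀ (τ : Γ) (δ γ : Γ), φ τ (A⁻¹ δ γ) = A⁻¹ δ (τ * γ) := by
    intro τ
    let B' : Matrix Γ Γ K := fun δ γ => (φ τ).symm (A⁻¹ δ (τ * γ))
    have h1 : B' * A = 1 := by
      ext δ ε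
      apply (φ τ).injective
      rw [Matrix.mul_apply, map_sum]
      have h2 : ∀ γ, φ τ (B' δ γ * A γ ε) = A⁻¹ δ (τ * γ) * A (τ * γ) ε := by
        intro γ
        rw [map_mul, RingEquiv.apply_symm_apply]
        congr 1
        show φ τ (φ (γ * ε) (b 1)) = φ (τ * γ * ε) (b 1)
        rw [mul_assoc, map_mul φ τ]
        rfl
      simp_rw [h2]
      rw [Fintype.sum_equiv (Equiv.mulLeft τ) (fun γ => A⁻¹ δ (τ * γ) * A (τ * γ) ε)
        (fun γ => A⁻¹ δ γ * A γ ε) (fun γ => rfl), ← Matrix.mul_apply, hBA]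
      rw [Matrix.one_apply]
      split_ifs <;> simp
    have h3 : B' = A⁻¹ := by
      calc B' = B' * (A * A⁻¹) := by rw [hAB, mul_one]
        _ = (B' * A) * A⁻¹ := by rw [mul_assoc]
        _ = A⁻¹ := by rw [h1, one_mul]
    intro δ γ
    have := congrFun (congrFun h3 δ) γ
    show φ τ (A⁻¹ δ γ) = A⁻¹ δ (τ * γ)
    rw [← this]
    exact RingEquiv.apply_symm_apply _ _
  have haa : ∀ (τ γ : Γ) (u : U), a τ (a γ u) = a (τ * γ) u := by
    intro τ γ u
    rw [hamul]
  constructor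
  · intro u
    refine ⟨fun δ => ∑ γ, A⁻¹ δ γ • a γ u, ?_, ?_⟩
    · intro δ τ
      show a τ (∑ γ, A⁻¹ δ γ • a γ u) = ∑ γ, A⁻¹ δ γ • a γ u
      rw [map_sum]
      simp_rw [hsl, hB, haa]
      exact Fintype.sum_equiv (Equiv.mulLeft τ) (fun γ => A⁻¹ δ (τ * γ) • a (τ * γ) u)
        (fun γ => A⁻¹ δ γ • a γ u) (fun γ => rfl)
    · show u = ∑ δ, φ δ (b 1) • ∑ γ, A⁻¹ δ γ • a γ u
      have h1 : ∀ δ, φ δ (b 1) = A 1 δ := by
        intro δ
        show _ = φ (1 * δ) (b 1)
        rw [one_mul]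
      simp_rw [h1, Finset.smul_sum, smul_smul]
      rw [Finset.sum_comm]
      simp_rw [← Finset.sum_smul, ← Matrix.mul_apply, hAB, Matrix.one_apply]
      simp [ha1]
  · intro f hf hsum γ
    have h1 : ∀ γ, ∑ δ, A γ δ • f δ = 0 := by
      intro γ
      have := congrArg (a γ) hsum
      rw [map_sum, map_zero] at this
      simp_rw [hsl, hf] at this
      rw [← this]
      refine Finset.sum_congr rfl fun δ _ => ?_
      rw [hAapp]
    have h2 : f γ = ∑ δ, (A⁻¹ * A) γ δ • f δ := by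
      rw [hBA]
      simp [Matrix.one_apply]
    rw [h2]
    simp_rw [Matrix.mul_apply, Finset.sum_smul]
    rw [Finset.sum_comm]
    simp_rw [← smul_smul, ← Finset.smul_sum, h1]
    simp

end Cfsg.Agent.Lib.Helper83.Frob
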