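import Mathlib
import Cfsg.Agent.Lib.Helper83.FrobA
import Cfsg.Agent.Lib.Helper83.FrobB

set_option autoImplicit false

namespace Cfsg.Agent.Lib.Helper83.Frob

open Module

section semisimple

variable {k : Type*} [Field k] {Rg : Type*} [CommRing Rg] [Algebra k Rg]
  {V : Type*} [AddCommGroup V] [Module k V] [Module Rg V] [IsScalarTower k Rg V]
  {H : Type*} [Group H]

/-- The part of `V` killed by the ideal `m`, as a `k`-subspace. -/
def killed (m : Ideal Rg) : Submodule k V where
  carrier := {v | ∀ r ∈ m, r • v = 0}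
  add_mem' := by
    intro x y hx hy r hr
    rw [smul_add, hx r hr, hy r hr, add_zero]
  zero_mem' := by
    intro r _
    exact smul_zero r
  smul_mem' := by
    intro c x hx r hr
    rw [smul_comm, hx r hr, smul_zero]

theorem mem_killed {m : Ideal Rg} {v : V} : v ∈ killed (k := k) m ↔ ∀ r ∈ m, r • v = 0 :=
  Iff.rfl

/-- The action of `H` on the maximal spectrum induced by `σ`. -/
@[reducible] def specAction (σ : H →* (Rg ≃ₐ[k] Rg)) : MulAction H (MaximalSpectrum Rg) where
  smul h m := ⟨Ideal.comap (σ h⁻¹ : Rg →+* Rg) m.asIdeal,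
    Ideal.comap_isMaximal_of_surjective (σ h⁻¹ : Rg →+* Rg) (σ h⁻¹).surjective (H := m.isMaximal)⟩
  one_smul m := by
    apply MaximalSpectrum.ext
    ext r
    show (σ 1⁻¹) r ∈ m.asIdeal ↔ r ∈ m.asIdeal
    rw [inv_one, map_one]
    rfl
  mul_smul g h m := by
    apply MaximalSpectrum.ext
    ext r
    show (σ (g * h)⁻¹) r ∈ m.asIdeal ↔ (σ h⁻¹) ((σ g⁻¹) r) ∈ m.asIdeal
    rw [mul_inv_rev, map_mul]
    rfl

theorem mem_specAction (σ : H →* (Rg ≃ₐ[k] Rg)) (h : H) (m : MaximalSpectrum Rg) (r : Rg) :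
    r ∈ ((specAction σ).toSMul.smul h m).asIdeal ↔ σ h⁻¹ r ∈ m.asIdeal := Iff.rfl

theorem sigma_inv_apply (σ : H →* (Rg ≃ₐ[k] Rg)) (h : H) (r : Rg) : σ h (σ h⁻¹ r) = r := by
  have : σ h * σ h⁻¹ = 1 := by rw [← map_mul, mul_inv_cancel, map_one]
  have h2 := congrArg (fun f : Rg ≃ₐ[k] Rg => f r) this
  exact h2

theorem sigma_inv_apply' (σ : H →* (Rg ≃ₐ[k] Rg)) (h : H) (r : Rg) : σ h⁻¹ (σ h r) = r := by
  have := sigma_inv_apply σ h⁻¹ r
  rwa [inv_inv] at this

/-- Scalar multiplication by `r` as a `k`-linear map. -/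
def lsm (r : Rg) : V →ₗ[k] V where
  toFun v := r • v
  map_add' := smul_add r
  map_smul' c v := smul_comm r c v

theorem lsm_apply (r : Rg) (v : V) : lsm (k := k) r v = r • v := rfl

set_option maxHeartbeats 800000 in
/-- Freeness of the `m`-primary part for the stabiliser of `m`. -/
theorem local_free [FiniteDimensional k V] [Finite H]
    (σ : H →* (Rg ≃ₐ[k] Rg)) (τ : Representation k H V)
    (hτ : ∀ h (r : Rg) (v : V), τ h (r • v) = σ h r • τ h v)
    (m : Ideal Rg) [hm : m.IsMaximal] (Γ : Subgroup H)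
    (hΓ : ∀ γ ∈ Γ, ∀ r, σ γ r ∈ m ↔ r ∈ m)
    (hfaith : ∀ γ ∈ Γ, γ ≠ 1 → ∃ r, σ γ r - r ∉ m) :
    ∃ W : Submodule k V, W ≤ killed (k := k) m ∧
      (⨆ γ : Γ, W.map (τ (γ : H))) = killed (k := k) m ∧
      Nat.card Γ * finrank k W ≤ finrank k (killed (k := k) (V := V) m) := by
  classical
  have := Fintype.ofFinite Γ
  let _ : Field (Rg ⧸ m) := Ideal.Quotient.field m
  -- the automorphisms of the residue field
  have hIJ : ∀ γ : Γ, m = m.map ((σ (γ : H)).toRingEquiv : Rg →+* Rg) := by
    intro γ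
    ext r
    rw [Ideal.map_comap_of_equiv, Ideal.mem_comap]
    have h1 : σ (γ : H) ((σ (γ : H)).toRingEquiv.symm r) = r := (σ (γ : H)).apply_symm_apply r
    rw [← hΓ γ γ.2 ((σ (γ : H)).toRingEquiv.symm r), h1]
  let φ : Γ →* RingAut (Rg ⧸ m) :=
    { toFun := fun γ => Ideal.quotientEquiv m m (σ (γ : H)).toRingEquiv (hIJ γ)
      map_one' := by
        apply RingEquiv.ext
        intro c
        obtain ⟨r, rfl⟩ := Ideal.Quotient.mk_surjective c
        rw [Ideal.quotientEquiv_mk]
        show Ideal.Quotient.mk m (σ ((1 : Γ) : H) r) = _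
        rw [Subgroup.coe_one, map_one]
        rfl
      map_mul' := by
        intro γ δ
        apply RingEquiv.ext
        intro c
        obtain ⟨r, rfl⟩ := Ideal.Quotient.mk_surjective c
        rw [Ideal.quotientEquiv_mk]
        show Ideal.Quotient.mk m (σ ((γ * δ : Γ) : H) r) = _
        rw [Subgroup.coe_mul, map_mul]
        rfl }
  have hφmk : ∀ (γ : Γ) (r : Rg), φ γ (Ideal.Quotient.mk m r) =
      Ideal.Quotient.mk m (σ (γ : H) r) := fun γ r => rfl
  have hφinj : Function.Injective φ := by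
    rw [injective_iff_map_eq_one]
    intro γ hγ
    by_contra hne
    have hne' : (γ : H) ≠ 1 := fun h => hne (Subtype.ext h)
    obtain ⟨r, hr⟩ := hfaith γ γ.2 hne'
    apply hr
    rw [← Ideal.Quotient.eq, ← hφmk, hγ]
    rfl
  -- the torsion submodule
  have hTmem : ∀ v : V, v ∈ Submodule.torsionBySet Rg V (m : Set Rg) ↔ v ∈ killed (k := k) m := by
    intro v
    rw [Submodule.mem_torsionBySet_iff, mem_killed]
    exact ⟨fun h r hr => h ⟨r, hr⟩, fun h a => h a.1 a.2⟩
  have hτmem : ∀ (γ : Γ) (v : V), v ∈ killed (k := k) m → τ (γ : H) v ∈ killed (k := k) m := by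
    intro γ v hv r hr
    have h1 : r = σ (γ : H) (σ (γ : H)⁻¹ r) := (sigma_inv_apply σ _ r).symm
    rw [h1, ← hτ, hv, map_zero]
    rw [← hΓ γ γ.2, sigma_inv_apply]
    exact hr
  let a : Γ → ↥(Submodule.torsionBySet Rg V (m : Set Rg)) →+
      ↥(Submodule.torsionBySet Rg V (m : Set Rg)) := fun γ =>
    { toFun := fun u => ⟨τ (γ : H) u.1, (hTmem _).2 (hτmem γ _ ((hTmem _).1 u.2))⟩
      map_zero' := by
        apply Subtype.ext
        show τ (γ : H) (0 : V) = 0
        exact map_zero _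
      map_add' := by
        intro u w
        apply Subtype.ext
        show τ (γ : H) ((u : V) + (w : V)) = τ (γ : H) u + τ (γ : H) w
        exact map_add _ _ _ }
  have hacoe : ∀ (γ : Γ) (u : ↥(Submodule.torsionBySet Rg V (m : Set Rg))),
      ((a γ u : ↥(Submodule.torsionBySet Rg V (m : Set Rg))) : V) = τ (γ : H) (u : V) :=
    fun γ u => rfl
  have ha1 : ∀ u, a 1 u = u := by
    intro u
    apply Subtype.ext
    rw [hacoe, Subgroup.coe_one, map_one]
    rfl
  have hamul : ∀ γ δ u, a (γ * δ) u = a γ (a δ u) := by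
    intro γ δ u
    apply Subtype.ext
    rw [hacoe, hacoe, hacoe, Subgroup.coe_mul, map_mul]
    rfl
  have hsl : ∀ (γ : Γ) (c : Rg ⧸ m) (u : ↥(Submodule.torsionBySet Rg V (m : Set Rg))),
      a γ (c • u) = φ γ c • a γ u := by
    intro γ c u
    obtain ⟨r, rfl⟩ := Ideal.Quotient.mk_surjective c
    rw [hφmk]
    apply Subtype.ext
    rw [hacoe]
    show τ (γ : H) (r • (u : V)) = σ (γ : H) r • τ (γ : H) (u : V)
    exact hτ _ _ _
  obtain ⟨θ, hspan, hindep⟩ := galois_descent φ hφinj a ha1 hamul hsl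
  obtain ⟨r, rfl⟩ := Ideal.Quotient.mk_surjective θ
  -- the fixed vectors
  let Fx : Submodule k V :=
    { carrier := {w | w ∈ killed (k := k) m ∧ ∀ γ : Γ, τ (γ : H) w = w}
      add_mem' := by
        rintro x y ⟨hx, hx'⟩ ⟨hy, hy'⟩
        exact ⟨Submodule.add_mem _ hx hy, fun γ => by rw [map_add, hx', hy']⟩
      zero_mem' := ⟨Submodule.zero_mem _, fun γ => map_zero _⟩
      smul_mem' := by
        rintro c x ⟨hx, hx'⟩
        exact ⟨Submodule.smul_mem _ c hx, fun γ => by rw [map_smul, hx']⟩ }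
  have hFx : ∀ w : V, w ∈ Fx ↔ (w ∈ killed (k := k) m ∧ ∀ γ : Γ, τ (γ : H) w = w) := fun w => Iff.rfl
  have hrkilled : ∀ w : V, w ∈ killed (k := k) m → r • w ∈ killed (k := k) m := by
    intro w hw r' hr'
    rw [smul_comm, hw r' hr', smul_zero]
  refine ⟨Fx.map (lsm r), ?_, ?_, ?_⟩
  · rintro x ⟨w, hw, rfl⟩
    exact hrkilled w hw.1
  · apply le_antisymm
    · refine iSup_le fun γ => ?_
      rintro x ⟨y, ⟨w, hw, rfl⟩, rfl⟩
      exact hτmem γ _ (hrkilled w hw.1)
    · intro v hv
      obtain ⟨f, hf, hsum⟩ := hspan ⟨v, (hTmem v).2 hv⟩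
      have hv' : v = ∑ γ : Γ, τ (γ : H) (r • ((f γ : ↥(Submodule.torsionBySet Rg V (m : Set Rg))) : V)) := by
        have h1 : v = ((∑ γ, φ γ (Ideal.Quotient.mk m r) • f γ :
            ↥(Submodule.torsionBySet Rg V (m : Set Rg))) : V) := congrArg Subtype.val hsum
        refine h1.trans ?_
        rw [AddSubmonoidClass.coe_finsetSum]
        refine Finset.sum_congr rfl fun γ _ => ?_
        have h2 : φ γ (Ideal.Quotient.mk m r) • f γ = a γ (Ideal.Quotient.mk m r • f γ) := by
          rw [hsl, hf]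
        rw [h2, hacoe]
        rfl
      rw [hv']
      refine Submodule.sum_mem _ fun γ _ => ?_
      refine Submodule.mem_iSup_of_mem γ ?_
      refine Submodule.mem_map_of_mem ⟨_, ?_, rfl⟩
      refine ⟨(hTmem _).1 (f γ).2, fun δ => ?_⟩
      have := congrArg Subtype.val (hf γ δ)
      rwa [hacoe] at this
  · -- dimension count via an injective map
    let Ψ : (Γ → ↥(Fx.map (lsm (k := k) r))) →ₗ[k] V :=
      ∑ γ : Γ, (τ (γ : H)) ∘ₗ (Fx.map (lsm (k := k) r)).subtype ∘ₗ LinearMap.proj γ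
    have hΨ : ∀ g, Ψ g = ∑ γ : Γ, τ (γ : H) (g γ : V) := by
      intro g
      simp [Ψ, LinearMap.sum_apply]
    have hΨmem : ∀ g, Ψ g ∈ killed (k := k) m := by
      intro g
      rw [hΨ]
      refine Submodule.sum_mem _ fun γ _ => ?_
      obtain ⟨w, hw, hw'⟩ := (g γ).2
      rw [← hw']
      exact hτmem γ _ (hrkilled w hw.1)
    have hΨinj : Function.Injective (Ψ.codRestrict (killed (k := k) m) hΨmem) := by
      rw [injective_iff_map_eq_zero]
      intro g hg
      have hg' : Ψ g = 0 := congrArg Subtype.val hg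
      rw [hΨ] at hg'
      have hch : ∀ γ : Γ, ∃ w : V, w ∈ Fx ∧ r • w = (g γ : V) := fun γ => (g γ).2
      choose w hw hw' using hch
      let f : Γ → ↥(Submodule.torsionBySet Rg V (m : Set Rg)) := fun γ =>
        ⟨w γ, (hTmem _).2 (hw γ).1⟩
      have hf : ∀ γ δ, a δ (f γ) = f γ := by
        intro γ δ
        apply Subtype.ext
        rw [hacoe]
        exact (hw γ).2 δ
      have hsum : ∑ γ, φ γ (Ideal.Quotient.mk m r) • f γ = 0 := by
        apply Subtype.ext
        rw [AddSubmonoidClass.coe_finsetSum]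
        rw [Submodule.coe_zero, ← hg']
        refine Finset.sum_congr rfl fun γ _ => ?_
        have h2 : φ γ (Ideal.Quotient.mk m r) • f γ = a γ (Ideal.Quotient.mk m r • f γ) := by
          rw [hsl, hf]
        rw [h2, hacoe, ← hw']
        rfl
      have h0 := hindep f hf hsum
      funext γ
      apply Subtype.ext
      rw [← hw']
      have : w γ = 0 := congrArg Subtype.val (h0 γ)
      rw [this, smul_zero]
      rfl
    have h1 := LinearMap.finrank_le_finrank_of_injective hΨinj
    rw [Module.finrank_pi_fintype k, Finset.sum_const, Finset.card_univ, smul_eq_mul,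
      ← Nat.card_eq_fintype_card] at h1
    exact h1

theorem iInf_maximal_eq_bot [IsSemisimpleRing Rg] [Fintype (MaximalSpectrum Rg)] :
    (⨅ i ∈ (Finset.univ : Finset (MaximalSpectrum Rg)), i.asIdeal) = ⊥ := by
  rw [eq_bot_iff]
  have h1 : Ring.jacobson Rg = ⊥ := IsSemisimpleRing.jacobson_eq_bot Rg
  rw [← h1, Ring.jacobson_eq_sInf_isMaximal]
  refine le_sInf fun I hI => ?_
  exact iInf₂_le (⟨I, hI⟩ : MaximalSpectrum Rg) (Finset.mem_univ _)

set_option maxHeartbeats 800000 in
/-- The abstract freeness theorem: a commutative semisimple algebra `Rg` with a compatible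
`H`-action such that stabilisers of maximal ideals act faithfully on the residue fields. -/
theorem semisimple_free [IsSemisimpleRing Rg] [FiniteDimensional k V] [Finite H]
    (σ : H →* (Rg ≃ₐ[k] Rg)) (τ : Representation k H V)
    (hτ : ∀ h (r : Rg) (v : V), τ h (r • v) = σ h r • τ h v)
    (hfree : ∀ m : Ideal Rg, m.IsMaximal → (∃ v : V, v ≠ 0 ∧ ∀ r ∈ m, r • v = 0) →
       ∀ h : H, h ≠ 1 → (∀ r, σ h r ∈ m ↔ r ∈ m) → ∃ r, σ h r - r ∉ m) :
    HFreeOn τ ⊤ := by
  classical
  let _ := specAction σ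
  have := Fintype.ofFinite (MaximalSpectrum Rg)
  have hcop : ∀ i j : MaximalSpectrum Rg, i ≠ j → i.asIdeal ⊔ j.asIdeal = ⊤ := fun i j hij =>
    Ideal.IsMaximal.coprime_of_ne i.isMaximal j.isMaximal (fun h => hij (MaximalSpectrum.ext h))
  apply orbit_lemma τ (fun m : MaximalSpectrum Rg => killed (k := k) (V := V) m.asIdeal)
  · -- the primary parts span
    rw [eq_top_iff]
    intro v _
    have h1 := Submodule.iSup_torsionBySet_ideal_eq_torsionBySet_iInf (R := Rg) (M := V)
      (S := (Finset.univ : Finset (MaximalSpectrum Rg))) (p := fun i => i.asIdeal)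
      (fun i _ j _ hij => hcop i j hij)
    rw [iInf_maximal_eq_bot] at h1
    have hv : v ∈ ⨆ i ∈ (Finset.univ : Finset (MaximalSpectrum Rg)),
        Submodule.torsionBySet Rg V (i.asIdeal : Set Rg) := by
      rw [h1, Submodule.mem_torsionBySet_iff]
      rintro ⟨a, ha⟩
      have h0 : a = 0 := by simpa using ha
      show a • v = 0
      rw [h0, zero_smul]
    simp only [Finset.mem_univ, iSup_pos] at hv
    refine Submodule.iSup_induction (fun i : MaximalSpectrum Rg =>
      Submodule.torsionBySet Rg V (i.asIdeal : Set Rg))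
      (motive := fun x => x ∈ ⨆ m : MaximalSpectrum Rg, killed (k := k) (V := V) m.asIdeal)
      hv ?_ ?_ ?_
    · intro i x hx
      refine Submodule.mem_iSup_of_mem i ?_
      rw [Submodule.mem_torsionBySet_iff] at hx
      exact fun r hr => hx ⟨r, hr⟩
    · exact Submodule.zero_mem _
    · intro x y hx hy
      exact Submodule.add_mem _ hx hy
  · -- dimension count
    let Φ : (∀ m : MaximalSpectrum Rg, ↥(killed (k := k) (V := V) m.asIdeal)) →ₗ[k] V :=
      ∑ m : MaximalSpectrum Rg, (killed (k := k) (V := V) m.asIdeal).subtype ∘ₗ LinearMap.proj m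
    have hΦ : ∀ f, Φ f = ∑ m : MaximalSpectrum Rg, (f m : V) := by
      intro f
      simp [Φ, LinearMap.sum_apply]
    have hinj : Function.Injective Φ := by
      rw [injective_iff_map_eq_zero]
      intro f hf
      rw [hΦ] at hf
      funext m₀
      have hco : m₀.asIdeal ⊔ ⨅ i ∈ Finset.univ.erase m₀, (i : MaximalSpectrum Rg).asIdeal = ⊤ :=
        Ideal.sup_iInf_eq_top (fun i hi => hcop m₀ i (Finset.ne_of_mem_erase hi).symm)
      obtain ⟨a, ha, b, hb, hab⟩ := Submodule.mem_sup.1 ((Ideal.eq_top_iff_one _).1 hco)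
      have h1 : a • (f m₀ : V) = 0 := (f m₀).2 a ha
      have h2 : b • (f m₀ : V) = 0 := by
        have h3 : (f m₀ : V) = - ∑ m ∈ Finset.univ.erase m₀, (f m : V) := by
          rw [eq_neg_iff_add_eq_zero, Finset.add_sum_erase Finset.univ
            (fun m : MaximalSpectrum Rg => (f m : V)) (Finset.mem_univ m₀)]
          exact hf
        rw [h3, smul_neg, Finset.smul_sum, neg_eq_zero]
        refine Finset.sum_eq_zero fun m hm => ?_
        refine (f m).2 b ?_
        exact (Submodule.mem_iInf _).1 ((Submodule.mem_iInf _).1 hb m) hm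
      apply Subtype.ext
      show (f m₀ : V) = 0
      calc (f m₀ : V) = (1 : Rg) • (f m₀ : V) := (one_smul _ _).symm
        _ = (a + b) • (f m₀ : V) := by rw [hab]
        _ = 0 := by rw [add_smul, h1, h2, add_zero]
    have h1 := LinearMap.finrank_le_finrank_of_injective hinj
    rw [Module.finrank_pi_fintype k] at h1
    exact h1
  · -- the primary parts are permuted
    intro h m
    ext x
    constructor
    · rintro ⟨v, hv, rfl⟩
      intro r hr
      have h1 : r = σ h (σ h⁻¹ r) := (sigma_inv_apply σ h r).symm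
      rw [h1, ← hτ, hv (σ h⁻¹ r) hr, map_zero]
    · intro hx
      refine ⟨τ h⁻¹ x, ?_, ?_⟩
      · intro r hr
        have h1 : r = σ h⁻¹ (σ h r) := (sigma_inv_apply' σ h r).symm
        rw [h1, ← hτ]
        have h2 : σ h r • x = 0 := by
          apply hx
          show σ h⁻¹ (σ h r) ∈ m.asIdeal
          rw [sigma_inv_apply']
          exact hr
        rw [h2, map_zero]
      · show τ h (τ h⁻¹ x) = x
        rw [← Module.End.mul_apply, ← map_mul, mul_inv_cancel, map_one]
        rfl
  · -- local freeness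
    intro m
    by_cases hz : killed (k := k) (V := V) m.asIdeal = ⊥
    · refine ⟨⊥, bot_le, ?_, ?_⟩
      · rw [hz]
        simp
      · simp
    · obtain ⟨v, hvm, hv0⟩ := (Submodule.ne_bot_iff _).1 hz
      have hstab : ∀ γ ∈ MulAction.stabilizer H m, ∀ r, σ γ r ∈ m.asIdeal ↔ r ∈ m.asIdeal := by
        intro γ hγ r
        have h1 : γ⁻¹ • m = m := by
          have : γ • m = m := hγ
          rw [← this, inv_smul_smul]
          exact this.symm
        have h2 : r ∈ (γ⁻¹ • m).asIdeal ↔ σ γ⁻¹⁻¹ r ∈ m.asIdeal := Iff.rfl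
        rw [h1, inv_inv] at h2
        exact h2.symm
      have := m.isMaximal
      exact local_free σ τ hτ m.asIdeal (MulAction.stabilizer H m) hstab
        (fun γ hγ hne => hfree m.asIdeal m.isMaximal ⟨v, hv0, hvm⟩ γ hne (hstab γ hγ))

end semisimple

end Cfsg.Agent.Lib.Helper83.Frob
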