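import Mathlib
import Cfsg.Agent.Lib.Helper83.FrobC

set_option autoImplicit false

open scoped IsMulCommutative

namespace Cfsg.Agent.Lib.Helper83.Frob

open Module

section abelian

variable {k : Type*} [Field k] {V : Type*} [AddCommGroup V] [Module k V]
  {G : Type*} [Group G]

theorem rho_inv_mul (ρ : Representation k G V) (g : G) : ρ g⁻¹ * ρ g = 1 := by
  rw [← map_mul, inv_mul_cancel, map_one]

theorem rho_mul_inv (ρ : Representation k G V) (g : G) : ρ g * ρ g⁻¹ = 1 := by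
  rw [← map_mul, mul_inv_cancel, map_one]

theorem rho_inv_apply (ρ : Representation k G V) (g : G) (v : V) : ρ g⁻¹ (ρ g v) = v := by
  rw [← Module.End.mul_apply, rho_inv_mul]
  rfl

theorem rho_apply_inv (ρ : Representation k G V) (g : G) (v : V) : ρ g (ρ g⁻¹ v) = v := by
  rw [← Module.End.mul_apply, rho_mul_inv]
  rfl

theorem rho_mul_apply (ρ : Representation k G V) (g h : G) (v : V) :
    ρ (g * h) v = ρ g (ρ h v) := by
  rw [map_mul]
  rfl

/-- Conjugation by `ρ g` preserves the algebra generated by `ρ Z` when `g` normalises `Z`. -/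
theorem conj_mem_adjoin (ρ : Representation k G V) (Z : Subgroup G) (g : G)
    (hg : ∀ z ∈ Z, g * z * g⁻¹ ∈ Z) (x : Module.End k V)
    (hx : x ∈ Algebra.adjoin k (ρ '' (Z : Set G))) :
    ρ g * x * ρ g⁻¹ ∈ Algebra.adjoin k (ρ '' (Z : Set G)) := by
  induction hx using Algebra.adjoin_induction with
  | mem x hx =>
    obtain ⟨z, hz, rfl⟩ := hx
    apply Algebra.subset_adjoin
    refine ⟨g * z * g⁻¹, hg z hz, ?_⟩
    rw [map_mul, map_mul]
  | algebraMap c =>
    rw [← Algebra.commutes, mul_assoc, rho_mul_inv, mul_one]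
    exact Subalgebra.algebraMap_mem _ c
  | add x y _ _ hx hy =>
    rw [mul_add, add_mul]
    exact Subalgebra.add_mem _ hx hy
  | mul x y _ _ hx hy =>
    have : ρ g * (x * y) * ρ g⁻¹ = (ρ g * x * ρ g⁻¹) * (ρ g * y * ρ g⁻¹) := by
      calc ρ g * (x * y) * ρ g⁻¹ = ρ g * x * 1 * y * ρ g⁻¹ := by simp only [mul_one, mul_assoc]
        _ = ρ g * x * (ρ g⁻¹ * ρ g) * y * ρ g⁻¹ := by rw [rho_inv_mul]
        _ = (ρ g * x * ρ g⁻¹) * (ρ g * y * ρ g⁻¹) := by simp only [mul_assoc]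
    rw [this]
    exact Subalgebra.mul_mem _ hx hy

/-- Conjugation by `ρ g` as an algebra automorphism of the algebra generated by `ρ Z`. -/
def conjEquiv (ρ : Representation k G V) (Z : Subgroup G) (g : G)
    (hg : ∀ z ∈ Z, g * z * g⁻¹ ∈ Z) (hg' : ∀ z ∈ Z, g⁻¹ * z * g ∈ Z) :
    ↥(Algebra.adjoin k (ρ '' (Z : Set G))) ≃ₐ[k] ↥(Algebra.adjoin k (ρ '' (Z : Set G))) where
  toFun x := ⟨ρ g * x.1 * ρ g⁻¹, conj_mem_adjoin ρ Z g hg x.1 x.2⟩
  invFun x := ⟨ρ g⁻¹ * x.1 * ρ g, by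
    have := conj_mem_adjoin ρ Z g⁻¹ (by
      intro z hz
      rw [inv_inv]
      exact hg' z hz) x.1 x.2
    rwa [inv_inv] at this⟩
  left_inv x := by
    apply Subtype.ext
    show ρ g⁻¹ * (ρ g * x.1 * ρ g⁻¹) * ρ g = x.1
    calc ρ g⁻¹ * (ρ g * x.1 * ρ g⁻¹) * ρ g = (ρ g⁻¹ * ρ g) * x.1 * (ρ g⁻¹ * ρ g) := by
          simp only [mul_assoc]
      _ = x.1 := by rw [rho_inv_mul, one_mul, mul_one]
  right_inv x := by
    apply Subtype.ext
    show ρ g * (ρ g⁻¹ * x.1 * ρ g) * ρ g⁻¹ = x.1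
    calc ρ g * (ρ g⁻¹ * x.1 * ρ g) * ρ g⁻¹ = (ρ g * ρ g⁻¹) * x.1 * (ρ g * ρ g⁻¹) := by
          simp only [mul_assoc]
      _ = x.1 := by rw [rho_mul_inv, one_mul, mul_one]
  map_mul' x y := by
    apply Subtype.ext
    show ρ g * (x.1 * y.1) * ρ g⁻¹ = (ρ g * x.1 * ρ g⁻¹) * (ρ g * y.1 * ρ g⁻¹)
    calc ρ g * (x.1 * y.1) * ρ g⁻¹ = ρ g * x.1 * 1 * y.1 * ρ g⁻¹ := by
          simp only [mul_one, mul_assoc]
      _ = ρ g * x.1 * (ρ g⁻¹ * ρ g) * y.1 * ρ g⁻¹ := by rw [rho_inv_mul]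
      _ = (ρ g * x.1 * ρ g⁻¹) * (ρ g * y.1 * ρ g⁻¹) := by simp only [mul_assoc]
  map_add' x y := by
    apply Subtype.ext
    show ρ g * (x.1 + y.1) * ρ g⁻¹ = (ρ g * x.1 * ρ g⁻¹) + (ρ g * y.1 * ρ g⁻¹)
    rw [mul_add, add_mul]
  commutes' c := by
    apply Subtype.ext
    show ρ g * (algebraMap k (Module.End k V) c) * ρ g⁻¹ = algebraMap k (Module.End k V) c
    rw [← Algebra.commutes, mul_assoc, rho_mul_inv, mul_one]

theorem conjEquiv_coe (ρ : Representation k G V) (Z : Subgroup G) (g : G)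
    (hg : ∀ z ∈ Z, g * z * g⁻¹ ∈ Z) (hg' : ∀ z ∈ Z, g⁻¹ * z * g ∈ Z)
    (x : ↥(Algebra.adjoin k (ρ '' (Z : Set G)))) :
    ((conjEquiv ρ Z g hg hg' x : ↥(Algebra.adjoin k (ρ '' (Z : Set G)))) : Module.End k V) =
      ρ g * x.1 * ρ g⁻¹ := rfl

set_option maxHeartbeats 800000 in
/-- The abelian case: `Z` acts through a commutative group of order prime to the characteristic,
without nonzero fixed vectors, and `H` acts on `Z` so that commutator maps are onto. -/
theorem abelian_free [FiniteDimensional k V] [Finite G] (ρ : Representation k G V)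
    (Z H : Subgroup G)
    (hnorm : ∀ h ∈ H, ∀ z ∈ Z, h * z * h⁻¹ ∈ Z)
    (hcomm : ∀ z ∈ Z, ∀ z' ∈ Z, ρ z * ρ z' = ρ z' * ρ z)
    (hcard : (Nat.card Z : k) ≠ 0)
    (hsurj : ∀ h ∈ H, h ≠ 1 → ∀ z ∈ Z, ∃ z' ∈ Z, z = z'⁻¹ * (h * z' * h⁻¹))
    (hCZ : ∀ v : V, (∀ z ∈ Z, ρ z v = v) → v = 0) :
    HFreeOn (ρ.comp H.subtype) ⊤ := by
  classical
  have hs : ∀ a ∈ ρ '' (Z : Set G), ∀ b ∈ ρ '' (Z : Set G), a * b = b * a := by
    rintro _ ⟨z, hz, rfl⟩ _ ⟨z', hz', rfl⟩
    exact hcomm z hz z' hz'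
  have := Algebra.isMulCommutative_adjoin k hs
  -- semisimplicity
  have : NeZero (Nat.card Z : k) := ⟨hcard⟩
  let f : MonoidAlgebra k Z →ₐ[k] Module.End k V := Representation.asAlgebraHom (ρ.comp Z.subtype : Representation k Z V)
  have hfR : ∀ x, f x ∈ Algebra.adjoin k (ρ '' (Z : Set G)) := by
    intro x
    induction x using MonoidAlgebra.induction_on with
    | of z =>
      apply Algebra.subset_adjoin
      refine ⟨z.1, z.2, ?_⟩
      show _ = Representation.asAlgebraHom (ρ.comp Z.subtype : Representation k Z V) (MonoidAlgebra.of k Z z)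
      rw [Representation.asAlgebraHom_of]
      rfl
    | add x y hx hy =>
      rw [map_add]
      exact Subalgebra.add_mem _ hx hy
    | smul c x hx =>
      rw [map_smul]
      exact Subalgebra.smul_mem _ hx c
  have hsurjf : Function.Surjective (f.codRestrict (Algebra.adjoin k (ρ '' (Z : Set G))) hfR) := by
    rintro ⟨x, hx⟩
    suffices h : ∃ y, f y = x by
      obtain ⟨y, hy⟩ := h
      exact ⟨y, Subtype.ext hy⟩
    induction hx using Algebra.adjoin_induction with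
    | mem x hx =>
      obtain ⟨z, hz, rfl⟩ := hx
      refine ⟨MonoidAlgebra.of k Z ⟨z, hz⟩, ?_⟩
      show Representation.asAlgebraHom (ρ.comp Z.subtype : Representation k Z V) (MonoidAlgebra.of k Z ⟨z, hz⟩) = _
      rw [Representation.asAlgebraHom_of]
      rfl
    | algebraMap c => exact ⟨algebraMap k _ c, AlgHom.commutes f c⟩
    | add x y _ _ hx hy =>
      obtain ⟨x', rfl⟩ := hx
      obtain ⟨y', rfl⟩ := hy
      exact ⟨x' + y', map_add f _ _⟩
    | mul x y _ _ hx hy =>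
      obtain ⟨x', rfl⟩ := hx
      obtain ⟨y', rfl⟩ := hy
      exact ⟨x' * y', map_mul f _ _⟩
  have hss : IsSemisimpleRing ↥(Algebra.adjoin k (ρ '' (Z : Set G))) :=
    RingHom.isSemisimpleRing_of_surjective
      (f.codRestrict (Algebra.adjoin k (ρ '' (Z : Set G))) hfR).toRingHom hsurjf
  -- the action of `H`
  have hnorm' : ∀ h ∈ H, ∀ z ∈ Z, h⁻¹ * z * h ∈ Z := by
    intro h hh z hz
    have := hnorm h⁻¹ (H.inv_mem hh) z hz
    rwa [inv_inv] at this
  let σ : H →* (↥(Algebra.adjoin k (ρ '' (Z : Set G))) ≃ₐ[k]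
      ↥(Algebra.adjoin k (ρ '' (Z : Set G)))) :=
    { toFun := fun h => conjEquiv ρ Z h.1 (hnorm h.1 h.2) (hnorm' h.1 h.2)
      map_one' := by
        apply AlgEquiv.ext
        intro x
        apply Subtype.ext
        rw [conjEquiv_coe]
        show ρ ((1 : H) : G) * x.1 * ρ ((1 : H) : G)⁻¹ = x.1
        rw [Subgroup.coe_one, inv_one, map_one, one_mul, mul_one]
      map_mul' := by
        intro g h
        apply AlgEquiv.ext
        intro x
        apply Subtype.ext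
        rw [AlgEquiv.mul_apply, conjEquiv_coe, conjEquiv_coe, conjEquiv_coe]
        show ρ ((g * h : H) : G) * x.1 * ρ ((g * h : H) : G)⁻¹ = _
        rw [Subgroup.coe_mul, mul_inv_rev, map_mul, map_mul]
        simp only [mul_assoc] }
  have hσ : ∀ (h : H) (x : ↥(Algebra.adjoin k (ρ '' (Z : Set G)))),
      ((σ h x : ↥(Algebra.adjoin k (ρ '' (Z : Set G)))) : Module.End k V) =
        ρ h.1 * x.1 * ρ h.1⁻¹ := fun h x => rfl
  have hsmul : ∀ (x : ↥(Algebra.adjoin k (ρ '' (Z : Set G)))) (v : V), x • v = x.1 v :=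
    fun x v => rfl
  refine @semisimple_free k _ ↥(Algebra.adjoin k (ρ '' (Z : Set G))) _ _ V _ _ _ _ H _ hss _ _
    σ (ρ.comp H.subtype) ?_ ?_
  · intro h x v
    show ρ h.1 (x • v) = σ h x • ρ h.1 v
    rw [hsmul, hsmul, hσ, Module.End.mul_apply, Module.End.mul_apply, rho_inv_apply]
  · intro m hm hv h hne hstab
    by_contra hcon
    push Not at hcon
    obtain ⟨v, hv0, hvm⟩ := hv
    apply hv0
    apply hCZ
    have hne' : (h : G) ≠ 1 := fun hh => hne (Subtype.ext hh)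
    -- every `ρ z` with `z ∈ Z` gives an element of the algebra
    have key : ∀ z ∈ Z, ρ (h.1 * z * h.1⁻¹) v = ρ z v := by
      intro z hz
      have hmem : ρ z ∈ Algebra.adjoin k (ρ '' (Z : Set G)) :=
        Algebra.subset_adjoin ⟨z, hz, rfl⟩
      have h1 := hvm _ (hcon ⟨ρ z, hmem⟩)
      rw [sub_smul, sub_eq_zero, hsmul, hsmul, hσ] at h1
      rw [map_mul, map_mul]
      exact h1
    intro z hz
    obtain ⟨z', hz', rfl⟩ := hsurj h.1 h.2 hne' z hz
    rw [rho_mul_apply, key z' hz', rho_inv_apply]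

end abelian

end Cfsg.Agent.Lib.Helper83.Frob
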