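import Mathlib
import Cfsg.Agent.Lib.Helper83.FrobD

set_option autoImplicit false

namespace Cfsg.Agent.Lib.Helper83.Frob

open Module

section subrep

variable {k : Type*} [Field k] {V : Type*} [AddCommGroup V] [Module k V]
  {G : Type*} [Group G]

/-- The subrepresentation on an invariant subspace. -/
def subrep (ρ : Representation k G V) (V' : Submodule k V) (hV' : ∀ g, ∀ v ∈ V', ρ g v ∈ V') :
    Representation k G V' where
  toFun g := (ρ g).restrict (hV' g)
  map_one' := by
    apply LinearMap.ext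
    intro v
    apply Subtype.ext
    rw [LinearMap.coe_restrict_apply, map_one]
    rfl
  map_mul' g h := by
    apply LinearMap.ext
    intro v
    apply Subtype.ext
    rw [LinearMap.coe_restrict_apply, map_mul]
    rfl

theorem subrep_coe (ρ : Representation k G V) (V' : Submodule k V)
    (hV' : ∀ g, ∀ v ∈ V', ρ g v ∈ V') (g : G) (v : V') :
    ((subrep ρ V' hV' g v : V') : V) = ρ g (v : V) := rfl

/-- Transfer of freeness from a subrepresentation. -/
theorem HFreeOn.of_subrep [FiniteDimensional k V] (ρ : Representation k G V) (H : Subgroup G)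
    (V' : Submodule k V) (hV' : ∀ g, ∀ v ∈ V', ρ g v ∈ V')
    (hf : HFreeOn ((subrep ρ V' hV').comp H.subtype) ⊤) :
    HFreeOn (ρ.comp H.subtype) V' := by
  obtain ⟨W', -, hsup, hdim⟩ := hf
  refine ⟨W'.map V'.subtype, ?_, ?_, ?_⟩
  · rintro x ⟨w, -, rfl⟩
    exact w.2
  · have h1 : ∀ h : H, (W'.map V'.subtype).map ((ρ.comp H.subtype) h) =
        (W'.map (((subrep ρ V' hV').comp H.subtype) h)).map V'.subtype := by
      intro h
      rw [← Submodule.map_comp, ← Submodule.map_comp]
      congr 1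
    simp_rw [h1]
    rw [← Submodule.map_iSup, hsup, Submodule.map_subtype_top]
  · rw [finrank_top] at hdim
    have h2 : finrank k ↥(W'.map V'.subtype) = finrank k W' :=
      (Submodule.equivMapOfInjective V'.subtype V'.injective_subtype W').finrank_eq.symm
    rw [h2]
    exact hdim

/-- Combination of freeness on two complementary invariant subspaces. -/
theorem HFreeOn.sup [FiniteDimensional k V] {H : Type*} [Group H] (τ : Representation k H V)
    (V₀ V₁ : Submodule k V) (hc : IsCompl V₀ V₁) (h0 : HFreeOn τ V₀) (h1 : HFreeOn τ V₁) :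
    HFreeOn τ ⊤ := by
  obtain ⟨W₀, -, hs0, hd0⟩ := h0
  obtain ⟨W₁, -, hs1, hd1⟩ := h1
  refine ⟨W₀ ⊔ W₁, le_top, ?_, ?_⟩
  · simp_rw [Submodule.map_sup]
    rw [iSup_sup_eq, hs0, hs1]
    exact hc.sup_eq_top
  · rw [finrank_top, ← Submodule.finrank_add_eq_of_isCompl hc]
    have h2 : finrank k ↥(W₀ ⊔ W₁) ≤ finrank k W₀ + finrank k W₁ :=
      Submodule.finrank_add_le_finrank_add_finrank W₀ W₁
    calc Nat.card H * finrank k ↥(W₀ ⊔ W₁) ≤ Nat.card H * (finrank k W₀ + finrank k W₁) :=
          Nat.mul_le_mul_left _ h2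
      _ = Nat.card H * finrank k W₀ + Nat.card H * finrank k W₁ := mul_add _ _ _
      _ ≤ finrank k V₀ + finrank k V₁ := add_le_add hd0 hd1

end subrep

section pgroup

variable {k : Type*} [Field k] {V : Type*} [AddCommGroup V] [Module k V]

/-- A finite `p`-group acting linearly on a nonzero space in characteristic `p` fixes a nonzero
vector. -/
theorem exists_fixed_of_pgroup {p : ℕ} [hp : Fact p.Prime] [CharP k p] {P : Type*} [Group P]
    [Finite P] (hP : IsPGroup p P) (ρ' : Representation k P V) [Nontrivial V] :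
    ∃ v : V, v ≠ 0 ∧ ∀ g, ρ' g v = v := by
  classical
  obtain ⟨v₀, hv₀⟩ := exists_ne (0 : V)
  let _ : Algebra (ZMod p) k := ZMod.algebra k p
  let _ : Module (ZMod p) V := Module.compHom V (algebraMap (ZMod p) k)
  have hsm : ∀ (c : ZMod p) (v : V), c • v = (algebraMap (ZMod p) k c) • v := fun c v => rfl
  let U : Submodule (ZMod p) V := Submodule.span (ZMod p) (Set.range (fun g : P => ρ' g v₀))
  have hfin : Finite ↥U := by
    have : Module.Finite (ZMod p) ↥U := Module.Finite.span_of_finite (ZMod p) (Set.finite_range _)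
    exact Module.finite_of_finite (ZMod p)
  have hinv : ∀ (g : P) (u : V), u ∈ U → ρ' g u ∈ U := by
    intro g u hu
    induction hu using Submodule.span_induction with
    | mem x hx =>
      obtain ⟨g', rfl⟩ := hx
      apply Submodule.subset_span
      refine ⟨g * g', ?_⟩
      show ρ' (g * g') v₀ = ρ' g (ρ' g' v₀)
      rw [map_mul]
      rfl
    | zero =>
      rw [map_zero]
      exact Submodule.zero_mem _
    | add x y _ _ hx hy =>
      rw [map_add]
      exact Submodule.add_mem _ hx hy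
    | smul c x _ hx =>
      rw [hsm, map_smul, ← hsm]
      exact Submodule.smul_mem _ c hx
  let _ : MulAction P ↥U :=
    { smul := fun g u => ⟨ρ' g u.1, hinv g u.1 u.2⟩
      one_smul := by
        intro u
        apply Subtype.ext
        show ρ' 1 u.1 = u.1
        rw [map_one]
        rfl
      mul_smul := by
        intro g h u
        apply Subtype.ext
        show ρ' (g * h) u.1 = ρ' g (ρ' h u.1)
        rw [map_mul]
        rfl }
  have hsmul : ∀ (g : P) (u : ↥U), ((g • u : ↥U) : V) = ρ' g u.1 := fun g u => rfl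
  have hv₀U : v₀ ∈ U := by
    apply Submodule.subset_span
    refine ⟨1, ?_⟩
    show ρ' 1 v₀ = v₀
    rw [map_one]
    rfl
  have hpU : p ∣ Nat.card ↥U := by
    have hPU : IsPGroup p (Multiplicative ↥U) := by
      intro x
      refine ⟨1, ?_⟩
      rw [pow_one]
      apply Multiplicative.toAdd.injective
      rw [toAdd_pow, toAdd_one]
      apply Subtype.ext
      have h1 : ((p • (Multiplicative.toAdd x : ↥U) : ↥U) : V) =
          p • ((Multiplicative.toAdd x : ↥U) : V) := AddSubmonoidClass.coe_nsmul _ _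
      rw [h1, ← Nat.cast_smul_eq_nsmul k, CharP.cast_eq_zero, zero_smul]
      rfl
    rcases hPU.card_eq_or_dvd with h1 | h1
    · exfalso
      have : Nat.card ↥U = 1 := by
        rw [← h1]
        exact Nat.card_congr Multiplicative.ofAdd
      rw [Nat.card_eq_one_iff_unique] at this
      obtain ⟨hsub, -⟩ := this
      apply hv₀
      have := congrArg Subtype.val (hsub.elim (⟨v₀, hv₀U⟩ : ↥U) 0)
      exact this
    · rw [Nat.card_congr (Multiplicative.ofAdd (α := ↥U))]
      exact h1
  have h0 : (0 : ↥U) ∈ MulAction.fixedPoints P ↥U := by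
    intro g
    apply Subtype.ext
    rw [hsmul]
    exact map_zero _
  obtain ⟨b, hb, hb0⟩ := hP.exists_fixed_point_of_prime_dvd_card_of_fixed_point ↥U hpU h0
  refine ⟨b.1, ?_, ?_⟩
  · intro h
    apply hb0
    apply Subtype.ext
    exact h.symm
  · intro g
    have := congrArg Subtype.val (hb g)
    rwa [hsmul] at this

end pgroup

section chooseZ

variable {k : Type*} [Field k] {V : Type*} [AddCommGroup V] [Module k V]

/-- A group all of whose elements act as `p`-power-order operators in characteristic `p`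
fixes a nonzero vector. -/
theorem exists_fixed_of_unipotent {p : ℕ} [hp : Fact p.Prime] [CharP k p] {F' : Type*}
    [Group F'] [Finite F'] (ρ' : Representation k F' V) [Nontrivial V]
    (hu : ∀ g, ∃ n : ℕ, (ρ' g) ^ (p ^ n) = 1) : ∃ v : V, v ≠ 0 ∧ ∀ g, ρ' g v = v := by
  have : Finite ρ'.asGroupHom.range :=
    Finite.of_surjective ρ'.asGroupHom.rangeRestrict ρ'.asGroupHom.rangeRestrict_surjective
  have hP : IsPGroup p ρ'.asGroupHom.range := by
    rintro ⟨u, g, rfl⟩
    obtain ⟨n, hn⟩ := hu g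
    refine ⟨n, ?_⟩
    apply Subtype.ext
    apply Units.ext
    show ((ρ'.asGroupHom g) ^ (p ^ n) : (Module.End k V)ˣ).val = 1
    rw [Units.val_pow_eq_pow_val, Representation.asGroupHom_apply, hn]
  let ρP : Representation k ρ'.asGroupHom.range V :=
    (Units.coeHom (Module.End k V)).comp ρ'.asGroupHom.range.subtype
  obtain ⟨v, hv0, hv⟩ := exists_fixed_of_pgroup hP ρP
  refine ⟨v, hv0, fun g => ?_⟩
  have := hv ⟨ρ'.asGroupHom g, g, rfl⟩
  exact this

variable {G : Type*} [Group G] [Finite G]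

set_option maxHeartbeats 800000 in
/-- Some Sylow subgroup of `F` of order prime to the characteristic acts nontrivially. -/
theorem exists_sylow_nontrivial (ρ : Representation k G V) [Nontrivial V]
    (F : Subgroup G)
    (hCF : ∀ v : V, (∀ f ∈ F, ρ f v = v) → v = 0) :
    ∃ q : ℕ, ∃ _ : Fact q.Prime, (q : k) ≠ 0 ∧ ∃ Q : Sylow q F, ∃ x ∈ Q, ρ (x : G) ≠ 1 := by
  by_contra hcon
  push Not at hcon
  -- the kernel of the action of `F`
  let ρF : Representation k F V := ρ.comp F.subtype
  have hN : ∀ q : ℕ, q.Prime → (q : k) ≠ 0 → ¬ q ∣ (MonoidHom.ker ρF).index := by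
    intro q hq hqk hdvd
    have hqf : Fact q.Prime := ⟨hq⟩
    obtain ⟨Q⟩ : Nonempty (Sylow q F) := inferInstance
    have hQN : (Q : Subgroup F) ≤ MonoidHom.ker ρF := by
      intro x hx
      rw [MonoidHom.mem_ker]
      exact hcon q hqf hqk Q x hx
    exact Q.not_dvd_index (dvd_trans hdvd (Subgroup.index_dvd_of_le hQN))
  have hidx0 : (MonoidHom.ker ρF).index ≠ 0 := Subgroup.index_ne_zero_of_finite
  obtain ⟨v₀, hv₀⟩ := exists_ne (0 : V)
  have hchar := CharP.char_is_prime_or_zero k (ringChar k)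
  rcases hchar with hp | hp0
  · -- positive characteristic
    have hpf : Fact (ringChar k).Prime := ⟨hp⟩
    have hpow : (MonoidHom.ker ρF).index =
        (ringChar k) ^ ((MonoidHom.ker ρF).index.primeFactorsList.length) := by
      apply Nat.eq_prime_pow_of_unique_prime_dvd hidx0
      intro q hq hdvd
      by_contra hne
      apply hN q hq _ hdvd
      intro h0
      rw [CharP.cast_eq_zero_iff k (ringChar k)] at h0
      exact hne ((Nat.prime_dvd_prime_iff_eq hp hq).1 h0).symm
    obtain ⟨v, hv0, hv⟩ := exists_fixed_of_unipotent (p := ringChar k) ρF (by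
      intro g
      refine ⟨(MonoidHom.ker ρF).index.primeFactorsList.length, ?_⟩
      rw [← hpow, ← map_pow]
      exact MonoidHom.mem_ker.1 ((MonoidHom.ker ρF).pow_index_mem g))
    exact hv0 (hCF v (fun f hf => hv ⟨f, hf⟩))
  · -- characteristic zero
    have h1 : (MonoidHom.ker ρF).index = 1 := by
      by_contra hne
      obtain ⟨q, hq, hdvd⟩ := Nat.exists_prime_and_dvd hne
      apply hN q hq _ hdvd
      intro h0
      rw [CharP.cast_eq_zero_iff k (ringChar k), hp0, zero_dvd_iff] at h0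
      exact hq.ne_zero h0
    rw [Subgroup.index_eq_one] at h1
    apply hv₀
    apply hCF
    intro f hf
    have : (⟨f, hf⟩ : F) ∈ MonoidHom.ker ρF := by
      rw [h1]
      trivial
    have h2 : ρ f = 1 := MonoidHom.mem_ker.1 this
    rw [h2]
    rfl

set_option maxHeartbeats 800000 in
/-- The choice of a normal subgroup acting as a nontrivial commutative group of order prime to
the characteristic. -/
theorem exists_Z (ρ : Representation k G V) [Nontrivial V]
    (F : Subgroup G) [hFn : F.Normal] (hnil : Group.IsNilpotent F)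
    (hCF : ∀ v : V, (∀ f ∈ F, ρ f v = v) → v = 0) :
    ∃ Z : Subgroup G, Z.Normal ∧ Z ≤ F ∧ (∀ z ∈ Z, ∀ z' ∈ Z, ρ z * ρ z' = ρ z' * ρ z) ∧
      (Nat.card Z : k) ≠ 0 ∧ ∃ z ∈ Z, ρ z ≠ 1 := by
  obtain ⟨q, hqf, hqk, Q, x, hxQ, hx1⟩ := exists_sylow_nontrivial ρ F hCF
  have hQn : (Q : Subgroup F).Normal :=
    Sylow.normal_of_normalizerCondition Group.normalizerCondition_of_isNilpotent Q
  have hQc : (Q : Subgroup F).Characteristic := Sylow.characteristic_of_normal Q hQn
  have hQ'n : ((Q : Subgroup F).map F.subtype).Normal :=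
    ConjAct.normal_of_characteristic_of_normal
  obtain ⟨Q', hQ'⟩ : ∃ Q' : Subgroup G, Q' = (Q : Subgroup F).map F.subtype := ⟨_, rfl⟩
  rw [← hQ'] at hQ'n
  have hQ'F : Q' ≤ F := by
    rw [hQ']
    exact Subgroup.map_subtype_le _
  have hQ'p : IsPGroup q Q' := by
    rw [hQ']
    exact Q.isPGroup'.map F.subtype
  have hxQ' : (x : G) ∈ Q' := by
    rw [hQ']
    exact Subgroup.mem_map_of_mem F.subtype hxQ
  -- the centraliser of the image of `Q'`
  let C : Subgroup G :=
    { carrier := {z | ∀ y ∈ Q', ρ z * ρ y = ρ y * ρ z}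
      one_mem' := by
        intro y _
        rw [map_one, one_mul, mul_one]
      mul_mem' := by
        intro a b ha hb y hy
        rw [map_mul, mul_assoc, hb y hy, ← mul_assoc, ha y hy, mul_assoc]
      inv_mem' := by
        intro a ha y hy
        have h1 := ha y hy
        calc ρ a⁻¹ * ρ y = ρ a⁻¹ * (ρ y * ρ a) * ρ a⁻¹ := by
              rw [mul_assoc, mul_assoc, rho_mul_inv, mul_one]
          _ = ρ a⁻¹ * (ρ a * ρ y) * ρ a⁻¹ := by rw [h1]
          _ = ρ y * ρ a⁻¹ := by rw [← mul_assoc, rho_inv_mul, one_mul] }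
  have hC : ∀ z, z ∈ C ↔ ∀ y ∈ Q', ρ z * ρ y = ρ y * ρ z := fun z => Iff.rfl
  refine ⟨Q' ⊓ C, ?_, ?_, ?_, ?_, ?_⟩
  · -- normal
    refine ⟨fun z hz g => ⟨hQ'n.conj_mem z hz.1 g, ?_⟩⟩
    show g * z * g⁻¹ ∈ C
    rw [hC]
    intro y hy
    have hy'' : g⁻¹ * y * g ∈ Q' := by
      have := hQ'n.conj_mem y hy g⁻¹
      rwa [inv_inv] at this
    obtain ⟨y', hy'def⟩ : ∃ y' : G, y' = g⁻¹ * y * g := ⟨_, rfl⟩
    have hy' : y' ∈ Q' := by rw [hy'def]; exact hy''
    have h1 : ρ (z * y') = ρ (y' * z) := by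
      calc ρ (z * y') = ρ z * ρ y' := map_mul _ _ _
        _ = ρ y' * ρ z := (hC z).1 hz.2 y' hy'
        _ = ρ (y' * z) := (map_mul _ _ _).symm
    have e1 : g * z * g⁻¹ * y = g * (z * y') * g⁻¹ := by
      rw [hy'def]; group
    have e2 : g * (y' * z) * g⁻¹ = y * (g * z * g⁻¹) := by
      rw [hy'def]; group
    calc ρ (g * z * g⁻¹) * ρ y = ρ (g * z * g⁻¹ * y) := (map_mul _ _ _).symm
      _ = ρ (g * (z * y') * g⁻¹) := by rw [e1]
      _ = ρ g * ρ (z * y') * ρ g⁻¹ := by rw [map_mul ρ (g * (z * y')) g⁻¹, map_mul ρ g (z * y')]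
      _ = ρ g * ρ (y' * z) * ρ g⁻¹ := by rw [h1]
      _ = ρ (g * (y' * z) * g⁻¹) := by rw [map_mul ρ (g * (y' * z)) g⁻¹, map_mul ρ g (y' * z)]
      _ = ρ (y * (g * z * g⁻¹)) := by rw [e2]
      _ = ρ y * ρ (g * z * g⁻¹) := map_mul _ _ _
  · exact inf_le_left.trans hQ'F
  · intro z hz z' hz'
    exact (hC z).1 hz.2 z' hz'.1
  · have hZp : IsPGroup q ↥(Q' ⊓ C) := hQ'p.to_le inf_le_left
    obtain ⟨n, hn⟩ := IsPGroup.iff_card.1 hZp
    rw [hn, Nat.cast_pow]
    exact pow_ne_zero _ hqk
  · -- a central element of the image acting nontrivially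
    let ψ : ↥Q' →* (Module.End k V)ˣ := ρ.asGroupHom.comp Q'.subtype
    have hfin : Finite ψ.range := Finite.of_surjective ψ.rangeRestrict ψ.rangeRestrict_surjective
    have hRp : IsPGroup q ψ.range :=
      IsPGroup.of_surjective hQ'p ψ.rangeRestrict ψ.rangeRestrict_surjective
    have hnt : Nontrivial ψ.range := by
      refine ⟨⟨⟨ψ ⟨x, hxQ'⟩, ⟨_, rfl⟩⟩, 1, ?_⟩⟩
      intro h
      apply hx1
      have h2 := congrArg (fun t : ψ.range => ((t : (Module.End k V)ˣ) : Module.End k V)) h
      exact h2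
    have hcn := hRp.center_nontrivial
    obtain ⟨⟨c, hc⟩, hne⟩ := exists_ne (1 : Subgroup.center ψ.range)
    obtain ⟨u, z₀, rfl⟩ := c
    refine ⟨z₀.1, ⟨z₀.2, ?_⟩, ?_⟩
    · show z₀.1 ∈ C
      rw [hC]
      intro y hy
      have h1 := Subgroup.mem_center_iff.1 hc ⟨ψ ⟨y, hy⟩, ⟨_, rfl⟩⟩
      have h2 := congrArg (fun t : ψ.range => ((t : (Module.End k V)ˣ) : Module.End k V)) h1
      exact h2.symm
    · intro h1
      apply hne
      apply Subtype.ext
      apply Subtype.ext
      apply Units.ext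
      exact h1

end chooseZ

end Cfsg.Agent.Lib.Helper83.Frob
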