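import Mathlib
import Cfsg.Agent.Lib.Helper83.FrobE

set_option autoImplicit false

namespace Cfsg.Agent.Lib.Helper83.Frob

open Module

section averaging

variable {k : Type*} [Field k] {V : Type*} [AddCommGroup V] [Module k V]
  {G : Type*} [Group G] [Finite G]

set_option maxHeartbeats 800000 in
/-- The decomposition of a representation into the fixed points of a normal subgroup of order
prime to the characteristic and an invariant complement. -/
theorem exists_compl (ρ : Representation k G V) (Z : Subgroup G) [hZn : Z.Normal]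
    (hcard : (Nat.card Z : k) ≠ 0) :
    ∃ V₀ V₁ : Submodule k V, IsCompl V₀ V₁ ∧ (∀ g, ∀ v ∈ V₀, ρ g v ∈ V₀) ∧
      (∀ g, ∀ v ∈ V₁, ρ g v ∈ V₁) ∧ (∀ v, v ∈ V₀ ↔ ∀ z ∈ Z, ρ z v = v) := by
  classical
  have := Fintype.ofFinite Z
  obtain ⟨S, hSdef⟩ : ∃ S : Module.End k V, S = ∑ z : Z, ρ (z : G) := ⟨_, rfl⟩
  obtain ⟨e, hedef⟩ : ∃ e : Module.End k V, e = (Nat.card Z : k)⁻¹ • S := ⟨_, rfl⟩
  have hS1 : ∀ z₀ ∈ Z, ρ z₀ * S = S := by
    intro z₀ hz₀
    rw [hSdef, Finset.mul_sum]
    rw [← Equiv.sum_comp (Equiv.mulLeft (⟨z₀, hz₀⟩ : Z)) (fun z : Z => ρ (z : G))]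
    apply Finset.sum_congr rfl
    intro z _
    rw [← map_mul]
    rfl
  have hS2 : ∀ g : G, ρ g * S = S * ρ g := by
    intro g
    rw [hSdef, Finset.mul_sum, Finset.sum_mul]
    rw [← Equiv.sum_comp (MulAut.conjNormal g : Z ≃* Z).toEquiv (fun z : Z => ρ (z : G) * ρ g)]
    apply Finset.sum_congr rfl
    intro z _
    rw [← map_mul, ← map_mul]
    congr 1
    show g * (z : G) = g * (z : G) * g⁻¹ * g
    group
  let V₀ : Submodule k V :=
    { carrier := {v | ∀ z ∈ Z, ρ z v = v}
      add_mem' := by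
        intro a b ha hb z hz
        rw [map_add, ha z hz, hb z hz]
      zero_mem' := by
        intro z _
        exact map_zero _
      smul_mem' := by
        intro c a ha z hz
        rw [map_smul, ha z hz] }
  have hV₀ : ∀ v, v ∈ V₀ ↔ ∀ z ∈ Z, ρ z v = v := fun v => Iff.rfl
  have he_fix : ∀ v ∈ V₀, e v = v := by
    intro v hv
    rw [hedef, hSdef, LinearMap.smul_apply, LinearMap.sum_apply]
    rw [Finset.sum_congr rfl (fun z _ => (hV₀ v).1 hv z.1 z.2)]
    rw [Finset.sum_const, Finset.card_univ, ← Nat.card_eq_fintype_card,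
      ← Nat.cast_smul_eq_nsmul k, smul_smul, inv_mul_cancel₀ hcard, one_smul]
  have he_mem : ∀ v, e v ∈ V₀ := by
    intro v
    rw [hV₀]
    intro z₀ hz₀
    rw [hedef, LinearMap.smul_apply, map_smul]
    congr 1
    exact LinearMap.congr_fun (hS1 z₀ hz₀) v
  have he_comm : ∀ g v, e (ρ g v) = ρ g (e v) := by
    intro g v
    rw [hedef, LinearMap.smul_apply, LinearMap.smul_apply, map_smul]
    congr 1
    exact (LinearMap.congr_fun (hS2 g) v).symm
  refine ⟨V₀, LinearMap.ker e, ?_, ?_, ?_, hV₀⟩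
  · apply IsCompl.of_eq
    · rw [Submodule.eq_bot_iff]
      intro x hx
      have h1 := he_fix x hx.1
      have h2 : e x = 0 := LinearMap.mem_ker.1 hx.2
      rw [← h1, h2]
    · rw [Submodule.eq_top_iff']
      intro x
      have h1 : x = e x + (x - e x) := by abel
      rw [h1]
      apply Submodule.add_mem_sup (he_mem x)
      rw [LinearMap.mem_ker, map_sub, he_fix _ (he_mem x), sub_self]
  · intro g v hv
    rw [hV₀] at hv ⊢
    intro z hz
    have hz' : g⁻¹ * z * g ∈ Z := by
      have := hZn.conj_mem z hz g⁻¹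
      rwa [inv_inv] at this
    have h1 := hv _ hz'
    calc ρ z (ρ g v) = ρ g (ρ (g⁻¹ * z * g) v) := by
          rw [← rho_mul_apply, ← rho_mul_apply]
          congr 2
          group
      _ = ρ g v := by rw [h1]
  · intro g v hv
    rw [LinearMap.mem_ker] at hv ⊢
    rw [he_comm, hv, map_zero]

end averaging

section main

universe u v w

variable {k : Type u} [Field k] {G : Type w} [Group G] [Finite G]

/-- Surjectivity of the commutator maps from fixed-point-freeness. -/
theorem comm_surj (Z H F : Subgroup G) [hZn : Z.Normal] (hZF : Z ≤ F)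
    (hfpf : ∀ h ∈ H, h ≠ 1 → ∀ f ∈ F, h * f * h⁻¹ = f → f = 1) :
    ∀ h ∈ H, h ≠ 1 → ∀ z ∈ Z, ∃ z' ∈ Z, z = z'⁻¹ * (h * z' * h⁻¹) := by
  intro h hh hne
  let φ : Z → Z := fun a => ⟨(a : G)⁻¹ * (h * a * h⁻¹),
    Z.mul_mem (Z.inv_mem a.2) (hZn.conj_mem a.1 a.2 h)⟩
  have hinj : Function.Injective φ := by
    intro a b hab
    have hEq : (a : G)⁻¹ * (h * a * h⁻¹) = (b : G)⁻¹ * (h * b * h⁻¹) := congrArg Subtype.val hab
    have h1 : h * (a : G) * h⁻¹ = a * ((b : G)⁻¹ * (h * b * h⁻¹)) := by
      rw [← hEq]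
      group
    have h2 : h * ((a : G) * (b : G)⁻¹) * h⁻¹ = (a : G) * (b : G)⁻¹ := by
      calc h * ((a : G) * (b : G)⁻¹) * h⁻¹ = (h * a * h⁻¹) * (h * b * h⁻¹)⁻¹ := by group
        _ = a * ((b : G)⁻¹ * (h * b * h⁻¹)) * (h * b * h⁻¹)⁻¹ := by rw [h1]
        _ = (a : G) * (b : G)⁻¹ := by group
    have h3 := hfpf h hh hne _ (hZF (Z.mul_mem a.2 (Z.inv_mem b.2))) h2
    apply Subtype.ext
    exact mul_inv_eq_one.1 h3
  have hsurj : Function.Surjective φ := Finite.injective_iff_surjective.1 hinj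
  intro z hz
  obtain ⟨a, ha⟩ := hsurj ⟨z, hz⟩
  exact ⟨a.1, a.2, (congrArg Subtype.val ha).symm⟩

set_option maxHeartbeats 800000 in
/-- A Frobenius group with nilpotent kernel `F` acting without nonzero `F`-fixed vectors: the
module is free over the complement. -/
theorem frobenius_free_aux (F H : Subgroup G) [hFn : F.Normal] (hnil : Group.IsNilpotent F)
    (hfpf : ∀ h ∈ H, h ≠ 1 → ∀ f ∈ F, h * f * h⁻¹ = f → f = 1) :
    ∀ (n : ℕ) (V : Type v) [AddCommGroup V] [Module k V] [FiniteDimensional k V]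
      (ρ : Representation k G V), finrank k V = n →
      (∀ v : V, (∀ f ∈ F, ρ f v = v) → v = 0) → HFreeOn (ρ.comp H.subtype) ⊤ := by
  intro n
  induction n using Nat.strong_induction_on with
  | _ n ih =>
    intro V _ _ _ ρ hn hCF
    rcases subsingleton_or_nontrivial V with hsub | hnt
    · refine ⟨⊥, bot_le, Subsingleton.elim _ _, ?_⟩
      rw [finrank_bot, Nat.mul_zero]
      exact Nat.zero_le _
    · obtain ⟨Z, hZn, hZF, hcomm, hcard, z₁, hz₁, hz₁ne⟩ := exists_Z ρ F hnil hCF
      obtain ⟨V₀, V₁, hc, hinv0, hinv1, hV₀⟩ := exists_compl ρ Z hcard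
      have hlt : finrank k V₀ < finrank k V := by
        apply Submodule.finrank_lt
        intro htop
        apply hz₁ne
        apply LinearMap.ext
        intro v
        have hv : v ∈ V₀ := by
          rw [htop]
          trivial
        exact (hV₀ v).1 hv z₁ hz₁
      have h0 : HFreeOn ((subrep ρ V₀ hinv0).comp H.subtype) ⊤ := by
        apply ih (finrank k V₀) (by omega) ↥V₀ (subrep ρ V₀ hinv0) rfl
        intro v hv
        apply Subtype.ext
        apply hCF
        intro f hf
        exact congrArg Subtype.val (hv f hf)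
      have h1 : HFreeOn ((subrep ρ V₁ hinv1).comp H.subtype) ⊤ := by
        apply abelian_free (subrep ρ V₁ hinv1) Z H
        · intro h _ z hz
          exact hZn.conj_mem z hz h
        · intro z hz z' hz'
          apply LinearMap.ext
          intro v
          apply Subtype.ext
          exact LinearMap.congr_fun (hcomm z hz z' hz') v.1
        · exact hcard
        · exact comm_surj Z H F hZF hfpf
        · intro v hv
          apply Subtype.ext
          have h2 : (v : V) ∈ V₀ ⊓ V₁ := by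
            refine ⟨(hV₀ v.1).2 ?_, v.2⟩
            intro z hz
            exact congrArg Subtype.val (hv z hz)
          rw [hc.inf_eq_bot] at h2
          exact (Submodule.mem_bot k).1 h2
      exact HFreeOn.sup (ρ.comp H.subtype) V₀ V₁ hc (HFreeOn.of_subrep ρ H V₀ hinv0 h0)
        (HFreeOn.of_subrep ρ H V₁ hinv1 h1)

/-- The main theorem, without the auxiliary dimension variable. -/
theorem frobenius_free {V : Type v} [AddCommGroup V] [Module k V] [FiniteDimensional k V]
    (ρ : Representation k G V) (F H : Subgroup G) [hFn : F.Normal]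
    (hnil : Group.IsNilpotent F)
    (hfpf : ∀ h ∈ H, h ≠ 1 → ∀ f ∈ F, h * f * h⁻¹ = f → f = 1)
    (hCF : ∀ v : V, (∀ f ∈ F, ρ f v = v) → v = 0) :
    HFreeOn (ρ.comp H.subtype) ⊤ :=
  frobenius_free_aux F H hnil hfpf (finrank k V) V ρ rfl hCF

end main

end Cfsg.Agent.Lib.Helper83.Frob
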