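import Mathlib
import Cfsg.Agent.Lib.Helper83.LinearCount
import Cfsg.Prelude.Def_Transfer

/-!
# Characters of extraspecial groups (helper83)
-/

set_option autoImplicit false

namespace Cfsg.Agent.Lib.Helper83

open scoped ComplexConjugate ComplexOrder MonoidAlgebra commutatorElement
open Cfsg

universe u v
variable {P : Type u} [Group P]

section Extraspecial

variable [Finite P] (p : ℕ) [Fact p.Prime] (hP : Cfsg.IsExtraspecial p P)

include hP in
/-- A nonlinear irreducible character of an extraspecial group is nontrivial at every nonidentity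
central element. -/
theorem extraspecial_central_ne (χ : IrrCharacter P) (hχ : (χ : P → ℂ) 1 ≠ 1) {z : P}
    (hz : z ∈ Subgroup.center P) (hz1 : z ≠ 1) : (χ : P → ℂ) z ≠ (χ : P → ℂ) 1 := by
  intro h
  apply hχ
  apply irr_linear_of_commutator_le χ
  intro x hx
  rw [hP.1.2.2] at hx
  have htop : Subgroup.zpowers (⟨z, hz⟩ : Subgroup.center P) = ⊤ :=
    zpowers_eq_top_of_prime_card hP.2 (fun h' => hz1 (congrArg Subtype.val h'))
  have hxm : (⟨x, hx⟩ : Subgroup.center P) ∈ Subgroup.zpowers (⟨z, hz⟩ : Subgroup.center P) := by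
    rw [htop]; exact Subgroup.mem_top _
  obtain ⟨k, hk⟩ := Subgroup.mem_zpowers_iff.1 hxm
  have hk' : z ^ k = x := by
    have := congrArg Subtype.val hk
    simpa using this
  have hzker : z ∈ charKer (IrrCharacter_isCharacter χ) := h
  have := (charKer (IrrCharacter_isCharacter χ)).zpow_mem hzker k
  rw [hk'] at this
  exact this

include hP in
/-- A nonlinear irreducible character of an extraspecial group vanishes off the centre. -/
theorem extraspecial_vanish_off_center (χ : IrrCharacter P) (hχ : (χ : P → ℂ) 1 ≠ 1) {g : P}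
    (hg : g ∉ Subgroup.center P) : (χ : P → ℂ) g = 0 := by
  rw [Subgroup.mem_center_iff] at hg
  push_neg at hg
  obtain ⟨x, hx⟩ := hg
  set z := g⁻¹ * x⁻¹ * g * x with hzdef
  have hzc : z ∈ commutator P := by
    rw [commutator_def]
    have : z = ⁅g⁻¹, x⁻¹⁆ := by rw [commutatorElement_def, hzdef]; group
    rw [this]
    exact Subgroup.commutator_mem_commutator (Subgroup.mem_top _) (Subgroup.mem_top _)
  rw [hP.1.2.2] at hzc
  have hz1 : z ≠ 1 := by
    intro h
    apply hx
    have : x * g = x * g * z := by rw [h, mul_one]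
    rw [this, hzdef]; group
  have hconj : x⁻¹ * g * x = g * z := by rw [hzdef]; group
  exact irr_eq_zero_of_conj_eq_mul_central χ hzc hconj
    (extraspecial_central_ne p hP χ hχ hzc hz1)

include hP in
/-- `|P| = p · χ(1)²` for a nonlinear irreducible character of an extraspecial group. -/
theorem extraspecial_card_eq (χ : IrrCharacter P) (hχ : (χ : P → ℂ) 1 ≠ 1) :
    Nat.card P = p * (charDegree (χ : P → ℂ)) ^ 2 := by
  classical
  haveI := Fintype.ofFinite P
  have h := irr_sum_normSq χ
  have h2 : ∑ g : P, Complex.normSq ((χ : P → ℂ) g)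
      = ∑ g : P, @ite _ (g ∈ Subgroup.center P) (Classical.propDecidable _)
          (((charDegree (χ : P → ℂ) : ℝ)) ^ 2) 0 := by
    apply Finset.sum_congr rfl
    intro g _
    split_ifs with hg
    · exact irr_central_normSq χ hg
    · rw [extraspecial_vanish_off_center p hP χ hχ hg, map_zero]
  have h3 := sum_subgroup_eq_sum_ite' (Subgroup.center P)
    (fun _ : P => ((charDegree (χ : P → ℂ) : ℝ)) ^ 2)
  rw [h2, ← h3, Finset.sum_const, Finset.card_univ,
    ← Nat.card_eq_fintype_card, hP.2, nsmul_eq_mul] at h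
  exact_mod_cast h.symm

include hP in
/-- Irreducible characters of an extraspecial group of order `p^(2n+1)` have degree `1` or
`p^n`. -/
theorem extraspecial_charDegree (n : ℕ) (hcard : Nat.card P = p ^ (2 * n + 1))
    (χ : IrrCharacter P) (hχ : (χ : P → ℂ) 1 ≠ 1) : charDegree (χ : P → ℂ) = p ^ n := by
  have hpp : p.Prime := Fact.out
  have h := extraspecial_card_eq p hP χ hχ
  rw [hcard, pow_succ, mul_comm] at h
  have h2 : (p ^ n) ^ 2 = (charDegree (χ : P → ℂ)) ^ 2 := by
    rw [← pow_mul, mul_comm n 2]
    exact Nat.eq_of_mul_eq_mul_left hpp.pos h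
  exact (Nat.pow_left_injective (by norm_num : 2 ≠ 0) h2).symm

include hP in
theorem extraspecial_degree (n : ℕ) (hcard : Nat.card P = p ^ (2 * n + 1))
    (χ : IrrCharacter P) : (χ : P → ℂ) 1 = 1 ∨ (χ : P → ℂ) 1 = (p : ℂ) ^ n := by
  by_cases hχ : (χ : P → ℂ) 1 = 1
  · left; exact hχ
  · right
    rw [← charDegree_cast (IrrCharacter_isCharacter χ), extraspecial_charDegree p hP n hcard χ hχ]
    push_cast; rfl

include hP in
/-- An extraspecial group is not commutative: it has a nonlinear irreducible character. -/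
theorem extraspecial_exists_nonlinear : ∃ χ : IrrCharacter P, (χ : P → ℂ) 1 ≠ 1 := by
  classical
  by_contra hcon
  push_neg at hcon
  have hpp : p.Prime := Fact.out
  -- all linear: number of linear chars = |P| = index of commutator
  have h1 := card_linear_eq_index_commutator (G := P)
  have e : {χ : IrrCharacter P // (χ : P → ℂ) 1 = 1} ≃ IrrCharacter P :=
    Equiv.subtypeUnivEquiv hcon
  rw [Nat.card_congr e] at h1
  -- number of irreducibles ≤ |P| with equality iff ... ; use sum of squares
  haveI := Fintype.ofFinite P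
  haveI : Fintype (IrrCharacter P) := Fintype.ofFinite _
  have h2 := sum_charDegree_sq (G := P)
  have h3 : ∀ χ : IrrCharacter P, charDegree (χ : P → ℂ) = 1 := by
    intro χ
    have := charDegree_cast (IrrCharacter_isCharacter χ)
    rw [hcon χ] at this
    exact_mod_cast this
  simp only [h3, one_pow, Finset.sum_const, Finset.card_univ, smul_eq_mul, mul_one] at h2
  rw [Nat.card_eq_fintype_card, h2] at h1
  have h4 := Subgroup.card_mul_index (commutator P)
  rw [← h1, hP.1.2.2, hP.2] at h4
  have hpos : 0 < Nat.card P := Nat.card_pos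
  have : p = 1 := by
    have : p * Nat.card P = 1 * Nat.card P := by rw [h4, one_mul]
    exact Nat.eq_of_mul_eq_mul_right hpos this
  exact hpp.one_lt.ne' this

include hP in
/-- The number of irreducible characters of degree `p^n` of an extraspecial group of order
`p^(2n+1)` is `p - 1`. -/
theorem extraspecial_card_nonlinear (n : ℕ) (hcard : Nat.card P = p ^ (2 * n + 1)) :
    Nat.card {χ : IrrCharacter P // (χ : P → ℂ) 1 = (p : ℂ) ^ n} = p - 1 := by
  classical
  haveI := Fintype.ofFinite P
  haveI : Fintype (IrrCharacter P) := Fintype.ofFinite _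
  have hpp : p.Prime := Fact.out
  obtain ⟨χ₀, hχ₀⟩ := extraspecial_exists_nonlinear p hP
  have hd0 := extraspecial_charDegree p hP n hcard χ₀ hχ₀
  -- `p^n ≠ 1`
  have hpn : p ^ n ≠ 1 := by
    intro h
    apply hχ₀
    rw [← charDegree_cast (IrrCharacter_isCharacter χ₀), hd0, h, Nat.cast_one]
  have hiff : ∀ χ : IrrCharacter P, (χ : P → ℂ) 1 = (p : ℂ) ^ n ↔ ¬ (χ : P → ℂ) 1 = 1 := by
    intro χ
    constructor
    · intro h h1
      rw [h1] at h
      apply hpn
      have : ((1 : ℕ) : ℂ) = ((p ^ n : ℕ) : ℂ) := by push_cast; exact h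
      exact (Nat.cast_injective this).symm
    · intro h
      rcases extraspecial_degree p hP n hcard χ with h1 | h1
      · exact absurd h1 h
      · exact h1
  have hsum := sum_charDegree_sq (G := P)
  rw [← Finset.sum_filter_add_sum_filter_not Finset.univ
    (fun χ : IrrCharacter P => (χ : P → ℂ) 1 = 1)] at hsum
  have hs1 : ∑ χ ∈ Finset.univ.filter (fun χ : IrrCharacter P => (χ : P → ℂ) 1 = 1),
      (charDegree (χ : P → ℂ)) ^ 2 = (commutator P).index := by
    rw [← card_linear_eq_index_commutator, Nat.card_eq_fintype_card, Fintype.card_subtype,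
      Finset.card_eq_sum_ones]
    apply Finset.sum_congr rfl
    intro χ hχ
    have h1 := (Finset.mem_filter.1 hχ).2
    have := charDegree_cast (IrrCharacter_isCharacter χ)
    rw [h1] at this
    have h2 : charDegree (χ : P → ℂ) = 1 := by exact_mod_cast this
    rw [h2, one_pow]
  have hs2 : ∑ χ ∈ Finset.univ.filter (fun χ : IrrCharacter P => ¬ (χ : P → ℂ) 1 = 1),
      (charDegree (χ : P → ℂ)) ^ 2
      = (Finset.univ.filter (fun χ : IrrCharacter P => ¬ (χ : P → ℂ) 1 = 1)).card
        * (p ^ n) ^ 2 := by
    rw [Finset.card_eq_sum_ones, Finset.sum_mul]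
    apply Finset.sum_congr rfl
    intro χ hχ
    have h1 := (Finset.mem_filter.1 hχ).2
    rw [extraspecial_charDegree p hP n hcard χ h1, one_mul]
  rw [hs1, hs2] at hsum
  have hidx : (commutator P).index = p ^ (2 * n) := by
    have h4 := Subgroup.card_mul_index (commutator P)
    rw [hcard, pow_succ, mul_comm] at h4
    rw [hP.1.2.2, hP.2] at h4
    rw [hP.1.2.2]
    exact Nat.eq_of_mul_eq_mul_right hpp.pos h4
  rw [hidx, hcard, ← pow_mul, mul_comm n 2] at hsum
  set k := (Finset.univ.filter (fun χ : IrrCharacter P => ¬ (χ : P → ℂ) 1 = 1)).card with hk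
  have hk1 : k = p - 1 := by
    have hpos : 0 < p ^ (2 * n) := pow_pos hpp.pos _
    have h5 : (1 + k) * p ^ (2 * n) = p * p ^ (2 * n) := by
      rw [add_mul, one_mul, hsum, pow_succ, mul_comm]
    have h6 := Nat.eq_of_mul_eq_mul_right hpos h5
    omega
  rw [Nat.card_eq_fintype_card, Fintype.card_subtype, ← hk1, hk]
  congr 1
  ext χ
  simp only [Finset.mem_filter, Finset.mem_univ, true_and]
  exact hiff χ

end Extraspecial

end Cfsg.Agent.Lib.Helper83
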