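import Mathlib
import Cfsg.Agent.Lib.Helper83.CharMisc
import Cfsg.Agent.Lib.Helper83.Extraspecial
import Cfsg.Agent.Lib.Helper32.NilpDerived
import Cfsg.Agent.Lib.Helper69.Nilpotent
import Cfsg.Agent.Lib.Helper72.Frattini
import Cfsg.Agent.Lib.Helper03.PGroupFrattini
import Cfsg.Agent.S0169

/-!
# Nilpotent groups with exactly one irreducible character of degree divisible by `p` (helper83)
-/

set_option autoImplicit false

namespace Cfsg.Agent.Lib.Helper83

open scoped ComplexConjugate ComplexOrder MonoidAlgebra commutatorElement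
open Cfsg

universe u v
variable {G : Type u} [Group G]

/-- Itô's theorem in terms of `charDegree`. -/
theorem ito_charDegree [Finite G] (χ : IrrCharacter G) (H : Subgroup G) [H.Normal]
    (hH : ∀ a ∈ H, ∀ b ∈ H, a * b = b * a) : charDegree (χ : G → ℂ) ∣ H.index := by
  obtain ⟨n, ρ, hρ, hχ⟩ := χ.2
  haveI := hρ
  have h := Cfsg.Agent.S0169.result ρ H hH
  have hfin : Module.finrank ℂ (Fin n → ℂ) = n := by simp
  rw [hfin] at h
  have h1 : (charDegree (χ : G → ℂ) : ℂ) = (n : ℂ) := by
    rw [charDegree_cast (IrrCharacter_isCharacter χ), ← hχ, Representation.char_one]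
    simp
  have h2 : charDegree (χ : G → ℂ) = n := by exact_mod_cast h1
  rw [h2]; exact h

/-- A finite nilpotent group with exactly one irreducible character of degree divisible by `p`
is a `p`-group. -/
theorem isPGroup_of_unique_pdiv [Finite G] [hnil : Group.IsNilpotent G] (p : ℕ) [Fact p.Prime]
    (χ : IrrCharacter G) (hχ : p ∣ charDegree (χ : G → ℂ))
    (huniq : ∀ ψ : IrrCharacter G, p ∣ charDegree (ψ : G → ℂ) → ψ = χ) : IsPGroup p G := by
  classical
  have hpp : p.Prime := Fact.out
  set Q := Cfsg.Agent.Lib.Helper32.qPrimeCore p G with hQ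
  haveI hQn : Q.Normal := Cfsg.Agent.Lib.Helper32.qPrimeCore_normal p G
  have hQc : (Nat.card Q).Coprime p := Cfsg.Agent.Lib.Helper32.card_qPrimeCore_coprime p
  obtain ⟨a, ha⟩ := Cfsg.Agent.Lib.Helper32.index_qPrimeCore_of_nilpotent (N := G) p hpp
  obtain ⟨P⟩ : Nonempty (Sylow p G) := inferInstance
  have hall : ∀ (p : ℕ) (_hp : Fact p.Prime) (P : Sylow p G), (P : Subgroup G).Normal :=
    ((Group.isNilpotent_of_finite_tfae (G := G)).out 0 3).1 hnil
  haveI hPn : (P : Subgroup G).Normal := hall p inferInstance P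
  have hPQ : (P : Subgroup G) ⊓ Q = ⊥ := by
    rw [← disjoint_iff]
    apply Subgroup.disjoint_of_coprime_natCard
    obtain ⟨k, hk⟩ := IsPGroup.iff_card.1 P.2
    rw [hk]
    exact (Nat.Coprime.pow_left k hQc.symm)
  have hPidx : ¬ p ∣ (P : Subgroup G).index := P.not_dvd_index
  -- (a) the quotient by Q is not commutative
  have hnc : ¬ ∀ x y : G ⧸ Q, x * y = y * x := by
    intro hcomm
    have hab : ∀ x ∈ (P : Subgroup G), ∀ y ∈ (P : Subgroup G), x * y = y * x := by
      intro x hx y hy
      have h1 : ⁅x, y⁆ ∈ Q := by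
        rw [← QuotientGroup.eq_one_iff, commutatorElement_def]
        simp only [QuotientGroup.mk_mul, QuotientGroup.mk_inv]
        rw [hcomm (QuotientGroup.mk x) (QuotientGroup.mk y)]
        group
      have h2 : ⁅x, y⁆ ∈ (P : Subgroup G) := by
        rw [commutatorElement_def]
        exact Subgroup.mul_mem _ (Subgroup.mul_mem _ (Subgroup.mul_mem _ hx hy)
          (Subgroup.inv_mem _ hx)) (Subgroup.inv_mem _ hy)
      have h3 : ⁅x, y⁆ ∈ (P : Subgroup G) ⊓ Q := ⟨h2, h1⟩
      rw [hPQ, Subgroup.mem_bot] at h3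
      exact commutatorElement_eq_one_iff_mul_comm.1 h3
    have := ito_charDegree χ (P : Subgroup G) hab
    exact hPidx (dvd_trans hχ this)
  -- (b) hence Q is in the kernel of χ
  obtain ⟨θ, hθ⟩ := exists_nonlinear_of_not_comm hnc
  have hQcard : Nat.card (G ⧸ Q) = p ^ a := ha
  have hθdeg : p ∣ charDegree (θ : G ⧸ Q → ℂ) := by
    have h1 := irr_charDegree_dvd_card θ
    rw [hQcard] at h1
    obtain ⟨b, _, hb⟩ := (Nat.dvd_prime_pow hpp).1 h1
    have hb0 : b ≠ 0 := by
      intro h0
      rw [h0, pow_zero] at hb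
      apply hθ
      rw [← charDegree_cast (IrrCharacter_isCharacter θ), hb, Nat.cast_one]
    rw [hb]
    exact dvd_pow_self p hb0
  have hinf : charDegree (((irrInflate Q θ).1 : IrrCharacter G) : G → ℂ)
      = charDegree (θ : G ⧸ Q → ℂ) := by
    have h1 : (charDegree (((irrInflate Q θ).1 : IrrCharacter G) : G → ℂ) : ℂ)
        = (charDegree (θ : G ⧸ Q → ℂ) : ℂ) := by
      rw [charDegree_cast (IrrCharacter_isCharacter _), charDegree_cast (IrrCharacter_isCharacter θ),
        irrInflate_apply, QuotientGroup.mk_one]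
    exact_mod_cast h1
  have hχQ : ∀ n ∈ Q, (χ : G → ℂ) n = (χ : G → ℂ) 1 := by
    have := huniq (irrInflate Q θ).1 (by rw [hinf]; exact hθdeg)
    rw [← this]
    exact (irrInflate Q θ).2
  -- (c) Q is trivial
  have hQbot : Q = ⊥ := by
    by_contra hQne
    have hPtop : (P : Subgroup G) ≠ ⊤ := by
      intro h
      rw [h, top_inf_eq] at hPQ
      exact hQne hPQ
    haveI : Nontrivial (G ⧸ (P : Subgroup G)) := by
      rw [← Finite.one_lt_card_iff_nontrivial]
      have h1 : Nat.card (G ⧸ (P : Subgroup G)) = (P : Subgroup G).index := rfl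
      rw [h1]
      have h2 : (P : Subgroup G).index ≠ 1 := fun h => hPtop (Subgroup.index_eq_one.1 h)
      have h3 : (P : Subgroup G).index ≠ 0 := Subgroup.index_ne_zero_of_finite
      omega
    have hcl : commutator (G ⧸ (P : Subgroup G)) ≠ ⊤ := by
      have := IsSolvable.commutator_lt_top_of_nontrivial (G ⧸ (P : Subgroup G))
      exact this.ne
    obtain ⟨lam, hlam1, hlamne⟩ := exists_nontrivial_linear hcl
    set L : IrrCharacter G := (irrInflate (P : Subgroup G) lam).1 with hL
    have hL1 : (L : G → ℂ) 1 = 1 := by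
      rw [hL, irrInflate_apply, QuotientGroup.mk_one]; exact hlam1
    have hLP : ∀ n ∈ (P : Subgroup G), (L : G → ℂ) n = 1 := by
      intro n hn
      rw [(irrInflate (P : Subgroup G) lam).2 n hn]; exact hL1
    -- L χ = χ
    have hprod : IsIrrCharacter G ((L : G → ℂ) * (χ : G → ℂ)) :=
      isIrrCharacter_mul_linear (IrrCharacter_isCharacter L) hL1 χ.2
    have hprodeq : (⟨(L : G → ℂ) * (χ : G → ℂ), hprod⟩ : IrrCharacter G) = χ := by
      apply huniq
      have h1 : (charDegree ((L : G → ℂ) * (χ : G → ℂ)) : ℂ) = (charDegree (χ : G → ℂ) : ℂ) := by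
        rw [charDegree_cast (isCharacter_of_irr hprod), charDegree_cast (IrrCharacter_isCharacter χ),
          Pi.mul_apply, hL1, one_mul]
      have h2 : charDegree ((L : G → ℂ) * (χ : G → ℂ)) = charDegree (χ : G → ℂ) := by
        exact_mod_cast h1
      simp only
      rw [h2]; exact hχ
    have hd := irr_degree_ne_zero χ
    -- L is trivial on Q
    have hLQ : ∀ n ∈ Q, (L : G → ℂ) n = 1 := by
      intro n hn
      have h1 := congrFun (congrArg Subtype.val hprodeq) n
      simp only [Pi.mul_apply] at h1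
      rw [hχQ n hn] at h1
      have h2 : ((L : G → ℂ) n - 1) * (χ : G → ℂ) 1 = 0 := by linear_combination h1
      rcases mul_eq_zero.1 h2 with h | h
      · exact sub_eq_zero.1 h
      · exact absurd h hd
    -- P ⊔ Q = ⊤
    have hsup : (P : Subgroup G) ⊔ Q = ⊤ := by
      rw [← Subgroup.index_eq_one]
      have h1 : ((P : Subgroup G) ⊔ Q).index ∣ (P : Subgroup G).index :=
        Subgroup.index_dvd_of_le le_sup_left
      have h2 : ((P : Subgroup G) ⊔ Q).index ∣ p ^ a := by
        rw [← ha]; exact Subgroup.index_dvd_of_le le_sup_right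
      obtain ⟨b, _, hb⟩ := (Nat.dvd_prime_pow hpp).1 h2
      by_contra hne
      have hb0 : b ≠ 0 := by
        intro h0
        rw [h0, pow_zero] at hb
        exact hne hb
      apply hPidx
      exact dvd_trans (by rw [hb]; exact dvd_pow_self p hb0) h1
    -- so L is trivial
    have hker : charKer (IrrCharacter_isCharacter L) = ⊤ := by
      rw [eq_top_iff, ← hsup, sup_le_iff]
      constructor
      · intro n hn
        rw [mem_charKer, hLP n hn, hL1]
      · intro n hn
        rw [mem_charKer, hLQ n hn, hL1]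
    apply hlamne
    apply eq_trivChar_of_forall_eq
    intro q
    obtain ⟨g, rfl⟩ := QuotientGroup.mk_surjective q
    have hg : g ∈ charKer (IrrCharacter_isCharacter L) := by rw [hker]; exact Subgroup.mem_top _
    rw [mem_charKer] at hg
    have h1 : (L : G → ℂ) g = (lam : G ⧸ (P : Subgroup G) → ℂ) (QuotientGroup.mk g) := rfl
    have h2 : (L : G → ℂ) 1 = (lam : G ⧸ (P : Subgroup G) → ℂ) 1 := by
      rw [hL, irrInflate_apply, QuotientGroup.mk_one]
    rw [← h1, ← h2]
    exact hg
  -- (d) conclusion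
  have hcard : Nat.card G = p ^ a := by
    rw [← ha, ← hQ, hQbot, Subgroup.index_bot]
  exact IsPGroup.of_card hcard

/-- A finite `p`-group with exactly one nonlinear irreducible character is an extraspecial
`2`-group. -/
theorem extraspecial_of_unique_nonlinear [Finite G] (p : ℕ) [Fact p.Prime] (hG : IsPGroup p G)
    (χ : IrrCharacter G) (hχ : (χ : G → ℂ) 1 ≠ 1)
    (huniq : ∀ ψ : IrrCharacter G, (ψ : G → ℂ) 1 ≠ 1 → ψ = χ) :
    p = 2 ∧ Cfsg.IsExtraspecial 2 G := by
  classical
  haveI := Fintype.ofFinite G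
  haveI : Fintype (IrrCharacter G) := Fintype.ofFinite _
  have hpp : p.Prime := Fact.out
  haveI hnil : Group.IsNilpotent G := hG.isNilpotent
  -- (B1)
  have hG'ne : commutator G ≠ ⊥ := by
    intro h
    apply hχ
    apply irr_linear_of_commutator_le χ
    intro x hx
    rw [h, Subgroup.mem_bot] at hx
    rw [hx]
  -- (B2) a central element of order p in the commutator subgroup
  obtain ⟨z, hzG', hzZ, hz1⟩ :=
    Cfsg.Agent.Lib.Helper69.exists_mem_center_of_normal (commutator G) hG'ne
  set C : Subgroup G := commutator G ⊓ Subgroup.center G with hC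
  have hCp : IsPGroup p C := hG.to_subgroup C
  have hCnt : Nontrivial C := ⟨⟨⟨z, hzG', hzZ⟩, 1, fun h => hz1 (congrArg Subtype.val h)⟩⟩
  have hpC : p ∣ Nat.card C := by
    obtain ⟨k, hk⟩ := IsPGroup.iff_card.1 hCp
    have hk0 : k ≠ 0 := by
      intro h0
      rw [h0, pow_zero] at hk
      have := Finite.one_lt_card_iff_nontrivial.2 hCnt
      omega
    rw [hk]; exact dvd_pow_self p hk0
  obtain ⟨w', hw'⟩ := exists_prime_orderOf_dvd_card' (G := C) p hpC
  set w : G := (w' : G) with hw
  have hwo : orderOf w = p := by rw [hw, Subgroup.orderOf_coe]; exact hw'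
  have hwG' : w ∈ commutator G := w'.2.1
  have hwZ : w ∈ Subgroup.center G := w'.2.2
  have hw1 : w ≠ 1 := by
    intro h
    rw [h, orderOf_one] at hwo
    exact hpp.one_lt.ne hwo
  set N : Subgroup G := Subgroup.zpowers w with hN
  have hNZ : N ≤ Subgroup.center G := Subgroup.zpowers_le.2 hwZ
  have hNG' : N ≤ commutator G := Subgroup.zpowers_le.2 hwG'
  have hNcard : Nat.card N = p := by rw [hN, Nat.card_zpowers, hwo]
  haveI hNn : N.Normal := by
    constructor
    intro n hn g
    have h1 := Subgroup.mem_center_iff.1 (hNZ hn) g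
    rw [h1, mul_assoc, mul_inv_cancel, mul_one]
    exact hn
  -- (B3) the quotient by N is commutative
  have hcommQ : ∀ x y : G ⧸ N, x * y = y * x := by
    by_contra hnc
    obtain ⟨θ, hθ⟩ := exists_nonlinear_of_not_comm hnc
    have hinf1 : ((irrInflate N θ).1 : G → ℂ) 1 ≠ 1 := by
      rw [irrInflate_apply, QuotientGroup.mk_one]; exact hθ
    have heq := huniq (irrInflate N θ).1 hinf1
    have hχN : ∀ n ∈ N, (χ : G → ℂ) n = (χ : G → ℂ) 1 := by
      rw [← heq]; exact (irrInflate N θ).2
    obtain ⟨ψ, hψ⟩ := exists_irr_ne_of_ne_one hw1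
    apply hψ
    by_cases hψ1 : (ψ : G → ℂ) 1 = 1
    · rw [hψ1]
      exact char_deg_one_commutator (IrrCharacter_isCharacter ψ) hψ1 hwG'
    · rw [huniq ψ hψ1]
      exact hχN w (Subgroup.mem_zpowers w)
  have hG'N : commutator G = N := by
    apply le_antisymm _ hNG'
    rw [commutator_eq_closure, Subgroup.closure_le]
    rintro _ ⟨a, b, rfl⟩
    rw [SetLike.mem_coe, ← QuotientGroup.eq_one_iff, commutatorElement_def]
    simp only [QuotientGroup.mk_mul, QuotientGroup.mk_inv]
    rw [hcommQ (QuotientGroup.mk a) (QuotientGroup.mk b)]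
    group
  have hG'card : Nat.card (commutator G) = p := by rw [hG'N]; exact hNcard
  have hG'Z : commutator G ≤ Subgroup.center G := by rw [hG'N]; exact hNZ
  -- (B4) counting
  set d := charDegree (χ : G → ℂ) with hd
  have hdpos : 0 < d := irr_charDegree_pos χ
  have hsum := sum_charDegree_sq (G := G)
  rw [← Finset.sum_filter_add_sum_filter_not Finset.univ
    (fun ψ : IrrCharacter G => (ψ : G → ℂ) 1 = 1)] at hsum
  have hs1 : ∑ ψ ∈ Finset.univ.filter (fun ψ : IrrCharacter G => (ψ : G → ℂ) 1 = 1),
      (charDegree (ψ : G → ℂ)) ^ 2 = (commutator G).index := by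
    rw [← card_linear_eq_index_commutator, Nat.card_eq_fintype_card, Fintype.card_subtype,
      Finset.card_eq_sum_ones]
    apply Finset.sum_congr rfl
    intro ψ hψ
    have h1 := (Finset.mem_filter.1 hψ).2
    have := charDegree_cast (IrrCharacter_isCharacter ψ)
    rw [h1] at this
    have h2 : charDegree (ψ : G → ℂ) = 1 := by exact_mod_cast this
    rw [h2, one_pow]
  have hs2 : Finset.univ.filter (fun ψ : IrrCharacter G => ¬ (ψ : G → ℂ) 1 = 1) = {χ} := by
    ext ψ
    simp only [Finset.mem_filter, Finset.mem_univ, true_and, Finset.mem_singleton]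
    constructor
    · exact huniq ψ
    · intro h; rw [h]; exact hχ
  rw [hs1, hs2, Finset.sum_singleton] at hsum
  have hidx := Subgroup.card_mul_index (commutator G)
  rw [hG'card] at hidx
  set idx := (commutator G).index with hidxdef
  -- d^2 = idx * (p - 1)
  have hd2 : d ^ 2 = idx * (p - 1) := by
    have hp1 : 1 ≤ p := hpp.one_lt.le
    have h1 : idx + d ^ 2 = p * idx := by rw [hsum, hidx]
    have h2 : idx * (p - 1) + idx = p * idx := by
      rw [Nat.mul_sub_one, Nat.sub_add_cancel (Nat.le_mul_of_pos_right idx hpp.pos), mul_comm]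
    omega
  obtain ⟨a, ha⟩ := IsPGroup.iff_card.1 hG
  have hddvd : d ∣ p ^ a := by rw [← ha]; exact irr_charDegree_dvd_card χ
  obtain ⟨b, _, hb⟩ := (Nat.dvd_prime_pow hpp).1 hddvd
  have hidxdvd : idx ∣ p ^ a := by rw [← ha, ← hidx]; exact dvd_mul_left idx p
  have hp2 : p = 2 := by
    have hdvd : (p - 1) ∣ p ^ (2 * b) := by
      refine ⟨idx, ?_⟩
      rw [mul_comm (p - 1) idx, ← hd2, hb, ← pow_mul, mul_comm b 2]
    obtain ⟨c, _, hc⟩ := (Nat.dvd_prime_pow hpp).1 hdvd
    by_cases hc0 : c = 0
    · rw [hc0, pow_zero] at hc; omega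
    · exfalso
      have h1 : p ∣ p - 1 := by rw [hc]; exact dvd_pow_self p hc0
      have h2 : 0 < p - 1 := by have := hpp.one_lt; omega
      have := Nat.le_of_dvd h2 h1
      omega
  subst hp2
  refine ⟨rfl, ?_⟩
  have hidxd : idx = d ^ 2 := by rw [hd2]; norm_num
  have hcardG : Nat.card G = 2 * d ^ 2 := by rw [← hidx, hidxd]
  -- (B5) the centre has order 2
  have hZle : Nat.card (Subgroup.center G) ≤ 2 := by
    have h := irr_sum_normSq χ
    have h2 : ∑ g : G, @ite _ (g ∈ Subgroup.center G) (Classical.propDecidable _)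
        (((charDegree (χ : G → ℂ) : ℝ)) ^ 2) 0 ≤ ∑ g : G, Complex.normSq ((χ : G → ℂ) g) := by
      apply Finset.sum_le_sum
      intro g _
      split_ifs with hg
      · rw [irr_central_normSq χ hg]
      · exact Complex.normSq_nonneg _
    have h3 := sum_subgroup_eq_sum_ite' (Subgroup.center G)
      (fun _ : G => ((charDegree (χ : G → ℂ) : ℝ)) ^ 2)
    rw [← h3, Finset.sum_const, Finset.card_univ, ← Nat.card_eq_fintype_card, nsmul_eq_mul, h,
      hcardG, ← hd] at h2
    have hdposR : (0 : ℝ) < (d : ℝ) ^ 2 := by positivity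
    have h4 : (Nat.card (Subgroup.center G) : ℝ) ≤ 2 := by
      push_cast at h2
      exact le_of_mul_le_mul_right h2 hdposR
    exact_mod_cast h4
  have hZeq : commutator G = Subgroup.center G :=
    Subgroup.eq_of_le_of_card_ge hG'Z (by rw [hG'card]; exact hZle)
  have hZcard : Nat.card (Subgroup.center G) = 2 := by rw [← hZeq]; exact hG'card
  -- (B6) squares are central
  have hsq : ∀ x : G, x ^ 2 ∈ Subgroup.center G := by
    intro x
    rw [Subgroup.mem_center_iff]
    intro y
    set c := ⁅x, y⁆ with hcdef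
    have hcG' : c ∈ commutator G := by
      rw [commutator_def]
      exact Subgroup.commutator_mem_commutator (Subgroup.mem_top _) (Subgroup.mem_top _)
    have hcZ : ∀ g : G, g * c = c * g := Subgroup.mem_center_iff.1 (hG'Z hcG')
    have hc2 : c * c = 1 := by
      have h1 : (⟨c, hcG'⟩ : commutator G) ^ Nat.card (commutator G) = 1 := pow_card_eq_one'
      rw [hG'card] at h1
      have h2 := congrArg Subtype.val h1
      simpa [pow_two] using h2
    have hxy : x * y = c * y * x := by rw [hcdef, commutatorElement_def]; group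
    calc y * x ^ 2 = (c * c) * y * x * x := by rw [hc2, one_mul, pow_two, mul_assoc]
      _ = c * (c * y * x) * x := by group
      _ = c * (x * y) * x := by rw [← hxy]
      _ = (c * x) * y * x := by group
      _ = (x * c) * y * x := by rw [hcZ x]
      _ = x * (c * y * x) := by group
      _ = x * (x * y) := by rw [← hxy]
      _ = x ^ 2 * y := by rw [pow_two, mul_assoc]
  have hfrat : frattini G = Subgroup.center G := by
    apply le_antisymm
    · exact Cfsg.Agent.Lib.Helper72.frattini_le_of_sq_mem (Subgroup.center G) hsq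
    · rw [← hZeq]
      exact Cfsg.Agent.Lib.Helper03.commutator_le_frattini_of_isPGroup hG
  exact ⟨⟨hG, hfrat, hZeq⟩, hZcard⟩

end Cfsg.Agent.Lib.Helper83
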