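import Mathlib

/-!
# Counting pairs of involutions with a given product
-/

set_option autoImplicit false

namespace Cfsg.Agent.Lib.Helper83

variable {G : Type*} [Group G]

theorem invol_inv_eq {x : G} (hx : orderOf x = 2) : x⁻¹ = x := by
  have h2 : x * x = 1 := by rw [← pow_two, ← hx]; exact pow_orderOf_eq_one x
  exact inv_eq_of_mul_eq_one_left h2

/-- An involution `x` with `x y = g`, `y` an involution, inverts `g`. -/
theorem invol_mul_eq_inv_mul {x y g : G} (hx : orderOf x = 2) (hy : orderOf y = 2)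
    (hxy : x * y = g) : x * g = g⁻¹ * x := by
  have hx2 : x * x = 1 := by rw [← pow_two, ← hx]; exact pow_orderOf_eq_one x
  have hxi := invol_inv_eq hx
  have hyi := invol_inv_eq hy
  rw [← hxy, mul_inv_rev, hxi, hyi, ← mul_assoc, hx2, one_mul, mul_assoc, hx2, mul_one]

/-- The number of ways of writing `g` as a product of two involutions is at most the order of the
centralizer of `g`. -/
theorem card_invol_pairs_le [Fintype G] [DecidableEq G] (g : G) :
    ((Finset.univ ×ˢ Finset.univ).filter
      (fun p : G × G => orderOf p.1 = 2 ∧ orderOf p.2 = 2 ∧ p.1 * p.2 = g)).card ≤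
      Nat.card (Subgroup.centralizer ({g} : Set G)) := by
  classical
  set F := (Finset.univ ×ˢ Finset.univ).filter
      (fun p : G × G => orderOf p.1 = 2 ∧ orderOf p.2 = 2 ∧ p.1 * p.2 = g) with hF
  rcases F.eq_empty_or_nonempty with hemp | ⟨p₀, hp₀⟩
  · rw [hemp]
    simp
  · have hp₀' := (Finset.mem_filter.1 hp₀).2
    have hmem : ∀ p : {p // p ∈ F}, p₀.1 * p.1.1 ∈ Subgroup.centralizer ({g} : Set G) := by
      intro p
      have hp' := (Finset.mem_filter.1 p.2).2
      rw [Subgroup.mem_centralizer_iff]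
      intro z hz
      rw [Set.mem_singleton_iff] at hz
      subst hz
      have h1 := invol_mul_eq_inv_mul hp'.1 hp'.2.1 hp'.2.2
      have h2 := invol_mul_eq_inv_mul hp₀'.1 hp₀'.2.1 hp₀'.2.2
      have h3 : p₀.1 * z⁻¹ = z * p₀.1 := by
        have : z * (p₀.1 * z) * z⁻¹ = z * (z⁻¹ * p₀.1) * z⁻¹ := by rw [h2]
        have e1 : z * (p₀.1 * z) * z⁻¹ = z * p₀.1 := by group
        have e2 : z * (z⁻¹ * p₀.1) * z⁻¹ = p₀.1 * z⁻¹ := by group
        rw [e1, e2] at this
        exact this.symm
      calc z * (p₀.1 * p.1.1) = (z * p₀.1) * p.1.1 := by rw [mul_assoc]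
        _ = p₀.1 * z⁻¹ * p.1.1 := by rw [h3]
        _ = p₀.1 * (z⁻¹ * p.1.1) := by rw [mul_assoc]
        _ = p₀.1 * (p.1.1 * z) := by rw [h1]
        _ = p₀.1 * p.1.1 * z := by rw [mul_assoc]
    have hinj : Function.Injective
        (fun p : {p // p ∈ F} => (⟨p₀.1 * p.1.1, hmem p⟩ : Subgroup.centralizer ({g} : Set G))) := by
      intro p q hpq
      have h1 : p₀.1 * p.1.1 = p₀.1 * q.1.1 := congrArg Subtype.val hpq
      have h2 : p.1.1 = q.1.1 := mul_left_cancel h1
      have hp' := (Finset.mem_filter.1 p.2).2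
      have hq' := (Finset.mem_filter.1 q.2).2
      have h3 : p.1.2 = q.1.2 := by
        have : p.1.1 * p.1.2 = p.1.1 * q.1.2 := by rw [hp'.2.2, h2, hq'.2.2]
        exact mul_left_cancel this
      exact Subtype.ext (Prod.ext h2 h3)
    have := Fintype.card_le_of_injective _ hinj
    rw [Fintype.card_coe] at this
    rw [Nat.card_eq_fintype_card]
    exact this

end Cfsg.Agent.Lib.Helper83
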