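import Mathlib
import Cfsg.Agent.S1350
import Cfsg.Agent.S1353
import Cfsg.Agent.S1429
import Cfsg.Agent.S1430
import Cfsg.Agent.S1431
import Cfsg.Agent.S1446
import Cfsg.Agent.Lib.Helper16.BG1363Defs
import Cfsg.Agent.Lib.Helper55.Basic
import Cfsg.Agent.Lib.Helper55.Uniq2
import Cfsg.Agent.Lib.Helper31.BG147C
import Cfsg.Agent.Lib.Helper31.BG15KA
import Cfsg.Agent.Lib.Helper31.FittingHall
import Cfsg.Agent.Lib.Helper78.BG15KPrime
import Cfsg.Agent.Lib.Helper85.BG151J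
import Cfsg.Agent.Lib.Helper91.BG125e
import Cfsg.Agent.Lib.Helper13.BG12B
import Cfsg.Agent.Lib.Helper16.BG134Base
import Cfsg.Agent.Lib.Helper90.BG14DW1
import Cfsg.Agent.Lib.Helper71.BG11a

/-!
# K-1435-P18 (keystone 143522, pack K-1435 of helper31): `false_of_kstar_elt`  (helper83, parallel hand)

`y ∈ K*` of prime order `t`, `T` of order `t` commuting with `y`, `C_G(T) ≤ H'` with `H'` of `t`-rank `≤ 2`:
impossible.  `T ≤ C_G(y) ≤ M`, `T ≤ M_σ` (nilpotent), `T ≤ S` the normal Sylow `t`-subgroup of `M_σ`,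
`V := Ω₁(Z(S)) ≤ C_G(T) ≤ H'` has order `≤ t²`; but the Frobenius group `U K` acts on `V` with `C_V(U) = 1`
and prime action of `K`, so `|V| = |C_V(K)|^p ≥ t³` (S1446).
-/

set_option autoImplicit false
set_option linter.unusedVariables false
set_option linter.unusedSectionVars false
set_option linter.style.haveILetI false

namespace Cfsg.Agent.Lib.Helper83.BG1435

open Cfsg Subgroup Cfsg.Agent.Lib.Helper55 Cfsg.Agent.Lib.Helper11.BG14D Cfsg.Agent.Lib.Helper16.BG1363

variable {G : Type*} [Group G] [Finite G]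

/-- `Ω₁(Z(S))` as a subgroup of the ambient group. -/
def omegaCenter (S : Subgroup G) (t : ℕ) : Subgroup G where
  carrier := {z | z ∈ S ∧ (∀ s ∈ S, s * z = z * s) ∧ z ^ t = 1}
  one_mem' := ⟨S.one_mem, fun s _ => by rw [mul_one, one_mul], one_pow t⟩
  mul_mem' := by
    rintro a b ⟨ha, hac, hat⟩ ⟨hb, hbc, hbt⟩
    refine ⟨S.mul_mem ha hb, fun s hs => ?_, ?_⟩
    · rw [← mul_assoc, hac s hs, mul_assoc, hbc s hs, ← mul_assoc]
    · have hab : Commute a b := hbc a ha
      rw [hab.mul_pow, hat, hbt, one_mul]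
  inv_mem' := by
    rintro a ⟨ha, hac, hat⟩
    refine ⟨S.inv_mem ha, fun s hs => ?_, by rw [inv_pow, hat, inv_one]⟩
    have h := hac s hs
    calc s * a⁻¹ = a⁻¹ * (a * s) * a⁻¹ := by group
      _ = a⁻¹ * (s * a) * a⁻¹ := by rw [h]
      _ = a⁻¹ * s := by group

theorem mem_omegaCenter {S : Subgroup G} {t : ℕ} {z : G} :
    z ∈ omegaCenter S t ↔ z ∈ S ∧ (∀ s ∈ S, s * z = z * s) ∧ z ^ t = 1 := Iff.rfl

theorem omegaCenter_le (S : Subgroup G) (t : ℕ) : omegaCenter S t ≤ S := fun z hz => hz.1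

theorem le_normalizer_omegaCenter {M S : Subgroup G} (t : ℕ)
    (hMS : M ≤ normalizer (S : Set G)) : M ≤ normalizer (omegaCenter S t : Set G) := by
  have key : ∀ m ∈ M, ∀ z ∈ omegaCenter S t, m * z * m⁻¹ ∈ omegaCenter S t := by
    intro m hm z hz
    have hmS := hMS hm
    refine ⟨(Subgroup.mem_normalizer_iff.mp hmS z).mp hz.1, fun s hs => ?_, ?_⟩
    · have hs' : m⁻¹ * s * m ∈ S := by
        have := (Subgroup.mem_normalizer_iff.mp (Subgroup.inv_mem _ hmS) s).mp hs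
        simpa using this
      have h := hz.2.1 _ hs'
      calc s * (m * z * m⁻¹) = m * ((m⁻¹ * s * m) * z) * m⁻¹ := by group
        _ = m * (z * (m⁻¹ * s * m)) * m⁻¹ := by rw [h]
        _ = m * z * m⁻¹ * s := by group
    · rw [conj_pow, hz.2.2, mul_one, mul_inv_cancel]
  intro m hm
  rw [Subgroup.mem_normalizer_iff]
  intro z
  constructor
  · exact key m hm z
  · intro hc
    have := key m⁻¹ (M.inv_mem hm) _ hc
    have e : m⁻¹ * (m * z * m⁻¹) * m⁻¹⁻¹ = z := by group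
    rwa [e] at this

theorem omegaCenter_ne_bot {S : Subgroup G} {t : ℕ} [Fact t.Prime] (hS : IsPGroup t S) (hS1 : S ≠ ⊥) :
    omegaCenter S t ≠ ⊥ := by
  haveI : Nontrivial S := (Subgroup.nontrivial_iff_ne_bot S).mpr hS1
  haveI : Nontrivial (Subgroup.center S) := hS.center_nontrivial
  have hZp : IsPGroup t (Subgroup.center S) := hS.to_subgroup _
  obtain ⟨n, hn0, hn⟩ := hZp.nontrivial_iff_card.mp inferInstance
  have hd : t ∣ Nat.card (Subgroup.center S) := hn.symm ▸ dvd_pow_self _ (ne_of_gt hn0)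
  obtain ⟨x, hx⟩ := exists_prime_orderOf_dvd_card' (G := Subgroup.center S) t hd
  intro hbot
  have hxm : ((x : S) : G) ∈ omegaCenter S t := by
    refine ⟨(x : S).2, fun s hs => ?_, ?_⟩
    · have := (Subgroup.mem_center_iff.mp x.2) ⟨s, hs⟩
      exact congrArg Subtype.val this
    · have h1 : x ^ t = 1 := by rw [← hx]; exact pow_orderOf_eq_one x
      have h2 : ((x ^ t : Subgroup.center S) : S) = 1 := by rw [h1]; rfl
      have h3 : (((x : S) ^ t : S) : G) = 1 := by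
        rw [← Subgroup.coe_pow (Subgroup.center S)] 
        rw [h2]; rfl
      simpa using h3
  rw [hbot, Subgroup.mem_bot] at hxm
  have hx1 : x = 1 := by
    apply Subtype.ext
    apply Subtype.ext
    exact hxm
  rw [hx1, orderOf_one] at hx
  exact (Fact.out : t.Prime).one_lt.ne hx

theorem normal_subgroupOf_p18 {M N : Subgroup G}
    (hMN : M ≤ Subgroup.normalizer (N : Set G)) : (N.subgroupOf M).Normal := by
  constructor
  intro n hn g
  rw [Subgroup.mem_subgroupOf] at hn ⊢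
  have := (Subgroup.mem_normalizer_iff.mp (hMN g.2) n).mp hn
  simpa using this

/-- `|C : C ⊓ S|` divides `|M : S|` for `C ≤ M` and `S` normalized by `M`. -/
theorem relIndex_dvd_relIndex_p18 {M S C : Subgroup G} (hCM : C ≤ M)
    (hMS : M ≤ Subgroup.normalizer (S : Set G)) : S.relIndex C ∣ S.relIndex M := by
  have e2 : S.relIndex C = (S.subgroupOf M).relIndex (C.subgroupOf M) :=
    (Subgroup.relIndex_subgroupOf hCM).symm
  haveI : (S.subgroupOf M).Normal := normal_subgroupOf_p18 hMS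
  rw [e2]
  exact Subgroup.relIndex_dvd_index_of_normal _ _

/-- a `t`-subgroup `T ≤ N` lies in a normal `t`-subgroup `S` of `N` of index prime to `t`. -/
theorem le_of_normal_sylow_p18 {N S T : Subgroup G} {t : ℕ} (ht : t.Prime) (hTN : T ≤ N)
    (hNS : N ≤ normalizer (S : Set G)) (hT : IsPGroup t T) (hidx : ¬ t ∣ S.relIndex N) : T ≤ S := by
  haveI : Fact t.Prime := ⟨ht⟩
  rw [← Subgroup.relIndex_eq_one]
  by_contra hne
  obtain ⟨r, hr, hrd⟩ := Nat.exists_prime_and_dvd hne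
  have h1 : r ∣ Nat.card T := hrd.trans (Subgroup.relIndex_dvd_card _ _)
  obtain ⟨n, hn⟩ := IsPGroup.iff_card.mp hT
  rw [hn] at h1
  have hrt : r = t := (Nat.prime_dvd_prime_iff_eq hr ht).mp (hr.dvd_of_dvd_pow h1)
  apply hidx
  rw [← hrt]
  exact hrd.trans (relIndex_dvd_relIndex_p18 hTN hNS)

/-- **KEYSTONE 143522  K-1435-P18**. -/
theorem false_of_kstar_elt (hG : IsMinSimpleOddOrder G) {M K U T H' : Subgroup G} (hM : IsCoatom M)
    (hKU : IsSigmaDecomposition M K U) (hK1 : K ≠ ⊥) (hU1 : U ≠ ⊥) {t : ℕ} (ht : t.Prime)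
    (y : G) (hy : y ∈ Ks M K) (hyt : orderOf y = t) (hTt : Nat.card T = t)
    (hTy : ∀ τ ∈ T, τ * y = y * τ) (hCT : centralizer (T : Set G) ≤ H') (hrank : PRankLE t 2 H') :
    False := by
  haveI : Fact t.Prime := ⟨ht⟩
  have hK : IsPiHallOf (kappa M) K M := hKU.hall
  have hKM : K ≤ M := hK.1
  have hUM : U ≤ M := hKU.compl.1
  have hσM : sigmaCore M ≤ M := Cfsg.Agent.Lib.Helper71.BG11.sigmaCore_le M
  have hMn : M ≤ normalizer (sigmaCore M : Set G) :=
    Cfsg.Agent.Lib.Helper71.BG11.le_normalizer_sigmaCore M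
  have hHall : IsPiHallOf (sigma M) (sigmaCore M) M := Cfsg.Agent.Lib.Helper16.BG134.hall_sigma hG hM
  -- `X := ⟨y⟩`, `C_G(X) ≤ M`
  have hXK : Subgroup.zpowers y ≤ Ks M K := Subgroup.zpowers_le.mpr hy
  have hXc : Nat.card (Subgroup.zpowers y) = t := by rw [Nat.card_zpowers, hyt]
  have hX1 : Subgroup.zpowers y ≠ ⊥ := by
    intro h
    rw [h, Subgroup.card_bot] at hXc
    exact ht.one_lt.ne hXc
  have h31 : H1431 G := fun M hM K hK hK1 => Cfsg.Agent.S1431.result hG M hM K hK hK1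
  have hCX : centralizer ((Subgroup.zpowers y : Subgroup G) : Set G) ≤ M :=
    Cfsg.Agent.Lib.Helper31.BG147.centralizer_le h31 hM hK hK1 hXK hX1
  have hTM : T ≤ M := by
    intro τ hτ
    apply hCX
    rw [Subgroup.mem_centralizer_iff]
    intro x hx
    obtain ⟨n, rfl⟩ := Subgroup.mem_zpowers_iff.mp hx
    have hc : Commute τ y := hTy τ hτ
    exact (hc.zpow_right n).eq.symm
  -- `t ∈ σ(M)`, `T ≤ M_σ`
  have hyσ : y ∈ sigmaCore M := hy.1
  have htσcard : t ∣ Nat.card (sigmaCore M) := by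
    rw [← hyt]
    have := orderOf_dvd_natCard (⟨y, hyσ⟩ : sigmaCore M)
    rwa [Subgroup.orderOf_mk] at this
  have htσ : t ∈ sigma M := Cfsg.Agent.Lib.Helper71.BG11.sigmaCore_pi hG hM ht htσcard
  have hTp : IsPGroup t T := IsPGroup.of_card (n := 1) (by rw [hTt, pow_one])
  have hTσ : T ≤ sigmaCore M :=
    Cfsg.Agent.Lib.Helper91.BG125.le_sigmaCore_of_mem_sigma hG hM htσ hTp hTM
  have hT1 : T ≠ ⊥ := by
    intro h
    rw [h, Subgroup.card_bot] at hTt
    exact ht.one_lt.ne hTt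
  -- `|K|` prime, `M_σ` nilpotent
  obtain ⟨hp, -, hnil⟩ :=
    Cfsg.Agent.Lib.Helper78.BG15.card_prime_of_sigmaDecomposition hG hM hKU hK1 hU1
  -- the normal Sylow `t`-subgroup `S` of `M_σ`
  obtain ⟨S, hSσ, hSp, hSidx, hMS⟩ :=
    Cfsg.Agent.Lib.Helper85.BG151.exists_normal_sylow_of_nilpotent M (sigmaCore M) hMn hnil t ht
  have hTS : T ≤ S := le_of_normal_sylow_p18 ht hTσ (hσM.trans hMS) hTp hSidx
  have hS1 : S ≠ ⊥ := by
    intro h
    rw [h] at hTS
    exact hT1 (le_bot_iff.mp hTS)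
  -- `V := Ω₁(Z(S))`
  set V := omegaCenter S t with hV
  have hVS : V ≤ S := omegaCenter_le S t
  have hVσ : V ≤ sigmaCore M := hVS.trans hSσ
  have hMV : M ≤ normalizer (V : Set G) := le_normalizer_omegaCenter t hMS
  have hV1 : V ≠ ⊥ := omegaCenter_ne_bot hSp hS1
  have hVp : IsPGroup t V := hSp.to_le hVS
  have hVT : V ≤ centralizer (T : Set G) := by
    intro z hz
    rw [Subgroup.mem_centralizer_iff]
    intro τ hτ
    exact hz.2.1 τ (hTS hτ)
  have hVH : V ≤ H' := hVT.trans hCT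
  have hVcard : Nat.card V ≤ t ^ 2 := by
    have hc : IsMulCommutative ↥(V.subgroupOf H') :=
      ⟨⟨fun a b => by
        apply Subtype.ext
        apply Subtype.ext
        have ha : ((a : ↥H') : G) ∈ V := Subgroup.mem_subgroupOf.mp a.2
        have hb : ((b : ↥H') : G) ∈ V := Subgroup.mem_subgroupOf.mp b.2
        exact hb.2.1 _ ha.1⟩⟩
    have he : ∀ a ∈ V.subgroupOf H', a ^ t = 1 := by
      intro a ha
      have ha' : ((a : ↥H') : G) ∈ V := Subgroup.mem_subgroupOf.mp ha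
      apply Subtype.ext
      rw [Subgroup.coe_pow]
      exact ha'.2.2
    have := hrank (V.subgroupOf H') hc he
    rwa [Nat.card_congr (Subgroup.subgroupOfEquivOfLe hVH).toEquiv] at this
  -- a prime `r` of `|U|` and `C_{M_σ}(U) = 1`
  have hUcard : 1 < Nat.card U := (Subgroup.one_lt_card_iff_ne_bot (H := U)).mpr hU1
  obtain ⟨r, hr, hrU⟩ := Nat.exists_prime_and_dvd (ne_of_gt hUcard)
  haveI : Fact r.Prime := ⟨hr⟩
  have hE := Cfsg.Agent.Lib.Helper31.BG15.isComplIn_sup_of_sigmaDecomposition hG hM hKU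
  have hrE : r ∣ Nat.card ↥(U ⊔ K) := hrU.trans (Subgroup.card_dvd_of_le le_sup_left)
  have hrσ : r ∉ sigma M :=
    Cfsg.Agent.Lib.Helper13.BG12.complIn_prime_not_mem_sigma hHall hE r hr hrE
  have hrκ : r ∉ kappa M := Cfsg.Agent.Lib.Helper31.BG15.not_mem_kappa_of_dvd_card hKU hr hrU
  have hrM : r ∣ Nat.card M := hrU.trans (Subgroup.card_dvd_of_le hUM)
  have hKn : K ≤ normalizer (sigmaCore M : Set G) := hKM.trans hMn
  have hidx : ¬ r ∣ U.relIndex M := by
    intro hd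
    have h1 : Nat.card U * U.relIndex M = Nat.card M :=
      Cfsg.Agent.Lib.Helper90.BG14D.card_mul_relIndex hUM
    have h2 := Cfsg.Agent.Lib.Helper31.IsComplIn.card_mul hKU.compl
    have h3 : U.relIndex M = Nat.card ↥(K ⊔ sigmaCore M) :=
      Nat.eq_of_mul_eq_mul_left Nat.card_pos (h1.trans h2.symm)
    rw [h3] at hd
    have hcop : (Nat.card K).Coprime (Nat.card ↥(sigmaCore M)) := by
      apply Nat.coprime_of_dvd
      intro p hp h1 h2
      exact (hK.2.1 p hp h1).2.2.1 (Cfsg.Agent.Lib.Helper71.BG11.sigmaCore_pi hG hM hp h2)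
    have hinf : sigmaCore M ⊓ K = ⊥ := by
      rw [inf_comm]; exact (Subgroup.disjoint_of_coprime_natCard hcop).eq_bot
    have hc : Nat.card ↥(K ⊔ sigmaCore M) = Nat.card ↥(sigmaCore M) * Nat.card K := by
      rw [sup_comm]
      exact Cfsg.Agent.Lib.Helper90.BG14D.card_sup_of_le_normalizer hKn hinf
    rw [hc] at hd
    rcases (Nat.Prime.dvd_mul hr).mp hd with h | h
    · exact hrσ (Cfsg.Agent.Lib.Helper71.BG11.sigmaCore_pi hG hM hr h)
    · exact hrκ (hK.2.1 r hr h)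
  obtain ⟨S0, hS0U⟩ := Cfsg.Agent.Lib.Helper78.BG15.exists_sylow_map_le hUM hidx
  have hP1 : ¬ ∀ q' : ℕ, q'.Prime → q' ∣ Nat.card M → q' ∉ sigma M → q' ∈ kappa M :=
    fun h => hrκ (h r hr hrM hrσ)
  have hrn : r ∉ sigma M ∪ kappa M := by
    rintro (h | h)
    · exact hrσ h
    · exact hrκ h
  obtain ⟨-, hΩ, -⟩ := Cfsg.Agent.S1429.result hG M hM hP1 r hrM hrn S0
  have hCU : sigmaCore M ⊓ centralizer (U : Set G) = ⊥ := by
    rw [eq_bot_iff, ← hΩ]
    apply inf_le_inf_left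
    apply Subgroup.centralizer_le
    intro x hx
    have hx' : x ∈ Subgroup.closure
        {x : G | x ∈ (S0 : Subgroup M).map M.subtype ∧ x ^ r = 1} := hx
    have hcl : Subgroup.closure {x : G | x ∈ (S0 : Subgroup M).map M.subtype ∧ x ^ r = 1} ≤ U := by
      rw [Subgroup.closure_le]
      intro y hy
      exact hS0U hy.1
    exact hcl hx'
  -- S1446 for `U ⋊ K` acting on `V`
  have hUK : U ⊓ K = ⊥ := by
    rw [eq_bot_iff, ← hKU.compl.2.2.1]
    exact inf_le_inf_left _ le_sup_left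
  have hLM : U ⊔ K ≤ M := sup_le hUM hKM
  have hLtop : U ⊔ K ≠ ⊤ := by
    intro h
    apply hM.1
    rw [eq_top_iff, ← h]
    exact hLM
  have hLsol : Group.IsSolvable ↥(U ⊔ K) := ms_solvable hG hLtop
  have hLodd : Odd (Nat.card ↥(U ⊔ K)) := ms_odd hG _
  have hfree := Cfsg.Agent.S1353.result hG M hM K U hKU
  have hpa := (Cfsg.Agent.S1430.result hG M hM K hK hK1).1
  obtain ⟨a, ha⟩ := IsPGroup.iff_card.mp hVp
  have htE : ¬ t ∣ Nat.card ↥(U ⊔ K) := fun h =>
    Cfsg.Agent.Lib.Helper13.BG12.complIn_prime_not_mem_sigma hHall hE t ht h htσ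
  have hcop : (Nat.card ↥(U ⊔ K)).Coprime (Nat.card V) := by
    rw [ha]
    exact Nat.Coprime.pow_right a ((Nat.Prime.coprime_iff_not_dvd ht).mpr htE).symm
  have hCKV : V ⊓ centralizer (U : Set G) = ⊥ := by
    rw [eq_bot_iff, ← hCU]
    exact inf_le_inf_right _ hVσ
  have hpr : ∀ x ∈ K, x ≠ 1 →
      V ⊓ centralizer ({x} : Set G) = V ⊓ centralizer (K : Set G) := by
    intro x hx hx1
    apply le_antisymm
    · intro z hz
      refine ⟨hz.1, ?_⟩
      have hz' : z ∈ sigmaCore M ⊓ centralizer ({x} : Set G) := ⟨hVσ hz.1, hz.2⟩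
      rw [hpa x hx hx1] at hz'
      exact hz'.2
    · apply inf_le_inf_left
      apply Subgroup.centralizer_le
      intro w hw
      rw [Set.mem_singleton_iff] at hw
      rw [hw]
      exact hx
  obtain ⟨-, hcardV, -⟩ := Cfsg.Agent.S1446.result U K V hU1 hK1 hUK hKU.normal hfree hLsol hLodd
    hV1 hVp.isNilpotent (hUM.trans hMV) (hKM.trans hMV) hcop hCKV hpr
  -- arithmetic
  obtain ⟨b, hb⟩ := IsPGroup.iff_card.mp (hVp.to_le (inf_le_left : V ⊓ centralizer (K : Set G) ≤ V))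
  have h3 : 3 ≤ Nat.card K := by
    obtain ⟨k, hk⟩ := ms_odd hG K
    have := hp.two_le
    omega
  rw [hb, ← pow_mul] at hcardV
  have hb0 : b ≠ 0 := by
    intro h
    rw [h, zero_mul, pow_zero] at hcardV
    exact hV1 (Subgroup.card_eq_one.mp hcardV)
  have h3' : 3 ≤ b * Nat.card K := by
    have : 1 ≤ b := Nat.one_le_iff_ne_zero.mpr hb0
    nlinarith
  have h4 : t ^ 3 ≤ Nat.card V := by
    rw [hcardV]
    exact Nat.pow_le_pow_right ht.pos h3'
  have h5 : t ^ 2 < t ^ 3 := Nat.pow_lt_pow_right ht.one_lt (by norm_num)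
  omega

end Cfsg.Agent.Lib.Helper83.BG1435
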