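import Mathlib
import Cfsg.Agent.S1355
import Cfsg.Agent.Lib.Helper11.BG1390

/-!
# K-1537 leaf L-B1 (keystone 153702): `M_σ# ⊆ A(M)`.
-/

set_option autoImplicit false

namespace Cfsg.Agent.Lib.Helper83.BG1537

open Cfsg Subgroup

variable {G : Type*} [Group G] [Finite G]

/-- **L-B1** `M_σ# ⊆ A(M)`. -/
theorem sigmaCore_diff_subset_typeA (hG : IsMinSimpleOddOrder G) {M : Subgroup G} (hM : IsCoatom M)
    (hC : typeCore M = sigmaCore M) :
    (sigmaCore M : Set G) \ {1} ⊆ typeA M := by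
  rintro a ⟨haσ, ha1⟩
  have ha1' : a ≠ 1 := fun h => ha1 (by simpa using h)
  have haσ' : a ∈ sigmaCore M := haσ
  obtain ⟨-, -, hσD, hDM, -⟩ := Cfsg.Agent.S1355.result hG M hM
  unfold typeA
  split_ifs with hI
  · have hκ : kappa M = ∅ := Cfsg.Agent.Lib.Helper11.BG1390.kappa_eq_empty_of_typeF hG hM hI.1
    have hF : fittingHallOf M = sigmaCore M :=
      Cfsg.Agent.Lib.Helper11.BG1390.fittingHallOf_eq_sigmaCore_of_kappa_empty hG hM hκ
    refine ⟨hDM.le (hσD haσ'), ha1', a, ?_, ha1', rfl⟩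
    rw [hF]; exact haσ'
  · refine ⟨hσD haσ', ha1', a, ?_, ha1', rfl⟩
    rw [hC]; exact haσ'

end Cfsg.Agent.Lib.Helper83.BG1537
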