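import Mathlib
import Cfsg.Agent.Lib.Helper01.Basic
import Cfsg.Agent.Lib.Helper20.SylowNormal

set_option autoImplicit false

namespace Cfsg.Agent.Lib.Helper83

open Cfsg.Agent.Lib.Helper01 Cfsg.Agent.Lib.Helper20

variable {H : Type*} [Group H]

/-- Product formula when `X` normalizes `N`. -/
theorem card_sup_mul_card_inf_of_le_normalizer (N X : Subgroup H)
    (hX : X ≤ Subgroup.normalizer (N : Set H)) :
    Nat.card (X ⊔ N : Subgroup H) * Nat.card (N ⊓ X : Subgroup H) = Nat.card N * Nat.card X := by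
  have h1 : N.relIndex (X ⊔ N) = N.relIndex X := relIndex_sup_right_of_le_normalizer X N hX
  have h2 := relIndex_mul_card_of_le (le_sup_right : N ≤ X ⊔ N)
  have h3 := relIndex_mul_card_of_le (inf_le_right : N ⊓ X ≤ X)
  rw [Subgroup.inf_relIndex_right] at h3
  rw [← h2, ← h3, h1]
  ring

/-- The group-theoretic core: from a subgroup `I` of index `q` (a `p`-power) in `Y` with
`Y K = H`, containing `S₀ ≤ K` of `p'`-index in `K ⊓ Y`, we get that `I K` has index `q`. -/
theorem index_sup_of_relIndex [Finite H] (K Y I S₀ : Subgroup H) [K.Normal] (p j q : ℕ)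
    (hp : p.Prime) (hYK : Y ⊔ K = ⊤) (hIY : I ≤ Y) (hS₀I : S₀ ≤ I) (hS₀K : S₀ ≤ K)
    (hS₀Y : S₀ ≤ Y) (hq : q ∣ p ^ j) (hI : Nat.card Y = q * Nat.card I)
    (hcop : ¬ p ∣ S₀.relIndex (K ⊓ Y)) : (I ⊔ K).index = q := by
  set A : Subgroup H := K ⊓ Y with hA
  have hYA : Y ≤ Subgroup.normalizer (A : Set H) := by
    rw [hA, inf_comm]
    exact le_normalizer_inf_normal Y K
  have hIA : I ≤ Subgroup.normalizer (A : Set H) := hIY.trans hYA
  have hS₀A : S₀ ≤ A := le_inf hS₀K hS₀Y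
  -- step 1 : A ≤ I
  have h1 := card_sup_mul_card_inf_of_le_normalizer A I hIA
  have hIAY : I ⊔ A ≤ Y := sup_le hIY inf_le_right
  have h2 : Nat.card (I ⊔ A : Subgroup H) ∣ Nat.card Y := Subgroup.card_dvd_of_le hIAY
  have hg1 : Nat.card S₀ ∣ Nat.card (A ⊓ I : Subgroup H) :=
    Subgroup.card_dvd_of_le (le_inf hS₀A hS₀I)
  have hg2 : Nat.card (A ⊓ I : Subgroup H) ∣ Nat.card A := Subgroup.card_dvd_of_le inf_le_left
  obtain ⟨k, hk⟩ := hg2
  obtain ⟨t', ht'⟩ := hg1
  have hgpos : 0 < Nat.card (A ⊓ I : Subgroup H) := Nat.card_pos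
  have hIpos : 0 < Nat.card I := Nat.card_pos
  have hS₀pos : 0 < Nat.card S₀ := Nat.card_pos
  have h3 : Nat.card (I ⊔ A : Subgroup H) = k * Nat.card I := by
    rw [hk] at h1
    have : Nat.card (A ⊓ I : Subgroup H) * Nat.card (I ⊔ A : Subgroup H)
        = Nat.card (A ⊓ I : Subgroup H) * (k * Nat.card I) := by
      rw [mul_comm, h1]; ring
    exact Nat.eq_of_mul_eq_mul_left hgpos this
  have hkq : k ∣ q := by
    rw [h3, hI] at h2
    exact Nat.dvd_of_mul_dvd_mul_right hIpos h2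
  have ht : S₀.relIndex A = t' * k := by
    have h4 := relIndex_mul_card_of_le hS₀A
    rw [hk, ht'] at h4
    have : Nat.card S₀ * S₀.relIndex A = Nat.card S₀ * (t' * k) := by
      rw [mul_comm, h4]; ring
    exact Nat.eq_of_mul_eq_mul_left hS₀pos this
  have hk1 : k = 1 := by
    have hkp : k ∣ p ^ j := hkq.trans hq
    obtain ⟨i, -, hi⟩ := (Nat.dvd_prime_pow hp).1 hkp
    rcases Nat.eq_zero_or_pos i with h0 | hpos
    · rw [hi, h0, pow_zero]
    · exfalso
      apply hcop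
      rw [ht, hi]
      exact Dvd.dvd.mul_left (dvd_pow_self p hpos.ne') t'
  have hAI : A ≤ I := by
    have h5 : (A ⊓ I : Subgroup H) = A := by
      apply Subgroup.eq_of_le_of_card_ge inf_le_left
      rw [hk, hk1, mul_one]
    rw [← h5]
    exact inf_le_right
  -- step 2 : index computation
  have hKI : K ⊓ I = A := le_antisymm (le_inf inf_le_left (inf_le_right.trans hIY))
    (le_inf inf_le_left hAI)
  have h6 := card_sup_mul_card_inf K I
  have h7 := card_sup_mul_card_inf K Y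
  rw [hKI] at h6
  rw [hYK, ← hA, Subgroup.card_top, hI] at h7
  have hApos : 0 < Nat.card A := Nat.card_pos
  have h8 : Nat.card H = q * Nat.card (I ⊔ K : Subgroup H) := by
    have : Nat.card A * Nat.card H = Nat.card A * (q * Nat.card (I ⊔ K : Subgroup H)) := by
      calc Nat.card A * Nat.card H = Nat.card H * Nat.card A := mul_comm _ _
        _ = Nat.card K * (q * Nat.card I) := h7
        _ = q * (Nat.card K * Nat.card I) := by ring
        _ = q * (Nat.card (I ⊔ K : Subgroup H) * Nat.card A) := by rw [h6]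
        _ = Nat.card A * (q * Nat.card (I ⊔ K : Subgroup H)) := by ring
    exact Nat.eq_of_mul_eq_mul_left hApos this
  have h9 := (I ⊔ K).card_mul_index
  rw [h8] at h9
  have hpos : 0 < Nat.card (I ⊔ K : Subgroup H) := Nat.card_pos
  have : Nat.card (I ⊔ K : Subgroup H) * (I ⊔ K).index = Nat.card (I ⊔ K : Subgroup H) * q := by
    rw [h9]; ring
  exact Nat.eq_of_mul_eq_mul_left hpos this

/-- Dedekind's law for a normal `Z ≤ K`. -/
theorem sup_inf_eq_inf_sup_of_le (A Z K : Subgroup H) [Z.Normal] (hZK : Z ≤ K) :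
    (A ⊔ Z) ⊓ K = (A ⊓ K) ⊔ Z := by
  apply SetLike.coe_injective
  rw [Subgroup.coe_inf, Subgroup.mul_normal, Subgroup.mul_normal, inf_comm A K,
    Subgroup.inf_mul_assoc K A Z hZK, Set.inter_comm]

/-- Frattini setup: a Sylow `p`-subgroup `S_H` of `H` such that `N_H((S_H Z) ∩ K) K = H`. -/
theorem exists_sylow_normalizer_sup_eq_top [Finite H] (Z K : Subgroup H) [Z.Normal] [K.Normal]
    (hZK : Z ≤ K) (p : ℕ) [Fact p.Prime] :
    ∃ S_H : Sylow p H,
      Subgroup.normalizer ((((S_H : Subgroup H) ⊔ Z) ⊓ K : Subgroup H) : Set H) ⊔ K = ⊤ := by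
  obtain ⟨S₁⟩ := (inferInstance : Nonempty (Sylow p K))
  set S₁' : Subgroup H := (S₁ : Subgroup K).map K.subtype with hS₁'
  have hp1 : IsPGroup p S₁' := S₁.2.map _
  obtain ⟨S_H, hle⟩ := hp1.exists_le_sylow
  refine ⟨S_H, ?_⟩
  have hS₁K : S₁' ≤ K := Subgroup.map_subtype_le _
  have hinf : (S_H : Subgroup H) ⊓ K = S₁' := by
    apply le_antisymm
    · intro x hx
      have hQ : IsPGroup p (((S_H : Subgroup H) ⊓ K).subgroupOf K) :=
        (S_H.2.to_inf_left).comap_of_injective K.subtype K.subtype_injective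
      have hS₁Q : (S₁ : Subgroup K) ≤ ((S_H : Subgroup H) ⊓ K).subgroupOf K := by
        intro y hy
        rw [Subgroup.mem_subgroupOf]
        exact ⟨hle (Subgroup.mem_map_of_mem _ hy), y.2⟩
      have hQe := S₁.is_maximal' hQ hS₁Q
      have hxQ : (⟨x, hx.2⟩ : K) ∈ ((S_H : Subgroup H) ⊓ K).subgroupOf K := by
        rw [Subgroup.mem_subgroupOf]
        exact hx
      rw [hQe] at hxQ
      exact ⟨⟨x, hx.2⟩, hxQ, rfl⟩
    · exact le_inf hle hS₁K
  rw [sup_inf_eq_inf_sup_of_le _ Z K hZK, hinf]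
  have hF := Sylow.normalizer_sup_eq_top S₁
  rw [← hS₁'] at hF
  have hN : Subgroup.normalizer (S₁' : Set H) ≤ Subgroup.normalizer ((S₁' ⊔ Z : Subgroup H) : Set H) := by
    intro g hg
    rw [mem_normalizer_iff_conj_smul] at hg ⊢
    rw [Subgroup.smul_sup, hg, conj_smul_normal]
  rw [eq_top_iff, ← hF]
  exact sup_le_sup_right hN K

theorem sylow_sup_index_not_dvd [Finite H] (Z : Subgroup H) (p : ℕ) [Fact p.Prime]
    (S_H : Sylow p H) : ¬ p ∣ ((S_H : Subgroup H) ⊔ Z).index := fun h =>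
  S_H.not_dvd_index (h.trans (Subgroup.index_dvd_of_le le_sup_left))

theorem relIndex_sylow_sup_pow [Finite H] (Z : Subgroup H) [Z.Normal] (p : ℕ) [Fact p.Prime]
    (S_H : Sylow p H) : ∃ j : ℕ, Z.relIndex ((S_H : Subgroup H) ⊔ Z) = p ^ j := by
  rw [Subgroup.relIndex_sup_right]
  exact S_H.2.index (Z.subgroupOf S_H)

end Cfsg.Agent.Lib.Helper83
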