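import Mathlib
import Cfsg.Agent.Lib.Helper83.Abelian

set_option autoImplicit false

namespace Cfsg.Agent.Lib.Helper83

open scoped ComplexConjugate
open Cfsg

universe u
variable {H : Type u} [Group H]

section FullyRamified

variable [Fintype H] (Z : Subgroup H) [Z.Normal] (χ : IrrCharacter H) (θ : IrrCharacter ↥Z) (e : ℕ)

theorem fr_e_ne_zero (he : e ^ 2 = Z.index) : (e : ℂ) ≠ 0 := by
  have h0 : Z.index ≠ 0 := Subgroup.index_ne_zero_of_finite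
  have : e ≠ 0 := by
    rintro rfl
    apply h0
    rw [← he]
    norm_num
  exact_mod_cast this

/-- A fully ramified character vanishes off `Z`. -/
theorem fr_vanish (he : e ^ 2 = Z.index)
    (hχ : ∀ z : ↥Z, (χ : H → ℂ) z = (e : ℂ) * (θ : ↥Z → ℂ) z) (g : H) (hg : g ∉ Z) :
    (χ : H → ℂ) g = 0 := by
  classical
  have : Fintype ↥Z := Fintype.ofFinite _
  apply irr_vanish_off_of_sum_ge χ Z _ g hg
  have h1 : ∀ a : ↥Z, Complex.normSq ((χ : H → ℂ) a)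
      = (e : ℝ) ^ 2 * Complex.normSq ((θ : ↥Z → ℂ) a) := by
    intro a
    rw [hχ a, Complex.normSq_mul, Complex.normSq_natCast, sq]
  simp only [h1]
  rw [← Finset.mul_sum, irr_sum_normSq θ]
  have h2 := Subgroup.card_mul_index Z
  have h3 : (Nat.card H : ℝ) = (Nat.card ↥Z : ℝ) * (Z.index : ℝ) := by exact_mod_cast h2.symm
  rw [h3, ← he]
  push_cast
  exact le_of_eq (by ring)

/-- `θ` is `H`-invariant. -/
theorem fr_theta_eq (he : e ^ 2 = Z.index)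
    (hχ : ∀ z : ↥Z, (χ : H → ℂ) z = (e : ℂ) * (θ : ↥Z → ℂ) z) (x y : ↥Z) (h : H)
    (hxy : (y : H) = h * x * h⁻¹) : (θ : ↥Z → ℂ) y = (θ : ↥Z → ℂ) x := by
  have he0 := fr_e_ne_zero Z e he
  have h1 := hχ y
  have h2 := hχ x
  have h3 : (χ : H → ℂ) (h * x * h⁻¹) = (χ : H → ℂ) x := isClassFunction_irr χ x h
  rw [hxy, h3, h2] at h1
  exact (mul_left_cancel₀ he0 h1).symm

/-- The commutator sum vanishes for `c ∉ Z`. -/
theorem fr_sum_commutator_eq_zero (he : e ^ 2 = Z.index)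
    (hχ : ∀ z : ↥Z, (χ : H → ℂ) z = (e : ℂ) * (θ : ↥Z → ℂ) z) (c : H) (hc : c ∉ Z) :
    ∑ h : H, (χ : H → ℂ) (h * c * h⁻¹ * c⁻¹) = 0 := by
  have h1 := irr_sum_conj_mul χ c⁻¹ c
  rw [fr_vanish Z χ θ e he hχ c hc] at h1
  simp only [mul_zero, zero_div] at h1
  rw [← h1]
  apply Finset.sum_congr rfl
  intro a _
  exact char_mul_comm (IrrCharacter_isCharacter χ) c⁻¹ (a * c * a⁻¹)

theorem fr_commutator_zpow_mul (c : H) (j : ℤ) (h : H) :
    (χ : H → ℂ) ((c ^ j * h) * c * (c ^ j * h)⁻¹ * c⁻¹) = (χ : H → ℂ) (h * c * h⁻¹ * c⁻¹) := by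
  have hcomm : (c ^ j)⁻¹ * c⁻¹ = c⁻¹ * (c ^ j)⁻¹ := (((Commute.refl c).zpow_left j).inv_inv).eq
  have : (c ^ j * h) * c * (c ^ j * h)⁻¹ * c⁻¹ = c ^ j * (h * c * h⁻¹ * c⁻¹) * (c ^ j)⁻¹ := by
    rw [mul_inv_rev]
    simp only [mul_assoc]
    rw [hcomm]
  rw [this]
  exact isClassFunction_irr χ _ _

/-- If `⟨cZ⟩` is self-centralizing in `H/Z` and `c ∉ Z`, then `∑_{z ∈ Z} χ([z,c]) = 0`. -/
theorem fr_sum_Z_commutator_eq_zero [Fintype ↥Z] (he : e ^ 2 = Z.index)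
    (hχ : ∀ z : ↥Z, (χ : H → ℂ) z = (e : ℂ) * (θ : ↥Z → ℂ) z) (c : H) (hc : c ∉ Z)
    (hcent : Subgroup.centralizer ((Subgroup.zpowers (c : H ⧸ Z) : Subgroup (H ⧸ Z)) : Set (H ⧸ Z))
      = Subgroup.zpowers (c : H ⧸ Z)) :
    ∑ z : ↥Z, (χ : H → ℂ) ((z : H) * c * (z : H)⁻¹ * c⁻¹) = 0 := by
  classical
  have : Fintype (H ⧸ Z) := Fintype.ofFinite _
  set f : H → ℂ := fun h => (χ : H → ℂ) (h * c * h⁻¹ * c⁻¹) with hf
  have hT : ∑ h : H, f h = 0 := fr_sum_commutator_eq_zero Z χ θ e he hχ c hc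
  have h1 : ∑ h : H, f h = ∑ q : H ⧸ Z, ∑ h : H, if (h : H ⧸ Z) = q then f h else 0 := by
    rw [Finset.sum_comm]
    apply Finset.sum_congr rfl
    intro h _
    rw [Finset.sum_ite_eq]
    simp
  have h2 : ∀ q : H ⧸ Z, (∑ h : H, if (h : H ⧸ Z) = q then f h else 0)
      = if q ∈ Subgroup.zpowers (c : H ⧸ Z) then ∑ z : ↥Z, f z else 0 := by
    intro q
    split_ifs with hq
    · obtain ⟨i, rfl⟩ := Subgroup.mem_zpowers_iff.1 hq
      rw [sum_subgroup_eq_sum_ite' Z f]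
      refine Fintype.sum_bijective (fun h => (c ^ i)⁻¹ * h) (Group.mulLeft_bijective _) _ _ ?_
      intro h
      have hcond : ((h : H ⧸ Z) = (c : H ⧸ Z) ^ i) ↔ (c ^ i)⁻¹ * h ∈ Z := by
        rw [← QuotientGroup.mk_zpow, eq_comm, QuotientGroup.eq]
      have hval : f ((c ^ i)⁻¹ * h) = f h := by
        have := fr_commutator_zpow_mul χ c (-i) h
        rw [zpow_neg] at this
        exact this
      rw [hval]
      exact if_congr hcond rfl rfl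
    · apply Finset.sum_eq_zero
      intro h _
      split_ifs with hh
      · apply fr_vanish Z χ θ e he hχ
        intro hmem
        apply hq
        rw [← hh, ← hcent, Subgroup.mem_centralizer_iff]
        intro y hy
        obtain ⟨j, rfl⟩ := Subgroup.mem_zpowers_iff.1 hy
        have h5 : ((h * c * h⁻¹ * c⁻¹ : H) : H ⧸ Z) = 1 := (QuotientGroup.eq_one_iff _).2 hmem
        simp only [QuotientGroup.mk_mul, QuotientGroup.mk_inv] at h5
        have h6 : (h : H ⧸ Z) * (c : H ⧸ Z) = (c : H ⧸ Z) * (h : H ⧸ Z) := by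
          have h7 := mul_inv_eq_one.1 h5
          exact mul_inv_eq_iff_eq_mul.1 h7
        have h8 : Commute (h : H ⧸ Z) (c : H ⧸ Z) := h6
        exact (h8.zpow_right j).eq.symm
      · rfl
  rw [h1] at hT
  simp only [h2] at hT
  rw [← Finset.sum_filter, Finset.sum_const, nsmul_eq_mul] at hT
  have hne : ((Finset.univ.filter (fun q : H ⧸ Z => q ∈ Subgroup.zpowers (c : H ⧸ Z))).card : ℂ)
      ≠ 0 := by
    have : (1 : H ⧸ Z) ∈ Finset.univ.filter (fun q : H ⧸ Z => q ∈ Subgroup.zpowers (c : H ⧸ Z)) := by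
      simp
    have h9 := Finset.card_pos.2 ⟨_, this⟩
    exact_mod_cast h9.ne'
  rcases mul_eq_zero.1 hT with h | h
  · exact absurd h hne
  · exact h

/-- The sum over the coset `cZ` of the sums `∑_{z ∈ Z} χ([z, c z₀])`. -/
theorem fr_double_sum [Fintype ↥Z] (he : e ^ 2 = Z.index)
    (hχ : ∀ z : ↥Z, (χ : H → ℂ) z = (e : ℂ) * (θ : ↥Z → ℂ) z) (c : H) :
    ∑ z₀ : ↥Z, ∑ z : ↥Z, (χ : H → ℂ) ((z : H) * (c * z₀) * (z : H)⁻¹ * (c * z₀)⁻¹)
      = (e : ℂ) * (Nat.card ↥Z : ℂ) ^ 2 / (θ : ↥Z → ℂ) 1 := by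
  classical
  rw [Finset.sum_comm]
  have hterm : ∀ z : ↥Z, ∑ z₀ : ↥Z, (χ : H → ℂ) ((z : H) * (c * z₀) * (z : H)⁻¹ * (c * z₀)⁻¹)
      = (e : ℂ) * ((Nat.card ↥Z : ℂ) * ((θ : ↥Z → ℂ) z * conj ((θ : ↥Z → ℂ) z))
          / (θ : ↥Z → ℂ) 1) := by
    intro z
    set w : ↥Z := ⟨c⁻¹ * (z : H) * c⁻¹⁻¹, (inferInstance : Z.Normal).conj_mem (z : H) z.2 c⁻¹⟩ with hw
    have hwθ : (θ : ↥Z → ℂ) w = (θ : ↥Z → ℂ) z := fr_theta_eq Z χ θ e he hχ z w c⁻¹ rfl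
    have h1 : ∀ z₀ : ↥Z, (χ : H → ℂ) ((z : H) * (c * z₀) * (z : H)⁻¹ * (c * z₀)⁻¹)
        = (e : ℂ) * (θ : ↥Z → ℂ) (w * (z₀ * z⁻¹ * z₀⁻¹)) := by
      intro z₀
      rw [← hχ]
      have : (z : H) * (c * z₀) * (z : H)⁻¹ * (c * z₀)⁻¹
          = c * ((w * (z₀ * z⁻¹ * z₀⁻¹) : ↥Z) : H) * c⁻¹ := by
        simp only [hw, Subgroup.coe_mul, Subgroup.coe_inv, inv_inv]
        group
      rw [this]
      exact isClassFunction_irr χ _ _
    simp only [h1]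
    rw [← Finset.mul_sum, irr_sum_conj_mul θ w z⁻¹, hwθ,
      char_inv (IrrCharacter_isCharacter θ) z]
    ring
  simp only [hterm]
  rw [← Finset.mul_sum, ← Finset.sum_div, ← Finset.mul_sum]
  have hself := irr_inner_self θ
  rw [classInner_def] at hself
  have hZ0 : (Nat.card ↥Z : ℂ) ≠ 0 := card_ne_zero_complex
  have hsum : ∑ z : ↥Z, (θ : ↥Z → ℂ) z * conj ((θ : ↥Z → ℂ) z) = (Nat.card ↥Z : ℂ) := by
    field_simp at hself
    exact hself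
  rw [hsum]
  ring

/-- A fully ramified section `H/Z` has no self-centralizing cyclic subgroup `⟨cZ⟩` with
`c ∉ Z`. -/
theorem fr_no_self_centralizing (he : e ^ 2 = Z.index)
    (hχ : ∀ z : ↥Z, (χ : H → ℂ) z = (e : ℂ) * (θ : ↥Z → ℂ) z) (c : H) (hc : c ∉ Z) :
    Subgroup.centralizer ((Subgroup.zpowers (c : H ⧸ Z) : Subgroup (H ⧸ Z)) : Set (H ⧸ Z))
      ≠ Subgroup.zpowers (c : H ⧸ Z) := by
  classical
  have : Fintype ↥Z := Fintype.ofFinite _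
  intro hcent
  have hS : ∀ z₀ : ↥Z,
      ∑ z : ↥Z, (χ : H → ℂ) ((z : H) * (c * z₀) * (z : H)⁻¹ * (c * z₀)⁻¹) = 0 := by
    intro z₀
    have hmk : ((c * z₀ : H) : H ⧸ Z) = (c : H ⧸ Z) := by
      rw [QuotientGroup.mk_mul, (QuotientGroup.eq_one_iff _).2 z₀.2, mul_one]
    apply fr_sum_Z_commutator_eq_zero Z χ θ e he hχ (c * z₀)
    · intro hmem
      apply hc
      have := Z.mul_mem hmem (Z.inv_mem z₀.2)
      simpa using this
    · rw [hmk]; exact hcent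
  have hD := fr_double_sum Z χ θ e he hχ c
  simp only [hS, Finset.sum_const_zero] at hD
  have he0 := fr_e_ne_zero Z e he
  have hZ0 : (Nat.card ↥Z : ℂ) ≠ 0 := card_ne_zero_complex
  have hθ1 : (θ : ↥Z → ℂ) 1 ≠ 0 := irr_degree_ne_zero θ
  have : (e : ℂ) * (Nat.card ↥Z : ℂ) ^ 2 / (θ : ↥Z → ℂ) 1 ≠ 0 := by positivity
  exact this hD.symm

end FullyRamified

end Cfsg.Agent.Lib.Helper83
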