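import Mathlib
import Cfsg.Agent.Lib.Helper83.Abelian
import Cfsg.Agent.Lib.Helper84.NormalAction

set_option autoImplicit false

namespace Cfsg.Agent.Lib.Helper83

open scoped ComplexConjugate
open Cfsg

universe u
variable {G : Type u} [Group G]

/-- Conjugation by an element of the normalizer, as an automorphism of the subgroup. -/
def normConj (A : Subgroup G) (y : ↥(Subgroup.normalizer (A : Set G))) : ↥A ≃* ↥A where
  toFun s := ⟨(y : G) * s * (y : G)⁻¹, (Subgroup.mem_normalizer_iff.1 y.2 s).1 s.2⟩
  invFun s := ⟨(y : G)⁻¹ * s * (y : G), (Subgroup.mem_normalizer_iff''.1 y.2 s).1 s.2⟩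
  left_inv s := by
    apply Subtype.ext
    simp only
    group
  right_inv s := by
    apply Subtype.ext
    simp only
    group
  map_mul' s t := by
    apply Subtype.ext
    simp only [Subgroup.coe_mul]
    group

theorem normConj_coe (A : Subgroup G) (y : ↥(Subgroup.normalizer (A : Set G))) (s : ↥A) :
    ((normConj A y s : ↥A) : G) = (y : G) * s * (y : G)⁻¹ := rfl

theorem normConj_one (A : Subgroup G) (s : ↥A) : normConj A 1 s = s := by
  apply Subtype.ext
  rw [normConj_coe]
  simp

theorem normConj_mul (A : Subgroup G) (y₁ y₂ : ↥(Subgroup.normalizer (A : Set G))) (s : ↥A) :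
    normConj A (y₁ * y₂) s = normConj A y₁ (normConj A y₂ s) := by
  apply Subtype.ext
  simp only [normConj_coe, Subgroup.coe_mul]
  group

/-- The conjugation action of `N_G(A)` on the irreducible characters of `A`:
`(y • f) s = f (y⁻¹ s y)`. -/
noncomputable instance irrNormAction (A : Subgroup G) [Finite A] :
    MulAction ↥(Subgroup.normalizer (A : Set G)) (IrrCharacter ↥A) where
  smul y f := ⟨fun s => (f : ↥A → ℂ) (normConj A y⁻¹ s),
    Cfsg.Agent.Lib.Helper84.isIrrCharacter_comp_mulEquiv (normConj A y⁻¹) f.2⟩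
  one_smul f := by
    apply Subtype.ext
    funext s
    change (f : ↥A → ℂ) (normConj A (1 : ↥(Subgroup.normalizer (A : Set G)))⁻¹ s) = (f : ↥A → ℂ) s
    rw [inv_one, normConj_one]
  mul_smul y₁ y₂ f := by
    apply Subtype.ext
    funext s
    change (f : ↥A → ℂ) (normConj A (y₁ * y₂)⁻¹ s)
      = (f : ↥A → ℂ) (normConj A y₂⁻¹ (normConj A y₁⁻¹ s))
    rw [mul_inv_rev, normConj_mul]

theorem irrNormAction_apply (A : Subgroup G) [Finite A] (y : ↥(Subgroup.normalizer (A : Set G)))
    (f : IrrCharacter ↥A) (s : ↥A) :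
    ((y • f : IrrCharacter ↥A) : ↥A → ℂ) s = (f : ↥A → ℂ) (normConj A y⁻¹ s) := rfl

/-- The multiplicity of `f` in the restriction of a class function of `G` is invariant under
the action of the normalizer. -/
theorem classInner_restrict_smul [Fintype G] (A : Subgroup G) [Fintype A] {χ : G → ℂ}
    (hχ : IsClassFunction G χ) (y : ↥(Subgroup.normalizer (A : Set G))) (f : IrrCharacter ↥A) :
    classInner (fun s : ↥A => χ s) ((y • f : IrrCharacter ↥A) : ↥A → ℂ)
      = classInner (fun s : ↥A => χ s) (f : ↥A → ℂ) := by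
  rw [classInner_def, classInner_def]
  congr 1
  refine Fintype.sum_equiv (normConj A y⁻¹).toEquiv _ _ ?_
  intro s
  rw [irrNormAction_apply]
  congr 1
  change χ (s : G) = χ ((normConj A y⁻¹ s : ↥A) : G)
  rw [normConj_coe]
  exact (hχ _ _).symm

/-- Bessel's inequality for a finite set of irreducible constituents all of multiplicity `a`. -/
theorem card_mul_sq_le_of_classInner [Fintype G] {ψ : G → ℂ} (hψ : IsCharacter G ψ)
    (F : Finset (IrrCharacter G)) (a N : ℕ) (hF : ∀ f ∈ F, classInner ψ (f : G → ℂ) = a)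
    (hN : classInner ψ ψ = N) : F.card * a ^ 2 ≤ N := by
  classical
  haveI : Fintype (IrrCharacter G) := Fintype.ofFinite _
  have hexp := char_eq_sum_irrMult hψ
  have hnorm := classInner_sum_irr_self (G := G) (fun f => (irrMult ψ f : ℂ))
  rw [← hexp, hN] at hnorm
  have h2 : N = ∑ f : IrrCharacter G, irrMult ψ f * irrMult ψ f := by
    have : ((N : ℕ) : ℂ) = ((∑ f : IrrCharacter G, irrMult ψ f * irrMult ψ f : ℕ) : ℂ) := by
      push_cast
      rw [hnorm]
      apply Finset.sum_congr rfl
      intro f _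
      rw [Complex.conj_natCast]
    exact_mod_cast this
  rw [h2]
  calc F.card * a ^ 2 = ∑ f ∈ F, a ^ 2 := by rw [Finset.sum_const, smul_eq_mul]
    _ = ∑ f ∈ F, irrMult ψ f * irrMult ψ f := by
        apply Finset.sum_congr rfl
        intro f hf
        have h3 : (irrMult ψ f : ℂ) = (a : ℂ) := by rw [irrMult_cast hψ, hF f hf]
        have h4 : irrMult ψ f = a := by exact_mod_cast h3
        rw [h4, sq]
    _ ≤ ∑ f : IrrCharacter G, irrMult ψ f * irrMult ψ f :=
        Finset.sum_le_sum_of_subset (Finset.subset_univ F)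

end Cfsg.Agent.Lib.Helper83
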