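import Mathlib
import Cfsg.Agent.Lib.Helper83.FullyRamified
import Cfsg.Agent.Lib.Helper83.NormAction
import Cfsg.Agent.Lib.Helper83.FRGroup
import Cfsg.Agent.Lib.Helper85.CliffordAbelian

set_option autoImplicit false

namespace Cfsg.Agent.Lib.Helper83

open scoped ComplexConjugate
open Cfsg

universe u
variable {H : Type u} [Group H]

theorem fr_arith (p j a k pc r d m q n₀ e u : ℕ) (hp : p.Prime) (ha : 0 < a) (hak : a = pc * k)
    (hq : q = pc * r) (hr : r ≤ d) (hd : d * a ^ 2 ≤ q * m) (hL : a * n₀ = e * u)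
    (he : e ^ 2 = n₀ * q * m) (hpm : ¬ p ∣ m) (hnq : n₀ * q = p ^ j) (hd0 : 0 < d) :
    d = q := by
  have hpj : 0 < p ^ j := pow_pos hp.pos j
  have hn₀ : 0 < n₀ := by
    rcases Nat.eq_zero_or_pos n₀ with h | h
    · rw [h, zero_mul] at hnq; omega
    · exact h
  have hq0 : 0 < q := by
    rcases Nat.eq_zero_or_pos q with h | h
    · rw [h, mul_zero] at hnq; omega
    · exact h
  have hm0 : 0 < m := by
    rcases Nat.eq_zero_or_pos m with h | h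
    · exact absurd (h ▸ dvd_zero p) hpm
    · exact h
  have hpc0 : 0 < pc := by
    rcases Nat.eq_zero_or_pos pc with h | h
    · rw [h, zero_mul] at hq; omega
    · exact h
  have h1 : a ^ 2 * n₀ = q * m * u ^ 2 := by
    have : n₀ * (a ^ 2 * n₀) = n₀ * (q * m * u ^ 2) := by
      calc n₀ * (a ^ 2 * n₀) = (a * n₀) ^ 2 := by ring
        _ = (e * u) ^ 2 := by rw [hL]
        _ = e ^ 2 * u ^ 2 := by ring
        _ = n₀ * q * m * u ^ 2 := by rw [he]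
        _ = n₀ * (q * m * u ^ 2) := by ring
    exact Nat.eq_of_mul_eq_mul_left hn₀ this
  have hcop_p : Nat.Coprime m p := ((Nat.Prime.coprime_iff_not_dvd hp).2 hpm).symm
  have hcop_pj : Nat.Coprime m (p ^ j) := Nat.Coprime.pow_right j hcop_p
  have hcop_n₀ : Nat.Coprime m n₀ := Nat.Coprime.coprime_dvd_right ⟨q, hnq.symm⟩ hcop_pj
  have hcop_q : Nat.Coprime m q := Nat.Coprime.coprime_dvd_right ⟨n₀, by rw [← hnq]; ring⟩ hcop_pj
  have hcop_pc : Nat.Coprime m pc := Nat.Coprime.coprime_dvd_right ⟨r, hq⟩ hcop_q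
  have hm_dvd : m ∣ a ^ 2 := by
    have : m ∣ a ^ 2 * n₀ := ⟨q * u ^ 2, by rw [h1]; ring⟩
    exact hcop_n₀.dvd_of_dvd_mul_right this
  have hpc_dvd : pc ^ 2 ∣ a ^ 2 := ⟨k ^ 2, by rw [hak]; ring⟩
  have hprod : m * pc ^ 2 ∣ a ^ 2 :=
    Nat.Coprime.mul_dvd_of_dvd_of_dvd (Nat.Coprime.pow_right 2 hcop_pc) hm_dvd hpc_dvd
  have ha2 : 0 < a ^ 2 := pow_pos ha 2
  have hle : m * pc ^ 2 ≤ a ^ 2 := Nat.le_of_dvd ha2 hprod
  have hpc1 : pc = 1 := by
    have h2 : d * (m * pc ^ 2) ≤ d * m * pc := by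
      calc d * (m * pc ^ 2) ≤ d * a ^ 2 := Nat.mul_le_mul_left d hle
        _ ≤ q * m := hd
        _ = pc * r * m := by rw [hq]
        _ ≤ pc * d * m := by
            apply Nat.mul_le_mul_right
            exact Nat.mul_le_mul_left pc hr
        _ = d * m * pc := by ring
    have h3 : d * m * pc * pc ≤ d * m * pc * 1 := by
      calc d * m * pc * pc = d * (m * pc ^ 2) := by ring
        _ ≤ d * m * pc := h2
        _ = d * m * pc * 1 := by ring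
    have hpos : 0 < d * m * pc := by positivity
    have := Nat.le_of_mul_le_mul_left h3 hpos
    omega
  rw [hpc1, one_mul] at hq
  rw [hpc1] at hle
  have h4 : d * m ≤ q * m := by
    calc d * m = d * (m * 1 ^ 2) := by ring
      _ ≤ d * a ^ 2 := Nat.mul_le_mul_left d hle
      _ ≤ q * m := hd
  have h5 : d ≤ q := Nat.le_of_mul_le_mul_right h4 hm0
  omega

/-- A sum over a subgroup `A ⊇ Z` of a function supported on `Z`. -/
theorem sum_subgroup_of_support {Z A : Subgroup H} (h : Z ≤ A) [Fintype ↥Z] [Fintype ↥A]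
    (F : ↥A → ℂ) (hF : ∀ s : ↥A, (s : H) ∉ Z → F s = 0) :
    ∑ s : ↥A, F s = ∑ z : ↥Z, F ⟨z, h z.2⟩ := by
  symm
  apply Fintype.sum_of_injective (fun z : ↥Z => (⟨z, h z.2⟩ : ↥A))
  · intro z₁ z₂ h12
    apply Subtype.ext
    exact congrArg (fun s : ↥A => (s : H)) h12
  · intro s hs
    apply hF
    intro hmem
    exact hs ⟨⟨s, hmem⟩, Subtype.ext rfl⟩
  · intro z
    rfl

section

variable [Fintype H] (Z : Subgroup H) [Z.Normal] (χ : IrrCharacter H) (θ : IrrCharacter ↥Z) (e : ℕ)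

/-- The multiplicity of `f` in `χ|_A` in terms of the multiplicity of `θ` in `f|_Z`. -/
theorem fr_mult_formula [Fintype ↥Z] (he : e ^ 2 = Z.index)
    (hχ : ∀ z : ↥Z, (χ : H → ℂ) z = (e : ℂ) * (θ : ↥Z → ℂ) z) (A : Subgroup H) [Fintype ↥A]
    (hZA : Z ≤ A) (f : ↥A → ℂ) :
    classInner (fun s : ↥A => (χ : H → ℂ) s) f * (Nat.card ↥A : ℂ)
      = (e : ℂ) * (Nat.card ↥Z : ℂ)
        * conj (classInner (fun z : ↥Z => f ⟨z, hZA z.2⟩) (θ : ↥Z → ℂ)) := by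
  rw [classInner_def, classInner_def]
  have hA0 : (Nat.card ↥A : ℂ) ≠ 0 := card_ne_zero_complex
  have hZ0 : (Nat.card ↥Z : ℂ) ≠ 0 := card_ne_zero_complex
  rw [sum_subgroup_of_support hZA (fun s => (χ : H → ℂ) s * conj (f s))
    (by intro s hs; rw [fr_vanish Z χ θ e he hχ s hs, zero_mul])]
  simp only [hχ]
  rw [map_mul, map_inv₀, Complex.conj_natCast, map_sum]
  simp only [map_mul, Complex.conj_conj]
  field_simp
  rw [Finset.mul_sum]
  apply Finset.sum_congr rfl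
  intro z _
  ring

/-- The norm of the restriction of `χ` to a subgroup `A ⊇ Z` is `|H : A|`. -/
theorem fr_restrict_norm [Fintype ↥Z] (he : e ^ 2 = Z.index)
    (hχ : ∀ z : ↥Z, (χ : H → ℂ) z = (e : ℂ) * (θ : ↥Z → ℂ) z) (A : Subgroup H) [Fintype ↥A]
    (hZA : Z ≤ A) :
    classInner (fun s : ↥A => (χ : H → ℂ) s) (fun s : ↥A => (χ : H → ℂ) s) = (A.index : ℂ) := by
  have h1 := fr_mult_formula Z χ θ e he hχ A hZA (fun s : ↥A => (χ : H → ℂ) s)
  have h2 : classInner (fun z : ↥Z => (χ : H → ℂ) z) (θ : ↥Z → ℂ) = (e : ℂ) := by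
    have : (fun z : ↥Z => (χ : H → ℂ) z) = (e : ℂ) • (θ : ↥Z → ℂ) := by
      funext z
      rw [hχ]
      rfl
    rw [this, classInner_smul_left, irr_inner_self, mul_one]
  simp only at h1
  rw [h2, Complex.conj_natCast] at h1
  have hA0 : (Nat.card ↥A : ℂ) ≠ 0 := card_ne_zero_complex
  have h3 : ((e ^ 2 * Nat.card ↥Z : ℕ) : ℂ) = ((A.index * Nat.card ↥A : ℕ) : ℂ) := by
    have h4 : e ^ 2 * Nat.card ↥Z = A.index * Nat.card ↥A := by
      rw [he, mul_comm, Subgroup.card_mul_index, mul_comm, Subgroup.card_mul_index]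
    rw [h4]
  push_cast at h3
  apply mul_right_cancel₀ hA0
  rw [h1, ← h3]
  ring

/-- Core: the stabilizer in `N_H(S₀)` of a suitable irreducible constituent of `χ|_{S₀}` has
index `|S : S₀|`. -/
theorem fr_exists_stabilizer [Fintype ↥Z] (he : e ^ 2 = Z.index)
    (hχ : ∀ z : ↥Z, (χ : H → ℂ) z = (e : ℂ) * (θ : ↥Z → ℂ) z) (p : ℕ) (hp : p.Prime)
    (S₀ S : Subgroup H) [Fintype ↥S₀] (hZS₀ : Z ≤ S₀) (hS₀S : S₀ ≤ S)
    (hSY : S ≤ Subgroup.normalizer (S₀ : Set H)) (hpm : ¬ p ∣ S.index) (j : ℕ)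
    (hj : Z.relIndex S = p ^ j)
    (hyp : ∀ (φ₀ : IrrCharacter ↥S₀) (I₀ : Subgroup H), S₀ ≤ I₀ → I₀ ≤ S →
        (∀ x ∈ I₀, ∀ (s : ↥S₀) (hx : x * s * x⁻¹ ∈ S₀),
          (φ₀ : ↥S₀ → ℂ) ⟨x * s * x⁻¹, hx⟩ = (φ₀ : ↥S₀ → ℂ) s) →
        ∃ k : ℕ, classInner (fun s : ↥S₀ => (χ : H → ℂ) s) (φ₀ : ↥S₀ → ℂ)
          = ((S₀.relIndex I₀ * k : ℕ) : ℂ)) :
    ∃ I : Subgroup H, S₀ ≤ I ∧ I ≤ Subgroup.normalizer (S₀ : Set H) ∧
      Nat.card (Subgroup.normalizer (S₀ : Set H)) = S₀.relIndex S * Nat.card I := by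
  classical
  have hZS : Z ≤ S := hZS₀.trans hS₀S
  have hS₀Y : S₀ ≤ Subgroup.normalizer (S₀ : Set H) := Subgroup.le_normalizer
  have hψ : IsCharacter ↥S₀ (fun s : ↥S₀ => (χ : H → ℂ) s) :=
    isCharacter_restrict S₀ (IrrCharacter_isCharacter χ)
  obtain ⟨f₀, hf₀irr, hf₀⟩ := Cfsg.Agent.Lib.Helper85.exists_irr_constituent hψ
    (by
      have := irr_degree_ne_zero χ
      simpa using this)
  obtain ⟨a, ha⟩ := classInner_char_nat hψ (isCharacter_of_irr hf₀irr)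
  have ha0 : 0 < a := by
    apply Nat.pos_of_ne_zero
    rintro rfl
    apply hf₀
    rw [ha, Nat.cast_zero]
  set φ₀ : IrrCharacter ↥S₀ := ⟨f₀, hf₀irr⟩ with hφ₀
  have ha' : classInner (fun s : ↥S₀ => (χ : H → ℂ) s) (φ₀ : ↥S₀ → ℂ) = (a : ℂ) := ha
  -- the multiplicity `u`
  have hres : IsCharacter ↥Z (fun z : ↥Z => (φ₀ : ↥S₀ → ℂ) ⟨z, hZS₀ z.2⟩) :=
    isCharacter_comp_hom (Subgroup.inclusion hZS₀) (IrrCharacter_isCharacter φ₀)
  obtain ⟨u, hu⟩ := classInner_char_nat hres (IrrCharacter_isCharacter θ)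
  have hL := fr_mult_formula Z χ θ e he hχ S₀ hZS₀ (φ₀ : ↥S₀ → ℂ)
  rw [ha', hu, Complex.conj_natCast] at hL
  have hL' : a * Z.relIndex S₀ = e * u := by
    have h1 := Cfsg.Agent.Lib.Helper20.relIndex_mul_card_of_le hZS₀
    have h2 : a * (Z.relIndex S₀ * Nat.card ↥Z) = e * Nat.card ↥Z * u := by
      have : ((a * (Z.relIndex S₀ * Nat.card ↥Z) : ℕ) : ℂ) = ((e * Nat.card ↥Z * u : ℕ) : ℂ) := by
        rw [h1]
        push_cast
        exact hL
      exact_mod_cast this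
    have hZpos : 0 < Nat.card ↥Z := Nat.card_pos
    apply Nat.eq_of_mul_eq_mul_right hZpos
    calc a * Z.relIndex S₀ * Nat.card ↥Z = a * (Z.relIndex S₀ * Nat.card ↥Z) := by ring
      _ = e * Nat.card ↥Z * u := h2
      _ = e * u * Nat.card ↥Z := by ring
  have hnorm := fr_restrict_norm Z χ θ e he hχ S₀ hZS₀
  -- the stabilizer
  set I' : Subgroup ↥(Subgroup.normalizer (S₀ : Set H)) :=
    MulAction.stabilizer ↥(Subgroup.normalizer (S₀ : Set H)) φ₀ with hI'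
  have horb : I'.index * a ^ 2 ≤ S₀.index := by
    rw [hI', MulAction.index_stabilizer]
    have : Fintype (MulAction.orbit ↥(Subgroup.normalizer (S₀ : Set H)) φ₀) := Fintype.ofFinite _
    rw [Set.ncard_eq_toFinset_card']
    apply card_mul_sq_le_of_classInner hψ _ a S₀.index _ hnorm
    intro f hf
    rw [Set.mem_toFinset] at hf
    obtain ⟨y, rfl⟩ := hf
    rw [classInner_restrict_smul S₀ (isClassFunction_irr χ) y φ₀]
    exact ha'
  set I : Subgroup H := I'.map (Subgroup.subtype _) with hI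
  have hIY : I ≤ Subgroup.normalizer (S₀ : Set H) := Subgroup.map_subtype_le _
  have hmemI : ∀ x : H, x ∈ I ↔ ∃ hx : x ∈ Subgroup.normalizer (S₀ : Set H),
      (⟨x, hx⟩ : ↥(Subgroup.normalizer (S₀ : Set H))) • φ₀ = φ₀ := by
    intro x
    constructor
    · rintro ⟨y, hy, rfl⟩
      exact ⟨y.2, hy⟩
    · rintro ⟨hx, hfix⟩
      exact ⟨⟨x, hx⟩, hfix, rfl⟩
  have hS₀I : S₀ ≤ I := by
    intro s₀ hs₀
    rw [hmemI]
    refine ⟨hS₀Y hs₀, ?_⟩
    apply Subtype.ext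
    funext s
    rw [irrNormAction_apply]
    have hcl := isClassFunction_irr φ₀ s (⟨s₀, hs₀⟩ : ↥S₀)⁻¹
    rw [← hcl]
    congr 1
  have hcardI : Nat.card I = Nat.card I' :=
    Subgroup.card_map_of_injective (Subgroup.subtype_injective _)
  have hcardY : Nat.card (Subgroup.normalizer (S₀ : Set H)) = I'.index * Nat.card I := by
    rw [hcardI, mul_comm]
    exact (I'.card_mul_index).symm
  have hrelI : I.relIndex (Subgroup.normalizer (S₀ : Set H)) = I'.index := by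
    rw [Subgroup.relIndex, hI, Subgroup.subgroupOf,
      Subgroup.comap_map_eq_self_of_injective (Subgroup.subtype_injective _)]
  -- I₀
  set I₀ : Subgroup H := I ⊓ S with hI₀
  have hS₀I₀ : S₀ ≤ I₀ := le_inf hS₀I hS₀S
  have hI₀S : I₀ ≤ S := inf_le_right
  have hfix : ∀ x ∈ I₀, ∀ (s : ↥S₀) (hx : x * s * x⁻¹ ∈ S₀),
      (φ₀ : ↥S₀ → ℂ) ⟨x * s * x⁻¹, hx⟩ = (φ₀ : ↥S₀ → ℂ) s := by
    intro x hxI₀ s hx
    obtain ⟨hxN, hxfix⟩ := (hmemI x).1 hxI₀.1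
    have h1 : (((⟨x, hxN⟩ : ↥(Subgroup.normalizer (S₀ : Set H))) • φ₀ : IrrCharacter ↥S₀) : ↥S₀ → ℂ)
        ⟨x * s * x⁻¹, hx⟩ = (φ₀ : ↥S₀ → ℂ) ⟨x * s * x⁻¹, hx⟩ := by rw [hxfix]
    rw [irrNormAction_apply] at h1
    rw [← h1]
    refine congrArg (φ₀ : ↥S₀ → ℂ) ?_
    apply Subtype.ext
    rw [normConj_coe]
    simp only [Subgroup.coe_inv]
    group
  obtain ⟨k, hk⟩ := hyp φ₀ I₀ hS₀I₀ hI₀S hfix
  rw [ha'] at hk
  have hak : a = S₀.relIndex I₀ * k := by exact_mod_cast hk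
  -- relative indices
  have hq : S₀.relIndex S = S₀.relIndex I₀ * I₀.relIndex S :=
    (Subgroup.relIndex_mul_relIndex _ _ _ hS₀I₀ hI₀S).symm
  have hd0 : 0 < I'.index := Nat.pos_of_ne_zero Subgroup.index_ne_zero_of_finite
  have hr : I₀.relIndex S ≤ I'.index := by
    rw [hI₀, Subgroup.inf_relIndex_right, ← hrelI]
    apply Subgroup.relIndex_le_of_le_right hSY
    rw [hrelI]
    exact hd0.ne'
  have hidx : e ^ 2 = Z.relIndex S₀ * S₀.relIndex S * S.index := by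
    rw [he, ← Subgroup.relIndex_mul_index hZS, ← Subgroup.relIndex_mul_relIndex _ _ _ hZS₀ hS₀S]
  have hnq : Z.relIndex S₀ * S₀.relIndex S = p ^ j := by
    rw [← hj]
    exact Subgroup.relIndex_mul_relIndex _ _ _ hZS₀ hS₀S
  have hd : I'.index * a ^ 2 ≤ S₀.relIndex S * S.index := by
    rw [Subgroup.relIndex_mul_index hS₀S]
    exact horb
  have hfinal := fr_arith p j a k (S₀.relIndex I₀) (I₀.relIndex S) I'.index S.index
    (S₀.relIndex S) (Z.relIndex S₀) e u hp ha0 hak hq hr hd hL' hidx hpm hnq hd0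
  refine ⟨I, hS₀I, hIY, ?_⟩
  rw [hcardY, hfinal]

/-- Main reduction: under the divisibility hypothesis `hyp5` (for the prime `p`), there is a
subgroup `M ⊇ K` of `p`-power index in `H` with `|M : K|` prime to `p`. -/
theorem fr_exists_sup_index (K : Subgroup H) [K.Normal] (hZK : Z ≤ K) (he : e ^ 2 = Z.index)
    (hχ : ∀ z : ↥Z, (χ : H → ℂ) z = (e : ℂ) * (θ : ↥Z → ℂ) z) (p : ℕ) [Fact p.Prime]
    (hyp5 : ∀ (S_H : Sylow p H) (S₀ I₀ : Subgroup H) [Fintype ↥S₀],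
      I₀ ≤ (S_H : Subgroup H) ⊔ Z → S₀ ≤ I₀ → I₀ ⊓ K = S₀ → Z ≤ S₀ → ∀ φ₀ : IrrCharacter ↥S₀,
      (∀ x ∈ I₀, ∀ (s : ↥S₀) (hx : x * s * x⁻¹ ∈ S₀),
        (φ₀ : ↥S₀ → ℂ) ⟨x * s * x⁻¹, hx⟩ = (φ₀ : ↥S₀ → ℂ) s) →
      ∃ k : ℕ, classInner (fun s : ↥S₀ => (χ : H → ℂ) s) (φ₀ : ↥S₀ → ℂ)
        = ((S₀.relIndex I₀ * k : ℕ) : ℂ)) :
    ∃ M : Subgroup H, K ≤ M ∧ (∃ j, M.index = p ^ j) ∧ ¬ p ∣ K.relIndex M := by
  classical
  have : Fintype ↥Z := Fintype.ofFinite _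
  have hp : p.Prime := Fact.out
  obtain ⟨S_H, hFr⟩ := exists_sylow_normalizer_sup_eq_top Z K hZK p
  obtain ⟨j, hj⟩ := relIndex_sylow_sup_pow Z p S_H
  have hpm := sylow_sup_index_not_dvd Z p S_H
  have hyp5' := hyp5 S_H
  generalize hS : (S_H : Subgroup H) ⊔ Z = S at hFr hj hpm hyp5'
  generalize hS₀ : S ⊓ K = S₀ at hFr
  have : Fintype ↥S₀ := Fintype.ofFinite _
  have hZS : Z ≤ S := hS ▸ le_sup_right
  have hZS₀ : Z ≤ S₀ := hS₀ ▸ le_inf hZS hZK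
  have hS₀S : S₀ ≤ S := hS₀ ▸ inf_le_left
  have hS₀K : S₀ ≤ K := hS₀ ▸ inf_le_right
  have hS₀Y : S₀ ≤ Subgroup.normalizer (S₀ : Set H) := Subgroup.le_normalizer
  have hSY : S ≤ Subgroup.normalizer (S₀ : Set H) := by
    rw [← hS₀]
    exact Cfsg.Agent.Lib.Helper01.le_normalizer_inf_normal S K
  obtain ⟨I, hS₀I, hIY, hcard⟩ := fr_exists_stabilizer Z χ θ e he hχ p hp S₀ S hZS₀ hS₀S hSY hpm
    j hj (by
      intro φ₀ I₀ hS₀I₀ hI₀S hfix
      refine hyp5' S₀ I₀ hI₀S hS₀I₀ ?_ hZS₀ φ₀ hfix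
      apply le_antisymm
      · rw [← hS₀]
        exact inf_le_inf_right K hI₀S
      · exact le_inf hS₀I₀ hS₀K)
  have hqmul : Z.relIndex S₀ * S₀.relIndex S = p ^ j := by
    rw [← hj]
    exact Subgroup.relIndex_mul_relIndex _ _ _ hZS₀ hS₀S
  have hq : S₀.relIndex S ∣ p ^ j := ⟨Z.relIndex S₀, by rw [← hqmul]; ring⟩
  have hrelK : S₀.relIndex K ∣ S.index := by
    rw [← hS₀, ← Cfsg.Agent.Lib.Helper20.relIndex_sup_eq_relIndex_inf S K]
    exact Subgroup.relIndex_dvd_index_of_le le_sup_left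
  have hcop : ¬ p ∣ S₀.relIndex (K ⊓ Subgroup.normalizer (S₀ : Set H)) := by
    intro hdvd
    apply hpm
    have h1 := Subgroup.relIndex_mul_relIndex S₀ (K ⊓ Subgroup.normalizer (S₀ : Set H)) K
      (le_inf hS₀K hS₀Y) inf_le_left
    exact (hdvd.trans ⟨_, h1.symm⟩).trans hrelK
  have hidx := index_sup_of_relIndex K (Subgroup.normalizer (S₀ : Set H)) I S₀ p j
    (S₀.relIndex S) hp hFr hIY hS₀I hS₀K hS₀Y hq hcard hcop
  refine ⟨I ⊔ K, le_sup_right, ?_, ?_⟩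
  · obtain ⟨i, -, hi⟩ := (Nat.dvd_prime_pow hp).1 hq
    exact ⟨i, by rw [hidx, hi]⟩
  · have h1 := Subgroup.relIndex_mul_index (le_sup_right : K ≤ I ⊔ K)
    have h2 := Subgroup.relIndex_mul_index (le_sup_right : K ≤ S ⊔ K)
    have h3 : K.relIndex (S ⊔ K) = S₀.relIndex S := by
      rw [Subgroup.relIndex_sup_right, ← hS₀, inf_comm, Subgroup.inf_relIndex_right]
    rw [hidx] at h1
    rw [h3, ← h1] at h2
    have hqpos : 0 < S₀.relIndex S := by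
      rcases Nat.eq_zero_or_pos (S₀.relIndex S) with h | h
      · rw [h, mul_zero] at hqmul
        exact absurd hqmul.symm (pow_pos hp.pos j).ne'
      · exact h
    have h4 : (S ⊔ K).index = K.relIndex (I ⊔ K) := by
      apply Nat.eq_of_mul_eq_mul_left hqpos
      rw [h2, mul_comm]
    rw [← h4]
    intro hdvd
    exact hpm (hdvd.trans (Subgroup.index_dvd_of_le le_sup_left))

end

end Cfsg.Agent.Lib.Helper83
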