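import Mathlib
import Cfsg.Agent.Lib.Helper83.FullyRamified2
import Cfsg.Agent.Lib.Helper85.CliffordCorr
import Cfsg.Agent.Lib.Helper04.IndFun
import Cfsg.Agent.Lib.Helper34.Induction
import Cfsg.Agent.S0868
import Cfsg.Agent.Lib.Helper84.NormalAction

set_option autoImplicit false

namespace Cfsg.Agent.Lib.Helper83

open scoped ComplexConjugate
open Cfsg

universe u
variable {G : Type u} [Group G]

/-- A character whose restriction to some subgroup is irreducible is irreducible. -/
theorem isIrr_of_restrict_isIrr [Fintype G] (A : Subgroup G) [Fintype A] {f : G → ℂ}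
    (hf : IsCharacter G f) (hA : IsIrrCharacter A (fun a : A => f a)) : IsIrrCharacter G f := by
  classical
  have hf1 : f 1 ≠ 0 := by
    have := irr_degree_ne_zero (⟨_, hA⟩ : IrrCharacter A)
    simpa using this
  obtain ⟨ψ, hψ, hne⟩ := Cfsg.Agent.Lib.Helper85.exists_irr_constituent hf hf1
  have hg : IsCharacter G (f - ψ) := Cfsg.Agent.Lib.Helper85.isCharacter_sub_irr hf hψ hne
  set ξ : A → ℂ := fun a => f a with hξ
  set ψA : A → ℂ := fun a => ψ a with hψAdef
  set gA : A → ℂ := fun a => (f - ψ) a with hgAdef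
  have hψA : IsCharacter A ψA := isCharacter_restrict A (isCharacter_of_irr hψ)
  have hgA : IsCharacter A gA := isCharacter_restrict A hg
  have hsum : ξ = ψA + gA := by
    funext a
    simp [hξ, hψAdef, hgAdef]
  obtain ⟨n1, hn1⟩ := classInner_char_nat hψA hψA
  obtain ⟨n2, hn2⟩ := classInner_char_nat hψA hgA
  obtain ⟨n2', hn2'⟩ := classInner_char_nat hgA hψA
  obtain ⟨n3, hn3⟩ := classInner_char_nat hgA hgA
  have hnorm : classInner ξ ξ = 1 := irr_inner_self (⟨ξ, hA⟩ : IrrCharacter A)
  rw [hsum, classInner_add_left, classInner_add_right, classInner_add_right, hn1, hn2, hn2',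
    hn3] at hnorm
  have hnat : n1 + n2 + (n2' + n3) = 1 := by exact_mod_cast hnorm
  have hn1pos : n1 ≠ 0 := by
    intro h0
    rw [h0, Nat.cast_zero] at hn1
    have h1 := (Cfsg.Agent.Lib.Helper34.classInner_self_eq_zero ψA).1 hn1
    have h2 : ψA 1 = 0 := by rw [h1]; rfl
    have h3 : ψ 1 ≠ 0 := irr_degree_ne_zero (⟨ψ, hψ⟩ : IrrCharacter G)
    apply h3
    simpa [hψAdef] using h2
  have hn3z : n3 = 0 := by omega
  rw [hn3z, Nat.cast_zero] at hn3
  have h1 := (Cfsg.Agent.Lib.Helper34.classInner_self_eq_zero gA).1 hn3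
  have h2 : (f - ψ) 1 = 0 := by
    have : gA 1 = 0 := by rw [h1]; rfl
    simpa [hgAdef] using this
  have h3 := Cfsg.Agent.Lib.Helper85.char_eq_zero_of_apply_one hg h2
  have h4 : f = ψ := sub_eq_zero.1 h3
  rw [h4]
  exact hψ

/-- A character containing the irreducible `ν` with multiplicity `a` and of degree `a ν(1)`
equals `a ν`. -/
theorem eq_smul_of_inner_of_degree [Fintype G] : ∀ (a : ℕ) {ξ ν : G → ℂ}, IsCharacter G ξ →
    IsIrrCharacter G ν → classInner ξ ν = (a : ℂ) → ξ 1 = (a : ℂ) * ν 1 → ξ = (a : ℂ) • ν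
  | 0, ξ, ν, hξ, _, _, h1 => by
    rw [Nat.cast_zero, zero_mul] at h1
    rw [Cfsg.Agent.Lib.Helper85.char_eq_zero_of_apply_one hξ h1]
    simp
  | a + 1, ξ, ν, hξ, hν, hin, h1 => by
    have hne : classInner ξ ν ≠ 0 := by
      rw [hin]
      exact_mod_cast Nat.succ_ne_zero a
    have hg := Cfsg.Agent.Lib.Helper85.isCharacter_sub_irr hξ hν hne
    have hin' : classInner (ξ - ν) ν = (a : ℂ) := by
      rw [classInner_sub_left, hin, irr_inner_self (⟨ν, hν⟩ : IrrCharacter G)]
      push_cast
      ring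
    have h1' : (ξ - ν) 1 = (a : ℂ) * ν 1 := by
      rw [Pi.sub_apply, h1]
      push_cast
      ring
    have := eq_smul_of_inner_of_degree a hg hν hin' h1'
    funext g
    have hg' := congrFun this g
    simp only [Pi.sub_apply, Pi.smul_apply, smul_eq_mul] at hg' ⊢
    push_cast
    linear_combination hg'

/-- Irreducibility of a pulled-back character, detected on a subgroup mapping isomorphically onto
a group on which the character is irreducible. -/
theorem isIrr_comp_of_sub {X : Type u} [Group X] [Fintype X] {Y Z : Type*} [Group Y] [Group Z]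
    [Finite Z] (f : X →* Y) {ϑ : Y → ℂ} (hϑ : IsCharacter Y ϑ) (A : Subgroup X) [Fintype A]
    (e : A ≃* Z) (ι : Z → Y) (hι : IsIrrCharacter Z (fun z => ϑ (ι z)))
    (hcomp : ∀ a : A, f (a : X) = ι (e a)) : IsIrrCharacter X (fun x => ϑ (f x)) := by
  apply isIrr_of_restrict_isIrr A (isCharacter_comp_hom f hϑ)
  have := Cfsg.Agent.Lib.Helper84.isIrrCharacter_comp_mulEquiv e hι
  have heq : (fun a : A => ϑ (f (a : X))) = fun a : A => ϑ (ι (e a)) := by
    funext a
    rw [hcomp]
  rw [heq]
  exact this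

section Mackey

variable [Fintype G] (M H : Subgroup G)

/-- For a supplement `M` of `H` (`M H = G`), the pairs `(m, h)` correspond to pairs `(g, t)` with
`t ∈ M ∩ H`. -/
noncomputable def supplementEquiv (hsup : ∀ g : G, ∃ m ∈ M, ∃ h ∈ H, m * h = g) :
    (↥M × ↥H) ≃ (G × ↥(H.subgroupOf M)) where
  toFun mh := (mh.1 * mh.2, ⟨⟨(Classical.choose (hsup (mh.1 * mh.2)))⁻¹ * mh.1,
    M.mul_mem (M.inv_mem (Classical.choose_spec (hsup (mh.1 * mh.2))).1) mh.1.2⟩, by
      rw [Subgroup.mem_subgroupOf]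
      obtain ⟨hm, h, hh, heq⟩ := Classical.choose_spec (hsup (mh.1 * mh.2))
      have : (Classical.choose (hsup (mh.1 * mh.2)))⁻¹ * (mh.1 : G) = h * (mh.2 : G)⁻¹ := by
        rw [inv_mul_eq_iff_eq_mul, ← mul_assoc, heq, mul_inv_cancel_right]
      change (Classical.choose (hsup (mh.1 * mh.2)))⁻¹ * (mh.1 : G) ∈ H
      rw [this]
      exact H.mul_mem hh (H.inv_mem mh.2.2)⟩)
  invFun xt := (⟨Classical.choose (hsup xt.1) * ((xt.2 : M) : G),
      M.mul_mem (Classical.choose_spec (hsup xt.1)).1 (xt.2 : M).2⟩,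
    ⟨((xt.2 : M) : G)⁻¹ * Classical.choose (Classical.choose_spec (hsup xt.1)).2,
      H.mul_mem (H.inv_mem (Subgroup.mem_subgroupOf.1 xt.2.2))
        (Classical.choose_spec (Classical.choose_spec (hsup xt.1)).2).1⟩)
  left_inv mh := by
    obtain ⟨m, h⟩ := mh
    have hspec := Classical.choose_spec (Classical.choose_spec (hsup (m * h))).2
    apply Prod.ext
    · apply Subtype.ext
      simp
    · apply Subtype.ext
      simp only [mul_inv_rev, inv_inv]
      rw [mul_assoc, hspec.2, ← mul_assoc, inv_mul_cancel, one_mul]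
  right_inv xt := by
    obtain ⟨x, t⟩ := xt
    have hspec := Classical.choose_spec (Classical.choose_spec (hsup x)).2
    have hx : Classical.choose (hsup x) * ((t : M) : G) *
        (((t : M) : G)⁻¹ * Classical.choose (Classical.choose_spec (hsup x)).2) = x := by
      rw [mul_assoc, mul_inv_cancel_left, hspec.2]
    apply Prod.ext
    · exact hx
    · apply Subtype.ext
      apply Subtype.ext
      simp only
      rw [hx, inv_mul_cancel_left]

omit [Fintype G] in
theorem supplementEquiv_fst (hsup : ∀ g : G, ∃ m ∈ M, ∃ h ∈ H, m * h = g) (mh : ↥M × ↥H) :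
    (supplementEquiv M H hsup mh).1 = (mh.1 : G) * (mh.2 : G) := rfl

/-- Mackey's formula for a supplement: if `M H = G`, the restriction to `M` of a class function
induced from `H` is induced from `M ∩ H`. -/
theorem indFun_restrict_of_supplement [Fintype M] [Fintype H] [Fintype (H.subgroupOf M)]
    (hsup : ∀ g : G, ∃ m ∈ M, ∃ h ∈ H, m * h = g) (ϑ : H → ℂ) (hϑ : IsClassFunction H ϑ)
    (g : M) :
    indFun H ϑ (g : G) =
      indFun (H.subgroupOf M) (fun x : H.subgroupOf M => ϑ ⟨((x : M) : G), x.2⟩) g := by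
  classical
  rw [Cfsg.Agent.Lib.Helper04.indFun_apply, Cfsg.Agent.Lib.Helper04.indFun_apply]
  set F : G → ℂ := fun x => extendByZero H ϑ (x⁻¹ * (g : G) * x) with hF
  have hext : ∀ y : M, extendByZero (H.subgroupOf M)
      (fun x : H.subgroupOf M => ϑ ⟨((x : M) : G), x.2⟩) y = extendByZero H ϑ (y : G) := by
    intro y
    by_cases hy : (y : G) ∈ H
    · rw [Cfsg.Agent.Lib.Helper04.extendByZero_apply_of_mem H ϑ _ hy,
        Cfsg.Agent.Lib.Helper04.extendByZero_apply_of_mem (H.subgroupOf M) _ y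
          (Subgroup.mem_subgroupOf.2 hy)]
    · rw [Cfsg.Agent.Lib.Helper04.extendByZero_apply_not_mem H ϑ _ hy,
        Cfsg.Agent.Lib.Helper04.extendByZero_apply_not_mem (H.subgroupOf M) _ y
          (fun hc => hy (Subgroup.mem_subgroupOf.1 hc))]
  have hR : ∑ m : M, extendByZero (H.subgroupOf M)
      (fun x : H.subgroupOf M => ϑ ⟨((x : M) : G), x.2⟩) (m⁻¹ * g * m) = ∑ m : M, F (m : G) := by
    apply Finset.sum_congr rfl
    intro m _
    rw [hext]
    rfl
  rw [hR]
  -- right invariance of `F`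
  have hinv : ∀ (x : G) (h : H), F (x * (h : G)) = F x := by
    intro x h
    simp only [hF]
    have e1 : (x * (h : G))⁻¹ * (g : G) * (x * (h : G)) = (h : G)⁻¹ * (x⁻¹ * (g : G) * x) * (h : G) := by
      group
    rw [e1]
    set y := x⁻¹ * (g : G) * x with hy
    by_cases hyH : y ∈ H
    · have hyH' : (h : G)⁻¹ * y * (h : G) ∈ H := H.mul_mem (H.mul_mem (H.inv_mem h.2) hyH) h.2
      rw [Cfsg.Agent.Lib.Helper04.extendByZero_apply_of_mem H ϑ _ hyH,
        Cfsg.Agent.Lib.Helper04.extendByZero_apply_of_mem H ϑ _ hyH']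
      have := hϑ ⟨y, hyH⟩ h⁻¹
      rw [← this]
      congr 1
      apply Subtype.ext
      simp
    · have hyH' : (h : G)⁻¹ * y * (h : G) ∉ H := by
        intro hc
        apply hyH
        have : y = (h : G) * ((h : G)⁻¹ * y * (h : G)) * (h : G)⁻¹ := by group
        rw [this]
        exact H.mul_mem (H.mul_mem h.2 hc) (H.inv_mem h.2)
      rw [Cfsg.Agent.Lib.Helper04.extendByZero_apply_not_mem H ϑ _ hyH,
        Cfsg.Agent.Lib.Helper04.extendByZero_apply_not_mem H ϑ _ hyH']
  -- double counting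
  have hcount : (Nat.card H : ℂ) * ∑ m : M, F (m : G) =
      (Nat.card (H.subgroupOf M) : ℂ) * ∑ x : G, F x := by
    have h1 : ∑ mh : ↥M × ↥H, F ((mh.1 : G) * (mh.2 : G)) =
        (Nat.card H : ℂ) * ∑ m : M, F (m : G) := by
      rw [Fintype.sum_prod_type, Finset.mul_sum]
      apply Finset.sum_congr rfl
      intro m _
      simp only [hinv, Finset.sum_const, Finset.card_univ, nsmul_eq_mul]
      rw [Nat.card_eq_fintype_card]
    have h2 : ∑ mh : ↥M × ↥H, F ((mh.1 : G) * (mh.2 : G)) =
        (Nat.card (H.subgroupOf M) : ℂ) * ∑ x : G, F x := by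
      rw [Fintype.sum_equiv (supplementEquiv M H hsup)
        (fun mh : ↥M × ↥H => F ((mh.1 : G) * (mh.2 : G)))
        (fun xt : G × ↥(H.subgroupOf M) => F xt.1) (fun mh => rfl),
        Fintype.sum_prod_type, Finset.mul_sum]
      apply Finset.sum_congr rfl
      intro x _
      simp only [Finset.sum_const, Finset.card_univ, nsmul_eq_mul]
      rw [Nat.card_eq_fintype_card]
    rw [← h1, h2]
  have hH : (Nat.card H : ℂ) ≠ 0 := card_ne_zero_complex
  have hHM : (Nat.card (H.subgroupOf M) : ℂ) ≠ 0 := card_ne_zero_complex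
  field_simp
  linear_combination (-1 : ℂ) * hcount

end Mackey

/-- Sum of `|η|²` over a coset of a normal subgroup on which `η` restricts irreducibly. -/
theorem sum_normSq_coset_of_restrict_irr [Fintype G] (K : Subgroup G) [K.Normal] [Fintype K]
    {η : G → ℂ} (hη : IsIrrCharacter G η) (hηK : IsIrrCharacter K (fun k : K => η k)) (g : G) :
    ∑ k : K, Complex.normSq (η ((k : G) * g)) = (Nat.card K : ℝ) := by
  have h1 := (Cfsg.Agent.S0868.result K η hη hηK η hη _ rfl).2.2 rfl
  have h2 := congrFun h1 g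
  have hK : (Nat.card K : ℂ) ≠ 0 := card_ne_zero_complex
  have h3 : ∑ k : K, η ((k : G) * g) * conj (η ((k : G) * g)) = (Nat.card K : ℂ) := by
    field_simp at h2
    linear_combination h2
  have h4 : ∀ k : K, η ((k : G) * g) * conj (η ((k : G) * g)) =
      ((Complex.normSq (η ((k : G) * g)) : ℝ) : ℂ) := fun k => Complex.mul_conj _
  simp only [h4] at h3
  exact_mod_cast h3

/-- The coset-norm endgame: if `η` restricts irreducibly to the normal subgroup `K`, restricts to
`N` as `a ν` with `ν` irreducible and irreducible on `L ≤ K ∩ N`, and `|K| = a² |L|`, then every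
coset `L n` (`n ∈ N`) contains an element centralizing `K` modulo `L`. -/
theorem exists_centralizing_of_restrict_smul [Fintype G] (K N L : Subgroup G) [K.Normal]
    [Fintype K] [Fintype N] [Fintype L] [Fintype (L.subgroupOf N)]
    (hLK : L ≤ K) (hLN : L ≤ N) [(L.subgroupOf N).Normal]
    {η : G → ℂ} (hη : IsIrrCharacter G η) (hηK : IsIrrCharacter K (fun k : K => η k))
    {ν : N → ℂ} (hν : IsIrrCharacter N ν)
    (hνL : IsIrrCharacter (L.subgroupOf N) (fun l : L.subgroupOf N => ν l))
    (a : ℕ) (hηN : ∀ n : N, η n = (a : ℂ) * ν n)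
    (hcard : Nat.card K = a ^ 2 * Nat.card L) (n : N) :
    ∃ l ∈ L, ∀ k ∈ K, k * (l * n) * k⁻¹ * (l * (n : G))⁻¹ ∈ L := by
  classical
  set Fr : G → ℝ := fun y => Complex.normSq (η (y * n)) with hFr
  have hSK : ∑ k : K, Fr k = (Nat.card K : ℝ) := sum_normSq_coset_of_restrict_irr K hη hηK n
  -- the sum over `L`
  have hSLν : ∑ l : L.subgroupOf N, Complex.normSq (ν ((l : N) * n)) =
      (Nat.card (L.subgroupOf N) : ℝ) := sum_normSq_coset_of_restrict_irr (L.subgroupOf N) hν hνL n
  have hcardL : Nat.card (L.subgroupOf N) = Nat.card L :=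
    Nat.card_congr (Subgroup.subgroupOfEquivOfLe hLN).toEquiv
  have hSL : ∑ l : L, Fr l = (Nat.card K : ℝ) := by
    have h1 : ∑ l : L, Fr l = ∑ l : L.subgroupOf N, (a : ℝ) ^ 2 * Complex.normSq (ν ((l : N) * n)) := by
      symm
      apply Fintype.sum_equiv (Subgroup.subgroupOfEquivOfLe hLN).toEquiv
      intro l
      simp only [hFr]
      have e1 : (((Subgroup.subgroupOfEquivOfLe hLN).toEquiv l : L) : G) * (n : G) =
          (((l : N) * n : N) : G) := rfl
      rw [e1, hηN, Complex.normSq_mul, Complex.normSq_natCast]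
      ring
    rw [h1, ← Finset.mul_sum, hSLν, hcardL, hcard]
    push_cast
    ring
  -- vanishing off `L`
  have hsplit : ∑ l : L, Fr l = ∑ k : K, if (k : G) ∈ L then Fr k else 0 := by
    apply Fintype.sum_of_injective (fun l : L => (⟨l, hLK l.2⟩ : K))
    · intro l₁ l₂ h12
      apply Subtype.ext
      exact congrArg (fun k : K => (k : G)) h12
    · intro k hk
      rw [if_neg]
      intro hkL
      exact hk ⟨⟨k, hkL⟩, rfl⟩
    · intro l
      rw [if_pos l.2]
  have hzero : ∑ k : K, (if (k : G) ∈ L then 0 else Fr k) = 0 := by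
    have h1 : ∀ k : K, (if (k : G) ∈ L then 0 else Fr k) =
        Fr k - (if (k : G) ∈ L then Fr k else 0) := by
      intro k
      by_cases hk : (k : G) ∈ L
      · rw [if_pos hk, if_pos hk, sub_self]
      · rw [if_neg hk, if_neg hk, sub_zero]
    simp only [h1, Finset.sum_sub_distrib]
    rw [hSK, ← hsplit, hSL, sub_self]
  have hvan : ∀ k : K, (k : G) ∉ L → Fr k = 0 := by
    intro k hk
    have hnn : ∀ k ∈ (Finset.univ : Finset K), 0 ≤ (if (k : G) ∈ L then 0 else Fr k) := by
      intro k _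
      split_ifs
      · exact le_refl _
      · exact Complex.normSq_nonneg _
    have := (Finset.sum_eq_zero_iff_of_nonneg hnn).1 hzero k (Finset.mem_univ _)
    rwa [if_neg hk] at this
  -- an element of `L n` on which `η` does not vanish
  have hex : ∃ l : L, Fr l ≠ 0 := by
    by_contra hcon
    push Not at hcon
    have : ∑ l : L, Fr l = 0 := Finset.sum_eq_zero (fun l _ => hcon l)
    rw [hSL] at this
    have hpos : (0 : ℝ) < Nat.card K := by exact_mod_cast Nat.card_pos
    linarith
  obtain ⟨l, hl⟩ := hex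
  refine ⟨l, l.2, ?_⟩
  intro k hk
  set y := k * ((l : G) * n) * k⁻¹ * ((l : G) * (n : G))⁻¹ with hy
  have hyK : y ∈ K := by
    have h1 : ((l : G) * n) * k⁻¹ * ((l : G) * (n : G))⁻¹ ∈ K :=
      Subgroup.Normal.conj_mem inferInstance _ (K.inv_mem hk) _
    have : y = k * (((l : G) * n) * k⁻¹ * ((l : G) * (n : G))⁻¹) := by
      rw [hy]; group
    rw [this]
    exact K.mul_mem hk h1
  have hylK : y * l ∈ K := K.mul_mem hyK (hLK l.2)
  have hne : Fr (y * l) ≠ 0 := by
    simp only [hFr] at hl ⊢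
    have e1 : y * (l : G) * (n : G) = k * ((l : G) * n) * k⁻¹ := by
      rw [hy]; group
    rw [e1, char_isClassFunction (isCharacter_of_irr hη) _ k]
    exact hl
  have hylL : y * l ∈ L := by
    by_contra hcon
    exact hne (hvan ⟨y * l, hylK⟩ hcon)
  have : y = (y * l) * (l : G)⁻¹ := by group
  rw [this]
  exact L.mul_mem hylL (L.inv_mem l.2)

end Cfsg.Agent.Lib.Helper83
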