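import Mathlib
import Cfsg.Agent.Lib.Helper83.FRGroup
import Cfsg.Agent.Lib.Helper65.Hall
import Cfsg.Agent.Lib.Helper29.PCore

set_option autoImplicit false

namespace Cfsg.Agent.Lib.Helper83

universe u
variable {G : Type u} [Group G]

/-- If `K` is normal and `K ⊔ H = ⊤`, every element is a product `k h`. -/
theorem exists_mul_of_sup_eq_top (K H : Subgroup G) [K.Normal] (h : K ⊔ H = ⊤) (g : G) :
    ∃ k ∈ K, ∃ x ∈ H, k * x = g := by
  have hg : g ∈ ((K ⊔ H : Subgroup G) : Set G) := by rw [h]; trivial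
  rw [Subgroup.normal_mul] at hg
  obtain ⟨k, hk, x, hx, hkx⟩ := Set.mem_mul.1 hg
  exact ⟨k, hk, x, hx, hkx⟩

theorem sup_eq_top_of_isCoatom {H : Subgroup G} (hH : IsCoatom H) (K : Subgroup G)
    (hKH : ¬ K ≤ H) : K ⊔ H = ⊤ := by
  apply hH.2
  apply lt_of_le_of_ne le_sup_right
  intro h
  apply hKH
  rw [h]
  exact le_sup_left

/-- An element of the maximal subgroup `H` centralizing, modulo the core, a normal subgroup not
inside `H`, lies in the core. -/
theorem mem_normalCore_of_centralizes {H : Subgroup G} (hH : IsCoatom H) (K : Subgroup G)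
    [K.Normal] (hKH : ¬ K ≤ H) {x : G} (hxH : x ∈ H)
    (hx : ∀ k ∈ K, k * x * k⁻¹ * x⁻¹ ∈ H.normalCore) : x ∈ H.normalCore := by
  have hLn : (H.normalCore).Normal := inferInstance
  have htop := sup_eq_top_of_isCoatom hH K hKH
  intro b
  obtain ⟨k, hk, h, hh, rfl⟩ := exists_mul_of_sup_eq_top K H htop b
  set y := h * x * h⁻¹ with hy
  have hyH : y ∈ H := H.mul_mem (H.mul_mem hh hxH) (H.inv_mem hh)
  have hk' : h⁻¹ * k * h ∈ K := by
    have := Subgroup.Normal.conj_mem (inferInstance : K.Normal) k hk h⁻¹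
    rwa [inv_inv] at this
  have h1 : k * y * k⁻¹ * y⁻¹ ∈ H.normalCore := by
    have h2 := hLn.conj_mem _ (hx _ hk') h
    have : h * (h⁻¹ * k * h * x * (h⁻¹ * k * h)⁻¹ * x⁻¹) * h⁻¹ = k * y * k⁻¹ * y⁻¹ := by
      rw [hy]; group
    rwa [this] at h2
  have : k * h * x * (k * h)⁻¹ = (k * y * k⁻¹ * y⁻¹) * y := by
    rw [hy]; group
  rw [this]
  exact H.mul_mem (H.normalCore_le h1) hyH

/-- If `K` is normal with `K/core` abelian, then `K ∩ H` lies in the core of the maximal subgroup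
`H` (as soon as `K ≰ H`). -/
theorem inf_le_normalCore_of_comm {H : Subgroup G} (hH : IsCoatom H) (K : Subgroup G)
    [K.Normal] (hKH : ¬ K ≤ H)
    (hcomm : ∀ k₁ ∈ K, ∀ k₂ ∈ K, k₁ * k₂ * k₁⁻¹ * k₂⁻¹ ∈ H.normalCore) :
    K ⊓ H ≤ H.normalCore := by
  intro x hx
  exact mem_normalCore_of_centralizes hH K hKH hx.2 (fun k hk => hcomm k hk x hx.1)

/-- A `p`-group acting by conjugation on a nontrivial normal `p`-subgroup fixes a nonidentity
element. -/
theorem exists_fixed_of_pgroup_normal {Q : Type*} [Group Q] [Finite Q] (p : ℕ) [Fact p.Prime]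
    (P A : Subgroup Q) [A.Normal] (hP : IsPGroup p P) (hA : IsPGroup p A) (hAne : A ≠ ⊥) :
    ∃ b ∈ A, b ≠ 1 ∧ ∀ x ∈ P, x * b * x⁻¹ = b := by
  letI : MulAction P A := MulAction.compHom A ((MulAut.conjNormal (H := A)).comp P.subtype)
  have hsmul : ∀ (x : P) (b : A), ((x • b : A) : Q) = (x : Q) * b * (x : Q)⁻¹ := by
    intro x b
    exact MulAut.conjNormal_apply (x : Q) b
  have hnt : Nontrivial A := (Subgroup.nontrivial_iff_ne_bot A).2 hAne
  obtain ⟨n, hn0, hn⟩ := hA.nontrivial_iff_card.1 hnt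
  have hdvd : p ∣ Nat.card A := by
    rw [hn]
    exact dvd_pow_self p (Nat.pos_iff_ne_zero.1 hn0)
  have hfix : (1 : A) ∈ MulAction.fixedPoints P A := by
    intro x
    apply Subtype.ext
    rw [hsmul]
    simp
  obtain ⟨b, hb, hb1⟩ := hP.exists_fixed_point_of_prime_dvd_card_of_fixed_point A hdvd hfix
  refine ⟨b, b.2, ?_, ?_⟩
  · intro h
    apply hb1
    apply Subtype.ext
    exact h.symm
  · intro x hx
    have := hb ⟨x, hx⟩
    have h2 := congrArg (fun a : A => (a : Q)) this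
    rw [← hsmul ⟨x, hx⟩ b]
    exact h2

/-- The basic configuration for a maximal subgroup `H` with core `L₀` of a group `G` with `G/L₀`
solvable, `H ≠ L₀`: a normal `K` with `K/L₀` an abelian `p`-group, `K ≰ H`, and a subgroup
`L₀ < N ≤ H` normalized by `H` with `N/L₀` a `q`-group, `q ≠ p`. -/
theorem exists_chief_setup [Finite G] {H : Subgroup G} (hH : IsCoatom H)
    (hsolv : Group.IsSolvable (G ⧸ H.normalCore)) (hne : ¬ H ≤ H.normalCore) :
    ∃ (p q m j : ℕ) (K N : Subgroup G), p.Prime ∧ q.Prime ∧ p ≠ q ∧ K.Normal ∧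
      H.normalCore ≤ K ∧ ¬ K ≤ H ∧
      (∀ k₁ ∈ K, ∀ k₂ ∈ K, k₁ * k₂ * k₁⁻¹ * k₂⁻¹ ∈ H.normalCore) ∧
      Nat.card K = Nat.card H.normalCore * p ^ m ∧
      H.normalCore ≤ N ∧ N ≤ H ∧ ¬ N ≤ H.normalCore ∧
      (∀ h ∈ H, ∀ n ∈ N, h * n * h⁻¹ ∈ N) ∧
      Nat.card N = Nat.card H.normalCore * q ^ j := by
  classical
  set L := H.normalCore with hL
  have hLn : L.Normal := inferInstance
  have hLH : L ≤ H := H.normalCore_le
  haveI : Group.IsSolvable (G ⧸ L) := hsolv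
  set π := QuotientGroup.mk' L with hπ
  have hπs : Function.Surjective π := QuotientGroup.mk'_surjective L
  have hπ1 : ∀ x : G, π x = 1 ↔ x ∈ L := fun x => QuotientGroup.eq_one_iff x
  -- `G ⧸ L` is nontrivial
  have hnt : Nontrivial (G ⧸ L) := by
    obtain ⟨g, hg⟩ : ∃ g : G, g ∉ H := by
      by_contra hcon
      push Not at hcon
      exact hH.1 (eq_top_iff.2 (fun g _ => hcon g))
    refine ⟨⟨π g, 1, ?_⟩⟩
    intro h
    exact hg (hLH ((hπ1 g).1 h))
  obtain ⟨p, Kb, hp, hKbn, hKbne, hKbp, hKbcomm⟩ :=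
    Cfsg.Agent.Lib.Helper65.exists_normal_abelian_pgroup (G ⧸ L)
  haveI : Fact p.Prime := ⟨hp⟩
  set K : Subgroup G := Kb.comap π with hK
  have hKn : K.Normal := hKbn.comap π
  have hLK : L ≤ K := by
    intro x hx
    change π x ∈ Kb
    rw [(hπ1 x).2 hx]
    exact Kb.one_mem
  have hKH : ¬ K ≤ H := by
    intro hKH
    have hKL : K ≤ L := Subgroup.normal_le_normalCore.2 hKH
    apply hKbne
    rw [eq_bot_iff]
    intro a ha
    obtain ⟨x, rfl⟩ := hπs a
    exact (Subgroup.mem_bot).2 ((hπ1 x).2 (hKL ha))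
  have hKcomm : ∀ k₁ ∈ K, ∀ k₂ ∈ K, k₁ * k₂ * k₁⁻¹ * k₂⁻¹ ∈ L := by
    intro k₁ hk₁ k₂ hk₂
    rw [← hπ1]
    have := hKbcomm (π k₁) hk₁ (π k₂) hk₂
    simp only [map_mul, map_inv]
    rw [this]
    group
  obtain ⟨m, hm0, hm⟩ := hKbp.nontrivial_iff_card.1
    ((Subgroup.nontrivial_iff_ne_bot Kb).2 hKbne)
  have hKcard : Nat.card K = Nat.card L * p ^ m := by
    rw [hK, Cfsg.Agent.Lib.Helper29.card_comap_mk' L Kb, hm]
  have hKHinf : K ⊓ H ≤ L := inf_le_normalCore_of_comm hH K hKH hKcomm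
  -- the image of `H`
  set Hb : Subgroup (G ⧸ L) := H.map π with hHb
  have hHbnt : Nontrivial Hb := by
    obtain ⟨x, hxH, hxL⟩ : ∃ x ∈ H, x ∉ L := by
      by_contra hcon
      push Not at hcon
      exact hne hcon
    refine ⟨⟨⟨π x, Subgroup.mem_map_of_mem π hxH⟩, 1, ?_⟩⟩
    intro h
    have := congrArg (fun a : Hb => (a : G ⧸ L)) h
    exact hxL ((hπ1 x).1 this)
  obtain ⟨q, Ab, hq, hAbn, hAbne, hAbq, _⟩ :=
    Cfsg.Agent.Lib.Helper65.exists_normal_abelian_pgroup Hb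
  haveI : Fact q.Prime := ⟨hq⟩
  set Nb : Subgroup (G ⧸ L) := Ab.map Hb.subtype with hNb
  set N : Subgroup G := Nb.comap π with hN
  have hNbHb : Nb ≤ Hb := by
    rw [hNb]
    exact Subgroup.map_subtype_le Ab
  have hLN : L ≤ N := by
    intro x hx
    change π x ∈ Nb
    rw [(hπ1 x).2 hx]
    exact Nb.one_mem
  have hNH : N ≤ H := by
    intro x hx
    have h1 : π x ∈ Hb := hNbHb hx
    obtain ⟨h, hh, hhx⟩ := Subgroup.mem_map.1 h1
    have h2 : h⁻¹ * x ∈ L := by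
      rw [← hπ1, map_mul, map_inv, hhx, inv_mul_cancel]
    have : x = h * (h⁻¹ * x) := by group
    rw [this]
    exact H.mul_mem hh (hLH h2)
  have hNL : ¬ N ≤ L := by
    intro hNL
    apply hAbne
    rw [eq_bot_iff]
    intro a ha
    have h1 : (a : G ⧸ L) ∈ Nb := Subgroup.mem_map_of_mem Hb.subtype ha
    obtain ⟨x, hx⟩ := hπs (a : G ⧸ L)
    have h2 : x ∈ N := by
      change π x ∈ Nb
      rw [hx]; exact h1
    have h3 : π x = 1 := (hπ1 x).2 (hNL h2)
    rw [Subgroup.mem_bot]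
    apply Subtype.ext
    rw [← hx, h3]
    rfl
  have hNnorm : ∀ h ∈ H, ∀ n ∈ N, h * n * h⁻¹ ∈ N := by
    intro h hh n hn
    change π (h * n * h⁻¹) ∈ Nb
    obtain ⟨a, ha, han⟩ := Subgroup.mem_map.1 (show π n ∈ Nb from hn)
    set gh : Hb := ⟨π h, Subgroup.mem_map_of_mem π hh⟩ with hgh
    have h1 : gh * a * gh⁻¹ ∈ Ab := hAbn.conj_mem a ha gh
    have h2 : ((gh * a * gh⁻¹ : Hb) : G ⧸ L) = π (h * n * h⁻¹) := by
      simp only [Subgroup.coe_mul, Subgroup.coe_inv, map_mul, map_inv, hgh]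
      rw [← han]
      rfl
    rw [← h2]
    exact Subgroup.mem_map_of_mem Hb.subtype h1
  obtain ⟨j, hj0, hj⟩ := hAbq.nontrivial_iff_card.1
    ((Subgroup.nontrivial_iff_ne_bot Ab).2 hAbne)
  have hNbcard : Nat.card Nb = q ^ j := by
    rw [hNb, Subgroup.card_map_of_injective (Subgroup.subtype_injective Hb), hj]
  have hNcard : Nat.card N = Nat.card L * q ^ j := by
    rw [hN, Cfsg.Agent.Lib.Helper29.card_comap_mk' L Nb, hNbcard]
  -- the primes differ
  have hpq : p ≠ q := by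
    rintro rfl
    have hNbp : IsPGroup p Nb := IsPGroup.of_card hNbcard
    obtain ⟨b, hbK, hb1, hbfix⟩ := exists_fixed_of_pgroup_normal p Nb Kb hNbp hKbp hKbne
    obtain ⟨k₀, rfl⟩ := hπs b
    have hk₀K : k₀ ∈ K := hbK
    have hk₀L : k₀ ∉ L := fun h => hb1 ((hπ1 k₀).2 h)
    -- the subgroup of `K` centralized by `N` modulo `L`
    set K₁ : Subgroup G := K ⊓ (Subgroup.centralizer (Nb : Set (G ⧸ L))).comap π with hK₁
    have hmemK₁ : ∀ y, y ∈ K₁ ↔ y ∈ K ∧ ∀ x ∈ N, π x * π y = π y * π x := by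
      intro y
      constructor
      · rintro ⟨h1, h2⟩
        refine ⟨h1, fun x hx => ?_⟩
        exact (Subgroup.mem_centralizer_iff.1
          (show π y ∈ Subgroup.centralizer (Nb : Set (G ⧸ L)) from h2)) (π x) hx
      · rintro ⟨h1, h2⟩
        refine ⟨h1, ?_⟩
        change π y ∈ Subgroup.centralizer (Nb : Set (G ⧸ L))
        rw [Subgroup.mem_centralizer_iff]
        intro a ha
        obtain ⟨x, rfl⟩ := hπs a
        exact h2 x ha
    have hk₀K₁ : k₀ ∈ K₁ := by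
      rw [hmemK₁]
      refine ⟨hk₀K, ?_⟩
      intro x hx
      have := hbfix (π x) hx
      calc π x * π k₀ = (π x * π k₀ * (π x)⁻¹) * π x := by group
        _ = π k₀ * π x := by rw [this]
    have hK₁n : K₁.Normal := by
      have htop := sup_eq_top_of_isCoatom hH K hKH
      constructor
      intro y hy g
      obtain ⟨k, hk, h, hh, rfl⟩ := exists_mul_of_sup_eq_top K H htop g
      obtain ⟨hyK, hyc⟩ := (hmemK₁ y).1 hy
      rw [hmemK₁]
      refine ⟨hKn.conj_mem y hyK _, ?_⟩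
      intro x hx
      -- conjugation by `k` is trivial modulo `L` on `K`
      have hz : h * y * h⁻¹ ∈ K := hKn.conj_mem y hyK h
      have e1 : π (k * h * y * (k * h)⁻¹) = π (h * y * h⁻¹) := by
        have h1 := hKcomm k hk (h * y * h⁻¹) hz
        rw [← hπ1] at h1
        have : k * h * y * (k * h)⁻¹ = (k * (h * y * h⁻¹) * k⁻¹ * (h * y * h⁻¹)⁻¹) * (h * y * h⁻¹) := by
          group
        rw [this, map_mul, h1, one_mul]
      rw [e1]
      have hx' : h⁻¹ * x * h ∈ N := by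
        have := hNnorm h⁻¹ (H.inv_mem hh) x hx
        rwa [inv_inv] at this
      have h2 := hyc _ hx'
      simp only [map_mul, map_inv] at h2 ⊢
      calc π x * (π h * π y * (π h)⁻¹)
          = π h * ((π h)⁻¹ * π x * π h * π y) * (π h)⁻¹ := by group
        _ = π h * (π y * ((π h)⁻¹ * π x * π h)) * (π h)⁻¹ := by rw [h2]
        _ = π h * π y * (π h)⁻¹ * π x := by group
    have hK₁H : ¬ K₁ ≤ H := by
      intro hcon
      exact hk₀L (hKHinf ⟨hk₀K, hcon hk₀K₁⟩)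
    apply hNL
    intro x hx
    haveI := hK₁n
    apply mem_normalCore_of_centralizes hH K₁ hK₁H (hNH hx)
    intro k₁ hk₁
    have := ((hmemK₁ k₁).1 hk₁).2 x hx
    change k₁ * x * k₁⁻¹ * x⁻¹ ∈ L
    rw [← hπ1]
    simp only [map_mul, map_inv]
    rw [← this]
    group
  exact ⟨p, q, m, j, K, N, hp, hq, hpq, hKn, hLK, hKH, hKcomm, hKcard, hLN, hNH, hNL, hNnorm,
    hNcard⟩

end Cfsg.Agent.Lib.Helper83
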