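import Mathlib
import Cfsg.Agent.Lib.Helper83.IndRestrict
import Cfsg.Agent.Lib.Helper83.MaxCore
import Cfsg.Agent.Lib.Helper85.Ramification
import Cfsg.Agent.Lib.Helper34.GenChar
import Cfsg.Agent.Lib.Helper84.Gallagher

set_option autoImplicit false

/-!
# General lemmas for Berger's theorem (quasi-primitive characters of solvable groups are primitive)
-/

namespace Cfsg.Agent.Lib.Helper83

open scoped ComplexConjugate
open Cfsg Module

universe u

section Rep

variable {X : Type u} [Group X]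

/-- If every element of `X` acts as a scalar multiple of an element of `Y`, an irreducible
representation of `X` stays irreducible on `Y`. -/
theorem isIrreducible_comp_subtype_of_scalar {W : Type*} [AddCommGroup W] [Module ℂ W]
    (σ : Representation ℂ X W) (hσ : σ.IsIrreducible) (Y : Subgroup X)
    (h : ∀ g : X, ∃ y ∈ Y, ∃ c : ℂ, σ g = c • σ y) :
    Representation.IsIrreducible (σ.comp Y.subtype : Representation ℂ Y W) := by
  rw [Cfsg.Agent.Lib.Helper05.isIrreducible_iff]
  have h0 := (Cfsg.Agent.Lib.Helper05.isIrreducible_iff σ).mp hσ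
  refine ⟨h0.1, ?_⟩
  intro U hU
  apply h0.2 U
  intro g v hv
  obtain ⟨y, hy, c, hc⟩ := h g
  rw [hc]
  have := hU ⟨y, hy⟩ v hv
  simp only [MonoidHom.coe_comp, Subgroup.coe_subtype, Function.comp_apply] at this
  exact U.smul_mem c this

variable [Fintype X]

/-- A central element has character value of full norm on an irreducible character. -/
theorem norm_irr_center {χ : X → ℂ} (hχ : IsIrrCharacter X χ) {z : X}
    (hz : z ∈ Subgroup.center X) : ‖χ z‖ = ‖χ 1‖ := by
  obtain ⟨d, σ, hσ, rfl⟩ := hχ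
  have := hσ
  have hcomm : ∀ g : X, σ z ∘ₗ σ g = σ g ∘ₗ σ z := by
    intro g
    rw [← Module.End.mul_eq_comp, ← Module.End.mul_eq_comp, ← map_mul, ← map_mul]
    congr 1
    exact (Subgroup.mem_center_iff.mp hz g).symm
  have hsc := Cfsg.Agent.Lib.Helper84.schur_scalar σ (σ z) hcomm
  have h1 := (Cfsg.Agent.Lib.Helper04.norm_char_eq_iff σ z).2 ⟨_, hsc⟩
  rw [h1, Representation.char_one]
  simp

/-- Restriction of an irreducible character to a subgroup `Y` stays irreducible as soon as every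
element is a product of an element of `Y` and an element on which the character has full norm. -/
theorem isIrr_restrict_of_supplement (Y : Subgroup X) {γ : X → ℂ} (hγ : IsIrrCharacter X γ)
    (h : ∀ g : X, ∃ y ∈ Y, ∃ a : X, g = y * a ∧ ‖γ a‖ = ‖γ 1‖) :
    IsIrrCharacter Y (fun y : Y => γ y) := by
  obtain ⟨d, σ, hσ, rfl⟩ := hγ
  have h1 : ‖σ.character 1‖ = (finrank ℂ (Fin d → ℂ) : ℝ) := by
    rw [Representation.char_one]
    simp
  have hirr := isIrreducible_comp_subtype_of_scalar σ hσ Y (by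
    intro g
    obtain ⟨y, hy, a, rfl, ha⟩ := h g
    rw [h1] at ha
    obtain ⟨ω, hω⟩ := (Cfsg.Agent.Lib.Helper04.norm_char_eq_iff σ a).1 ha
    refine ⟨y, hy, ω, ?_⟩
    rw [map_mul, hω]
    ext v
    simp)
  exact ⟨d, σ.comp Y.subtype, hirr, rfl⟩

/-- Cancellation of an irreducible character restricting irreducibly to a normal subgroup `A`,
against a function constant on the cosets of `A`. -/
theorem eq_zero_of_mul_restrict_irr (A : Subgroup X) [A.Normal] {ω : X → ℂ}
    (hω : IsIrrCharacter X ω) (hωA : IsIrrCharacter A (fun a : A => ω a)) (D : X → ℂ)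
    (hD : ∀ a ∈ A, ∀ x, D (a * x) = D x) (h0 : ∀ x, D x * ω x = 0) : D = 0 := by
  classical
  have : Fintype A := Fintype.ofFinite _
  funext x
  by_contra hx
  have hsum := sum_normSq_coset_of_restrict_irr A hω hωA x
  have hz : ∀ k : A, Complex.normSq (ω ((k : X) * x)) = 0 := by
    intro k
    have h1 := h0 ((k : X) * x)
    rw [hD k k.2 x] at h1
    rcases mul_eq_zero.1 h1 with h2 | h2
    · exact absurd h2 hx
    · rw [h2, map_zero]
  simp only [hz, Finset.sum_const_zero] at hsum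
  have hpos : (0 : ℝ) < (Nat.card A : ℝ) := by exact_mod_cast Nat.card_pos
  rw [← hsum] at hpos
  exact lt_irrefl _ hpos

/-- A sum of two characters is irreducible only if one of them vanishes. -/
theorem eq_zero_of_add_isIrr {ξ₁ ξ₂ : X → ℂ} (h₁ : IsCharacter X ξ₁) (h₂ : IsCharacter X ξ₂)
    (hirr : IsIrrCharacter X (ξ₁ + ξ₂)) (hne : ξ₁ 1 ≠ 0) : ξ₂ = 0 := by
  obtain ⟨n₁₁, hn₁₁⟩ := classInner_char_nat h₁ h₁
  obtain ⟨n₁₂, hn₁₂⟩ := classInner_char_nat h₁ h₂
  obtain ⟨n₂₁, hn₂₁⟩ := classInner_char_nat h₂ h₁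
  obtain ⟨n₂₂, hn₂₂⟩ := classInner_char_nat h₂ h₂
  have h1 := irr_inner_self (⟨_, hirr⟩ : IrrCharacter X)
  change classInner (ξ₁ + ξ₂) (ξ₁ + ξ₂) = 1 at h1
  rw [classInner_add_left, classInner_add_right, classInner_add_right, hn₁₁, hn₁₂, hn₂₁,
    hn₂₂] at h1
  have h2 : n₁₁ + n₁₂ + (n₂₁ + n₂₂) = 1 := by exact_mod_cast h1
  have h3 : n₁₁ ≠ 0 := by
    rintro rfl
    rw [Nat.cast_zero, Cfsg.Agent.Lib.Helper34.classInner_self_eq_zero] at hn₁₁
    rw [hn₁₁] at hne
    exact hne rfl
  have h4 : n₂₂ = 0 := by omega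
  rw [h4, Nat.cast_zero, Cfsg.Agent.Lib.Helper34.classInner_self_eq_zero] at hn₂₂
  exact hn₂₂

/-- If the function induced from a character is irreducible, so is the character. -/
theorem isIrr_of_indFun_isIrr (H : Subgroup X) {ψ : H → ℂ} (hψ : IsCharacter H ψ)
    (hind : IsIrrCharacter X (indFun H ψ)) : IsIrrCharacter H ψ := by
  classical
  have : Fintype H := Fintype.ofFinite _
  have hψ1 : ψ 1 ≠ 0 := by
    intro h0
    have h1 : indFun H ψ 1 = (H.index : ℂ) * ψ 1 := Cfsg.Agent.Lib.Helper85.indFun_apply_one H ψ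
    rw [h0, mul_zero] at h1
    exact irr_degree_ne_zero (⟨_, hind⟩ : IrrCharacter X) h1
  obtain ⟨ψ₁, hψ₁, hne⟩ := Cfsg.Agent.Lib.Helper85.exists_irr_constituent hψ hψ1
  have hrest : IsCharacter H (ψ - ψ₁) := Cfsg.Agent.Lib.Helper85.isCharacter_sub_irr hψ hψ₁ hne
  have hsum : indFun H ψ = indFun H ψ₁ + indFun H (ψ - ψ₁) := by
    rw [← Cfsg.Agent.Lib.Helper34.indFun_add]
    congr 1
    funext x
    simp
  have hc1 := Cfsg.Agent.Lib.Helper34.isCharacter_indFun H (isCharacter_of_irr hψ₁)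
  have hc2 := Cfsg.Agent.Lib.Helper34.isCharacter_indFun H hrest
  rw [hsum] at hind
  have h1 : indFun H ψ₁ 1 ≠ 0 := by
    rw [Cfsg.Agent.Lib.Helper85.indFun_apply_one H ψ₁]
    apply mul_ne_zero
    · have : H.index ≠ 0 := Subgroup.index_ne_zero_of_finite
      exact_mod_cast this
    · exact irr_degree_ne_zero (⟨_, hψ₁⟩ : IrrCharacter H)
  have h2 := eq_zero_of_add_isIrr hc1 hc2 hind h1
  have h3 : (ψ - ψ₁) 1 = 0 := by
    have h4 := congrFun h2 1
    rw [Cfsg.Agent.Lib.Helper85.indFun_apply_one H (ψ - ψ₁)] at h4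
    have : (H.index : ℂ) ≠ 0 := by
      have : H.index ≠ 0 := Subgroup.index_ne_zero_of_finite
      exact_mod_cast this
    rcases mul_eq_zero.1 h4 with h5 | h5
    · exact absurd h5 this
    · exact h5
  have h4 := Cfsg.Agent.Lib.Helper85.char_eq_zero_of_apply_one hrest h3
  have h5 : ψ = ψ₁ := by
    funext x
    have := congrFun h4 x
    simp only [Pi.sub_apply, Pi.zero_apply] at this
    exact sub_eq_zero.1 this
  rw [h5]
  exact hψ₁

end Rep

end Cfsg.Agent.Lib.Helper83
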