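import Cfsg.Agent.Lib.Helper45.AltFreeDefs

/-!
# Small helpers for the S2276 keystones K-II9 and K-BC
-/

set_option autoImplicit false

namespace Cfsg.Agent.Lib.Helper83.AltFree

open Equiv Equiv.Perm Cfsg.Agent.Lib.Helper45.AltFree

variable {γ : Type*} [Fintype γ] [DecidableEq γ]

omit [Fintype γ] [DecidableEq γ] in
/-- a permutation swapping two distinct points has even order, so is not a `p`-element, `p` odd. -/
theorem not_isPE_of_swaps (p : ℕ) (hp2 : Odd p) (z : Perm γ) (a b : γ) (hab : a ≠ b)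
    (h1 : z a = b) (h2 : z b = a) : ¬ IsPE p z := by
  rintro ⟨k, hk⟩
  have hodd : Odd (orderOf z) := by rw [hk]; exact hp2.pow
  obtain ⟨m, hm⟩ := hodd
  have h2' : (z ^ 2) a = a := by
    rw [pow_two, Perm.mul_apply, h1, h2]
  have h3 : ∀ n : ℕ, ((z ^ 2) ^ n) a = a := by
    intro n
    induction n with
    | zero => simp
    | succ n ih => rw [pow_succ, Perm.mul_apply, h2', ih]
  have h4 : (z ^ orderOf z) a = b := by
    rw [hm, pow_succ, pow_mul, Perm.mul_apply, h1]
    have h5 : ((z ^ 2) ^ m) b = b := by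
      have := h3 m
      have h6 : ((z ^ 2) ^ m) (z a) = z (((z ^ 2) ^ m) a) := by
        have hc : Commute ((z ^ 2) ^ m) z := ((Commute.refl z).pow_left 2).pow_left m
        have := congrArg (fun σ : Perm γ => σ a) hc.eq
        simpa [Perm.mul_apply] using this
      rw [h1, h3 m, h1] at h6
      exact h6
    exact h5
  rw [pow_orderOf_eq_one] at h4
  exact hab (by simpa using h4)

variable {α : Type*} [Fintype α] [DecidableEq α]

omit [Fintype α] [DecidableEq α] in
theorem six_points_injective (u : Perm α) (hu3 : u ^ 3 = 1) (a₁ a₂ : α)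
    (ha₁ : u a₁ ≠ a₁) (ha₂ : u a₂ ≠ a₂) (ha : ¬ u.SameCycle a₁ a₂) :
    Function.Injective ![a₁, u a₁, u (u a₁), a₂, u a₂, u (u a₂)] := by
  have h3 : ∀ x, u (u (u x)) = x := fun x => by
    have := congrArg (fun σ : Perm α => σ x) hu3
    simpa [pow_succ, Perm.mul_apply] using this
  have cross : ∀ i j : ℕ, (u ^ i) a₁ ≠ (u ^ j) a₂ := by
    intro i j h
    apply ha
    have : u.SameCycle ((u ^ i) a₁) ((u ^ j) a₂) := by rw [h]
    rwa [sameCycle_pow_left, sameCycle_pow_right] at this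
  have c00 := cross 0 0
  have c01 := cross 0 1
  have c02 := cross 0 2
  have c10 := cross 1 0
  have c11 := cross 1 1
  have c12 := cross 1 2
  have c20 := cross 2 0
  have c21 := cross 2 1
  have c22 := cross 2 2
  simp only [pow_zero, pow_one, pow_two, Perm.mul_apply, Perm.one_apply] at c00 c01 c02 c10 c11 c12 c20 c21 c22
  have w1 : ∀ a, u a ≠ a → u (u a) ≠ u a := fun a h h' => h (u.injective h')
  have w2 : ∀ a, u a ≠ a → u (u a) ≠ a := fun a h h' => h (by
    have := congrArg u h'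
    rw [h3] at this
    exact this.symm)
  have := w1 a₁ ha₁
  have := w2 a₁ ha₁
  have := w1 a₂ ha₂
  have := w2 a₂ ha₂
  rw [← List.nodup_ofFn]
  simp only [List.ofFn_succ, List.ofFn_zero]
  simp [Fin.succ]
  refine ⟨⟨?_, ?_, ?_, ?_, ?_⟩, ⟨?_, ?_, ?_, ?_⟩, ⟨?_, ?_, ?_⟩, ⟨?_, ?_⟩, ?_⟩ <;>
    first | assumption | (intro h; exact absurd h.symm (by assumption))

end Cfsg.Agent.Lib.Helper83.AltFree
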