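import Cfsg.Agent.Lib.Helper45.AltFreeDefs
import Cfsg.Agent.Lib.Helper18.AltFreeR
import Cfsg.Agent.Lib.Helper83.AltFreeAux
import Cfsg.Agent.Lib.Helper67.AltFreeP1

/-!
# K-S2276-II9 : `case_nine`
-/

set_option autoImplicit false

namespace Cfsg.Agent.Lib.Helper83.AltFree

open Equiv Equiv.Perm Cfsg.Agent.Lib.Helper45.AltFree

variable {β : Type*} [Fintype β] [DecidableEq β]

/-- model of type `(3,3,3)`: `(0 1 3)(2 5 7)(4 6 8)` -/
def y9a : Perm (Fin 9) := (swap 0 3 * swap 0 1) * (swap 2 7 * swap 2 5) * (swap 4 8 * swap 4 6)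
/-- model of type `(3,3)`: `(1 8 3)(2 5 7)` -/
def y9b : Perm (Fin 9) := (swap 1 3 * swap 1 8) * (swap 2 7 * swap 2 5)

theorem good_c9_y9a : Good 3 (finRotate 9) y9a := by
  refine ⟨?_, ?_⟩
  · refine not_isPE_of_swaps 3 (by decide) (finRotate 9 * y9a) 5 8 (by decide) (by decide) (by decide)
  · have hc : finRotate 9 ∈ Subgroup.closure ({finRotate 9, y9a} : Set (Perm (Fin 9))) :=
      Subgroup.subset_closure (by simp)
    have hy : y9a ∈ Subgroup.closure ({finRotate 9, y9a} : Set (Perm (Fin 9))) :=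
      Subgroup.subset_closure (by simp)
    refine Cfsg.Agent.Lib.Helper67.AltFree.not_solvable_of_local_three_cycles
      (Subgroup.closure ({finRotate 9, y9a} : Set (Perm (Fin 9))))
      (y9a⁻¹ * finRotate 9 * y9a⁻¹ * finRotate 9) (y9a * (finRotate 9)⁻¹ * y9a * (finRotate 9)⁻¹) ?_ ?_
      ![4, 1, 6, 8, 3] (by decide) (by decide) (by decide) (by decide) (by decide) (by decide)
      (by decide) (by decide) (by decide) (by decide) (by decide)
    · exact Subgroup.mul_mem _ (Subgroup.mul_mem _ (Subgroup.mul_mem _ (Subgroup.inv_mem _ hy) hc)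
        (Subgroup.inv_mem _ hy)) hc
    · exact Subgroup.mul_mem _ (Subgroup.mul_mem _ (Subgroup.mul_mem _ hy (Subgroup.inv_mem _ hc))
        hy) (Subgroup.inv_mem _ hc)

theorem good_c9_y9b : Good 3 (finRotate 9) y9b := by
  refine ⟨?_, ?_⟩
  · refine not_isPE_of_swaps 3 (by decide) (finRotate 9 * y9b) 0 1 (by decide) (by decide) (by decide)
  · have hc : finRotate 9 ∈ Subgroup.closure ({finRotate 9, y9b} : Set (Perm (Fin 9))) :=
      Subgroup.subset_closure (by simp)
    have hy : y9b ∈ Subgroup.closure ({finRotate 9, y9b} : Set (Perm (Fin 9))) :=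
      Subgroup.subset_closure (by simp)
    refine Cfsg.Agent.Lib.Helper67.AltFree.not_solvable_of_local_three_cycles
      (Subgroup.closure ({finRotate 9, y9b} : Set (Perm (Fin 9))))
      y9b (finRotate 9 * y9b * (finRotate 9)⁻¹) hy ?_
      ![5, 7, 2, 0, 4] (by decide) (by decide) (by decide) (by decide) (by decide) (by decide)
      (by decide) (by decide) (by decide) (by decide) (by decide)
    · exact Subgroup.mul_mem _ (Subgroup.mul_mem _ hc hy) (Subgroup.inv_mem _ hc)

/-- support size of a transported permutation -/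
theorem card_support_permCongr {γ δ : Type*} [Fintype γ] [DecidableEq γ] [Fintype δ]
    [DecidableEq δ] (e : γ ≃ δ) (q : Perm γ) :
    (e.permCongr q).support.card = q.support.card := by
  refine Finset.card_bij (fun a _ => e.symm a) ?_ ?_ ?_
  · intro a ha
    rw [Perm.mem_support] at ha ⊢
    intro h
    apply ha
    rw [Equiv.permCongr_apply, h, Equiv.apply_symm_apply]
  · intro a _ b _ h
    exact e.symm.injective h
  · intro b hb
    refine ⟨e b, ?_, e.symm_apply_apply b⟩
    rw [Perm.mem_support] at hb ⊢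
    rw [Equiv.permCongr_apply, Equiv.symm_apply_apply]
    exact fun h => hb (e.injective h)

/-- two permutations of exponent `3` with supports of the same size are conjugate. -/
theorem isConj_of_cube (σ τ : Perm β) (hσ : σ ^ 3 = 1) (hτ : τ ^ 3 = 1)
    (h : σ.support.card = τ.support.card) : IsConj σ τ := by
  have : Fact (Nat.Prime 3) := ⟨Nat.prime_three⟩
  rw [isConj_iff_cycleType_eq]
  have h1 := cycleType_of_pow_prime_eq_one (p := 3) hσ
  have h2 := cycleType_of_pow_prime_eq_one (p := 3) hτ
  have s1 := sum_cycleType σ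
  have s2 := sum_cycleType τ
  rw [h1, Multiset.sum_replicate] at s1
  rw [h2, Multiset.sum_replicate] at s2
  have : Multiset.card σ.cycleType = Multiset.card τ.cycleType := by
    simp only [smul_eq_mul] at s1 s2
    omega
  rw [h1, h2, this]

theorem case_nine (c y : Perm β) (hc : c.IsCycle) (hcs : c.support = Finset.univ)
    (h9 : Fintype.card β = 9) (hy3 : y ^ 3 = 1) (r₁ r₂ : β) (h1 : y r₁ ≠ r₁) (h2 : y r₂ ≠ r₂)
    (h12 : ¬ y.SameCycle r₁ r₂) : ∃ h : Perm β, Good 3 c (h * y * h⁻¹) := by
  classical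
  have : Fact (Nat.Prime 3) := ⟨Nat.prime_three⟩
  -- the points of the cycle `c`
  have hv : Function.Injective (fun i : Fin 9 => (c ^ (i : ℕ)) r₁) := by
    intro i j h
    by_contra hij
    exact pow_apply_ne c hc hcs r₁ (by rw [h9]; exact i.2) (by rw [h9]; exact j.2)
      (fun h' => hij (Fin.ext h')) h
  have hbij : Function.Bijective (fun i : Fin 9 => (c ^ (i : ℕ)) r₁) :=
    (Fintype.bijective_iff_injective_and_card _).mpr ⟨hv, by simp [h9]⟩
  have hx : ∀ i : Fin 9, c ((c ^ (i : ℕ)) r₁) = (c ^ ((finRotate 9 i : Fin 9) : ℕ)) r₁ := by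
    intro i
    rw [← Perm.mul_apply, ← pow_succ', coe_finRotate]
    split_ifs with hi
    · have : (i : ℕ) + 1 = Fintype.card β := by rw [hi, h9]; rfl
      rw [this, pow_card_eq_one c hc hcs, pow_zero]
    · rfl
  have key : ∀ y₉ : Perm (Fin 9), y₉ ^ 3 = 1 → y₉.support.card = y.support.card →
      Good 3 (finRotate 9) y₉ → ∃ h : Perm β, Good 3 c (h * y * h⁻¹) := by
    intro y₉ h3 hs hgood
    have h3' : ((Equiv.ofBijective _ hbij).permCongr y₉) ^ 3 = 1 := by
      have := map_pow (Equiv.ofBijective _ hbij).permCongrHom y₉ 3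
      rw [h3, map_one] at this
      exact this.symm
    have hconj : IsConj y ((Equiv.ofBijective _ hbij).permCongr y₉) :=
      isConj_of_cube y _ hy3 h3' (by rw [card_support_permCongr, hs])
    obtain ⟨h, hh⟩ := isConj_iff.mp hconj
    refine ⟨h, ?_⟩
    rw [hh]
    refine Cfsg.Agent.Lib.Helper18.AltFree.good_of_embedding 3 Nat.prime_three c _ (finRotate 9) y₉
      (fun i : Fin 9 => (c ^ (i : ℕ)) r₁) hv hx (fun i => ?_) hgood
    rw [Equiv.permCongr_apply]
    have : (Equiv.ofBijective _ hbij).symm ((c ^ (i : ℕ)) r₁) = i :=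
      (Equiv.ofBijective _ hbij).symm_apply_apply i
    rw [this]
    rfl
  -- the number of cycles of `y`
  have hct := cycleType_of_pow_prime_eq_one (p := 3) hy3
  have hsum := sum_cycleType y
  rw [hct, Multiset.sum_replicate, smul_eq_mul] at hsum
  have hm0 : Multiset.card y.cycleType ≠ 0 := by
    intro h0
    rw [Multiset.card_eq_zero, cycleType_eq_zero] at h0
    exact h1 (by rw [h0]; rfl)
  have hm1 : Multiset.card y.cycleType ≠ 1 := by
    intro h0
    rw [card_cycleType_eq_one] at h0
    exact h12 (h0.sameCycle h1 h2)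
  have hle : y.support.card ≤ 9 := by
    rw [← h9]; exact Finset.card_le_univ _
  have hm : Multiset.card y.cycleType = 3 ∨ Multiset.card y.cycleType = 2 := by omega
  rcases hm with hm | hm
  · refine key y9a (by decide) ?_ good_c9_y9a
    rw [← hsum, hm]
    decide
  · refine key y9b (by decide) ?_ good_c9_y9b
    rw [← hsum, hm]
    decide

end Cfsg.Agent.Lib.Helper83.AltFree
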