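import Cfsg.Agent.Lib.Helper45.AltFreeDefs
import Cfsg.Agent.Lib.Helper18.AltFreeR
import Cfsg.Agent.Lib.Helper83.AltFreeAux
import Cfsg.Agent.Lib.Helper67.AltFreeP1

/-!
# K-S2276-BC : `base_C`
-/

set_option autoImplicit false

namespace Cfsg.Agent.Lib.Helper83.AltFree

open Equiv Equiv.Perm Cfsg.Agent.Lib.Helper45.AltFree

variable {α : Type*} [Fintype α] [DecidableEq α]

/-- model `u₆ = (0 1 2)(3 4 5)` -/
def u6 : Perm (Fin 6) := (swap 0 2 * swap 0 1) * (swap 3 5 * swap 3 4)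
/-- model `y₆ = (0 1 3)` -/
def y6 : Perm (Fin 6) := swap 0 3 * swap 0 1

theorem good_u6_y6 : Good 3 u6 y6 := by
  refine ⟨?_, ?_⟩
  · refine not_isPE_of_swaps 3 (by decide) (u6 * y6) 0 2 (by decide) (by decide) (by decide)
  · refine Cfsg.Agent.Lib.Helper67.AltFree.not_solvable_of_local_three_cycles
      (Subgroup.closure ({u6, y6} : Set (Perm (Fin 6)))) y6 (u6⁻¹ * y6 * u6) ?_ ?_
      ![1, 3, 0, 5, 2] (by decide) (by decide) (by decide) (by decide) (by decide) (by decide)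
      (by decide) (by decide) (by decide) (by decide) (by decide)
    · exact Subgroup.subset_closure (by simp)
    · have hu : u6 ∈ Subgroup.closure ({u6, y6} : Set (Perm (Fin 6))) :=
        Subgroup.subset_closure (by simp)
      have hy : y6 ∈ Subgroup.closure ({u6, y6} : Set (Perm (Fin 6))) :=
        Subgroup.subset_closure (by simp)
      exact Subgroup.mul_mem _ (Subgroup.mul_mem _ (Subgroup.inv_mem _ hu) hy) hu

theorem base_C (u w : Perm α) (hu3 : u ^ 3 = 1) (a₁ a₂ : α)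
    (ha₁ : u a₁ ≠ a₁) (ha₂ : u a₂ ≠ a₂) (ha : ¬ u.SameCycle a₁ a₂) (hw : w.IsThreeCycle) :
    ∃ g ∈ alternatingGroup α, Good 3 u (g * w * g⁻¹) := by
  classical
  have h3 : ∀ x, u (u (u x)) = x := fun x => by
    have := congrArg (fun σ : Perm α => σ x) hu3
    simpa [pow_succ, Perm.mul_apply] using this
  have hv : Function.Injective ![a₁, u a₁, u (u a₁), a₂, u a₂, u (u a₂)] :=
    six_points_injective u hu3 a₁ a₂ ha₁ ha₂ ha
  generalize hvdef : (![a₁, u a₁, u (u a₁), a₂, u a₂, u (u a₂)] : Fin 6 → α) = v at hv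
  have v0 : v 0 = a₁ := by rw [← hvdef]; rfl
  have v1 : v 1 = u a₁ := by rw [← hvdef]; rfl
  have v2 : v 2 = u (u a₁) := by rw [← hvdef]; rfl
  have v3 : v 3 = a₂ := by rw [← hvdef]; rfl
  have v4 : v 4 = u a₂ := by rw [← hvdef]; rfl
  have v5 : v 5 = u (u a₂) := by rw [← hvdef]; rfl
  have hcard : 6 ≤ Fintype.card α := by simpa using Fintype.card_le_of_injective v hv
  have e0 : u6 0 = 1 := by decide
  have e1 : u6 1 = 2 := by decide
  have e2 : u6 2 = 0 := by decide
  have e3 : u6 3 = 4 := by decide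
  have e4 : u6 4 = 5 := by decide
  have e5 : u6 5 = 3 := by decide
  have hx : ∀ i, u (v i) = v (u6 i) := by
    intro i
    fin_cases i
    · show u (v 0) = v (u6 0); rw [e0, v0, v1]
    · show u (v 1) = v (u6 1); rw [e1, v1, v2]
    · show u (v 2) = v (u6 2); rw [e2, v2, v0, h3]
    · show u (v 3) = v (u6 3); rw [e3, v3, v4]
    · show u (v 4) = v (u6 4); rw [e4, v4, v5]
    · show u (v 5) = v (u6 5); rw [e5, v5, v3, h3]
  have hws3 : (swap (v 0) (v 3) * swap (v 0) (v 1)).IsThreeCycle :=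
    isThreeCycle_swap_mul_swap_same (hv.ne (by decide)) (hv.ne (by decide)) (hv.ne (by decide))
  have hy : ∀ i, (swap (v 0) (v 3) * swap (v 0) (v 1)) (v i) = v (y6 i) := by
    intro i
    simp only [y6, Perm.mul_apply, hv.swap_apply]
  have hwA : w ∈ alternatingGroup α := hw.mem_alternatingGroup
  have hwsA : (swap (v 0) (v 3) * swap (v 0) (v 1)) ∈ alternatingGroup α :=
    hws3.mem_alternatingGroup
  obtain ⟨g, hg⟩ := isConj_iff.mp (alternatingGroup.isThreeCycle_isConj
    (by rw [Nat.card_eq_fintype_card]; omega)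
    (σ := ⟨w, hwA⟩) (τ := ⟨_, hwsA⟩) hw hws3)
  refine ⟨g, g.2, ?_⟩
  have hgw : (g : Perm α) * w * (g : Perm α)⁻¹ = swap (v 0) (v 3) * swap (v 0) (v 1) := by
    simpa using congrArg Subtype.val hg
  rw [hgw]
  exact Cfsg.Agent.Lib.Helper18.AltFree.good_of_embedding 3 Nat.prime_three u _ u6 y6 v hv hx hy
    good_u6_y6

end Cfsg.Agent.Lib.Helper83.AltFree
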