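/-
K-UTi-T1 (keystone 595335, pack S5953, architect helper46): `r = 2`, derangement for `n = 2m`,
`v_2(n) < v_2(q+1)`.
-/
import Cfsg.Agent.Lib.Helper46.UTiB1
import Cfsg.Agent.Lib.Helper49.UPairArith

set_option autoImplicit false
set_option linter.unusedSectionVars false
set_option linter.unusedVariables false

namespace Cfsg.Agent.Lib.Helper83.UTi

open Module Cfsg.Agent.Lib.Helper98.Elus Cfsg.Agent.Lib.Helper46.UTi

universe u

variable {F : Type u} [Field F] [Fintype F] {p : ℕ} [Fact p.Prime] [CharP F p] {q : ℕ}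

/-- `q` is odd in odd characteristic -/
theorem odd_q_of_char_ne_two (hq : Fintype.card F = q ^ 2) (hp2 : p ≠ 2) : Odd q := by
  obtain ⟨k, hpk, hk⟩ := FiniteField.card F p
  rw [← Nat.not_even_iff_odd]
  intro he
  have h2 : 2 ∣ p ^ (k : ℕ) := by
    rw [← hk, hq]
    exact dvd_pow (even_iff_two_dvd.mp he) (by norm_num)
  have h3 : 2 ∣ p := Nat.Prime.dvd_of_dvd_pow Nat.prime_two h2
  exact hp2 ((Nat.prime_dvd_prime_iff_eq Nat.prime_two hpk).mp h3).symm

/-- **K-UTi-T1 (595335)** -/
theorem not_allFix_two (hq : Fintype.card F = q ^ 2) (hp2 : p ≠ 2) (n m : ℕ) (hn : 3 ≤ n)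
    (hmn : 2 * m = n) (hv : padicValNat 2 n < padicValNat 2 (q + 1)) :
    ¬ AllFix F n m q 2 := by
  classical
  intro hall
  have hqodd : Odd q := odd_q_of_char_ne_two hq hp2
  have h2F : (2 : F) ≠ 0 := Cfsg.Agent.Lib.Helper49.two_ne_zero_of_odd_q hq hqodd
  obtain ⟨w, hw1, hwn⟩ :=
    Cfsg.Agent.Lib.Helper49.exists_normOne_pow_eq_neg_one hq hqodd n (by omega) hv
  have hw0 : w ≠ 0 := by
    intro h
    rw [h, zero_pow (by omega)] at hw1
    exact zero_ne_one hw1
  have hq1even : Even (q + 1) := hqodd.add_one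
  obtain ⟨n', rfl⟩ : ∃ n', n = n' + 1 := ⟨n - 1, by omega⟩
  -- the diagonal matrix
  set d : Fin (n' + 1) → F := fun i => if i = 0 then -w else w with hd
  have hdq : ∀ i, d i ^ (q + 1) = 1 := by
    intro i
    simp only [hd]
    split_ifs
    · rw [neg_pow, hq1even.neg_one_pow, one_mul, hw1]
    · exact hw1
  have hdsq : ∀ i, d i * d i = w * w := by
    intro i
    simp only [hd]
    split_ifs
    · ring
    · rfl
  set D : Matrix (Fin (n' + 1)) (Fin (n' + 1)) F := Matrix.diagonal d with hD
  have hdet : D.det = 1 := by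
    rw [hD, Matrix.det_diagonal, Fin.prod_univ_succ]
    have h1 : d 0 = -w := by simp [hd]
    have h2 : ∀ i : Fin n', d i.succ = w := by
      intro i
      simp [hd, Fin.succ_ne_zero]
    rw [h1, Finset.prod_congr rfl (fun i _ => h2 i), Finset.prod_const, Finset.card_univ,
      Fintype.card_fin, neg_mul, ← pow_succ', hwn, neg_neg]
  set x : Matrix.SpecialLinearGroup (Fin (n' + 1)) F := ⟨D, hdet⟩ with hx
  have hxD : (x : Matrix (Fin (n' + 1)) (Fin (n' + 1)) F) = D := rfl
  have hmulVec : ∀ u : Fin (n' + 1) → F, D.mulVec u = fun i => d i * u i := by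
    intro u
    funext i
    rw [hD, Matrix.mulVec_diagonal]
  have hxSU : x ∈ Cfsg.SU (n' + 1) F q := by
    intro u v
    show Cfsg.hermForm (n' + 1) F q (D.mulVec u) (D.mulVec v) = Cfsg.hermForm (n' + 1) F q u v
    rw [hmulVec, hmulVec]
    unfold Cfsg.hermForm
    apply Finset.sum_congr rfl
    intro i _
    have := hdq i
    calc d i * u i * (d i * v i) ^ q = d i ^ (q + 1) * (u i * v i ^ q) := by ring
      _ = u i * v i ^ q := by rw [this, one_mul]
  have hx2 : ∃ z : F, ((x ^ 2 : Matrix.SpecialLinearGroup (Fin (n' + 1)) F) :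
      Matrix (Fin (n' + 1)) (Fin (n' + 1)) F) = z • (1 : Matrix (Fin (n' + 1)) (Fin (n' + 1)) F) := by
    refine ⟨w * w, ?_⟩
    rw [pow_two, Matrix.SpecialLinearGroup.coe_mul, hxD, hD, Matrix.diagonal_mul_diagonal]
    ext i j
    by_cases hij : i = j
    · subst hij
      simp [hdsq]
    · simp [hij]
  have hns : ∀ z : F, (x : Matrix (Fin (n' + 1)) (Fin (n' + 1)) F) ≠
      z • (1 : Matrix (Fin (n' + 1)) (Fin (n' + 1)) F) := by
    intro z hz
    rw [hxD] at hz
    have h0 := congrFun (congrFun hz 0) 0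
    have h1 := congrFun (congrFun hz (1 : Fin (n' + 1))) 1
    have h01 : (1 : Fin (n' + 1)) ≠ 0 := by
      intro h
      have := congrArg Fin.val h
      simp [Nat.mod_eq_of_lt (show 1 < n' + 1 by omega)] at this
    simp only [hD, Matrix.diagonal_apply_eq, Matrix.smul_apply, Matrix.one_apply_eq, smul_eq_mul,
      mul_one] at h0 h1
    simp only [hd, if_true, if_neg h01] at h0 h1
    have : w + w = 0 := by
      have : -w = w := by rw [h0, h1]
      linear_combination -this
    have h2w : (2 : F) * w = 0 := by rw [two_mul]; exact this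
    rcases mul_eq_zero.mp h2w with h | h
    · exact h2F h
    · exact hw0 h
  obtain ⟨W, hWm, hWti, hWinv⟩ := hall x hxSU hx2 hns
  rw [hxD] at hWinv
  have hH := isHerm_hermForm (F := F) hq (n' + 1)
  -- the basis vector e₀ is anisotropic
  set e0 : Fin (n' + 1) → F := Pi.single 0 1 with he0
  have he0e0 : Cfsg.hermForm (n' + 1) F q e0 e0 = 1 := by
    unfold Cfsg.hermForm
    rw [Finset.sum_eq_single 0]
    · simp [he0]
    · intro j _ hj
      simp [he0, Pi.single_eq_of_ne hj]
    · intro h
      exact absurd (Finset.mem_univ _) h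
  have he0W : e0 ∉ W := by
    intro h
    have := hWti e0 h e0 h
    rw [he0e0] at this
    exact one_ne_zero this
  -- every vector of W has zero first coordinate
  have hcoord : ∀ u ∈ W, u 0 = 0 := by
    intro u hu
    by_contra hu0
    have hDu : D.mulVec u ∈ W := by
      apply hWinv
      exact ⟨u, hu, by rw [Matrix.toLin'_apply]⟩
    have hdiff : w • u - D.mulVec u = (2 * w * u 0) • e0 := by
      funext i
      rw [hmulVec]
      simp only [Pi.sub_apply, Pi.smul_apply, smul_eq_mul, hd, he0]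
      by_cases hi : i = 0
      · subst hi
        simp
        ring
      · simp [hi]
    have hmem : (2 * w * u 0) • e0 ∈ W := by
      rw [← hdiff]
      exact W.sub_mem (W.smul_mem w hu) hDu
    have hne : (2 * w * u 0) ≠ 0 := mul_ne_zero (mul_ne_zero h2F hw0) hu0
    have := W.smul_mem (2 * w * u 0)⁻¹ hmem
    rw [smul_smul, inv_mul_cancel₀ hne, one_smul] at this
    exact he0W this
  -- so e₀ ∈ W^⊥ = W
  have he0orth : e0 ∈ orth hH W := by
    intro u hu
    unfold Cfsg.hermForm
    rw [Finset.sum_eq_single 0]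
    · rw [hcoord u hu]
      simp [he0, (Cfsg.Agent.Lib.Helper19.q_pos hq).ne']
    · intro j _ hj
      simp [he0, Pi.single_eq_of_ne hj]
    · intro h
      exact absurd (Finset.mem_univ _) h
  have hWle : W ≤ orth hH W := fun u hu v hv => hWti u hu v hv
  have hdim := finrank_orth_inf hq hH W ⊤ le_top (nonDeg_hermForm hq (n' + 1))
  rw [inf_top_eq, finrank_top, Module.finrank_pi, Fintype.card_fin, hWm] at hdim
  have hdim' : finrank F ↥(orth hH W) = finrank F ↥W := by
    rw [hWm]; omega
  have heq : W = orth hH W := Submodule.eq_of_le_of_finrank_eq hWle hdim'.symm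
  rw [← heq] at he0orth
  exact he0W he0orth

end Cfsg.Agent.Lib.Helper83.UTi
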