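import Mathlib
import Cfsg.Agent.Lib.Helper49.RSU3Defs
import Cfsg.Agent.Lib.Helper40.GUConj

set_option autoImplicit false
set_option linter.unusedSectionVars false
set_option linter.unusedVariables false

/-!
# K-RSU3 leaf L20 (S2283): `exists_n`
-/

namespace Cfsg.Agent.Lib.Helper83.RSU3

open Matrix Cfsg.Agent.Lib.Helper49.StSU Cfsg.Agent.Lib.Helper49.RSU3

variable {F : Type*} [Field F] [Fintype F] {q : ℕ}

/-- the central root elements `xM q 0 c`, `c + c^q = 0`, are group elements -/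
theorem l20_exists_x0 (hq : 3 ≤ q) (hF : Fintype.card F = q ^ 2) (c : F) (hc : c + c ^ q = 0) :
    ∃ g : GJ 3 F q, mat g = xM q 0 c := by
  obtain ⟨φ, hφ, -, -⟩ := Cfsg.Agent.Lib.Helper40.GUConj.exists_frob hF
  have h0 : (0 : F) ^ q = 0 := zero_pow (by omega)
  have hdet : (xM q (0 : F) c).det = 1 := by
    rw [Matrix.det_fin_three]
    simp [xM, h0]
  refine ⟨⟨⟨xM q 0 c, hdet⟩, fun u v => ?_⟩, rfl⟩
  show hJ 3 F q (xM q 0 c *ᵥ u) (xM q 0 c *ᵥ v) = hJ 3 F q u v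
  have hadd : ∀ x y : F, (x + y) ^ q = x ^ q + y ^ q := by
    intro x y; rw [← hφ, ← hφ, ← hφ, map_add]
  have hmul : ∀ x y : F, (x * y) ^ q = x ^ q * y ^ q := fun x y => mul_pow x y q
  have hcq : c ^ q = -c := by linear_combination hc
  have hmv : ∀ w : Fin 3 → F, xM q 0 c *ᵥ w = ![w 0 + c * w 2, w 1, w 2] := by
    intro w
    ext i
    fin_cases i <;> simp [xM, Matrix.mulVec, dotProduct, Fin.sum_univ_three, h0]
  have r0 : Fin.rev (0 : Fin 3) = 2 := rfl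
  have r1 : Fin.rev (1 : Fin 3) = 1 := rfl
  have r2 : Fin.rev (2 : Fin 3) = 0 := rfl
  unfold hJ
  rw [hmv u, hmv v]
  simp only [Fin.sum_univ_three, r0, r1, r2, Matrix.cons_val_zero, Matrix.cons_val_one,
    Matrix.cons_val_two, Matrix.head_cons, Matrix.tail_cons]
  rw [hadd, hmul, hcq]
  ring

/-- the matrix identity `xM 0 (1/b) * nM b * xM 0 (1/b) = yM 0 b` -/
theorem l20_identity (hq : 3 ≤ q) (b : F) (hb : b ≠ 0) :
    xM q 0 (1 / b) * nM b * xM q 0 (1 / b) = yM q 0 b := by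
  have h0 : (0 : F) ^ q = 0 := zero_pow (by omega)
  ext i j
  fin_cases i <;> fin_cases j <;>
    simp [xM, yM, nM, Matrix.mul_apply, Fin.sum_univ_three, h0, hb]

/-- L20 -/
theorem exists_n (hq : 3 ≤ q) (hF : Fintype.card F = q ^ 2) (H : Subgroup (GJ 3 F q))
    (hU : ∀ (X : GJ 3 F q) (a b : F), mat X = xM q a b → X ∈ H)
    (z : GJ 3 F q) (b : F) (hb : b ≠ 0) (hbv : Val q 0 b) (hz : mat z = yM q 0 b) (hzH : z ∈ H) :
    ∃ n ∈ H, mat n = nM b := by
  have h0 : (0 : F) ^ q = 0 := zero_pow (by omega)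
  have hbq : b ^ q = -b := by
    unfold Val at hbv
    rw [h0, mul_zero, add_zero] at hbv
    linear_combination hbv
  have hc : (1 / b) + (1 / b) ^ q = 0 := by
    rw [div_pow, one_pow, hbq]
    field_simp
    ring
  obtain ⟨X, hX⟩ := l20_exists_x0 hq hF (1 / b) hc
  have hXH : X ∈ H := hU X 0 (1 / b) hX
  refine ⟨X⁻¹ * z * X⁻¹, H.mul_mem (H.mul_mem (H.inv_mem hXH) hzH) (H.inv_mem hXH), ?_⟩
  rw [mat_mul, mat_mul, hz, ← l20_identity hq b hb, ← hX]
  calc mat X⁻¹ * (mat X * nM b * mat X) * mat X⁻¹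
      = (mat X⁻¹ * mat X) * nM b * (mat X * mat X⁻¹) := by simp only [Matrix.mul_assoc]
    _ = nM b := by rw [mat_inv_mul, mat_mul_inv, Matrix.one_mul, Matrix.mul_one]

end Cfsg.Agent.Lib.Helper83.RSU3
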