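import Cfsg.Agent.Lib.Helper60.FHDefs

/-!
# K-S1142-E: left intertwining of `Ssum` (Hecke algebra of the dihedral group)
-/

set_option autoImplicit false

open Cfsg.Agent.Lib.Helper60.FH Matrix

namespace Cfsg.Agent.Lib.Helper83.FH

section la
variable {ι κ : Type*} [Fintype ι] [DecidableEq ι] [Fintype κ] [DecidableEq κ]

/-- the other presentation of `Ssum` (enumerating the dihedral group from the other side). -/
theorem Ssum_swap (q1 q2 : ℝ) (n : ℕ) (hq : altL q1 q2 n = altL q2 q1 n)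
    (x y : Matrix ι ι ℝ) (t1 t2 : Matrix κ κ ℝ)
    (hxy : altL x y n = altL y x n) (ht : altL t1 t2 n = altL t2 t1 n)
    (φ : Matrix κ κ ℝ → ℝ) :
    Ssum q1 q2 n x y t1 t2 φ = Ssum q2 q1 n y x t2 t1 φ := by
  unfold Ssum
  set fV : ℕ → Matrix ι ι ℝ :=
    fun k => ((altL q2 q1 k)⁻¹ * φ (altL t2 t1 k)) • altL y x k with hfV
  set fU : ℕ → Matrix ι ι ℝ :=
    fun k => ((altL q1 q2 k)⁻¹ * φ (altL t1 t2 k)) • altL x y k with hfU
  show ∑ k ∈ Finset.range n, (fV k + fU (k + 1)) = ∑ k ∈ Finset.range n, (fU k + fV (k + 1))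
  have h0 : fV 0 = fU 0 := by simp [hfV, hfU]
  have hn : fU n = fV n := by
    simp only [hfU, hfV]
    rw [hq, hxy, ht]
  rw [Finset.sum_add_distrib, Finset.sum_add_distrib]
  have e5 : ∑ k ∈ Finset.range n, fV k + fV n = ∑ k ∈ Finset.range n, fV (k + 1) + fV 0 :=
    (Finset.sum_range_succ fV n).symm.trans (Finset.sum_range_succ' fV n)
  have e6 : ∑ k ∈ Finset.range n, fU k + fU n = ∑ k ∈ Finset.range n, fU (k + 1) + fU 0 :=
    (Finset.sum_range_succ fU n).symm.trans (Finset.sum_range_succ' fU n)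
  rw [hn, ← h0] at e6
  have key : (∑ k ∈ Finset.range n, fV k + ∑ k ∈ Finset.range n, fU (k + 1)) + (fV n + fV 0) =
      (∑ k ∈ Finset.range n, fU k + ∑ k ∈ Finset.range n, fV (k + 1)) + (fV n + fV 0) := by
    calc (∑ k ∈ Finset.range n, fV k + ∑ k ∈ Finset.range n, fU (k + 1)) + (fV n + fV 0)
        = (∑ k ∈ Finset.range n, fV k + fV n) + (∑ k ∈ Finset.range n, fU (k + 1) + fV 0) := by
          abel
      _ = (∑ k ∈ Finset.range n, fV (k + 1) + fV 0) + (∑ k ∈ Finset.range n, fU k + fV n) := by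
          rw [e5, e6]
      _ = (∑ k ∈ Finset.range n, fU k + ∑ k ∈ Finset.range n, fV (k + 1)) + (fV n + fV 0) := by
          abel
  exact add_right_cancel key

/-- termwise computation: multiplication by the first generator. -/
theorem mul_Ssum_left (q1 q2 : ℝ) (hq1 : q1 ≠ 0) (n : ℕ)
    (x y : Matrix ι ι ℝ) (t1 t2 : Matrix κ κ ℝ)
    (hx : x * x = q1 • (1 : Matrix ι ι ℝ) + (q1 - 1) • x)
    (ht : t1 * t1 = q1 • (1 : Matrix κ κ ℝ) + (q1 - 1) • t1)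
    (φ : Matrix κ κ ℝ →ₗ[ℝ] ℝ) :
    x * Ssum q1 q2 n x y t1 t2 φ = Ssum q1 q2 n x y t1 t2 (fun T => φ (t1 * T)) := by
  unfold Ssum
  rw [Finset.mul_sum]
  apply Finset.sum_congr rfl
  intro k _
  rw [altL_succ x y k, altL_succ t1 t2 k, altL_succ q1 q2 k]
  generalize altL y x k = A
  generalize altL t2 t1 k = T
  generalize altL q2 q1 k = L
  have h1 : x * (x * A) = q1 • A + (q1 - 1) • (x * A) := by
    rw [← mul_assoc, hx, add_mul, smul_mul_assoc, one_mul, smul_mul_assoc]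
  have h2 : φ (t1 * (t1 * T)) = q1 * φ T + (q1 - 1) * φ (t1 * T) := by
    rw [← mul_assoc, ht, add_mul, smul_mul_assoc, one_mul, smul_mul_assoc, map_add, map_smul,
      map_smul, smul_eq_mul, smul_eq_mul]
  rw [mul_add, mul_smul_comm, mul_smul_comm, h1]
  beta_reduce
  rw [h2, mul_inv]
  match_scalars
  · field_simp
  · field_simp

theorem rel_swap {q1 q2 : ℝ} {n : ℕ} {x y : Matrix ι ι ℝ} (h : Rel q1 q2 n x y) :
    Rel q2 q1 n y x :=
  ⟨h.symm_y, h.symm_x, h.sq_y, h.sq_x, h.braid.symm⟩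

/-- K-S1142-E (left intertwining). -/
theorem mul_Ssum (q1 q2 : ℝ) (hq1 : q1 ≠ 0) (hq2 : q2 ≠ 0) (n : ℕ)
    (hq : altL q1 q2 n = altL q2 q1 n) (x y : Matrix ι ι ℝ) (t1 t2 : Matrix κ κ ℝ)
    (hx : Rel q1 q2 n x y) (ht : Rel q1 q2 n t1 t2) (φ : Matrix κ κ ℝ →ₗ[ℝ] ℝ) :
    x * Ssum q1 q2 n x y t1 t2 φ = Ssum q1 q2 n x y t1 t2 (fun T => φ (t1 * T)) ∧
    y * Ssum q1 q2 n x y t1 t2 φ = Ssum q1 q2 n x y t1 t2 (fun T => φ (t2 * T)) := by
  refine ⟨mul_Ssum_left q1 q2 hq1 n x y t1 t2 hx.sq_x ht.sq_x φ, ?_⟩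
  rw [Ssum_swap q1 q2 n hq x y t1 t2 hx.braid ht.braid φ,
    Ssum_swap q1 q2 n hq x y t1 t2 hx.braid ht.braid (fun T => φ (t2 * T))]
  exact mul_Ssum_left q2 q1 hq2 n y x t2 t1 hx.sq_y ht.sq_y φ

end la

end Cfsg.Agent.Lib.Helper83.FH
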