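import Cfsg.Agent.Lib.Helper60.FHDefs

/-!
# K-S1142-F: `Ssum φ` is symmetric when `φ` is transpose-invariant
-/

set_option autoImplicit false

open Cfsg.Agent.Lib.Helper60.FH Matrix

namespace Cfsg.Agent.Lib.Helper83.FH

/-- extending an alternating word on the right. -/
theorem altL_succ_right {M : Type*} [Monoid M] (x y : M) (k : ℕ) :
    altL x y (k + 1) = altL x y k * (if Even k then x else y) := by
  induction k generalizing x y with
  | zero => simp
  | succ k ih =>
    rw [altL_succ x y (k + 1), ih y x, altL_succ x y k, mul_assoc]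
    congr 1
    by_cases hk : Even k
    · have : ¬ Even (k + 1) := by
        rw [Nat.even_add_one]; exact not_not.2 hk
      rw [if_pos hk, if_neg this]
    · have : Even (k + 1) := by
        rw [Nat.even_add_one]; exact hk
      rw [if_neg hk, if_pos this]

/-- alternating words of even length in a commutative monoid do not depend on the first letter. -/
theorem altL_comm_even {M : Type*} [CommMonoid M] (a b : M) (k : ℕ) (hk : Even k) :
    altL a b k = altL b a k := by
  obtain ⟨m, rfl⟩ := hk
  induction m with
  | zero => simp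
  | succ m ih =>
    have e : m + 1 + (m + 1) = (m + m) + 1 + 1 := by ring
    rw [e, altL_succ, altL_succ, altL_succ b a, altL_succ a b, ih, ← mul_assoc, ← mul_assoc,
      mul_comm a b]

section la
variable {ι κ : Type*} [Fintype ι] [DecidableEq ι] [Fintype κ] [DecidableEq κ]

/-- transpose of an alternating word in two symmetric matrices. -/
theorem altL_transpose {ι : Type*} [Fintype ι] [DecidableEq ι] (x y : Matrix ι ι ℝ)
    (hx : xᵀ = x) (hy : yᵀ = y) (k : ℕ) :
    (altL x y k)ᵀ = if Even k then altL y x k else altL x y k := by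
  induction k generalizing x y with
  | zero => simp
  | succ k ih =>
    rw [altL_succ x y k, Matrix.transpose_mul, hx, ih y x hy hx]
    by_cases hk : Even k
    · have h1 : ¬ Even (k + 1) := by
        rw [Nat.even_add_one]; exact not_not.2 hk
      rw [if_pos hk, if_neg h1, ← altL_succ x y k, altL_succ_right x y k, if_pos hk]
    · have h1 : Even (k + 1) := by
        rw [Nat.even_add_one]; exact hk
      rw [if_neg hk, if_pos h1, altL_succ_right y x k, if_neg hk]

/-- K-S1142-F (symmetry). -/
theorem Ssum_transpose (q1 q2 : ℝ) (n : ℕ)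
    (x y : Matrix ι ι ℝ) (t1 t2 : Matrix κ κ ℝ)
    (hx : Rel q1 q2 n x y) (ht : Rel q1 q2 n t1 t2) (φ : Matrix κ κ ℝ → ℝ)
    (hφ : ∀ T, φ Tᵀ = φ T) :
    (Ssum q1 q2 n x y t1 t2 φ)ᵀ = Ssum q1 q2 n x y t1 t2 φ := by
  unfold Ssum
  set cV : ℕ → ℝ := fun k => (altL q2 q1 k)⁻¹ * φ (altL t2 t1 k) with hcV
  set cU : ℕ → ℝ := fun k => (altL q1 q2 k)⁻¹ * φ (altL t1 t2 k) with hcU
  show (∑ k ∈ Finset.range n, (cV k • altL y x k + cU (k + 1) • altL x y (k + 1)))ᵀ =
    ∑ k ∈ Finset.range n, (cV k • altL y x k + cU (k + 1) • altL x y (k + 1))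
  rw [Matrix.transpose_sum]
  simp only [Matrix.transpose_add, Matrix.transpose_smul]
  -- coefficients agree for even `k`
  have hc : ∀ k, Even k → cV k = cU k := by
    intro k hk
    simp only [hcV, hcU]
    rw [altL_comm_even q2 q1 k hk]
    congr 1
    have := altL_transpose t1 t2 ht.symm_x ht.symm_y k
    rw [if_pos hk] at this
    rw [← this, hφ]
  -- the pair of terms of length `k` is preserved by transposition
  have hpair : ∀ k, cV k • (altL y x k)ᵀ + cU k • (altL x y k)ᵀ =
      cV k • altL y x k + cU k • altL x y k := by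
    intro k
    rw [altL_transpose y x hx.symm_y hx.symm_x k, altL_transpose x y hx.symm_x hx.symm_y k]
    by_cases hk : Even k
    · rw [if_pos hk, if_pos hk, hc k hk, add_comm]
    · rw [if_neg hk, if_neg hk]
  cases n with
  | zero => simp
  | succ m =>
    have hU : (altL x y (m + 1))ᵀ = altL x y (m + 1) := by
      rw [altL_transpose x y hx.symm_x hx.symm_y (m + 1)]
      by_cases hk : Even (m + 1)
      · rw [if_pos hk, hx.braid]
      · rw [if_neg hk]
    have hV : (altL y x 0)ᵀ = altL y x 0 := by simp
    -- split both sums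
    have split : ∀ (a b : ℕ → Matrix ι ι ℝ),
        ∑ k ∈ Finset.range (m + 1), (a k + b (k + 1)) =
          a 0 + b (m + 1) + ∑ k ∈ Finset.range m, (a (k + 1) + b (k + 1)) := by
      intro a b
      rw [Finset.sum_add_distrib, Finset.sum_range_succ' a m,
        Finset.sum_range_succ (fun k => b (k + 1)) m, Finset.sum_add_distrib]
      abel
    rw [split (fun k => cV k • (altL y x k)ᵀ) (fun k => cU k • (altL x y k)ᵀ),
      split (fun k => cV k • altL y x k) (fun k => cU k • altL x y k)]
    rw [hU, hV]
    congr 1
    apply Finset.sum_congr rfl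
    intro k _
    exact hpair (k + 1)

end la

end Cfsg.Agent.Lib.Helper83.FH
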