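import Mathlib
import Cfsg.Agent.Lib.Helper68.HigBase
import Cfsg.Agent.Lib.Helper31.SuzukiTwo

/-!
# K-S1138-C: a `ξ`-invariant nonabelian subgroup `H` of a Suzuki 2-group has `Z(H) ≤ Z(P)`.
-/

set_option autoImplicit false

namespace Cfsg.Agent.Lib.Helper83.Hig

open Subgroup Cfsg.Agent.Lib.Helper68.HigBase

section

variable {P : Type*} [Group P] [Finite P]

/-- the restriction of an automorphism to an invariant subgroup (finite case). -/
noncomputable def restrictAut (f : MulAut P) (H : Subgroup P) (hH : ∀ x ∈ H, f x ∈ H) :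
    MulAut H :=
  MulEquiv.ofBijective
    ((f.toMonoidHom.comp H.subtype).codRestrict H (fun x => hH x x.2))
    (by
      have hinj : Function.Injective
          ((f.toMonoidHom.comp H.subtype).codRestrict H (fun x => hH x x.2)) := by
        intro x y hxy
        have h1 : f (x : P) = f (y : P) := congrArg Subtype.val hxy
        exact Subtype.ext (f.injective h1)
      exact ⟨hinj, Finite.injective_iff_surjective.1 hinj⟩)

theorem restrictAut_coe (f : MulAut P) (H : Subgroup P) (hH : ∀ x ∈ H, f x ∈ H) (x : H) :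
    ((restrictAut f H hH x : H) : P) = f (x : P) := rfl

theorem restrictAut_pow_coe (f : MulAut P) (H : Subgroup P) (hH : ∀ x ∈ H, f x ∈ H) (n : ℕ)
    (x : H) : (((restrictAut f H hH) ^ n) x : P) = (f ^ n) (x : P) := by
  induction n generalizing x with
  | zero => simp
  | succ k ih =>
    rw [pow_succ, pow_succ, MulAut.mul_apply, MulAut.mul_apply, ih, restrictAut_coe]

end

/-- KC.  A `ξ`-invariant NONABELIAN subgroup `H` of a Suzuki 2-group has `Z(H) ≤ Z(P)`. -/
theorem center_le_of_invariant {P : Type*} [Group P] [Finite P] (B : Base P) (H : Subgroup P)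
    (hH : ∀ x ∈ H, B.ξ x ∈ H) (hnc : ∃ x ∈ H, ∃ y ∈ H, x * y ≠ y * x) :
    ∀ z ∈ H, (∀ h ∈ H, z * h = h * z) → z ∈ center P := by
  classical
  set ξH : MulAut H := restrictAut B.ξ H hH with hξH
  have hpow : ∀ (n : ℕ) (x : H), ((ξH ^ n) x : P) = (B.ξ ^ n) (x : P) :=
    fun n x => restrictAut_pow_coe B.ξ H hH n x
  have hfinA : Finite (MulAut P) :=
    Finite.of_injective (fun e : MulAut P => (e : P → P)) DFunLike.coe_injective
  have hfinAH : Finite (MulAut H) :=
    Finite.of_injective (fun e : MulAut H => (e : H → H)) DFunLike.coe_injective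
  set n := orderOf B.ξ with hn
  have hnpos : 0 < n := orderOf_pos B.ξ
  have hξn : B.ξ ^ n = 1 := pow_orderOf_eq_one B.ξ
  have hξHn : ξH ^ n = 1 := by
    ext x
    rw [hpow, hξn]
    rfl
  have hdvd : orderOf ξH ∣ n := orderOf_dvd_of_pow_eq_one hξHn
  have hoddH : Odd (orderOf ξH) := Odd.of_dvd_nat B.hodd hdvd
  have hyp : Cfsg.Agent.Lib.Helper31.SuzukiTwo.Hyp (Subgroup.zpowers ξH).subtype := by
    refine ⟨B.h2.to_subgroup H, ?_, ?_, ?_⟩
    · intro γ δ
      obtain ⟨γ, hγ⟩ := γ
      obtain ⟨δ, hδ⟩ := δ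
      obtain ⟨i, rfl⟩ := Subgroup.mem_zpowers_iff.1 hγ
      obtain ⟨j, rfl⟩ := Subgroup.mem_zpowers_iff.1 hδ
      apply Subtype.ext
      show ξH ^ i * ξH ^ j = ξH ^ j * ξH ^ i
      rw [← zpow_add, ← zpow_add, add_comm]
    · rw [Nat.card_zpowers]
      exact hoddH
    · intro x y hx1 hx2 hy1 hy2
      have hxP1 : (x : P) ≠ 1 := fun h => hx1 (Subtype.ext h)
      have hyP1 : (y : P) ≠ 1 := fun h => hy1 (Subtype.ext h)
      have hxP2 : (x : P) * (x : P) = 1 := by
        have := congrArg Subtype.val hx2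
        simpa using this
      have hyP2 : (y : P) * (y : P) = 1 := by
        have := congrArg Subtype.val hy2
        simpa using this
      obtain ⟨i, hi⟩ := B.htrans _ (B.hinv _ hxP2) hxP1
      obtain ⟨j, hj⟩ := B.htrans _ (B.hinv _ hyP2) hyP1
      refine ⟨⟨ξH ^ (j + i * (n - 1)), Subgroup.npow_mem_zpowers _ _⟩, ?_⟩
      apply Subtype.ext
      show ((ξH ^ (j + i * (n - 1))) x : P) = (y : P)
      rw [hpow, ← hi, ← MulAut.mul_apply, ← pow_add]
      have h1 : j + i * (n - 1) + i = j + i * n := by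
        obtain ⟨m, hm⟩ := Nat.exists_eq_add_one_of_ne_zero (Nat.pos_iff_ne_zero.1 hnpos)
        rw [hm]
        simp only [Nat.add_sub_cancel]
        ring
      rw [h1, pow_add, pow_mul', hξn, one_pow, mul_one, hj]
  have hncH : ∃ x y : H, x * y ≠ y * x := by
    obtain ⟨x, hx, y, hy, hxy⟩ := hnc
    refine ⟨⟨x, hx⟩, ⟨y, hy⟩, fun h => hxy ?_⟩
    have := congrArg Subtype.val h
    simpa using this
  have hc := hyp.center_sq hncH
  intro z hz hzc
  have hzcen : (⟨z, hz⟩ : H) ∈ Subgroup.center H := by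
    rw [Subgroup.mem_center_iff]
    intro g
    apply Subtype.ext
    show (g : P) * z = z * (g : P)
    exact (hzc g g.2).symm
  have h1 := hc _ hzcen
  have h2 : z * z = 1 := by
    have := congrArg Subtype.val h1
    simpa using this
  exact B.hinv z h2

end Cfsg.Agent.Lib.Helper83.Hig
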