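import Mathlib
import Cfsg.Agent.S1423
import Cfsg.Agent.S1424
import Cfsg.Agent.Lib.Helper15.BG11Z
import Cfsg.Agent.Lib.Helper18.BG134Fr
import Cfsg.Agent.Lib.Helper65.BG134G1
import Cfsg.Agent.Lib.Helper55.Uniq3

/-!
# Keystone 142840 (K-S1428-G7): BG 12.14(d)

`M ≠ L` maximal, `q ∈ σ(M) ∩ σ(L)`, `X ≤ M` a nontrivial `q`-subgroup with `N_G(X) ≤ L`.
Then `L = L_β (M ∩ L)`.
-/

set_option autoImplicit false

namespace Cfsg.Agent.Lib.Helper83.BG134

open Cfsg Cfsg.Agent.Lib.Helper55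

variable {G : Type*} [Group G] [Finite G]

/-- **Keystone 142806/142840 (K-S1428-G7)** = BG 12.14(d). -/
theorem eq_beta_mul_inf (hG : IsMinSimpleOddOrder G) {M L : Subgroup G} (hM : IsCoatom M)
    (hL : IsCoatom L) (hne : L ≠ M) {q : ℕ} [Fact q.Prime] (hqM : q ∈ sigma M) (hqL : q ∈ sigma L)
    {X : Subgroup G} (hXq : IsPGroup q X) (hX1 : X ≠ ⊥) (hXM : X ≤ M)
    (hNX : Subgroup.normalizer (X : Set G) ≤ L) :
    ∀ l ∈ L, ∃ b ∈ piCoreOf (beta L) L, ∃ m ∈ M ⊓ L, l = b * m := by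
  have hq : q.Prime := Fact.out
  have hXL : X ≤ L := Subgroup.le_normalizer.trans hNX
  have hXML : X ≤ M ⊓ L := le_inf hXM hXL
  -- a Sylow `q`-subgroup of `M ∩ L` over `X`
  obtain ⟨S', hS'syl, hXS'⟩ := exists_isSylowIn_ge hXML hXq
  have hS'eq := hS'syl.map_toSylow
  have hXS : X ≤ ((hS'syl.toSylow : Sylow q ↥(M ⊓ L)) : Subgroup ↥(M ⊓ L)).map (M ⊓ L).subtype := by
    rw [hS'eq]; exact hXS'
  obtain ⟨hncj, hNS, hidx⟩ := Cfsg.Agent.S1424.result hG M hM q hqM X hXq hX1 hXM L hL hne hNX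
    hS'syl.toSylow hXS
  rw [hS'eq] at hNS hidx
  have hS'M : S' ≤ M := hS'syl.1.trans inf_le_left
  have hS'L : S' ≤ L := hS'syl.1.trans inf_le_right
  have hS'q : IsPGroup q S' := hS'syl.2.1
  have hS'sylL : IsSylowIn q L S' :=
    Cfsg.Agent.Lib.Helper18.BG134.isSylowIn_of_not_dvd_relIndex hS'L hS'q hidx
  -- `q ∉ β(L)`
  have hqβ : q ∉ beta L := by
    intro hβ
    -- an element of order `q` in `X`
    obtain ⟨n, hn⟩ := hXq.exists_card_eq
    have hn0 : n ≠ 0 := by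
      intro h0
      rw [h0, pow_zero] at hn
      exact hX1 (Subgroup.card_eq_one.mp hn)
    have hqX : q ∣ Nat.card X := by rw [hn]; exact dvd_pow_self q hn0
    obtain ⟨x, hx⟩ := exists_prime_orderOf_dvd_card' q hqX
    have hxo : orderOf (x : G) = q := by rw [Subgroup.orderOf_coe]; exact hx
    have hX'L : Subgroup.zpowers (x : G) ≤ L := by
      rw [Subgroup.zpowers_le]; exact hXL x.2
    have hX'c : Nat.card (Subgroup.zpowers (x : G)) = q := by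
      rw [Nat.card_zpowers]; exact hxo
    let P : Sylow q ↥(sigmaCore L) := default
    obtain ⟨-, hUniq, hPL⟩ := Cfsg.Agent.S1423.result hG L hL q hqL (Subgroup.zpowers (x : G))
      hX'L hX'c P (Or.inl hβ)
    have hP1 : IsSylowIn q (sigmaCore L) ((P : Subgroup ↥(sigmaCore L)).map (sigmaCore L).subtype) :=
      isSylowIn_of_sylow P
    have hP2 : IsSylowIn q L ((P : Subgroup ↥(sigmaCore L)).map (sigmaCore L).subtype) :=
      Cfsg.Agent.Lib.Helper15.BG11Z.isSylowIn_of_sigmaCore hG hL hqL hP1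
    obtain ⟨l, hl, hlc⟩ := hS'sylL.exists_conj hP2
    have hPM : (P : Subgroup ↥(sigmaCore L)).map (sigmaCore L).subtype ≤ cj l M := by
      rw [← hlc]; exact cj_mono hS'M
    have hLM : L = cj l M := hUniq.unique ⟨hL, hPL⟩ ⟨isCoatom_cj l hM, hPM⟩
    exact hncj l hLM
  have hS'c : S' ≤ ⁅L, L⁆ :=
    Cfsg.Agent.Lib.Helper65.BG134.le_commutator_of_mem_sigma hG hL hqL hS'L hS'q
  have hY : IsSylowIn q ⁅L, L⁆ S' := by
    refine ⟨hS'c, hS'q, fun T' hT' hT'q hle => ?_⟩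
    exact hS'sylL.2.2 T' (hT'.trans (Cfsg.Agent.Lib.Helper71.BG10.commutator_self_le L)) hT'q hle
  intro l hl
  obtain ⟨b, hb, n, hn, e⟩ := Cfsg.Agent.Lib.Helper18.BG134.frattini_beta hG hL hqβ hY l hl
  exact ⟨b, hb, n, ⟨hNS hn.2, hn.1⟩, e⟩

end Cfsg.Agent.Lib.Helper83.BG134
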