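import Mathlib
import Cfsg.Statements.S1421

/-!
# S1421 (BG 12.11, Frobenius-type criterion): shared abbreviations
-/

set_option autoImplicit false

namespace Cfsg.Agent.Lib.Helper83.BG1211

open Cfsg

variable {G : Type*} [Group G] [Finite G]

/-- hypothesis `h` of S1421 (written out) -/
def Hyp (M E : Subgroup G) : Prop :=
  ∀ e ∈ E, e ≠ 1 → (∀ p : ℕ, p.Prime → p ∣ orderOf e → p ∈ tau1 M ∪ tau3 M) →
    sigmaCore M ⊓ Subgroup.centralizer ({e} : Set G) = ⊥

/-- conclusion of S1421 (written out) -/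
def Concl (M E : Subgroup G) : Prop :=
  (∃ A₀ : Subgroup G, A₀ ≤ E ∧ E ≤ Subgroup.normalizer (A₀ : Set G) ∧ IsMulCommutative A₀ ∧
      ∀ x ∈ sigmaCore M, x ≠ 1 → E ⊓ Subgroup.centralizer ({x} : Set G) ≤ A₀) ∧
    ∃ E₀ : Subgroup G, E₀ ≤ E ∧ Monoid.exponent E₀ = Monoid.exponent E ∧
      ∀ e ∈ E₀, e ≠ 1 → sigmaCore M ⊓ Subgroup.centralizer ({e} : Set G) = ⊥

/-- the STATEMENT of S1427 for all maximal subgroups -/
def H1427 (G : Type*) [Group G] [Finite G] : Prop :=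
  ∀ (L : Subgroup G), IsCoatom L → ∀ (E' : Subgroup G), IsComplIn E' (sigmaCore L) L →
    ∀ (r : ℕ) [Fact r.Prime] (R : Sylow r E'), (R : Subgroup E') ≠ ⊥ → IsCyclic (R : Subgroup E') →
      ∀ x ∈ (R : Subgroup E').map E'.subtype, x ≠ 1 →
        sigmaCore L ⊓ Subgroup.centralizer ({x} : Set G) =
          sigmaCore L ⊓ Subgroup.centralizer (((R : Subgroup E').map E'.subtype : Subgroup G) : Set G)

end Cfsg.Agent.Lib.Helper83.BG1211
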