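import Mathlib
import Cfsg.Agent.Lib.Helper83.BG1211Defs
import Cfsg.Agent.Lib.Helper78.BG128
import Cfsg.Agent.Lib.Helper13.BG127
import Cfsg.Agent.Lib.Helper13.BG12B
import Cfsg.Agent.S1417
import Cfsg.Agent.S1418
import Cfsg.Agent.S1350

/-!
# S1421 (BG 12.11): auxiliary lemmas for the glue
-/

set_option autoImplicit false
set_option linter.unusedSectionVars false
set_option linter.unusedVariables false
set_option linter.style.haveILetI false
set_option maxHeartbeats 1600000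

namespace Cfsg.Agent.Lib.Helper83.BG1211

open Cfsg Cfsg.Agent.Lib.Helper55 Cfsg.Agent.Lib.Helper78.BG128

variable {G : Type*} [Group G] [Finite G]

/-- a line of `A` whose normalizer is not inside `M` acts fixed-point-freely on `M_σ` -/
theorem line_good (hG : IsMinSimpleOddOrder G) {M : Subgroup G} (hM : IsCoatom M)
    {E : Subgroup G} (hE : IsComplIn E (sigmaCore M) M) {p : ℕ} [Fact p.Prime] (hp : p ∈ tau2 M)
    {A : Subgroup G} (hA : A ≤ E ∧ IsElementaryAbelian p A ∧ Nat.card A = p ^ 2)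
    {X : Subgroup G} (hXA : X ≤ A) (hXc : Nat.card X = p)
    (hN : ¬ Subgroup.normalizer (X : Set G) ≤ M) :
    sigmaCore M ⊓ Subgroup.centralizer (X : Set G) = ⊥ := by
  by_contra hne
  obtain ⟨-, huniq⟩ := (Cfsg.Agent.S1418.result hG M hM E hE p hp A hA).2.2 X hXA hXc hne
  have hp' : p.Prime := Fact.out
  have hX1 : X ≠ ⊥ := by
    rintro rfl
    rw [Subgroup.card_bot] at hXc
    exact hp'.one_lt.ne hXc
  have hXM : X ≤ M := hXA.trans (hA.1.trans hE.1)
  have hXtop : X ≠ ⊤ := by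
    rintro rfl
    exact hM.1 (top_le_iff.mp hXM)
  obtain ⟨L, hL, hNL⟩ := ms_exists_coatom_ge (ms_normalizer_ne_top hG hX1 hXtop)
  have hLM : L = M := huniq L hL ((Subgroup.centralizer_le_normalizer (X : Set G)).trans hNL)
  exact hN (hLM ▸ hNL)

/-- primes dividing `|E|` lie in `τ₁ ∪ τ₃` or in `τ₂` -/
theorem mem_tau13_or_tau2 (hG : IsMinSimpleOddOrder G) {M : Subgroup G} (hM : IsCoatom M)
    {E : Subgroup G} (hE : IsComplIn E (sigmaCore M) M) {r : ℕ} (hr : r.Prime)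
    (hrE : r ∣ Nat.card E) : r ∈ tau1 M ∪ tau3 M ∨ r ∈ tau2 M := by
  have hHall : IsPiHallOf (sigma M) (sigmaCore M) M := (Cfsg.Agent.S1350.result hG M hM).1
  have hσ : r ∉ sigma M :=
    Cfsg.Agent.Lib.Helper13.BG12.complIn_prime_not_mem_sigma hHall hE r hr hrE
  have h2 : PRankLE r 2 ↥M := by
    by_contra h
    exact hσ (Cfsg.Agent.Lib.Helper13.BG12.mem_sigma_of_not_pRankLE_two hG hM hr h)
  have hrM : r ∣ Nat.card M := hrE.trans (Subgroup.card_dvd_of_le hE.1)
  by_cases h1 : PRankLE r 1 ↥M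
  · left
    by_cases h3 : r ∣ Nat.card ↥⁅M, M⁆
    · exact Or.inr ⟨hr, hσ, h3, h1⟩
    · exact Or.inl ⟨hr, hσ, hrM, h3, h1⟩
  · exact Or.inr ⟨hr, hσ, h2, h1⟩

/-- in a finite cyclic group, a subgroup of order `p` contains every element of order dividing `p` -/
theorem mem_of_pow_eq_one_of_cyclic {Y : Type*} [Group Y] [Finite Y] [IsCyclic Y] {p : ℕ}
    (hp : 0 < p) (X : Subgroup Y) (hX : Nat.card X = p) {z : Y} (hz : z ^ p = 1) : z ∈ X := by
  classical
  let _ := Fintype.ofFinite Y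
  have h1 : (Finset.univ.filter (fun a : Y => a ^ p = 1)).card ≤ p :=
    IsCyclic.card_pow_eq_one_le hp
  have h2 : (X : Set Y).toFinset ⊆ Finset.univ.filter (fun a : Y => a ^ p = 1) := by
    intro a ha
    rw [Set.mem_toFinset] at ha
    rw [Finset.mem_filter]
    refine ⟨Finset.mem_univ _, ?_⟩
    have := pow_card_eq_one' (G := X) (x := ⟨a, ha⟩)
    rw [hX] at this
    have h' := congrArg Subtype.val this
    simpa using h'
  have h3 : (X : Set Y).toFinset.card = p := by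
    rw [Set.toFinset_card, ← Nat.card_eq_fintype_card]
    exact hX
  have h4 := Finset.eq_of_subset_of_card_le h2 (h1.trans_eq h3.symm)
  have : z ∈ Finset.univ.filter (fun a : Y => a ^ p = 1) := by
    rw [Finset.mem_filter]; exact ⟨Finset.mem_univ _, hz⟩
  rw [← h4, Set.mem_toFinset] at this
  exact this

/-- if the line `X₀` of the cyclic `p`-group `Y` is fixed-point-free on `Q`, so is every
non-identity element of `Y` -/
theorem fpf_of_cyclic {p : ℕ} [Fact p.Prime] {Q Y X₀ : Subgroup G} (hYc : IsCyclic Y)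
    (hYp : IsPGroup p Y) (hXY : X₀ ≤ Y) (hXc : Nat.card X₀ = p)
    (hX : Q ⊓ Subgroup.centralizer (X₀ : Set G) = ⊥)
    {y : G} (hy : y ∈ Y) (hy1 : y ≠ 1) : Q ⊓ Subgroup.centralizer ({y} : Set G) = ⊥ := by
  have hp : p.Prime := Fact.out
  obtain ⟨k, hk⟩ := hYp ⟨y, hy⟩
  have hk' : y ^ (p ^ k) = 1 := by simpa using congrArg Subtype.val hk
  obtain ⟨j, hjk, hj⟩ := (Nat.dvd_prime_pow hp).mp (orderOf_dvd_of_pow_eq_one hk')
  have hj0 : j ≠ 0 := by
    rintro rfl
    rw [pow_zero, orderOf_eq_one_iff] at hj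
    exact hy1 hj
  obtain ⟨z, hz⟩ : ∃ z, z = y ^ (p ^ (j - 1)) := ⟨_, rfl⟩
  have hzp : z ^ p = 1 := by
    rw [hz, ← pow_mul, ← pow_succ, Nat.sub_add_cancel (Nat.pos_of_ne_zero hj0), ← hj]
    exact pow_orderOf_eq_one y
  have hz1 : z ≠ 1 := by
    intro h
    rw [hz] at h
    have h2 := orderOf_dvd_of_pow_eq_one h
    rw [hj] at h2
    have h3 := (Nat.pow_dvd_pow_iff_le_right hp.one_lt).mp h2
    omega
  have hzY : z ∈ Y := by rw [hz]; exact Y.pow_mem hy _
  have hzX : z ∈ X₀ := by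
    have hc : Nat.card (X₀.subgroupOf Y) = p := by
      rw [← hXc]
      exact Nat.card_congr (Subgroup.subgroupOfEquivOfLe hXY).toEquiv
    have := mem_of_pow_eq_one_of_cyclic (Y := Y) hp.pos (X₀.subgroupOf Y) hc (z := ⟨z, hzY⟩)
      (by apply Subtype.ext; simpa using hzp)
    exact Subgroup.mem_subgroupOf.mp this
  have htop : Subgroup.zpowers (⟨z, hzX⟩ : X₀) = ⊤ :=
    zpowers_eq_top_of_prime_card hXc (by intro h; exact hz1 (congrArg Subtype.val h))
  rw [eq_bot_iff]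
  rintro c ⟨hcQ, hcy⟩
  rw [← hX]
  refine Subgroup.mem_inf.mpr ⟨hcQ, ?_⟩
  have hcy' : y * c = c * y := (Subgroup.mem_centralizer_iff.mp hcy) y rfl
  have hcz : Commute z c := by
    rw [hz]
    exact (show Commute y c from hcy').pow_left _
  rw [Subgroup.mem_centralizer_iff]
  intro x hx
  have hx' : (⟨x, hx⟩ : X₀) ∈ Subgroup.zpowers (⟨z, hzX⟩ : X₀) := by rw [htop]; trivial
  obtain ⟨n, hn⟩ := Subgroup.mem_zpowers_iff.mp hx'
  have hxz : x = z ^ n := by
    have := congrArg Subtype.val hn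
    simpa using this.symm
  rw [hxz]
  exact (hcz.zpow_left n).eq

/-- a `p`-subgroup of `E` lies in the normal Hall subgroup `V` when `p ∣ |V|` -/
theorem le_of_normal_hall {E V T : Subgroup G} (hVE : V ≤ E)
    (hVn : E ≤ Subgroup.normalizer (V : Set G))
    (hVhall : (Nat.card V).Coprime (V.relIndex E)) {p : ℕ} [Fact p.Prime] (hpV : p ∣ Nat.card V)
    (hT : IsPGroup p T) (hTE : T ≤ E) : T ≤ V := by
  have hp : p.Prime := Fact.out
  intro t ht
  have : (V.subgroupOf E).Normal := (Subgroup.normal_subgroupOf_iff_le_normalizer hVE).mpr hVn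
  have h1 : t ^ (V.relIndex E) ∈ V := by
    have := Subgroup.pow_index_mem (V.subgroupOf E) (⟨t, hTE ht⟩ : ↥E)
    rw [Subgroup.mem_subgroupOf] at this
    have h' : t ^ (V.subgroupOf E).index ∈ V := by simpa using this
    exact h'
  obtain ⟨k, hk⟩ := hT ⟨t, ht⟩
  have hk' : t ^ (p ^ k) = 1 := by simpa using congrArg Subtype.val hk
  have hcop : (p ^ k).Coprime (V.relIndex E) := by
    apply Nat.Coprime.pow_left
    exact Nat.Coprime.coprime_dvd_left hpV hVhall
  exact mem_of_coprime_pow_mem hcop (by rw [hk']; exact V.one_mem) h1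

/-- Schur–Zassenhaus for a normal Sylow subgroup, inside an ambient group -/
theorem exists_compl_of_sylow_normal {V S : Subgroup G} {p : ℕ} [Fact p.Prime] (hSV : S ≤ V)
    (hVS : V ≤ Subgroup.normalizer (S : Set G)) (hSp : IsPGroup p S)
    (hidx : ¬ p ∣ S.relIndex V) :
    ∃ H : Subgroup G, H ≤ V ∧ ¬ p ∣ Nat.card H ∧ V ≤ S ⊔ H := by
  have hp : p.Prime := Fact.out
  have hN : (S.subgroupOf V).Normal := (Subgroup.normal_subgroupOf_iff_le_normalizer hSV).mpr hVS
  have hcard : Nat.card (S.subgroupOf V) = Nat.card S :=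
    Nat.card_congr (Subgroup.subgroupOfEquivOfLe hSV).toEquiv
  obtain ⟨k, hk⟩ := (IsPGroup.iff_card.mp hSp)
  have hcop : Nat.Coprime (Nat.card (S.subgroupOf V)) (S.subgroupOf V).index := by
    rw [hcard, hk]
    apply Nat.Coprime.pow_left
    exact (Nat.Prime.coprime_iff_not_dvd hp).mpr hidx
  obtain ⟨H, hH⟩ := Subgroup.exists_right_complement'_of_coprime hcop
  refine ⟨H.map V.subtype, ?_, ?_, ?_⟩
  · intro x hx
    obtain ⟨y, -, rfl⟩ := hx
    exact y.2
  · have h1 : Nat.card (H.map V.subtype) = Nat.card H :=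
      Nat.card_congr (H.equivMapOfInjective V.subtype V.subtype_injective).toEquiv.symm
    rw [h1, ← hH.symm.index_eq_card]
    exact hidx
  · intro v hv
    have h1 : (⟨v, hv⟩ : V) ∈ S.subgroupOf V ⊔ H := by rw [hH.sup_eq_top]; trivial
    have h2 : v ∈ (S.subgroupOf V ⊔ H).map V.subtype := ⟨⟨v, hv⟩, h1, rfl⟩
    rw [Subgroup.map_sup, Subgroup.map_subgroupOf_eq_of_le hSV] at h2
    exact h2

theorem exists_ne_one_of_card_prime {X : Subgroup G} {p : ℕ} (hp : p.Prime)
    (hX : Nat.card X = p) : ∃ x ∈ X, x ≠ 1 := by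
  by_contra h
  push Not at h
  have : X = ⊥ := (Subgroup.eq_bot_iff_forall X).mpr h
  rw [this, Subgroup.card_bot] at hX
  exact hp.one_lt.ne hX

theorem centralizer_le_normalizer_of_le {X S : Subgroup G} (hXS : X ≤ S) :
    Subgroup.centralizer (S : Set G) ≤ Subgroup.normalizer (X : Set G) :=
  (Subgroup.centralizer_le (by exact_mod_cast hXS)).trans
    (Subgroup.centralizer_le_normalizer (X : Set G))

/-- an `r`-element of `E`, `r ∈ τ₂(M)`, `r ≠ p`, centralizes the (abelian, normal) Sylow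
`p`-subgroup `S` of `E` -/
theorem tau2_element_centralizes (hG : IsMinSimpleOddOrder G) {M : Subgroup G} (hM : IsCoatom M)
    {E : Subgroup G} (hE : IsComplIn E (sigmaCore M) M)
    (hab : ∀ p ∈ tau2 M, ∀ S : Sylow p G, ∀ a ∈ (S : Subgroup G), ∀ b ∈ (S : Subgroup G),
      a * b = b * a)
    {p : ℕ} [Fact p.Prime] (S : Sylow p G) (hES : E ≤ Subgroup.normalizer ((S : Subgroup G) : Set G))
    (hSE : (S : Subgroup G) ≤ E)
    {r : ℕ} (hr : r.Prime) (hrp : r ≠ p) (h2 : r ∈ tau2 M) {h : G} (hhE : h ∈ E) {k : ℕ}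
    (hrk : orderOf h = r ^ k) : h ∈ Subgroup.centralizer ((S : Subgroup G) : Set G) := by
  have hHall : IsPiHallOf (sigma M) (sigmaCore M) M := (Cfsg.Agent.S1350.result hG M hM).1
  haveI : Fact r.Prime := ⟨hr⟩
  obtain ⟨B, hBE, hBel, hBcard⟩ :=
    Cfsg.Agent.Lib.Helper13.BG12.exists_elemAb_sq_le_compl hG hM hHall h2 hE
  obtain ⟨T, hBT⟩ := (IsPGroup.of_card hBcard).exists_le_sylow
  obtain ⟨hTE, hET, -, -, -⟩ :=
    sylow_abelian_structure hG hM hE h2 ⟨hBE, hBel, hBcard⟩ T hBT (hab r h2 T)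
  have hhT : h ∈ (T : Subgroup G) :=
    mem_sylow_of_mem_normalizer T (hET hhE) (a := k) (by rw [← hrk]; exact pow_orderOf_eq_one h)
  have hdisj : Disjoint (T : Subgroup G) (S : Subgroup G) :=
    IsPGroup.disjoint_of_ne r p hrp _ _ T.isPGroup' S.isPGroup'
  rw [Subgroup.mem_centralizer_iff]
  intro s hs
  have hc1 : h * s * h⁻¹ * s⁻¹ ∈ (T : Subgroup G) := by
    have : s * h⁻¹ * s⁻¹ ∈ (T : Subgroup G) :=
      (Subgroup.mem_normalizer_iff.mp (hET (hSE hs)) h⁻¹).mp (Subgroup.inv_mem _ hhT)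
    have h' : h * s * h⁻¹ * s⁻¹ = h * (s * h⁻¹ * s⁻¹) := by group
    rw [h']
    exact Subgroup.mul_mem _ hhT this
  have hc2 : h * s * h⁻¹ * s⁻¹ ∈ (S : Subgroup G) := by
    have : h * s * h⁻¹ ∈ (S : Subgroup G) := (Subgroup.mem_normalizer_iff.mp (hES hhE) s).mp hs
    exact Subgroup.mul_mem _ this (Subgroup.inv_mem _ hs)
  have hc : h * s * h⁻¹ * s⁻¹ = 1 := by
    have := (Subgroup.disjoint_def.mp hdisj) hc1 hc2
    exact this
  have : h * s = s * h := by
    have h' : h * s = (h * s * h⁻¹ * s⁻¹) * (s * h) := by group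
    rw [h', hc, one_mul]
  exact this.symm

end Cfsg.Agent.Lib.Helper83.BG1211
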