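import Mathlib
import Cfsg.Agent.Lib.Helper83.BG1211Aux
import Cfsg.Agent.S1414

/-!
# S1421 (BG 12.11): sub-leaf (I1) — `r ∈ σ(L)`
-/

set_option autoImplicit false
set_option linter.unusedSectionVars false
set_option linter.unusedVariables false
set_option linter.style.haveILetI false

namespace Cfsg.Agent.Lib.Helper83.BG1211

open Cfsg Cfsg.Agent.Lib.Helper55 Cfsg.Agent.Lib.Helper78.BG128

variable {G : Type*} [Group G] [Finite G]

/-- **(I1)** `r ∈ σ(L)`: `e ∈ L_σ`, which has a normal `p`-complement `T` (S1414, `p ∉ β(L)`);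
`e ∈ T`, so `[A, e] ≤ A ∩ T = 1`. -/
theorem centralizes_of_mem_sigma (hG : IsMinSimpleOddOrder G) {L : Subgroup G} (hL : IsCoatom L)
    {p : ℕ} [Fact p.Prime] (hpβ : p ∉ beta L) {A : Subgroup G} (hAp : IsPGroup p A)
    (hAσ : A ≤ sigmaCore L) (hA1 : A ≠ ⊥)
    {r : ℕ} (hr : r.Prime) (hrp : r ≠ p) (hrσ : r ∈ sigma L) {e : G} (heL : e ∈ L) {k : ℕ}
    (hek : orderOf e = r ^ k) (heA : e ∈ Subgroup.normalizer (A : Set G)) :
    e ∈ Subgroup.centralizer (A : Set G) := by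
  have hpp : p.Prime := Fact.out
  haveI : Fact r.Prime := ⟨hr⟩
  have hσL : sigmaCore L ≤ L := by
    intro x hx
    obtain ⟨y, -, rfl⟩ := hx
    exact y.2
  have hpL : p ∣ Nat.card L := by
    have h1 : p ∣ Nat.card A := by
      haveI : Nontrivial A := (Subgroup.nontrivial_iff_ne_bot A).mpr hA1
      obtain ⟨n, hn0, hn⟩ := hAp.nontrivial_iff_card.mp inferInstance
      exact hn.symm ▸ dvd_pow_self _ (ne_of_gt hn0)
    exact h1.trans (Subgroup.card_dvd_of_le (hAσ.trans hσL))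
  obtain ⟨-, ⟨P, N, hNn, hNP⟩, -⟩ := ((Cfsg.Agent.S1414.result hG L hL).2.2.2.2 p hpp hpL hpβ)
  -- `e ∈ L_σ`
  have heZ : IsPGroup r (Subgroup.zpowers e) := by
    apply IsPGroup.of_card (n := k)
    rw [Nat.card_zpowers, hek]
  have heσ : e ∈ sigmaCore L :=
    Cfsg.Agent.Lib.Helper13.BG127.pgroup_le_sigmaCore hG hL hrσ
      (by rw [Subgroup.zpowers_le]; exact heL) heZ (Subgroup.mem_zpowers e)
  -- `|N|` is prime to `p`, `|L_σ : N|` is a power of `p`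
  have hNcard : ¬ p ∣ Nat.card N := by
    rw [← hNP.index_eq_card]
    exact P.not_dvd_index
  have hNidx : N.index = Nat.card (P : Subgroup ↥(sigmaCore L)) := hNP.symm.index_eq_card
  obtain ⟨n, hn⟩ := IsPGroup.iff_card.mp P.isPGroup'
  -- `e ∈ N`
  have heN : (⟨e, heσ⟩ : ↥(sigmaCore L)) ∈ N := by
    have h1 : (⟨e, heσ⟩ : ↥(sigmaCore L)) ^ N.index ∈ N := Subgroup.pow_index_mem N _
    have h2 : (⟨e, heσ⟩ : ↥(sigmaCore L)) ^ (r ^ k) ∈ N := by
      have : (⟨e, heσ⟩ : ↥(sigmaCore L)) ^ (r ^ k) = 1 := by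
        apply Subtype.ext
        rw [Subgroup.coe_pow, Subgroup.coe_one, ← hek]
        exact pow_orderOf_eq_one e
      rw [this]
      exact N.one_mem
    have hcop : (N.index).Coprime (r ^ k) := by
      rw [hNidx, hn]
      apply Nat.Coprime.pow
      exact (Nat.coprime_primes hpp hr).mpr (Ne.symm hrp)
    exact mem_of_coprime_pow_mem hcop h1 h2
  rw [Subgroup.mem_centralizer_iff]
  intro a ha
  have haσ : a ∈ sigmaCore L := hAσ ha
  -- the commutator lies in `N` and in `A`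
  have hcN : (⟨a, haσ⟩ : ↥(sigmaCore L)) * ⟨e, heσ⟩ * (⟨a, haσ⟩ : ↥(sigmaCore L))⁻¹ *
      (⟨e, heσ⟩ : ↥(sigmaCore L))⁻¹ ∈ N :=
    N.mul_mem (hNn.conj_mem _ heN _) (N.inv_mem heN)
  have hcA : a * e * a⁻¹ * e⁻¹ ∈ A := by
    have h1 : e * a⁻¹ * e⁻¹ ∈ A :=
      (Subgroup.mem_normalizer_iff.mp heA a⁻¹).mp (A.inv_mem ha)
    have h2 : a * e * a⁻¹ * e⁻¹ = a * (e * a⁻¹ * e⁻¹) := by group
    rw [h2]
    exact A.mul_mem ha h1
  have hc1 : a * e * a⁻¹ * e⁻¹ = 1 := by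
    -- order is a power of `p` and divides `|N|`
    obtain ⟨j, hj⟩ := hAp ⟨_, hcA⟩
    have hj' : (a * e * a⁻¹ * e⁻¹) ^ (p ^ j) = 1 := by simpa using congrArg Subtype.val hj
    have hd1 : orderOf (a * e * a⁻¹ * e⁻¹) ∣ p ^ j := orderOf_dvd_of_pow_eq_one hj'
    have hd2 : orderOf (a * e * a⁻¹ * e⁻¹) ∣ Nat.card N := by
      have h3 := Subgroup.orderOf_dvd_natCard N hcN
      have h4 : orderOf ((⟨a, haσ⟩ : ↥(sigmaCore L)) * ⟨e, heσ⟩ *
          (⟨a, haσ⟩ : ↥(sigmaCore L))⁻¹ * (⟨e, heσ⟩ : ↥(sigmaCore L))⁻¹) =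
          orderOf (a * e * a⁻¹ * e⁻¹) := by
        rw [← Subgroup.orderOf_coe]
        rfl
      rwa [h4] at h3
    have hcop : (p ^ j).Coprime (Nat.card N) :=
      Nat.Coprime.pow_left j ((Nat.Prime.coprime_iff_not_dvd hpp).mpr hNcard)
    have := Nat.eq_one_of_dvd_coprimes hcop hd1 hd2
    exact orderOf_eq_one_iff.mp this
  have : a * e = (a * e * a⁻¹ * e⁻¹) * (e * a) := by group
  rw [this, hc1, one_mul]

end Cfsg.Agent.Lib.Helper83.BG1211
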