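import Mathlib
import Cfsg.Agent.Lib.Helper83.BG1211Aux
import Cfsg.Agent.Lib.Helper02.FpfCyclic

/-!
# S1421 (BG 12.11): sub-leaf (I3a) — an abelian group with an irreducible element acts through a
cyclic quotient
-/

set_option autoImplicit false
set_option linter.unusedSectionVars false
set_option linter.unusedVariables false
set_option linter.style.haveILetI false
set_option maxHeartbeats 1600000

namespace Cfsg.Agent.Lib.Helper83.BG1211

variable {G : Type*} [Group G] [Finite G]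

/-- **(I3a)** PURE: `T` an abelian `r`-group normalizing the abelian group `A`, `e ∈ T` normalizing
no proper non-trivial subgroup of `A` and not centralizing `A`.  Then every `b ∈ T` with
`b^r ∈ C(A)` lies in `⟨e⟩ C(A)`. -/
theorem mem_zpowers_mul_centralizer (T A : Subgroup G) {r : ℕ} [Fact r.Prime]
    (hTr : IsPGroup r T) (hTab : ∀ x ∈ T, ∀ y ∈ T, x * y = y * x)
    (hTA : T ≤ Subgroup.normalizer (A : Set G)) (hAab : ∀ a ∈ A, ∀ b ∈ A, a * b = b * a)
    {e : G} (heT : e ∈ T) (heA : e ∉ Subgroup.centralizer (A : Set G))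
    (hirr : ∀ X : Subgroup G, X ≤ A → e ∈ Subgroup.normalizer (X : Set G) → X = ⊥ ∨ X = A)
    {b : G} (hbT : b ∈ T) (hbr : b ^ r ∈ Subgroup.centralizer (A : Set G)) :
    ∃ i : ℕ, b * (e ^ i)⁻¹ ∈ Subgroup.centralizer (A : Set G) := by
  classical
  have hr : r.Prime := Fact.out
  letI : CommGroup ↥A :=
    { (inferInstance : Group ↥A) with
      mul_comm := fun a b => Subtype.ext (hAab a a.2 b b.2) }
  obtain ⟨Φ, hΦdef⟩ : ∃ Φ : ↥T →* MulAut ↥A,
      Φ = (A.normalizerMonoidHom).comp (Subgroup.inclusion hTA) := ⟨_, rfl⟩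
  have hΦ : ∀ (t : ↥T) (a : ↥A), ((Φ t a : ↥A) : G) = (t : G) * a * (t : G)⁻¹ := by
    intro t a
    rw [hΦdef]
    rfl
  have hker : ∀ t : ↥T, Φ t = 1 ↔ (t : G) ∈ Subgroup.centralizer (A : Set G) := by
    intro t
    constructor
    · intro h
      rw [Subgroup.mem_centralizer_iff]
      intro a ha
      have h1 : ((Φ t ⟨a, ha⟩ : ↥A) : G) = a := by rw [h]; rfl
      rw [hΦ] at h1
      have h2 : (t : G) * a = a * (t : G) := by
        calc (t : G) * a = ((t : G) * a * (t : G)⁻¹) * (t : G) := by group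
          _ = a * (t : G) := by rw [h1]
      exact h2.symm
    · intro h
      ext a
      rw [hΦ]
      have := (Subgroup.mem_centralizer_iff.mp h) a a.2
      rw [MulAut.one_apply, ← this, mul_assoc, mul_inv_cancel, mul_one]
  -- `A` is nontrivial
  have hA1 : A ≠ ⊥ := by
    rintro rfl
    apply heA
    rw [Subgroup.mem_centralizer_iff]
    intro a ha
    rw [SetLike.mem_coe, Subgroup.mem_bot] at ha
    rw [ha, one_mul, mul_one]
  haveI : Nontrivial ↥A := (Subgroup.nontrivial_iff_ne_bot A).mpr hA1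
  -- the range acts fixed-point-freely
  have hsmul : ∀ (ρ : ↥Φ.range) (w : ↥A), ρ • w = (ρ : MulAut ↥A) w := fun _ _ => rfl
  have hfpf : ∀ ρ : ↥Φ.range, ρ ≠ 1 → ∀ w : ↥A, ρ • w = w → w = 1 := by
    rintro ⟨ρ, u, rfl⟩ hρ w hw
    rw [hsmul] at hw
    have hw' : (u : G) * w * (u : G)⁻¹ = w := by
      have := congrArg Subtype.val hw
      rwa [hΦ] at this
    obtain ⟨C, hC⟩ : ∃ C : Subgroup G,
        C = A ⊓ Subgroup.centralizer ({(u : G)} : Set G) := ⟨_, rfl⟩
    have hCe : e ∈ Subgroup.normalizer (C : Set G) := by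
      have heu : e * (u : G) = (u : G) * e := hTab e heT u u.2
      have hmem : ∀ g : G, g ∈ T → g * (u : G) = (u : G) * g → ∀ c ∈ C, g * c * g⁻¹ ∈ C := by
        intro g hgT hgu c hc
        rw [hC] at hc ⊢
        obtain ⟨hcA, hcu⟩ := Subgroup.mem_inf.mp hc
        refine Subgroup.mem_inf.mpr ⟨(Subgroup.mem_normalizer_iff.mp (hTA hgT) c).mp hcA, ?_⟩
        rw [Subgroup.mem_centralizer_iff] at hcu ⊢
        intro x hx
        rw [Set.mem_singleton_iff] at hx
        subst hx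
        have h1 : (u : G) * c = c * (u : G) := hcu _ rfl
        have h2 : g⁻¹ * (u : G) = (u : G) * g⁻¹ := by
          calc g⁻¹ * (u : G) = g⁻¹ * ((u : G) * g) * g⁻¹ := by group
            _ = g⁻¹ * (g * (u : G)) * g⁻¹ := by rw [hgu]
            _ = (u : G) * g⁻¹ := by group
        calc (u : G) * (g * c * g⁻¹) = ((u : G) * g) * c * g⁻¹ := by group
          _ = (g * (u : G)) * c * g⁻¹ := by rw [hgu]
          _ = g * ((u : G) * c) * g⁻¹ := by group
          _ = g * (c * (u : G)) * g⁻¹ := by rw [h1]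
          _ = g * c * ((u : G) * g⁻¹) := by group
          _ = g * c * (g⁻¹ * (u : G)) := by rw [h2]
          _ = g * c * g⁻¹ * (u : G) := by group
      rw [Subgroup.mem_normalizer_iff]
      intro c
      constructor
      · exact hmem e heT heu c
      · intro hc
        have heu' : e⁻¹ * (u : G) = (u : G) * e⁻¹ := by
          calc e⁻¹ * (u : G) = e⁻¹ * ((u : G) * e) * e⁻¹ := by group
            _ = e⁻¹ * (e * (u : G)) * e⁻¹ := by rw [heu]
            _ = (u : G) * e⁻¹ := by group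
        have := hmem e⁻¹ (T.inv_mem heT) heu' _ hc
        have h3 : e⁻¹ * (e * c * e⁻¹) * e⁻¹⁻¹ = c := by group
        rwa [h3] at this
    rcases hirr C (hC ▸ inf_le_left) hCe with h | h
    · have hwC : (w : G) ∈ C := by
        rw [hC]
        refine Subgroup.mem_inf.mpr ⟨w.2, ?_⟩
        rw [Subgroup.mem_centralizer_iff]
        intro x hx
        rw [Set.mem_singleton_iff] at hx
        subst hx
        calc (u : G) * w = ((u : G) * w * (u : G)⁻¹) * (u : G) := by group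
          _ = w * (u : G) := by rw [hw']
      rw [h, Subgroup.mem_bot] at hwC
      exact Subtype.ext hwC
    · exfalso
      apply hρ
      apply Subtype.ext
      show Φ u = 1
      rw [hker]
      rw [Subgroup.mem_centralizer_iff]
      intro a ha
      have haC : a ∈ C := h ▸ ha
      rw [hC] at haC
      have := (Subgroup.mem_centralizer_iff.mp (Subgroup.mem_inf.mp haC).2) (u : G) rfl
      exact this.symm
  have hcomm : ∀ x y : ↥Φ.range, x * y = y * x := by
    rintro ⟨_, u, rfl⟩ ⟨_, v, rfl⟩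
    apply Subtype.ext
    show Φ u * Φ v = Φ v * Φ u
    rw [← map_mul, ← map_mul]
    congr 1
    exact Subtype.ext (hTab u u.2 v v.2)
  haveI : IsCyclic ↥Φ.range := Cfsg.Agent.Lib.Helper02.isCyclic_of_fpf_of_comm hfpf hcomm
  -- the images of `e` and `b`
  obtain ⟨eb, heb⟩ : ∃ eb : ↥Φ.range, eb = ⟨Φ ⟨e, heT⟩, ⟨_, rfl⟩⟩ := ⟨_, rfl⟩
  obtain ⟨bb, hbb⟩ : ∃ bb : ↥Φ.range, bb = ⟨Φ ⟨b, hbT⟩, ⟨_, rfl⟩⟩ := ⟨_, rfl⟩
  have heb1 : eb ≠ 1 := by
    intro h
    rw [heb] at h
    have h' : Φ ⟨e, heT⟩ = 1 := congrArg Subtype.val h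
    exact heA ((hker _).mp h')
  have hbbr : bb ^ r = 1 := by
    rw [hbb]
    apply Subtype.ext
    show (Φ ⟨b, hbT⟩) ^ r = 1
    rw [← map_pow, hker]
    exact hbr
  -- the order of `eb` is a power of `r`
  obtain ⟨k, hk⟩ := hTr ⟨e, heT⟩
  have hebk : eb ^ (r ^ k) = 1 := by
    rw [heb]
    apply Subtype.ext
    show (Φ ⟨e, heT⟩) ^ (r ^ k) = 1
    rw [← map_pow, hk, map_one]
  obtain ⟨m, -, hm⟩ := (Nat.dvd_prime_pow hr).mp (orderOf_dvd_of_pow_eq_one hebk)
  have hm0 : m ≠ 0 := by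
    rintro rfl
    rw [pow_zero, orderOf_eq_one_iff] at hm
    exact heb1 hm
  obtain ⟨fb, hfb⟩ : ∃ fb : ↥Φ.range, fb = eb ^ (r ^ (m - 1)) := ⟨_, rfl⟩
  have hmm : r ^ m = r ^ (m - 1) * r := by
    rw [← pow_succ, Nat.sub_add_cancel (Nat.pos_of_ne_zero hm0)]
  have hfo : orderOf fb = r := by
    rw [hfb, orderOf_pow_of_dvd (pow_pos hr.pos _).ne' (by rw [hm, hmm]; exact dvd_mul_right _ _),
      hm, hmm, Nat.mul_div_cancel_left _ (pow_pos hr.pos _)]
  have hXcard : Nat.card (Subgroup.zpowers fb) = r := by rw [Nat.card_zpowers, hfo]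
  have hbX : bb ∈ Subgroup.zpowers fb :=
    mem_of_pow_eq_one_of_cyclic hr.pos (Subgroup.zpowers fb) hXcard hbbr
  have hbX' : bb ∈ Submonoid.powers fb := by
    rw [mem_powers_iff_mem_zpowers]
    exact hbX
  obtain ⟨n, hn⟩ := hbX'
  refine ⟨r ^ (m - 1) * n, ?_⟩
  have h1 : Φ (⟨b, hbT⟩ * (⟨e, heT⟩ ^ (r ^ (m - 1) * n))⁻¹) = 1 := by
    rw [map_mul, map_inv, map_pow]
    have h2 : Φ ⟨b, hbT⟩ = (Φ ⟨e, heT⟩) ^ (r ^ (m - 1) * n) := by
      have h3 : bb = eb ^ (r ^ (m - 1) * n) := by rw [← hn, hfb, pow_mul]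
      rw [hbb, heb] at h3
      exact congrArg Subtype.val h3
    rw [h2, mul_inv_cancel]
  have := (hker _).mp h1
  simpa using this

end Cfsg.Agent.Lib.Helper83.BG1211
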