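import Mathlib
import Cfsg.Agent.Lib.Helper83.BG1211Aux
import Cfsg.Agent.Lib.Helper83.BG1211I3a
import Cfsg.Agent.Lib.Helper55.Uniq3

/-!
# S1421 (BG 12.11): sub-leaf (I3F) — `r ∈ τ₂(L)`, `L = N_G(A)`
-/

set_option autoImplicit false
set_option linter.unusedSectionVars false
set_option linter.unusedVariables false
set_option linter.style.haveILetI false
set_option maxHeartbeats 1600000

namespace Cfsg.Agent.Lib.Helper83.BG1211

open Cfsg Cfsg.Agent.Lib.Helper55 Cfsg.Agent.Lib.Helper78.BG128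
open scoped Pointwise

variable {G : Type*} [Group G] [Finite G]

/-- **(I3F)** `r ∈ τ₂(L)`, `L = N_G(A)`, `r`-rank of `M` one: some line of `A` is `e`-invariant. -/
theorem exists_line_of_tau2 (hG : IsMinSimpleOddOrder G) {M : Subgroup G} (hM : IsCoatom M)
    {E : Subgroup G} (hE : IsComplIn E (sigmaCore M) M)
    {p : ℕ} [Fact p.Prime] (hp : p ∈ tau2 M) {A : Subgroup G}
    (hA : A ≤ E ∧ IsElementaryAbelian p A ∧ Nat.card A = p ^ 2)
    {L : Subgroup G} (hL : IsCoatom L) (hNL : Subgroup.normalizer (A : Set G) ≤ L)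
    (hLN : L ≤ Subgroup.normalizer (A : Set G))
    {r : ℕ} (hr : r.Prime) (hrp : r ≠ p) (hr1 : PRankLE r 1 ↥M) (h2 : r ∈ tau2 L)
    {e : G} (heE : e ∈ E) {k : ℕ} (hek : orderOf e = r ^ k) :
    ∃ X : Subgroup G, X ≤ A ∧ Nat.card X = p ∧ e ∈ Subgroup.normalizer (X : Set G) := by
  classical
  have hpp : p.Prime := Fact.out
  haveI : Fact r.Prime := ⟨hr⟩
  obtain ⟨hAE, hAel, hAcard⟩ := hA
  have hA' : A ≤ E ∧ IsElementaryAbelian p A ∧ Nat.card A = p ^ 2 := ⟨hAE, hAel, hAcard⟩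
  obtain ⟨⟨hEA, -⟩, ⟨hCA, hMN, -⟩, -⟩ := Cfsg.Agent.S1418.result hG M hM E hE p hp A hA'
  obtain ⟨-, -, -, -, -, A₁, hA₁A, hA₁c, -⟩ :=
    Cfsg.Agent.S1417.result hG M hM p hp A ⟨hAE.trans hE.1, hAel, hAcard⟩
  by_contra hno
  push Not at hno
  have hnc : e ∉ Subgroup.centralizer (A : Set G) := fun hc =>
    hno A₁ hA₁A hA₁c (centralizer_le_normalizer_of_le hA₁A hc)
  have heL : e ∈ L := hNL (hEA heE)
  -- a Sylow `r`-subgroup of `L` containing `e`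
  have heZ : IsPGroup r (Subgroup.zpowers (⟨e, heL⟩ : ↥L)) := by
    apply IsPGroup.of_card (n := k)
    rw [Nat.card_zpowers, Subgroup.orderOf_mk, hek]
  obtain ⟨Pe, hPe⟩ := heZ.exists_le_sylow
  -- an elementary abelian subgroup of order `r²` of `L`
  obtain ⟨B₀, hB₀L, hB₀el, hB₀card⟩ := Cfsg.Agent.Lib.Helper13.BG12.exists_elemAb_sq_of_tau2 h2
  have hB₀r : IsPGroup r B₀ := IsPGroup.of_card hB₀card
  obtain ⟨PB, hPB⟩ := (hB₀r.comap_subtype : IsPGroup r (B₀.subgroupOf L)).exists_le_sylow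
  obtain ⟨g, hg⟩ := MulAction.exists_smul_eq ↥L PB Pe
  -- `Pe` is abelian
  obtain ⟨-, hb, -⟩ := Cfsg.Agent.S1417.result hG L hL r h2 B₀ ⟨hB₀L, hB₀el, hB₀card⟩
  have hPecomm : IsMulCommutative (Pe : Subgroup ↥L) := (hb Pe).1
  obtain ⟨T, hT⟩ : ∃ T : Subgroup G, T = (Pe : Subgroup ↥L).map L.subtype := ⟨_, rfl⟩
  have hTmem : ∀ x : G, x ∈ T ↔ ∃ hx : x ∈ L, (⟨x, hx⟩ : ↥L) ∈ (Pe : Subgroup ↥L) := by
    intro x
    rw [hT]
    constructor
    · rintro ⟨y, hy, rfl⟩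
      exact ⟨y.2, hy⟩
    · rintro ⟨hx, hy⟩
      exact ⟨⟨x, hx⟩, hy, rfl⟩
  have hTL : T ≤ L := fun x hx => ((hTmem x).mp hx).1
  have hTr : IsPGroup r T := by
    rw [hT]
    exact Pe.isPGroup'.map _
  have hTab : ∀ x ∈ T, ∀ y ∈ T, x * y = y * x := by
    intro x hx y hy
    obtain ⟨hxL, hxP⟩ := (hTmem x).mp hx
    obtain ⟨hyL, hyP⟩ := (hTmem y).mp hy
    have := hPecomm.is_comm.comm (⟨⟨x, hxL⟩, hxP⟩ : (Pe : Subgroup ↥L)) ⟨⟨y, hyL⟩, hyP⟩
    exact congrArg (fun z : (Pe : Subgroup ↥L) => ((z : ↥L) : G)) this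
  have heT : e ∈ T := (hTmem e).mpr ⟨heL, hPe (Subgroup.mem_zpowers _)⟩
  have hAab : ∀ a ∈ A, ∀ b ∈ A, a * b = b * a := by
    intro a ha b hb
    exact congrArg Subtype.val (hAel.1.is_comm.comm (⟨a, ha⟩ : A) ⟨b, hb⟩)
  have hirr : ∀ X : Subgroup G, X ≤ A → e ∈ Subgroup.normalizer (X : Set G) →
      X = ⊥ ∨ X = A := by
    intro X hXA hX
    have h1 : Nat.card X ∣ p ^ 2 := hAcard ▸ Subgroup.card_dvd_of_le hXA
    obtain ⟨i, hi2, hi⟩ := (Nat.dvd_prime_pow hpp).mp h1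
    have : i = 0 ∨ i = 1 ∨ i = 2 := by omega
    rcases this with rfl | rfl | rfl
    · left
      rw [pow_zero] at hi
      exact Subgroup.card_eq_one.mp hi
    · exfalso
      rw [pow_one] at hi
      exact hno X hXA hi hX
    · right
      exact Subgroup.eq_of_le_of_card_ge hXA (by rw [hi, hAcard])
  -- the conjugate `B` of `B₀` inside `T`
  have hBT : ∀ x ∈ B₀, (g : G) * x * (g : G)⁻¹ ∈ T := by
    intro x hx
    have hxL : x ∈ L := hB₀L hx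
    have h1 : (⟨x, hxL⟩ : ↥L) ∈ (PB : Subgroup ↥L) := hPB (Subgroup.mem_subgroupOf.mpr hx)
    have h2 : MulAut.conj g • (⟨x, hxL⟩ : ↥L) ∈ MulAut.conj g • (PB : Subgroup ↥L) :=
      Subgroup.smul_mem_pointwise_smul _ _ _ h1
    have h3 : MulAut.conj g • (PB : Subgroup ↥L) = (Pe : Subgroup ↥L) := by
      rw [← hg]
      rfl
    rw [h3] at h2
    refine (hTmem _).mpr ⟨L.mul_mem (L.mul_mem g.2 hxL) (L.inv_mem g.2), ?_⟩
    have h4 : (MulAut.conj g • (⟨x, hxL⟩ : ↥L)) = g * ⟨x, hxL⟩ * g⁻¹ := rfl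
    rw [h4] at h2
    exact h2
  -- every conjugate lies in `E`
  have hBE : ∀ x ∈ B₀, (g : G) * x * (g : G)⁻¹ ∈ E := by
    intro x hx
    have hbT := hBT x hx
    have hbr : ((g : G) * x * (g : G)⁻¹) ^ r ∈ Subgroup.centralizer (A : Set G) := by
      rw [conj_pow, hB₀el.2 x hx, mul_one, mul_inv_cancel]
      exact Subgroup.one_mem _
    obtain ⟨i, hi⟩ := mem_zpowers_mul_centralizer T A hTr hTab (hTL.trans hLN) hAab heT hnc hirr
      hbT hbr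
    have hcE : (g : G) * x * (g : G)⁻¹ * (e ^ i)⁻¹ ∈ E := by
      have h1 := hCA hi
      rw [hMN] at h1
      exact h1
    have : (g : G) * x * (g : G)⁻¹ = ((g : G) * x * (g : G)⁻¹ * (e ^ i)⁻¹) * e ^ i := by group
    rw [this]
    exact E.mul_mem hcE (E.pow_mem heE i)
  -- contradiction with the `r`-rank of `M`
  apply Cfsg.Agent.Lib.Helper55.not_pRankLE_sub_iff.mpr ?_ hr1
  refine ⟨B₀.map (MulAut.conj (g : G)).toMonoidHom, ?_, ?_, ?_, ?_⟩
  · rintro _ ⟨x, hx, rfl⟩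
    exact hE.1 (hBE x hx)
  · rintro _ ⟨x, hx, rfl⟩ _ ⟨y, hy, rfl⟩
    have hxy : x * y = y * x :=
      congrArg Subtype.val (hB₀el.1.is_comm.comm (⟨x, hx⟩ : B₀) ⟨y, hy⟩)
    simp only [MulEquiv.coe_toMonoidHom, MulAut.conj_apply]
    calc (g : G) * x * (g : G)⁻¹ * ((g : G) * y * (g : G)⁻¹)
        = (g : G) * (x * y) * (g : G)⁻¹ := by group
      _ = (g : G) * (y * x) * (g : G)⁻¹ := by rw [hxy]
      _ = (g : G) * y * (g : G)⁻¹ * ((g : G) * x * (g : G)⁻¹) := by group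
  · rintro _ ⟨x, hx, rfl⟩
    simp only [MulEquiv.coe_toMonoidHom, MulAut.conj_apply]
    rw [conj_pow, hB₀el.2 x hx, mul_one, mul_inv_cancel]
  · rw [Subgroup.card_map_of_injective (MulAut.conj (g : G)).injective, hB₀card, pow_one]
    calc r = r ^ 1 := (pow_one r).symm
      _ < r ^ 2 := Nat.pow_lt_pow_right hr.one_lt (by norm_num)

end Cfsg.Agent.Lib.Helper83.BG1211
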