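import Mathlib
import Cfsg.Agent.Lib.Helper83.BG1211Aux
import Cfsg.Agent.S1408
import Cfsg.Agent.Lib.Helper02.BG1211I2
import Cfsg.Agent.Lib.Helper13.BG1211I3W
import Cfsg.Agent.Lib.Helper83.BG1211I1
import Cfsg.Agent.Lib.Helper83.BG1211I3F
import Cfsg.Agent.Lib.Helper58.BG1217

/-!
# S1421 (BG 12.11): glue for the irreducibility exclusion (I)
-/

set_option autoImplicit false
set_option linter.unusedSectionVars false
set_option linter.unusedVariables false
set_option linter.style.haveILetI false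
set_option maxHeartbeats 1600000

namespace Cfsg.Agent.Lib.Helper83.BG1211

open Cfsg Cfsg.Agent.Lib.Helper55 Cfsg.Agent.Lib.Helper78.BG128

variable {G : Type*} [Group G] [Finite G]

/-- (I), with the abelian-Sylow hypothesis for all primes of `τ₂(M)` -/
theorem exists_line_of_pow_centralizes' (hG : IsMinSimpleOddOrder G) (h1427 : H1427 G)
    {M : Subgroup G} (hM : IsCoatom M)
    {E : Subgroup G} (hE : IsComplIn E (sigmaCore M) M)
    {p : ℕ} [Fact p.Prime] (hp : p ∈ tau2 M) {A : Subgroup G}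
    (hA : A ≤ E ∧ IsElementaryAbelian p A ∧ Nat.card A = p ^ 2)
    (hab : ∀ p ∈ tau2 M, ∀ S : Sylow p G, ∀ a ∈ (S : Subgroup G), ∀ b ∈ (S : Subgroup G),
      a * b = b * a)
    {r : ℕ} (hr : r.Prime) (hrp : r ≠ p) {e : G} (heE : e ∈ E) {k : ℕ} (hek : orderOf e = r ^ k)
    (h0 : ∃ j : ℕ, e ^ j ≠ 1 ∧ e ^ j ∈ Subgroup.centralizer (A : Set G)) :
    ∃ X : Subgroup G, X ≤ A ∧ Nat.card X = p ∧ e ∈ Subgroup.normalizer (X : Set G) := by
  have hpp : p.Prime := Fact.out
  obtain ⟨hAE, hAel, hAcard⟩ := hA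
  have hA' : A ≤ E ∧ IsElementaryAbelian p A ∧ Nat.card A = p ^ 2 := ⟨hAE, hAel, hAcard⟩
  have hAp : IsPGroup p A := IsPGroup.of_card hAcard
  obtain ⟨S, hAS⟩ := hAp.exists_le_sylow
  obtain ⟨hSE, hES, -, -, -⟩ := sylow_abelian_structure hG hM hE hp hA' S hAS (hab p hp S)
  obtain ⟨-, -, -, -, -, A₁, hA₁A, hA₁c, -⟩ :=
    Cfsg.Agent.S1417.result hG M hM p hp A ⟨hAE.trans hE.1, hAel, hAcard⟩
  by_contra hno
  push Not at hno
  have hnc : e ∉ Subgroup.centralizer (A : Set G) := fun hc =>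
    hno A₁ hA₁A hA₁c (centralizer_le_normalizer_of_le hA₁A hc)
  have hk0 : k ≠ 0 := by
    rintro rfl
    rw [pow_zero, orderOf_eq_one_iff] at hek
    rw [hek] at hnc
    exact hnc (Subgroup.one_mem _)
  have hrE : r ∣ Nat.card E :=
    (dvd_pow_self r hk0).trans (hek ▸ Subgroup.orderOf_dvd_natCard E heE)
  rcases mem_tau13_or_tau2 hG hM hE hr hrE with h13 | h2
  swap
  · have hc := tau2_element_centralizes hG hM hE hab S hES hSE hr hrp h2 heE hek
    exact hnc (Subgroup.centralizer_le (by exact_mod_cast hAS) hc)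
  have hr1 : PRankLE r 1 ↥M := by
    rcases h13 with h | h
    · exact h.2.2.2.2
    · exact h.2.2.2
  -- the maximal subgroup `L ≥ N_G(A)`
  have hA1 : A ≠ ⊥ := by
    rintro rfl
    rw [Subgroup.card_bot] at hAcard
    have := Nat.one_lt_pow (n := 2) (by norm_num) hpp.one_lt
    omega
  have hAM : A ≤ M := hAE.trans hE.1
  have hAtop : A ≠ ⊤ := by
    rintro rfl
    exact hM.1 (top_le_iff.mp hAM)
  obtain ⟨L, hL, hNL⟩ := ms_exists_coatom_ge (ms_normalizer_ne_top hG hA1 hAtop)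
  have h17L : Cfsg.Agent.Lib.Helper13.BG12.Hyp17 L := fun q _ hq B hB =>
    Cfsg.Agent.S1417.result hG L hL q hq B hB
  have hpσ : p ∈ sigma L :=
    Cfsg.Agent.Lib.Helper58.BG12.mem_sigma_of_normalizer_elemAb_le hG hL h17L hAel hAcard hNL
  have hAL : A ≤ L := Subgroup.le_normalizer.trans hNL
  have hAσ : A ≤ sigmaCore L :=
    Cfsg.Agent.Lib.Helper13.BG127.pgroup_le_sigmaCore hG hL hpσ hAL hAp
  have hEA : E ≤ Subgroup.normalizer (A : Set G) :=
    (Cfsg.Agent.S1418.result hG M hM E hE p hp A hA').1.1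
  have heN : e ∈ Subgroup.normalizer (A : Set G) := hEA heE
  have heL : e ∈ L := hNL heN
  by_cases hrσ : r ∈ sigma L
  · -- (I1)
    have hpβ : p ∉ beta L := by
      intro hβ
      exact (Cfsg.Agent.S1408.result hG M hM p hp.2.1 hp.2.2.1 hp.2.2.2).1 hβ.2
    exact hnc (centralizes_of_mem_sigma hG hL hpβ hAp hAσ hA1 hr hrp hrσ heL hek heN)
  · -- a complement `E₂ ∋ e` of `L_σ` in `L`
    have hHallL : IsPiHallOf (sigma L) (sigmaCore L) L := (Cfsg.Agent.S1350.result hG L hL).1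
    have hK : ∀ q : ℕ, q.Prime → q ∣ Nat.card (Subgroup.zpowers e) → q ∉ sigma L := by
      intro q hq hqd
      rw [Nat.card_zpowers, hek] at hqd
      have : q = r := (Nat.prime_dvd_prime_iff_eq hq hr).mp (hq.dvd_of_dvd_pow hqd)
      rw [this]
      exact hrσ
    obtain ⟨E₂, hE₂, hKE₂⟩ := Cfsg.Agent.Lib.Helper13.BG12.exists_complIn_ge hG hL hHallL
      (K := Subgroup.zpowers e) (by rw [Subgroup.zpowers_le]; exact heL) hK
    have heE₂ : e ∈ E₂ := hKE₂ (Subgroup.mem_zpowers e)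
    have hrE₂ : r ∣ Nat.card E₂ :=
      (dvd_pow_self r hk0).trans (hek ▸ Subgroup.orderOf_dvd_natCard E₂ heE₂)
    rcases mem_tau13_or_tau2 hG hL hE₂ hr hrE₂ with h13' | h2'
    · have hr1L : PRankLE r 1 ↥L := by
        rcases h13' with h | h
        · exact h.2.2.2.2
        · exact h.2.2.2
      exact hnc (Cfsg.Agent.Lib.Helper02.BG1211.centralizes_of_rank_one hG h1427 hL hE₂ hAσ hr hr1L heE₂ hek h0)
    · have hLN := Cfsg.Agent.Lib.Helper13.BG1211.le_normalizer_of_tau2 hG hM hE hp hA' (hab p hp) hL hNL h2'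
      obtain ⟨X, hXA, hXc, hX⟩ :=
        exists_line_of_tau2 hG hM hE hp hA' hL hNL hLN hr hrp hr1 h2' heE hek
      exact hno X hXA hXc hX

end Cfsg.Agent.Lib.Helper83.BG1211
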