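import Mathlib
import Cfsg.Agent.Lib.Helper83.BG1211Aux
import Cfsg.Agent.Lib.Helper83.BG1211I
import Cfsg.Agent.Lib.Helper13.BG1211F
import Cfsg.Agent.Lib.Helper93.BG1211L
import Cfsg.Agent.Lib.Helper01.BG1211Y
import Cfsg.Agent.S1408

/-!
# S1421 (BG 12.11): the key step `exists_Y` (abelian Sylow case, one prime `p ∈ τ₂(M)`)
-/

set_option autoImplicit false
set_option linter.unusedSectionVars false
set_option linter.unusedVariables false
set_option linter.style.haveILetI false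
set_option maxHeartbeats 1600000

namespace Cfsg.Agent.Lib.Helper83.BG1211

open Cfsg Cfsg.Agent.Lib.Helper55 Cfsg.Agent.Lib.Helper78.BG128

variable {G : Type*} [Group G] [Finite G]

/-- KEY_p: the `V`-invariant cyclic `p`-subgroup of full exponent all of whose non-identity
elements are fixed-point-free on `M_σ` -/
theorem exists_Y (hG : IsMinSimpleOddOrder G) (h1427 : H1427 G) {M : Subgroup G} (hM : IsCoatom M)
    {E : Subgroup G} (hE : IsComplIn E (sigmaCore M) M)
    {V : Subgroup G} (hVE : V ≤ E) (hVn : E ≤ Subgroup.normalizer (V : Set G))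
    (hVhall : (Nat.card V).Coprime (V.relIndex E)) (hV : Hyp M V)
    (hab : ∀ p ∈ tau2 M, ∀ S : Sylow p G, ∀ a ∈ (S : Subgroup G), ∀ b ∈ (S : Subgroup G),
      a * b = b * a)
    {p : ℕ} [Fact p.Prime] (hp : p ∈ tau2 M) (hpV : p ∣ Nat.card V) :
    ∃ Y : Subgroup G, Y ≤ V ∧ V ≤ Subgroup.normalizer (Y : Set G) ∧ IsCyclic Y ∧ IsPGroup p Y ∧
      (∀ g ∈ V, ∀ k : ℕ, orderOf g = p ^ k → p ^ k ∣ Nat.card Y) ∧
      ∀ y ∈ Y, y ≠ 1 → sigmaCore M ⊓ Subgroup.centralizer ({y} : Set G) = ⊥ := by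
  have hpp : p.Prime := Fact.out
  have hHall : IsPiHallOf (sigma M) (sigmaCore M) M := (Cfsg.Agent.S1350.result hG M hM).1
  obtain ⟨A, hAE, hAel, hAcard⟩ :=
    Cfsg.Agent.Lib.Helper13.BG12.exists_elemAb_sq_le_compl hG hM hHall hp hE
  have hA : A ≤ E ∧ IsElementaryAbelian p A ∧ Nat.card A = p ^ 2 := ⟨hAE, hAel, hAcard⟩
  have hAp : IsPGroup p A := IsPGroup.of_card hAcard
  obtain ⟨S, hAS⟩ := hAp.exists_le_sylow
  have hSab := hab p hp S
  obtain ⟨hSE, hES, hE'S, hNS, hCS⟩ := sylow_abelian_structure hG hM hE hp hA S hAS hSab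
  have hSM : (S : Subgroup G) ≤ M := hSE.trans hE.1
  obtain ⟨-, hb, -, hd, -, A₁, hA₁A, hA₁c, hA₁good⟩ :=
    Cfsg.Agent.S1417.result hG M hM p hp A ⟨hAE.trans hE.1, hAel, hAcard⟩
  have hPmap : ((S.subtype hSM : Sylow p M) : Subgroup M).map M.subtype = S := by
    rw [Sylow.coe_subtype]
    exact Subgroup.map_subgroupOf_eq_of_le hSM
  obtain ⟨-, hb2⟩ := hb (S.subtype hSM)
  rw [hPmap] at hb2
  obtain ⟨hΩ, hLM⟩ := hb2 hAS
  have hSV : (S : Subgroup G) ≤ V := le_of_normal_hall hVE hVn hVhall hpV S.isPGroup' hSE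
  have hidx : ¬ p ∣ (S : Subgroup G).relIndex V := by
    intro h
    exact S.not_dvd_index (h.trans ⟨V.index, (Subgroup.relIndex_mul_index hSV).symm⟩)
  obtain ⟨H, hHV, hHp, hVSH⟩ :=
    exists_compl_of_sylow_normal hSV (hVE.trans hES) S.isPGroup' hidx
  have hHE : H ≤ E := hHV.trans hVE
  obtain ⟨L, hL⟩ : ∃ L : Subgroup G, L = Subgroup.normalizer ((S : Subgroup G) : Set G) :=
    ⟨_, rfl⟩
  have hHL : H ≤ L := hL ▸ hHE.trans hES
  have hLA : L ≤ Subgroup.normalizer (A : Set G) := by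
    apply le_normalizer_of_conj_mem
    intro n hn a ha
    rw [hL] at hn
    have h1 : n * a * n⁻¹ ∈ (S : Subgroup G) :=
      (Subgroup.mem_normalizer_iff.mp hn a).mp (hAS ha)
    refine (hΩ _ h1).mp ?_
    rw [conj_pow, hAel.2 a ha, mul_one, mul_inv_cancel]
  -- the exponent of `S`
  obtain ⟨m, hm⟩ : ∃ m : ℕ, m = Monoid.exponent (S : Subgroup G) / p := ⟨_, rfl⟩
  have hexp_dvd : Monoid.exponent (S : Subgroup G) ∣ Nat.card (S : Subgroup G) :=
    Group.exponent_dvd_nat_card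
  obtain ⟨n, hn⟩ := IsPGroup.iff_card.mp S.isPGroup'
  obtain ⟨a, -, ha⟩ := (Nat.dvd_prime_pow hpp).mp (hn ▸ hexp_dvd)
  obtain ⟨a₁, ha₁, ha₁1⟩ := exists_ne_one_of_card_prime hpp hA₁c
  have ha0 : a ≠ 0 := by
    rintro rfl
    rw [pow_zero] at ha
    have h1 := Monoid.pow_exponent_eq_one (⟨a₁, hAS (hA₁A ha₁)⟩ : (S : Subgroup G))
    rw [ha, pow_one] at h1
    exact ha₁1 (congrArg Subtype.val h1)
  have hpm : Monoid.exponent (S : Subgroup G) = m * p := by
    rw [hm, ha]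
    obtain ⟨b, rfl⟩ := Nat.exists_eq_succ_of_ne_zero ha0
    rw [pow_succ, Nat.mul_div_cancel _ hpp.pos]
  have hm0 : 0 < m := by
    rcases Nat.eq_zero_or_pos m with h | h
    · rw [h, zero_mul] at hpm
      rw [hpm] at ha
      exact absurd ha.symm (pow_pos hpp.pos a).ne'
    · exact h
  have hpowA : ∀ s ∈ (S : Subgroup G), s ^ m ∈ A := by
    intro s hs
    refine (hΩ _ (Subgroup.pow_mem _ hs m)).mp ?_
    rw [← pow_mul, ← hpm]
    have := Monoid.pow_exponent_eq_one (⟨s, hs⟩ : (S : Subgroup G))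
    simpa using congrArg Subtype.val this
  have hex : ∃ s ∈ (S : Subgroup G), s ^ m ≠ 1 := by
    by_contra hcon
    push Not at hcon
    have h1 : Monoid.exponent (S : Subgroup G) ∣ m :=
      Monoid.exponent_dvd_of_forall_pow_eq_one
        (fun g => Subtype.ext (by simpa using hcon g.1 g.2))
    rw [hpm] at h1
    have h2 := Nat.le_of_dvd hm0 h1
    have h3 : m * 2 ≤ m * p := Nat.mul_le_mul_left m hpp.two_le
    omega
  -- the choice of the line `X₀`
  have key : ∃ X₀ : Subgroup G, X₀ ≤ A ∧ Nat.card X₀ = p ∧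
      H ≤ Subgroup.normalizer (X₀ : Set G) ∧
      sigmaCore M ⊓ Subgroup.centralizer (X₀ : Set G) = ⊥ ∧
      ∃ s ∈ (S : Subgroup G), s ^ m ≠ 1 ∧ s ^ m ∈ X₀ := by
    by_cases hHC : ∀ a ∈ A, ∃ s ∈ (S : Subgroup G), s ^ m = a
    · -- homocyclic case
      have hline : ∀ h ∈ H, ∀ (r k : ℕ), r.Prime → orderOf h = r ^ k →
          ∃ X : Subgroup G, X ≤ A ∧ Nat.card X = p ∧ h ∈ Subgroup.normalizer (X : Set G) := by
        intro h hh r k hr hrk
        by_cases hk0 : k = 0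
        · subst hk0
          rw [pow_zero, orderOf_eq_one_iff] at hrk
          subst hrk
          exact ⟨A₁, hA₁A, hA₁c, Subgroup.one_mem _⟩
        have hrp : r ≠ p := by
          rintro rfl
          apply hHp
          exact (dvd_pow_self r hk0).trans (hrk ▸ Subgroup.orderOf_dvd_natCard H hh)
        have hhE : h ∈ E := hHE hh
        have hrE : r ∣ Nat.card E :=
          (dvd_pow_self r hk0).trans (hrk ▸ Subgroup.orderOf_dvd_natCard E hhE)
        rcases mem_tau13_or_tau2 hG hM hE hr hrE with h13 | h2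
        · obtain ⟨e₀, he₀⟩ : ∃ e₀, e₀ = h ^ (r ^ (k - 1)) := ⟨_, rfl⟩
          have hkk : r ^ k = r ^ (k - 1) * r := by
            rw [← pow_succ, Nat.sub_add_cancel (Nat.pos_of_ne_zero hk0)]
          have ho : orderOf e₀ = r := by
            rw [he₀, orderOf_pow_of_dvd (pow_pos hr.pos _).ne' (by rw [hrk, hkk]; exact dvd_mul_right _ _),
              hrk, hkk, Nat.mul_div_cancel_left _ (pow_pos hr.pos _)]
          have he₀1 : e₀ ≠ 1 := by
            intro h1
            rw [h1, orderOf_one] at ho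
            exact hr.one_lt.ne ho
          have he₀V : e₀ ∈ V := by rw [he₀]; exact V.pow_mem (hHV hh) _
          have hfix := hV e₀ he₀V he₀1 (by
            intro q hq hqd
            rw [ho] at hqd
            have := (Nat.prime_dvd_prime_iff_eq hq hr).mp hqd
            subst this
            exact h13)
          have hcent := Cfsg.Agent.Lib.Helper13.BG1211.prime_order_centralizes hG hM hE hp hA (hab p hp) (hVE he₀V)
            (by rw [ho]; exact hr) (by rw [ho]; exact hrp) hfix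
          exact exists_line_of_pow_centralizes' hG h1427 hM hE hp hA hab hr hrp hhE hrk
            ⟨r ^ (k - 1), he₀ ▸ he₀1, he₀ ▸ hcent⟩
        · have hc := tau2_element_centralizes hG hM hE hab S hES hSE hr hrp h2 hhE hrk
          exact ⟨A₁, hA₁A, hA₁c, centralizer_le_normalizer_of_le (hA₁A.trans hAS) hc⟩
      have hLc : ⁅L, L⁆ ≤ Subgroup.centralizer (A : Set G) := by
        rw [hL]
        exact hNS.trans (Subgroup.centralizer_le (by exact_mod_cast hAS))
      rcases Cfsg.Agent.Lib.Helper93.BG1211.lines_dichotomy L A H (ms_odd hG L) hLA hAel hAcard hLc hHL hHp hline with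
        hall | ⟨X, hXA, hXc, hLX⟩
      · obtain ⟨s, hs, hsa⟩ := hHC a₁ (hA₁A ha₁)
        exact ⟨A₁, hA₁A, hA₁c, hall A₁ hA₁A hA₁c, hA₁good, s, hs, hsa ▸ ha₁1, hsa ▸ ha₁⟩
      · obtain ⟨x, hx, hx1⟩ := exists_ne_one_of_card_prime hpp hXc
        obtain ⟨s, hs, hsx⟩ := hHC x (hXA hx)
        have hNX : ¬ Subgroup.normalizer (X : Set G) ≤ M := fun h => hLM (hL ▸ hLX.trans h)
        exact ⟨X, hXA, hXc, hHL.trans hLX, line_good hG hM hE hp hA hXA hXc hNX, s, hs,
          hsx ▸ hx1, hsx ▸ hx⟩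
    · -- non-homocyclic case: the `m`-th powers form a characteristic line
      push Not at hHC
      obtain ⟨a₀, ha₀A, ha₀⟩ := hHC
      let X₀ : Subgroup G :=
        { carrier := {x | ∃ s ∈ (S : Subgroup G), s ^ m = x}
          one_mem' := ⟨1, Subgroup.one_mem _, one_pow m⟩
          mul_mem' := by
            rintro x y ⟨s, hs, rfl⟩ ⟨t, ht, rfl⟩
            exact ⟨s * t, Subgroup.mul_mem _ hs ht,
              (show Commute s t from hSab s hs t ht).mul_pow m⟩
          inv_mem' := by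
            rintro x ⟨s, hs, rfl⟩
            exact ⟨s⁻¹, Subgroup.inv_mem _ hs, inv_pow s m⟩ }
      have hX₀mem : ∀ x, x ∈ X₀ ↔ ∃ s ∈ (S : Subgroup G), s ^ m = x := fun x => Iff.rfl
      have hX₀A : X₀ ≤ A := by
        intro x hx
        obtain ⟨s, hs, rfl⟩ := (hX₀mem x).mp hx
        exact hpowA s hs
      have hX₀ne : X₀ ≠ A := by
        intro h
        rw [← h] at ha₀A
        obtain ⟨s, hs, hsa⟩ := (hX₀mem a₀).mp ha₀A
        exact ha₀ s hs hsa
      obtain ⟨s₀, hs₀, hs₀1⟩ := hex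
      have hX₀c : Nat.card X₀ = p := by
        have h1 : Nat.card X₀ ∣ p ^ 2 := hAcard ▸ Subgroup.card_dvd_of_le hX₀A
        obtain ⟨i, hi2, hi⟩ := (Nat.dvd_prime_pow hpp).mp h1
        have hi0 : i ≠ 0 := by
          rintro rfl
          rw [pow_zero] at hi
          have hbot : X₀ = ⊥ := Subgroup.card_eq_one.mp hi
          have : s₀ ^ m ∈ X₀ := (hX₀mem _).mpr ⟨s₀, hs₀, rfl⟩
          rw [hbot, Subgroup.mem_bot] at this
          exact hs₀1 this
        have hi2' : i ≠ 2 := by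
          rintro rfl
          exact hX₀ne (Subgroup.eq_of_le_of_card_ge hX₀A (by rw [hi, hAcard]))
        have : i = 1 := by omega
        rw [hi, this, pow_one]
      have hLX₀ : L ≤ Subgroup.normalizer (X₀ : Set G) := by
        apply le_normalizer_of_conj_mem
        intro n hn x hx
        rw [hL] at hn
        obtain ⟨s, hs, rfl⟩ := (hX₀mem x).mp hx
        refine (hX₀mem _).mpr ⟨n * s * n⁻¹, (Subgroup.mem_normalizer_iff.mp hn s).mp hs, ?_⟩
        rw [conj_pow]
      have hNX : ¬ Subgroup.normalizer (X₀ : Set G) ≤ M := fun h => hLM (hL ▸ hLX₀.trans h)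
      exact ⟨X₀, hX₀A, hX₀c, hHL.trans hLX₀, line_good hG hM hE hp hA hX₀A hX₀c hNX, s₀, hs₀,
        hs₀1, (hX₀mem _).mpr ⟨s₀, hs₀, rfl⟩⟩
  obtain ⟨X₀, hX₀A, hX₀c, hHX₀, hgood, s, hs, hs1, hsX⟩ := key
  rw [hm] at hs1 hsX
  obtain ⟨Y, hYS, hYc, hHY, hYcard, hX₀Y⟩ :=
    Cfsg.Agent.Lib.Helper01.BG1211.exists_cyclic_invariant (S : Subgroup G) H X₀ S.isPGroup' hSab (hL ▸ hHL) hHp
      (hX₀A.trans hAS) hX₀c hHX₀ s hs hs1 hsX
  refine ⟨Y, hYS.trans hSV, ?_, hYc, S.isPGroup'.to_le hYS, ?_, ?_⟩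
  · refine hVSH.trans (sup_le ?_ hHY)
    apply le_normalizer_of_conj_mem
    intro t ht y hy
    have : t * y * t⁻¹ = y := by
      rw [hSab t ht y (hYS hy), mul_assoc, mul_inv_cancel, mul_one]
    rw [this]
    exact hy
  · intro g hg k hgk
    have hgS : g ∈ (S : Subgroup G) :=
      mem_sylow_of_mem_normalizer S (hES (hVE hg)) (a := k)
        (by rw [← hgk]; exact pow_orderOf_eq_one g)
    rw [hYcard, ← hgk]
    have := Monoid.order_dvd_exponent (⟨g, hgS⟩ : (S : Subgroup G))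
    rwa [Subgroup.orderOf_mk] at this
  · intro y hy hy1
    exact fpf_of_cyclic hYc (S.isPGroup'.to_le hYS) hX₀Y hX₀c hgood hy hy1

end Cfsg.Agent.Lib.Helper83.BG1211
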