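import Mathlib
import Cfsg.Agent.Lib.Helper83.BG1211Key
import Cfsg.Agent.Lib.Helper94.BG1211C
import Cfsg.Agent.Lib.Helper22.BG1211P
import Cfsg.Agent.Lib.Helper20.BG1211S
import Cfsg.Agent.Lib.Helper01.BG1211Y
import Cfsg.Agent.Lib.Helper01.BGBeta
import Cfsg.Agent.Lib.Helper30.Generation

/-!
# S1421 (BG 12.11): assembly of the second conjunct in the abelian Sylow case
-/

set_option autoImplicit false
set_option linter.unusedSectionVars false
set_option linter.unusedVariables false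
set_option linter.style.haveILetI false
set_option maxHeartbeats 1600000

namespace Cfsg.Agent.Lib.Helper83.BG1211

open Cfsg Cfsg.Agent.Lib.Helper55 Cfsg.Agent.Lib.Helper78.BG128

variable {G : Type*} [Group G] [Finite G]

/-- centralizer of an element is contained in the centralizer of any of its powers -/
theorem inf_centralizer_pow_eq_bot {Q : Subgroup G} {g : G} {j : ℕ}
    (h : Q ⊓ Subgroup.centralizer ({g ^ j} : Set G) = ⊥) :
    Q ⊓ Subgroup.centralizer ({g} : Set G) = ⊥ := by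
  rw [eq_bot_iff]
  rintro c ⟨hcQ, hcg⟩
  rw [← h]
  refine Subgroup.mem_inf.mpr ⟨hcQ, ?_⟩
  rw [Subgroup.mem_centralizer_iff]
  intro x hx
  rw [Set.mem_singleton_iff] at hx
  subst hx
  have hc : g * c = c * g := (Subgroup.mem_centralizer_iff.mp hcg) g rfl
  exact ((show Commute g c from hc).pow_left j).eq

/-- assembly of the second conjunct in the abelian case, for a normal Hall subgroup `V` of `E` -/
theorem abelian_case_V0 (hG : IsMinSimpleOddOrder G) (h1427 : H1427 G) {M : Subgroup G}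
    (hM : IsCoatom M) {E : Subgroup G} (hE : IsComplIn E (sigmaCore M) M)
    {V : Subgroup G} (hVE : V ≤ E) (hVn : E ≤ Subgroup.normalizer (V : Set G))
    (hVhall : (Nat.card V).Coprime (V.relIndex E)) (hV : Hyp M V)
    (hab : ∀ p ∈ tau2 M, ∀ S : Sylow p G, ∀ a ∈ (S : Subgroup G), ∀ b ∈ (S : Subgroup G),
      a * b = b * a) :
    ∃ V₀ : Subgroup G, V₀ ≤ V ∧ Monoid.exponent V₀ = Monoid.exponent V ∧
      ∀ e ∈ V₀, e ≠ 1 → sigmaCore M ⊓ Subgroup.centralizer ({e} : Set G) = ⊥ := by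
  classical
  obtain ⟨T, hT⟩ : ∃ T : Finset ℕ, T = (Nat.card V).primeFactors.filter (fun q => q ∈ tau2 M) :=
    ⟨_, rfl⟩
  have hTmem : ∀ q, q ∈ T ↔ (q.Prime ∧ q ∣ Nat.card V) ∧ q ∈ tau2 M := by
    intro q
    rw [hT, Finset.mem_filter, Nat.mem_primeFactors]
    have : Nat.card V ≠ 0 := Nat.card_pos.ne'
    tauto
  have hex : ∀ q ∈ T, ∃ Y : Subgroup G, Y ≤ V ∧ V ≤ Subgroup.normalizer (Y : Set G) ∧
      IsCyclic Y ∧ IsPGroup q Y ∧
      (∀ g ∈ V, ∀ k : ℕ, orderOf g = q ^ k → q ^ k ∣ Nat.card Y) ∧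
      ∀ y ∈ Y, y ≠ 1 → sigmaCore M ⊓ Subgroup.centralizer ({y} : Set G) = ⊥ := by
    intro q hq
    obtain ⟨⟨hqp, hqV⟩, hqτ⟩ := (hTmem q).mp hq
    haveI : Fact q.Prime := ⟨hqp⟩
    exact exists_Y hG h1427 hM hE hVE hVn hVhall hV hab hqτ hqV
  choose! Y hY using hex
  have hYV : ∀ q ∈ T, Y q ≤ V := fun q hq => (hY q hq).1
  have hYn : ∀ q ∈ T, V ≤ Subgroup.normalizer (Y q : Set G) := fun q hq => (hY q hq).2.1
  have hYq : ∀ q ∈ T, q.Prime ∧ IsPGroup q (Y q) := fun q hq =>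
    ⟨((hTmem q).mp hq).1.1, (hY q hq).2.2.2.1⟩
  -- a Hall `τ₂(M)'`-subgroup of `V`
  have hVtop : V ≠ ⊤ := by
    rintro rfl
    exact hM.1 (top_le_iff.mp (hVE.trans hE.1))
  haveI : Group.IsSolvable V := ms_solvable hG hVtop
  obtain ⟨H₀, ⟨hHV, hHπ, hHidx⟩, -⟩ :=
    Cfsg.Agent.Lib.Helper01.BGBeta.exists_hallOf V {q | q ∉ tau2 M}
  obtain ⟨H, hH⟩ : ∃ H : Subgroup G, H = H₀.map V.subtype := ⟨_, rfl⟩
  rw [← hH] at hHV hHπ hHidx
  obtain ⟨YT, hYT⟩ : ∃ YT : Subgroup G, YT = ⨆ q ∈ T, Y q := ⟨_, rfl⟩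
  have hYTV : YT ≤ V := by
    rw [hYT]
    exact iSup_le fun q => iSup_le fun hq => hYV q hq
  have hVYT : V ≤ Subgroup.normalizer (YT : Set G) := by
    rw [hYT]
    apply Cfsg.Agent.Lib.Helper30.gen_le_normalizer_iSup
    intro q
    apply Cfsg.Agent.Lib.Helper30.gen_le_normalizer_iSup
    intro hq
    exact hYn q hq
  have hcopH : ∀ r : ℕ, r.Prime → r ∈ tau2 M → r.Coprime (Nat.card H) := by
    intro r hr hrτ
    rw [Nat.Prime.coprime_iff_not_dvd hr]
    intro hd
    exact hHπ r hr hd hrτ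
  refine ⟨YT ⊔ H, sup_le hYTV hHV, ?_, ?_⟩
  · -- exponent
    apply Cfsg.Agent.Lib.Helper01.BG1211.exponent_eq_of_primePow V (YT ⊔ H) (sup_le hYTV hHV)
    intro g hg q k hq hgk
    by_cases hk0 : k = 0
    · subst hk0
      rw [pow_zero]
      exact one_dvd _
    have hqV : q ∣ Nat.card V :=
      (dvd_pow_self q hk0).trans (hgk ▸ Subgroup.orderOf_dvd_natCard V hg)
    by_cases hqτ : q ∈ tau2 M
    · have hqT : q ∈ T := (hTmem q).mpr ⟨⟨hq, hqV⟩, hqτ⟩
      obtain ⟨-, -, hcyc, -, hord, -⟩ := hY q hqT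
      have h1 : q ^ k ∣ Nat.card (Y q) := hord g hg k hgk
      have h2 : Monoid.exponent (Y q) = Nat.card (Y q) := by
        haveI := hcyc
        exact IsCyclic.exponent_eq_card
      have hle : Y q ≤ YT ⊔ H := by
        refine le_trans ?_ le_sup_left
        rw [hYT]
        exact le_iSup₂ (f := fun q (_ : q ∈ T) => Y q) q hqT
      have h3 : Monoid.exponent (Y q) ∣ Monoid.exponent ↥(YT ⊔ H) :=
        Monoid.exponent_dvd_of_monoidHom (Subgroup.inclusion hle)
          (Subgroup.inclusion_injective hle)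
      exact h1.trans (h2 ▸ h3)
    · obtain ⟨c, hcV, hc⟩ :=
        Cfsg.Agent.Lib.Helper94.BG1211.exists_conj_mem_of_not_dvd_relIndex V H hHV hq
          (hHidx q hq hqτ) hg hgk
      have hcH : c * g * c⁻¹ ∈ YT ⊔ H := Subgroup.mem_sup_right hc
      have h1 := Monoid.order_dvd_exponent (⟨c * g * c⁻¹, hcH⟩ : ↥(YT ⊔ H))
      rw [Subgroup.orderOf_mk] at h1
      have h2 : orderOf (c * g * c⁻¹) = orderOf g := by
        have hs : SemiconjBy c g (c * g * c⁻¹) := by
          unfold SemiconjBy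
          group
        exact (hs.orderOf_eq c).symm
      rw [h2, hgk] at h1
      exact h1
  · -- fixed-point-freeness
    intro g hg hg1
    have hne : orderOf g ≠ 1 := fun h => hg1 (orderOf_eq_one_iff.mp h)
    obtain ⟨r, hr, hdvd⟩ := Nat.exists_prime_and_dvd hne
    obtain ⟨g', hg'⟩ : ∃ g', g' = g ^ (orderOf g / r) := ⟨_, rfl⟩
    have ho : orderOf g' = r := by
      rw [hg', orderOf_pow_of_dvd ?_ (Nat.div_dvd_of_dvd hdvd), Nat.div_div_self hdvd
        (orderOf_pos g).ne']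
      intro h0
      have := Nat.div_eq_zero_iff.mp h0
      rcases this with h | h
      · exact hr.ne_zero h
      · exact absurd (Nat.le_of_dvd (orderOf_pos g) hdvd) (not_le.mpr h)
    have hg'1 : g' ≠ 1 := by
      intro h
      rw [h, orderOf_one] at ho
      exact hr.one_lt.ne ho
    have hg'm : g' ∈ YT ⊔ H := by rw [hg']; exact Subgroup.pow_mem _ hg _
    have hg'V : g' ∈ V := (sup_le hYTV hHV) hg'm
    have key : sigmaCore M ⊓ Subgroup.centralizer ({g'} : Set G) = ⊥ := by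
      by_cases hrτ : r ∈ tau2 M
      · have hmem : g' ∈ YT :=
          Cfsg.Agent.Lib.Helper20.BG1211.mem_of_mem_sup_of_coprime YT H (hHV.trans hVYT) hg'm
            (by rw [ho]; exact hcopH r hr hrτ)
        rw [hYT] at hmem
        obtain ⟨q, hqT, j, hj, hj1⟩ :=
          Cfsg.Agent.Lib.Helper22.BG1211.exists_pow_mem_of_mem_iSup V T Y hYV hYn hYq hmem hg'1
        exact inf_centralizer_pow_eq_bot ((hY q hqT).2.2.2.2.2 _ hj hj1)
      · have hrE : r ∣ Nat.card E := by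
          rw [← ho]
          exact Subgroup.orderOf_dvd_natCard E (hVE hg'V)
        have h13 : r ∈ tau1 M ∪ tau3 M :=
          (mem_tau13_or_tau2 hG hM hE hr hrE).resolve_right hrτ
        apply hV g' hg'V hg'1
        intro q hq hqd
        rw [ho] at hqd
        have : q = r := (Nat.prime_dvd_prime_iff_eq hq hr).mp hqd
        rw [this]
        exact h13
    rw [hg'] at key
    exact inf_centralizer_pow_eq_bot key

end Cfsg.Agent.Lib.Helper83.BG1211
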