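import Cfsg.Agent.S1450
import Cfsg.Agent.S1451
import Cfsg.Agent.Lib.Helper39.PiCore
import Cfsg.Agent.Lib.Helper01.PPrimeCore
import Cfsg.Agent.Lib.Helper26.Rank2Solv

set_option autoImplicit false

/-! Bender–Glauberman Theorem 10.2: the abstract part inside a solvable group of odd order. -/

namespace Cfsg.Agent.Lib.Helper83.BG102

open Cfsg Cfsg.Agent.Lib.Helper39

universe u

/-- In a solvable group `X` of odd order, let `π` be a set of primes such that for `p ∈ π` some
Sylow `p`-subgroup lies in the derived subgroup, and `X` has `q`-rank at most two for every prime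
`q ∉ π`.  Then `O_π(X)` contains a Sylow `p`-subgroup for every `p ∈ π`. -/
theorem sylow_le_piCore {X : Type u} [Group X] [Finite X] [Group.IsSolvable X]
    (hodd : Odd (Nat.card X)) (π : Set ℕ)
    (h2 : ∀ q : ℕ, q.Prime → q ∉ π → PRankLE q 2 X)
    (p : ℕ) [Fact p.Prime] (hpπ : p ∈ π) (P : Sylow p X)
    (hP : (P : Subgroup X) ≤ commutator X) :
    (P : Subgroup X) ≤ piCore π X := by
  classical
  have hp : p.Prime := Fact.out
  let I := {q : ℕ // q.Prime ∧ q ∣ Nat.card X ∧ q ∉ π}
  let Kq : I → Subgroup X := fun q =>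
    (pPrimeCore q.1 ↥(commutator X)).map (commutator X).subtype
  have hKqn : ∀ q, (Kq q).Normal := by
    intro q
    have : (pPrimeCore q.1 ↥(commutator X)).Characteristic :=
      Cfsg.Agent.Lib.Helper01.pPrimeCore_characteristic q.1
    exact ConjAct.normal_of_characteristic_of_normal
  have hKqc : ∀ q : I, (Nat.card (Kq q)).Coprime q.1 := by
    intro q
    have h1 : Nat.card (Kq q) = Nat.card (pPrimeCore q.1 ↥(commutator X)) :=
      Subgroup.card_map_of_injective (Subgroup.subtype_injective _)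
    rw [h1]
    exact Cfsg.Agent.Lib.Helper01.pPrimeCore_card_coprime q.1
  have hPK : ∀ q : I, (P : Subgroup X) ≤ Kq q := by
    intro q
    obtain ⟨q, hq, hqX, hqπ⟩ := q
    have : Fact q.Prime := ⟨hq⟩
    have h4 := (Cfsg.Agent.S1450.result hodd q hqX (h2 q hq hqπ)).2.2.2.1
    have hcard : Nat.card ((P : Subgroup X).subgroupOf (commutator X)) = Nat.card (P : Subgroup X) :=
      Nat.card_congr (Subgroup.subgroupOfEquivOfLe hP).toEquiv
    have hcop : (Nat.card ((P : Subgroup X).subgroupOf (commutator X))).Coprime q := by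
      rw [hcard]
      obtain ⟨n, hn⟩ := P.isPGroup'.exists_card_eq
      rw [hn]
      apply Nat.Coprime.pow_left
      rw [Nat.coprime_primes hp hq]
      rintro rfl
      exact hqπ hpπ
    have h5 := h4 _ hcop
    have h6 := Subgroup.map_mono (f := (commutator X).subtype) h5
    rwa [Subgroup.map_subgroupOf_eq_of_le hP] at h6
  let K : Subgroup X := ⨅ q, Kq q
  have hKn : K.Normal := Subgroup.normal_iInf_normal hKqn
  have hKπ : IsPiGroup π K := by
    intro r hr hrK
    by_contra hrπ
    have hrX : r ∣ Nat.card X := hrK.trans (Subgroup.card_subgroup_dvd_card K)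
    have hle : K ≤ Kq ⟨r, hr, hrX, hrπ⟩ := iInf_le _ _
    have h1 : r ∣ Nat.card (Kq ⟨r, hr, hrX, hrπ⟩) := hrK.trans (Subgroup.card_dvd_of_le hle)
    have h2 := hKqc ⟨r, hr, hrX, hrπ⟩
    have h3 : r ∣ Nat.gcd (Nat.card (Kq ⟨r, hr, hrX, hrπ⟩)) r := Nat.dvd_gcd h1 dvd_rfl
    rw [h2] at h3
    exact hr.one_lt.ne' (Nat.dvd_one.mp h3)
  have hKle : K ≤ piCore π X := le_piCore π K hKπ
  exact (le_iInf hPK).trans hKle

/-- a subgroup containing a Sylow `p`-subgroup has index prime to `p` -/
theorem not_dvd_index_of_sylow_le {X : Type u} [Group X] [Finite X] {p : ℕ} [Fact p.Prime]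
    (P : Sylow p X) {H : Subgroup X} (h : (P : Subgroup X) ≤ H) : ¬ p ∣ H.index := by
  intro hd
  exact P.not_dvd_index (hd.trans (Subgroup.index_dvd_of_le h))

end Cfsg.Agent.Lib.Helper83.BG102
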