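import Cfsg.Agent.Lib.Helper83.BG102A
import Cfsg.Agent.Lib.Helper31.Bg10a

set_option autoImplicit false

/-! Bender–Glauberman Theorem 10.2: Sylow subgroups for primes of `σ(M)` lie in `M'`. -/

namespace Cfsg.Agent.Lib.Helper83.BG102

open Cfsg Cfsg.Agent.Lib.Helper55 Cfsg.Agent.Lib.Helper39
open scoped commutatorElement

variable {G : Type*} [Group G] [Finite G]

omit [Finite G] in
/-- a minimal simple group of odd order is perfect -/
theorem ms_perfect (hG : IsMinSimpleOddOrder G) : commutator G = ⊤ := by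
  have : IsSimpleGroup G := hG.2.1
  rcases (inferInstance : (commutator G).Normal).eq_bot_or_eq_top with h | h
  · exfalso
    apply hG.2.2.1
    rw [commutator_eq_bot_iff_center_eq_top] at h
    refine ⟨⟨fun a b => ?_⟩⟩
    have hb : b ∈ Subgroup.center G := by rw [h]; exact Subgroup.mem_top b
    exact (Subgroup.mem_center_iff.mp hb a)
  · exact h

/-- for `p ∈ σ(M)` some Sylow `p`-subgroup of `M` is a Sylow `p`-subgroup of `G` -/
theorem exists_sylow_of_mem_sigma {M : Subgroup G} {p : ℕ} [Fact p.Prime] (hp : p ∈ sigma M) :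
    ∃ (P : Sylow p M) (Q : Sylow p G), (Q : Subgroup G) = (P : Subgroup M).map M.subtype := by
  obtain ⟨-, -, P, hN⟩ := hp
  have hS := isSylowIn_of_sylow P
  obtain ⟨Q, hQ⟩ := hS.2.1.exists_le_sylow
  refine ⟨P, Q, ?_⟩
  exact hS.eq_of_normalizer_le Q.isPGroup' hQ (inf_le_right.trans hN)

/-- for `p ∈ σ(M)` the index of `M` is prime to `p` -/
theorem not_dvd_index_of_mem_sigma {M : Subgroup G} {p : ℕ} [Fact p.Prime] (hp : p ∈ sigma M) :
    ¬ p ∣ M.index := by
  obtain ⟨P, Q, hQ⟩ := exists_sylow_of_mem_sigma hp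
  apply not_dvd_index_of_sylow_le Q
  rw [hQ]
  exact Subgroup.map_subtype_le _

/-- **Bender–Glauberman 10.2, transfer step**: for `p ∈ σ(M)` (using the fusion control of
Lemma 10.1) some Sylow `p`-subgroup of `M` lies in the derived subgroup of `M`. -/
theorem exists_sylow_le_commutator (hG : IsMinSimpleOddOrder G) {M : Subgroup G}
    {p : ℕ} [Fact p.Prime] (hp : p ∈ sigma M)
    (hfus : ∀ X : Subgroup G, IsPGroup p X → X ≠ ⊥ → X ≤ M → ∀ g : G,
      X.map (MulAut.conj g).toMonoidHom ≤ M →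
        ∃ m ∈ M, ∃ c ∈ Subgroup.centralizer (X : Set G), g = m * c) :
    ∃ P : Sylow p M, (P : Subgroup M) ≤ commutator M := by
  obtain ⟨P, Q, hQ⟩ := exists_sylow_of_mem_sigma hp
  refine ⟨P, ?_⟩
  have hQM : (Q : Subgroup G) ≤ M := by rw [hQ]; exact Subgroup.map_subtype_le _
  have hfoc : (Q : Subgroup G).focalSubgroup = (Q : Subgroup G) := by
    rw [← Subgroup.commutator_inf_eq_focalSubgroup Q, ms_perfect hG, top_inf_eq]
  have hle : (Q : Subgroup G).focalSubgroup ≤ (commutator M).map M.subtype := by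
    rw [Subgroup.focalSubgroup_def, Subgroup.closure_le]
    rintro g ⟨hgQ, x, hxQ, u, rfl⟩
    have hxM : x ∈ M := hQM hxQ
    by_cases hx1 : x = 1
    · subst hx1
      rw [show ⁅(1 : G), u⁆ = 1 by simp [commutatorElement_def]]
      exact Subgroup.one_mem _
    · have hX1 : Subgroup.zpowers x ≠ ⊥ := by
        rw [Ne, Subgroup.zpowers_eq_bot]; exact hx1
      have hXQ : Subgroup.zpowers x ≤ (Q : Subgroup G) := by
        rw [Subgroup.zpowers_le]; exact hxQ
      have hXp : IsPGroup p (Subgroup.zpowers x) := Q.isPGroup'.to_le hXQ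
      have huxM : u * x * u⁻¹ ∈ M := by
        have h1 : x⁻¹ * ⁅x, u⁆ ∈ M := M.mul_mem (M.inv_mem hxM) (hQM hgQ)
        have h2 : (x⁻¹ * ⁅x, u⁆)⁻¹ = u * x * u⁻¹ := by
          rw [commutatorElement_def]; group
        rw [← h2]
        exact M.inv_mem h1
      have hmap : (Subgroup.zpowers x).map (MulAut.conj u).toMonoidHom ≤ M := by
        rw [MonoidHom.map_zpowers, Subgroup.zpowers_le]
        simpa using huxM
      obtain ⟨m, hmM, c, hc, rfl⟩ := hfus _ hXp hX1 (hXQ.trans hQM) u hmap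
      have hcx : x * c = c * x :=
        (Subgroup.mem_centralizer_iff.mp hc) x (Subgroup.mem_zpowers x)
      have hcx' : c * x⁻¹ * c⁻¹ = x⁻¹ := by
        have : c * x⁻¹ = x⁻¹ * c := by
          calc c * x⁻¹ = x⁻¹ * (x * c) * x⁻¹ := by group
            _ = x⁻¹ * (c * x) * x⁻¹ := by rw [hcx]
            _ = x⁻¹ * c := by group
        rw [this]; group
      have hcomm : ⁅x, m * c⁆ = ⁅x, m⁆ := by
        rw [commutatorElement_def, commutatorElement_def]
        calc x * (m * c) * x⁻¹ * (m * c)⁻¹ = x * m * (c * x⁻¹ * c⁻¹) * m⁻¹ := by group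
          _ = x * m * x⁻¹ * m⁻¹ := by rw [hcx']
      rw [hcomm]
      refine ⟨⁅(⟨x, hxM⟩ : M), (⟨m, hmM⟩ : M)⁆, ?_, ?_⟩
      · rw [SetLike.mem_coe, commutator_def]
        exact Subgroup.commutator_mem_commutator (Subgroup.mem_top _) (Subgroup.mem_top _)
      · simp [commutatorElement_def]
  have h3 : (P : Subgroup M).map M.subtype ≤ (commutator M).map M.subtype := by
    rw [← hQ, ← hfoc]; exact hle
  exact (Subgroup.map_le_map_iff_of_injective (Subgroup.subtype_injective M)).mp h3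

end Cfsg.Agent.Lib.Helper83.BG102
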