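import Mathlib
import Cfsg.Agent.S1350
import Cfsg.Agent.Lib.Helper02.BG1310Defs
import Cfsg.Agent.Lib.Helper84.BG134T
import Cfsg.Agent.Lib.Helper31.BG139L178
import Cfsg.Agent.Lib.Helper03.CoprimeAbelian
import Cfsg.Agent.Lib.Helper12.CNMaxSub
import Cfsg.Agent.Lib.Helper13.BG12B
import Cfsg.Agent.Lib.Helper54.BG134A3a
import Cfsg.Agent.Lib.Helper71.BG10Sub
import Cfsg.Agent.Lib.Helper71.BG10Hall
import Cfsg.Agent.Lib.Helper55.SylowIn

/-!
# BG Lemma 13.10 (Lemma D), keystone 143104 (K-LD2-I): type (I) ⟹ `C₃ ≤ C₁` (parallel hand)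
-/

set_option autoImplicit false
set_option linter.unusedSectionVars false
set_option linter.unusedVariables false
set_option linter.style.haveILetI false

namespace Cfsg.Agent.Lib.Helper83.BG1310

open Cfsg Cfsg.Agent.Lib.Helper55 Cfsg.Agent.Lib.Helper31.BG134 Cfsg.Agent.Lib.Helper15.BG139
  Cfsg.Agent.Lib.Helper02.BG1310

variable {G : Type*} [Group G] [Finite G]

/-- a proper subgroup `D` of `K` misses some Sylow subgroup of `K` -/
theorem exists_sylowIn_not_le {K D : Subgroup G} (hDK : D ≤ K) (hne : ¬ K ≤ D) :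
    ∃ (p : ℕ) (_ : Fact p.Prime) (T : Subgroup G), IsSylowIn p K T ∧ ¬ T ≤ D ∧ p ∣ Nat.card K := by
  have h1 : D.relIndex K ≠ 1 := fun h => hne (Subgroup.relIndex_eq_one.mp h)
  obtain ⟨p, hp, hpd⟩ := Nat.exists_prime_and_dvd h1
  haveI : Fact p.Prime := ⟨hp⟩
  obtain ⟨T, hT, -⟩ := exists_isSylowIn_ge (p := p) (K := K) (Z := ⊥) bot_le IsPGroup.of_bot
  refine ⟨p, ⟨hp⟩, T, hT, ?_, ?_⟩
  · intro hTD
    have h2 := Subgroup.relIndex_mul_relIndex T D K hTD hDK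
    exact Helper71.BG10.sylow_not_dvd_relIndex hT (by rw [← h2]; exact Dvd.dvd.mul_left hpd _)
  · exact hpd.trans (Subgroup.relIndex_dvd_card _ _)

/-- **KEYSTONE 143104  K-LD2-I**. -/
theorem typeI_cent_le (hTX : HTX G) (h28 : H1428 G) {M E E₁ E₃ : Subgroup G}
    (d : NRS M E E₁ E₃) (hI : TypeI M E₁ E₃) : CP M E₃ ≤ CP M E₁ := by
  have hG := d.nr.hG
  have hM := d.nr.hM
  have hE := d.nr.hE
  have hE₁ := d.nr.hE₁
  have hE₃ := d.nr.hE₃
  have hEM : E ≤ M := hE.1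
  by_contra hcon
  -- the subgroup `S₀` of the nonregular configuration
  obtain ⟨S₀, hS₀E, hS₀p, hS₀C⟩ := d.nr.hnr
  have hS₀1 : S₀ ≠ ⊥ := by
    intro h
    rw [h, Subgroup.card_bot] at hS₀p
    exact Nat.not_prime_one hS₀p
  have hE₃1 : E₃ ≠ ⊥ := fun h => hS₀1 (le_bot_iff.mp (h ▸ hS₀E))
  have hC₃1 : CP M E₃ ≠ ⊥ := by rw [← d.hC₃ S₀ hS₀E hS₀1]; exact hS₀C
  -- `E₃` is abelian
  have hE₃comm : ∀ a ∈ E₃, ∀ b ∈ E₃, a * b = b * a := by
    intro a ha b hb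
    haveI := d.hE₃c
    have hc : IsMulCommutative ↥E₃ := IsCyclic.isMulCommutative
    have := isMulCommutative_iff.mp hc (⟨a, ha⟩ : E₃) ⟨b, hb⟩
    exact congrArg Subtype.val this
  -- (a) `E₁` does not centralize `E₃`
  have ha : ¬ E₁ ≤ E₁ ⊓ Subgroup.centralizer (E₃ : Set G) := by
    intro h
    have hE₁C : E₁ ≤ Subgroup.centralizer (E₃ : Set G) := h.trans inf_le_right
    have hE₃Z : E₃ ≤ Subgroup.centralizer (E : Set G) := by
      intro a ha
      rw [Subgroup.mem_centralizer_iff]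
      intro e he
      obtain ⟨a', ha', b, hb, rfl⟩ := d.hfac e he
      have h1 : a' * a = a * a' := hE₃comm a' ha' a ha
      have h2 : b * a = a * b := (Subgroup.mem_centralizer_iff.mp (hE₁C hb) a ha).symm
      calc a' * b * a = a' * (b * a) := mul_assoc _ _ _
        _ = a' * (a * b) := by rw [h2]
        _ = (a' * a) * b := (mul_assoc _ _ _).symm
        _ = a * a' * b := by rw [h1]
        _ = a * (a' * b) := mul_assoc _ _ _
    have hcommE₃ : IsMulCommutative E₃ := by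
      rw [isMulCommutative_iff]
      intro a b
      exact Subtype.ext (hE₃comm a a.2 b b.2)
    have hcop : Nat.Coprime (Nat.card E₃) (E₃.relIndex E) := by
      apply Nat.Coprime.symm
      exact Cfsg.Agent.Lib.Helper13.BG12.coprime_of_primes_disjoint (π := tau3 M)
        (fun q hq hqd hqτ => hE₃.2.2 q hq hqτ hqd) hE₃.2.1
    have := Cfsg.Agent.Lib.Helper03.commutator_inf_centralizer_inf_eq_bot_of_abelian_hall E₃ E
      hE₃.1 hcommE₃ hcop
    apply hE₃1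
    rw [eq_bot_iff, ← this]
    exact le_inf (le_inf d.hE₃d hE₃Z) le_rfl
  obtain ⟨p, hpF, Phat, hPhat, hPhatD, hpE₁⟩ := exists_sylowIn_not_le inf_le_left ha
  haveI := hpF
  have hp : p.Prime := hpF.out
  have hPhatE₁ : Phat ≤ E₁ := hPhat.1
  have hPhatC : ¬ E₃ ≤ E₃ ⊓ Subgroup.centralizer (Phat : Set G) := by
    intro h
    apply hPhatD
    refine le_inf hPhatE₁ ?_
    intro x hx
    rw [Subgroup.mem_centralizer_iff]
    intro a ha'
    exact (Subgroup.mem_centralizer_iff.mp (h ha').2 x hx).symm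
  obtain ⟨s, hsF, Shat, hShat, hShatD, hsE₃⟩ := exists_sylowIn_not_le inf_le_left hPhatC
  haveI := hsF
  have hs : s.Prime := hsF.out
  have hShatE₃ : Shat ≤ E₃ := hShat.1
  have hShatC : ¬ Shat ≤ Subgroup.centralizer (Phat : Set G) :=
    fun h => hShatD (le_inf hShatE₃ h)
  have hpτ : p ∈ tau1 M := hE₁.2.1 p hp hpE₁
  have hsτ : s ∈ tau3 M := hE₃.2.1 s hs hsE₃
  -- subgroups of prime order
  have hPhat1 : Phat ≠ ⊥ := fun h => hPhatD (h ▸ bot_le)
  have hShat1 : Shat ≠ ⊥ := fun h => hShatC (h ▸ bot_le)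
  have hdvdP : p ∣ Nat.card Phat := by
    obtain ⟨n, hn⟩ := hPhat.2.1.exists_card_eq
    rw [hn]
    apply dvd_pow_self
    intro h0
    rw [h0, pow_zero] at hn
    exact hPhat1 (Subgroup.card_eq_one.mp hn)
  have hdvdS : s ∣ Nat.card Shat := by
    obtain ⟨n, hn⟩ := hShat.2.1.exists_card_eq
    rw [hn]
    apply dvd_pow_self
    intro h0
    rw [h0, pow_zero] at hn
    exact hShat1 (Subgroup.card_eq_one.mp hn)
  obtain ⟨x, hx⟩ := exists_prime_orderOf_dvd_card' p hdvdP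
  have hxG : orderOf (x : G) = p := by rw [Subgroup.orderOf_coe, hx]
  obtain ⟨P, hPdef⟩ : ∃ P : Subgroup G, P = Subgroup.zpowers (x : G) := ⟨_, rfl⟩
  have hPPhat : P ≤ Phat := by rw [hPdef]; exact Subgroup.zpowers_le.mpr x.2
  have hPc : Nat.card P = p := by rw [hPdef, Nat.card_zpowers, hxG]
  have hxP : (x : G) ∈ P := by rw [hPdef]; exact Subgroup.mem_zpowers _
  have hx1 : (x : G) ≠ 1 := by
    intro h
    rw [h, orderOf_one] at hxG
    exact hp.one_lt.ne hxG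
  have hP1 : P ≠ ⊥ := by
    intro h
    rw [h, Subgroup.mem_bot] at hxP
    exact hx1 hxP
  obtain ⟨y, hy⟩ := exists_prime_orderOf_dvd_card' s hdvdS
  have hyG : orderOf (y : G) = s := by rw [Subgroup.orderOf_coe, hy]
  obtain ⟨S₁, hS₁def⟩ : ∃ S₁ : Subgroup G, S₁ = Subgroup.zpowers (y : G) := ⟨_, rfl⟩
  have hS₁Shat : S₁ ≤ Shat := by rw [hS₁def]; exact Subgroup.zpowers_le.mpr y.2
  have hS₁c : Nat.card S₁ = s := by rw [hS₁def, Nat.card_zpowers, hyG]
  have hS₁1 : S₁ ≠ ⊥ := by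
    intro h
    rw [h, Subgroup.card_bot] at hS₁c
    exact hs.one_lt.ne hS₁c
  have hS₁E₃ : S₁ ≤ E₃ := hS₁Shat.trans hShatE₃
  -- (b)
  have hPE₁ : P ≤ E₁ := hPPhat.trans hPhatE₁
  have hE₃P : E₃ ≤ Subgroup.centralizer (P : Set G) := hI.1 P hPE₁ (by rw [hPc]; exact hp)
  have hb : ¬ CP M E₃ ≤ Subgroup.centralizer (P : Set G) := by
    intro h
    apply hcon
    rw [← d.hC₁ P hPE₁ hP1]
    exact le_inf inf_le_left h
  -- (c)
  have hS₁top : S₁ ≠ ⊤ := by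
    intro h
    have : S₁ ≤ M := hS₁E₃.trans (hE₃.1.trans hEM)
    exact hM.1 (top_le_iff.mp (h ▸ this))
  obtain ⟨H, hH, hNH⟩ := Cfsg.Agent.Lib.Helper12.CNMaxSub.exists_coatom_normalizer_le hG hS₁1 hS₁top
  obtain ⟨hEH, hnc, hMH⟩ := d.hH S₁ H hS₁E₃ (by rw [hS₁c]; exact hs) hH hNH
  have hE₁E : E₁ ≤ E := hE₁.1
  have hPM : P ≤ M := hPE₁.trans (hE₁E.trans hEM)
  have hPH : P ≤ H := hPE₁.trans (hE₁E.trans hEH)
  have hPpg : IsPGroup p P := IsPGroup.of_card (n := 1) (by rw [hPc, pow_one])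
  have hpτH : p ∈ tau1 H := by
    by_contra hn
    have := Cfsg.Agent.Lib.Helper84.BG134.lemmaT hG hM hH hnc hpτ.2.1 hn hPpg hPM hPH
    rw [hMH] at this
    exact hb this
  -- (d)
  have hS₁M : S₁ ≤ M := hS₁E₃.trans (hE₃.1.trans hEM)
  have hsσH : s ∈ sigma H := hTX M H S₁ s hM hH (Or.inr hsτ) hS₁M hS₁c
    (by rw [d.hC₃ S₁ hS₁E₃ hS₁1]; exact hC₃1) hNH
  have hHallH := (Cfsg.Agent.S1350.result hG H hH).1
  have hHn : H ≤ Subgroup.normalizer (sigmaCore H : Set G) :=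
    Cfsg.Agent.Lib.Helper31.le_normalizer_piCoreOf (sigma H) H
  have hShatH : Shat ≤ H := hShatE₃.trans (hE₃.1.trans hEH)
  have hShatσ : Shat ≤ sigmaCore H := by
    apply Helper71.BG10.le_of_isPiHallOf_normal hHallH hHn hShatH
    intro r hr hrd
    obtain ⟨n, hn⟩ := hShat.2.1.exists_card_eq
    rw [hn] at hrd
    have : r = s := (Nat.prime_dvd_prime_iff_eq hr hs).mp (hr.dvd_of_dvd_pow hrd)
    rw [this]; exact hsσH
  -- (e)
  have hPhatH : Phat ≤ H := hPhatE₁.trans (hE₁E.trans hEH)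
  have hPhatprimes : ∀ r : ℕ, r.Prime → r ∣ Nat.card Phat → r = p := by
    intro r hr hrd
    obtain ⟨n, hn⟩ := hPhat.2.1.exists_card_eq
    rw [hn] at hrd
    exact (Nat.prime_dvd_prime_iff_eq hr hp).mp (hr.dvd_of_dvd_pow hrd)
  obtain ⟨EH, hEHc, hPhatEH⟩ := Cfsg.Agent.Lib.Helper13.BG12.exists_complIn_ge hG hH hHallH hPhatH
    (fun r hr hrd => by rw [hPhatprimes r hr hrd]; exact hpτH.2.1)
  have hEHsolv : Group.IsSolvable ↥EH :=
    ms_solvable hG (ne_top_of_le_ne_top hH.1 hEHc.1)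
  obtain ⟨F₁, hF₁, hPhatF₁⟩ := Cfsg.Agent.Lib.Helper54.BG134.exists_isPiHallOf_ge hEHsolv
    (tau1 H) hPhatEH (fun r hr hrd => by rw [hPhatprimes r hr hrd]; exact hpτH)
  have hpa := Cfsg.Agent.Lib.Helper31.BG139.primeAct hG hH h28 hEHc hF₁
  have hxF₁ : (x : G) ∈ F₁ := hPhatF₁ (hPPhat hxP)
  have hkey : Shat ≤ Subgroup.centralizer (F₁ : Set G) := by
    intro z hz
    apply hpa (x : G) hxF₁ hx1
    refine ⟨hShatσ hz, ?_⟩
    show z ∈ Subgroup.centralizer ({(x : G)} : Set G)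
    rw [Subgroup.mem_centralizer_iff]
    intro w hw
    rw [Set.mem_singleton_iff] at hw
    subst hw
    exact Subgroup.mem_centralizer_iff.mp (hE₃P (hShatE₃ hz)) (x : G) hxP
  exact hShatC (hkey.trans (Subgroup.centralizer_le (SetLike.coe_subset_coe.mpr hPhatF₁)))

end Cfsg.Agent.Lib.Helper83.BG1310
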