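import Mathlib
import Cfsg.Agent.Lib.Helper71.BG1366Defs
import Cfsg.Agent.Lib.Helper15.BG142Defs
import Cfsg.Agent.Lib.Helper55.Basic
import Cfsg.Agent.Lib.Helper55.Uniq2
import Cfsg.Agent.Lib.Helper31.BG147C
import Cfsg.Agent.Lib.Helper78.BG1310Aux
import Cfsg.Agent.Lib.Helper16.BG134Asm
import Cfsg.Agent.Lib.Helper64.BG14K
import Cfsg.Agent.Lib.Helper71.BG11a
import Cfsg.Agent.Lib.Helper71.BG1366J
import Cfsg.Agent.Lib.Helper97.BG1366O

/-!
# K-1366-C2 (keystone 136604, pack K-1366, architect helper71): `home_torus`  (helper83, parallel hand)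

`KJ* ≤ K`, and the common torus `M ⊓ J = K K* = KJ KJ*`.
-/

set_option autoImplicit false
set_option linter.unusedVariables false
set_option linter.unusedSectionVars false
set_option linter.style.haveILetI false

namespace Cfsg.Agent.Lib.Helper83.BG1366

open Cfsg Subgroup Cfsg.Agent.Lib.Helper55 Cfsg.Agent.Lib.Helper11.BG14D Cfsg.Agent.Lib.Helper11.BG144
  Cfsg.Agent.Lib.Helper31.BG147 Cfsg.Agent.Lib.Helper71.BG1366

variable {G : Type*} [Group G] [Finite G]

/-- **KEYSTONE 136604  K-1366-C2**. -/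
theorem home_torus (hG : IsMinSimpleOddOrder G) (h30 : H1430 G) (h31 : H1431 G) {M K X J KJ : Subgroup G}
    (hp : PPair M K) (hXK : X ≤ K) (hXc : (Nat.card X).Prime) (hJ : IsCoatom J)
    (hXJ : X ≤ sigmaCore J) (hnc : ∀ g : G, J ≠ M.map (MulAut.conj g).toMonoidHom) (hdis : ∀ r : ℕ, r ∈ sigma M → r ∉ sigma J)
    (hpj : PPair J KJ) (hKs : Ks M K ≤ KJ)
    (h1 : sigmaCore J ⊓ M = Ks J KJ) (h2 : KJ ⊔ Ks J KJ ≤ M ⊓ J) (h3 : K ⊔ Ks M K ≤ KJ ⊔ Ks J KJ) :
    Nbr M K J KJ ∧ X ≤ Ks J KJ := by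
  have hM : IsCoatom M := hp.coatom
  have hK : IsPiHallOf (kappa M) K M := hp.hall
  have hK1 : K ≠ ⊥ := hp.ne
  have hKM : K ≤ M := hK.1
  have hX1 : X ≠ ⊥ := Cfsg.Agent.Lib.Helper78.BG1310.ne_bot_of_card_prime hXc
  have hXKsJ : X ≤ Ks J KJ := by
    rw [← h1]
    exact le_inf hXJ (hXK.trans hKM)
  have hKs1 : Ks M K ≠ ⊥ := PPair.Ks_ne_bot hG h30 hp
  have hKsJM : Ks J KJ ≤ M := (le_sup_right.trans h2).trans inf_le_left
  have hMtop : M ≠ ⊤ := hM.1
  -- a subgroup `Y` of prime order of `K*`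
  obtain ⟨q, hq, hqd⟩ : ∃ q : ℕ, q.Prime ∧ q ∣ Nat.card (Ks M K) := by
    apply Nat.exists_prime_and_dvd
    intro h
    exact hKs1 ((Subgroup.card_eq_one).mp h)
  haveI : Fact q.Prime := ⟨hq⟩
  obtain ⟨y, hy⟩ := exists_prime_orderOf_dvd_card' q hqd
  have hyo : orderOf (y : G) = q := by rw [Subgroup.orderOf_coe]; exact hy
  have hYc : Nat.card (Subgroup.zpowers (y : G)) = q := by rw [Nat.card_zpowers, hyo]
  have hYKs : Subgroup.zpowers (y : G) ≤ Ks M K := Subgroup.zpowers_le.mpr y.2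
  have hY1 : Subgroup.zpowers (y : G) ≠ ⊥ :=
    Cfsg.Agent.Lib.Helper78.BG1310.ne_bot_of_card_prime (by rw [hYc]; exact hq)
  -- (i) the primes of `KJ*` are in `κ(M)`
  have hκ : ∀ r : ℕ, r.Prime → r ∣ Nat.card (Ks J KJ) → r ∈ kappa M := by
    intro r hr hrd
    haveI : Fact r.Prime := ⟨hr⟩
    obtain ⟨z, hz⟩ := exists_prime_orderOf_dvd_card' r hrd
    have hzo : orderOf (z : G) = r := by rw [Subgroup.orderOf_coe]; exact hz
    have hRc : Nat.card (Subgroup.zpowers (z : G)) = r := by rw [Nat.card_zpowers, hzo]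
    have hRKs : Subgroup.zpowers (z : G) ≤ Ks J KJ := Subgroup.zpowers_le.mpr z.2
    have hRM : Subgroup.zpowers (z : G) ≤ M := hRKs.trans hKsJM
    have hrσJ : r ∈ sigma J :=
      Cfsg.Agent.Lib.Helper71.BG11.sigmaCore_pi hG hJ hr
        (dvd_trans hrd (Subgroup.card_dvd_of_le (inf_le_left : Ks J KJ ≤ sigmaCore J)))
    have hrσM : r ∉ sigma M := fun h => hdis r h hrσJ
    have hrM : r ∣ Nat.card M := by rw [← hRc]; exact Subgroup.card_dvd_of_le hRM
    have hYcent : Subgroup.zpowers (y : G) ≤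
        sigmaCore M ⊓ centralizer ((Subgroup.zpowers (z : G) : Subgroup G) : Set G) := by
      refine le_inf (hYKs.trans inf_le_left) ?_
      intro a ha
      rw [Subgroup.mem_centralizer_iff]
      intro w hw
      have hwc : w ∈ centralizer (KJ : Set G) := (Subgroup.mem_inf.mp (hRKs hw)).2
      rw [Subgroup.mem_centralizer_iff] at hwc
      exact (hwc a (hKs (hYKs ha))).symm
    have hCne : sigmaCore M ⊓ centralizer ((Subgroup.zpowers (z : G) : Subgroup G) : Set G) ≠ ⊥ :=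
      fun h => hY1 (eq_bot_iff.mpr (h ▸ hYcent))
    have hnot2 : r ∉ tau2 M := by
      intro h2'
      have hu := Cfsg.Agent.Lib.Helper78.BG1310.uniq_of_tau2_cent hG hM hRM (by rw [hRc]; exact hr)
        (by rw [hRc]; exact h2') hCne
      have hcu := Cfsg.Agent.Lib.Helper31.BG147.cent_uniq hG h31 hJ hpj.hall hpj.ne hRKs
        (by rw [hRc]; exact hr)
      have hMJ : M = J := hcu.2 M hM hu.1
      apply hnc 1
      rw [← hMJ]
      exact (cj_one M).symm
    have hr1 : PRankLE r 1 M := by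
      rcases Cfsg.Agent.Lib.Helper16.BG134.mem_tau_cases hG hM hr hrM hrσM with h | h | h
      · exact h.2.2.2.2
      · exact absurd h hnot2
      · exact h.2.2.2
    exact Cfsg.Agent.Lib.Helper64.BG14.mem_kappa_of_cent_ne_bot hG hM hr hrM hrσM hr1 hRM hRc hCne
  -- (ii) `KJ* ≤ K`
  have hsolv : Group.IsSolvable ↥M := ms_solvable hG hMtop
  obtain ⟨m, hmM, hle⟩ := Cfsg.Agent.Lib.Helper97.BG1366.exists_cj_ge_of_hall hsolv hK hKsJM hκ
  have hmZ : m ∈ K ⊔ Ks M K := by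
    by_contra hmZ
    have hbot := (h31 M hM K hK hK1).2.1 m hmM hmZ
    apply hX1
    rw [eq_bot_iff, ← hbot]
    exact le_inf hXK (hXKsJ.trans hle)
  have hmN : m ∈ normalizer (K : Set G) :=
    (sup_le Subgroup.le_normalizer
      ((inf_le_right : Ks M K ≤ centralizer (K : Set G)).trans (Subgroup.centralizer_le_normalizer _)))
      hmZ
  have hcjK : Cfsg.Agent.Lib.Helper55.cj m K = K := cj_eq_self_iff.mpr hmN
  have hKsJK : Ks J KJ ≤ K := by
    have : Ks J KJ ≤ Cfsg.Agent.Lib.Helper55.cj m K := hle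
    rwa [hcjK] at this
  -- (iii)
  have hksJ : Ks J KJ = K ⊓ sigmaCore J := by
    apply le_antisymm
    · exact le_inf hKsJK inf_le_left
    · rw [← h1]
      exact le_inf inf_le_right (inf_le_left.trans hKM)
  -- (iv) `M ⊓ J ≤ K K*`
  have huniq := PPair.prime_sub_unique hG h30 hp
  have hinter : M ⊓ J ≤ K ⊔ Ks M K := by
    intro d hd
    have hdM : d ∈ M := hd.1
    have hdJ : d ∈ J := hd.2
    have hdN : d ∈ normalizer ((sigmaCore J : Subgroup G) : Set G) :=
      Cfsg.Agent.Lib.Helper71.BG11.le_normalizer_sigmaCore J hdJ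
    have hcjle : Cfsg.Agent.Lib.Helper55.cj d X ≤ K := by
      rintro _ ⟨x, hx, rfl⟩
      apply hKsJK
      rw [← h1]
      refine Subgroup.mem_inf.mpr ⟨?_, ?_⟩
      · have := (Subgroup.mem_normalizer_iff.mp hdN x).mp (hXJ hx)
        simpa [MulAut.conj_apply] using this
      · have hxM : x ∈ M := hKM (hXK hx)
        have : d * x * d⁻¹ ∈ M := M.mul_mem (M.mul_mem hdM hxM) (M.inv_mem hdM)
        simpa [MulAut.conj_apply] using this
    have hcjeq : Cfsg.Agent.Lib.Helper55.cj d X = X := huniq X (Cfsg.Agent.Lib.Helper55.cj d X) hXK hcjle hXc (card_cj d X)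
    have hdNX : d ∈ normalizer (X : Set G) := cj_eq_self_iff.mp hcjeq
    have h3a := ((h30 M hM K hK hK1).2.2 X hXK hXc).1
    rw [← h3a]
    exact Subgroup.mem_inf.mpr ⟨hdM, hdNX⟩
  refine ⟨⟨hpj, hnc, hKs, ?_, ?_, hksJ⟩, hXKsJ⟩
  · exact le_antisymm hinter (h3.trans h2)
  · exact le_antisymm (h2.trans hinter) h3

end Cfsg.Agent.Lib.Helper83.BG1366
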