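import Mathlib
import Cfsg.Agent.Lib.Helper31.BG147Defs
import Cfsg.Agent.Lib.Helper67.BG147C3

/-!
# K-1366-H (keystone 136609): `count_false`, the pure `n`-way count  (helper83, parallel hand)

`T i` (`i ∈ s`, `|s| ≥ 2`) pairwise disjoint, all disjoint from the class support of the TI-set
`W ⊆ Z` with normalizer `Z`; `|Z − W| + n ≤ 1 + Σ c i`, `|G| (3 c i − 1) ≤ 3 |Z| |T i|`: `False`.
-/

set_option autoImplicit false
set_option linter.unusedSectionVars false
set_option linter.unusedVariables false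
set_option linter.style.haveILetI false

namespace Cfsg.Agent.Lib.Helper83.BG1366

open Cfsg Subgroup Cfsg.Agent.Lib.Helper31.BG147

/-- pure arithmetic core of the count (no `1 ∉` hypotheses) -/
theorem count_arith' {g z w v n S C dz : ℕ} (hg : 0 < g) (hz : 0 < z) (hn : 2 ≤ n)
    (hv : z * v = w * g) (hdz : dz + w = z) (hZW : dz + n ≤ 1 + C)
    (hT : g * (3 * C) ≤ 3 * z * S + g * n)
    (hsum : S + v ≤ g) : False := by
  have f5 : 3 * z * (S + v) ≤ 3 * z * g := Nat.mul_le_mul_left _ hsum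
  have f3 : g * (z + n) ≤ g * (C + w + 1) := Nat.mul_le_mul_left g (by omega)
  have f6 : g * 2 ≤ g * n := Nat.mul_le_mul_left g hn
  nlinarith [f5, f3, f6, hT, hv, hg, hz]

variable {G : Type*} [Group G] [Finite G]

/-- **KEYSTONE 136609  K-1366-H**. -/
theorem count_false {ι : Type*} (s : Finset ι) (Z : Subgroup G) (W : Set G) (hWZ : W ⊆ (Z : Set G))
    (hnorm : ∀ n ∈ Z, ∀ w ∈ W, n * w * n⁻¹ ∈ W)
    (hTI : ∀ g : G, ∀ w ∈ W, g * w * g⁻¹ ∈ W → g ∈ Z)
    (T : ι → Set G) (c : ι → ℕ)
    (hdisj : ∀ i ∈ s, ∀ j ∈ s, i ≠ j → Disjoint (T i) (T j))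
    (hdisjW : ∀ i ∈ s, Disjoint (T i) (csupp W))
    (hc : ∀ i ∈ s, 1 ≤ c i)
    (hZW : Set.ncard ((Z : Set G) \ W) + s.card ≤ 1 + ∑ i ∈ s, c i)
    (hT : ∀ i ∈ s, Nat.card G * (3 * c i - 1) ≤ 3 * Nat.card Z * Set.ncard (T i))
    (hn : 2 ≤ s.card) : False := by
  classical
  haveI : Fintype G := Fintype.ofFinite G
  have hW : Nat.card Z * Set.ncard (csupp W) = Set.ncard W * Nat.card G :=
    Cfsg.Agent.Lib.Helper67.BG147.card_csupp hWZ hnorm hTI
  set V : Set G := csupp W with hVdef
  set A : Finset G := (s.biUnion fun i => (T i).toFinset) ∪ V.toFinset with hA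
  have hdisj1 : (↑s : Set ι).PairwiseDisjoint fun i => (T i).toFinset := by
    intro i hi j hj hij
    simp only [Function.onFun]
    rw [Set.disjoint_toFinset]
    exact hdisj i hi j hj hij
  have hdisj2 : Disjoint (s.biUnion fun i => (T i).toFinset) V.toFinset := by
    rw [Finset.disjoint_biUnion_left]
    intro i hi
    rw [Set.disjoint_toFinset]
    exact hdisjW i hi
  have hAcard : A.card = (∑ i ∈ s, Set.ncard (T i)) + Set.ncard V := by
    rw [hA, Finset.card_union_of_disjoint hdisj2, Finset.card_biUnion hdisj1]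
    congr 1
    · apply Finset.sum_congr rfl
      intro i _
      rw [Set.ncard_eq_toFinset_card']
    · rw [Set.ncard_eq_toFinset_card']
  have hAle : A.card ≤ Nat.card G := by
    have h1 := Finset.card_le_card (Finset.subset_univ A)
    rwa [Finset.card_univ, ← Nat.card_eq_fintype_card] at h1
  have hdz : Set.ncard ((Z : Set G) \ W) + Set.ncard W = Nat.card Z := by
    have := Set.ncard_sdiff_add_ncard_of_subset hWZ (Set.toFinite _)
    rw [this]
    exact (Nat.card_coe_set_eq _).symm ▸ rfl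
  have hT' : ∀ i ∈ s, Nat.card G * (3 * c i) ≤ 3 * Nat.card Z * Set.ncard (T i) + Nat.card G := by
    intro i hi
    have h1 := hT i hi
    have h2 := hc i hi
    have e : 3 * c i = (3 * c i - 1) + 1 := by omega
    rw [e, Nat.mul_add, Nat.mul_one]
    omega
  have hTsum : Nat.card G * (3 * ∑ i ∈ s, c i) ≤
      3 * Nat.card Z * (∑ i ∈ s, Set.ncard (T i)) + Nat.card G * s.card := by
    have := Finset.sum_le_sum hT'
    rw [Finset.sum_add_distrib, ← Finset.mul_sum, ← Finset.mul_sum, ← Finset.mul_sum] at this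
    simpa [mul_comm] using this
  rw [hAcard] at hAle
  exact count_arith' (g := Nat.card G) (z := Nat.card Z) (w := Set.ncard W) (v := Set.ncard V)
    (n := s.card) (S := ∑ i ∈ s, Set.ncard (T i)) (C := ∑ i ∈ s, c i)
    (dz := Set.ncard ((Z : Set G) \ W)) Nat.card_pos Nat.card_pos hn hW hdz hZW hTsum hAle

end Cfsg.Agent.Lib.Helper83.BG1366
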