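import Mathlib
import Cfsg.Agent.S1409
import Cfsg.Agent.S1417
import Cfsg.Agent.Lib.Helper15.BG139Defs
import Cfsg.Agent.Lib.Helper31.BG12a
import Cfsg.Agent.Lib.Helper13.BG12B
import Cfsg.Agent.Lib.Helper58.BG134CJ

/-!
# BG Theorem 13.9 (S1378), keystone 137813 (K-S1378-K1): `POut.loc`

Step 14 of `notes/BG13_9_proof_helper15.md`: a maximal subgroup `H ≥ N_G(P)`.
-/

set_option autoImplicit false
set_option linter.unusedSectionVars false
set_option linter.unusedVariables false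
set_option linter.style.haveILetI false

namespace Cfsg.Agent.Lib.Helper83.BG139

open Cfsg Cfsg.Agent.Lib.Helper55 Cfsg.Agent.Lib.Helper31.BG134 Cfsg.Agent.Lib.Helper15.BG139

variable {G : Type*} [Group G] [Finite G]

theorem k1_nc_symm {M N : Subgroup G} (h : ∀ g : G, cj g M ≠ N) : ∀ g : G, cj g N ≠ M := by
  intro g hg
  apply h g⁻¹
  rw [← hg, cj_inv_cj]

/-- `H` is not conjugate to `M` when `r ∈ τ₁(M)` and `r ∈ σ(H) ∪ τ₂(H)`. -/
theorem k1_not_conj_of_tau1 {M H : Subgroup G} {r : ℕ} [Fact r.Prime] (hr : r ∈ tau1 M)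
    (hH : r ∈ sigma H ∨ r ∈ tau2 H) : ∀ g : G, cj g M ≠ H := by
  intro g hg
  subst hg
  rcases hH with h | h
  · apply hr.2.1
    have := Cfsg.Agent.Lib.Helper31.BG12.mem_sigma_cj h g⁻¹
    rwa [cj_inv_cj] at this
  · exact h.2.2.2 (Cfsg.Agent.Lib.Helper01.BGNarrow.pRankLE_of_mulEquiv
      (Cfsg.Agent.Lib.Helper58.BG134.cjEquiv g M) hr.2.2.2.2)

/-- **KEYSTONE 137813  K-S1378-K1**  (step 14). -/
theorem POut.loc {M P H : Subgroup G} {r : ℕ} (o : POut M P r) (hH : IsCoatom H)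
    (hNH : Subgroup.normalizer (P : Set G) ≤ H) (hST : SigmaTau G) (h131 : T131 G) :
    Loc M P H r ∧ (r ∈ sigma H ∨ r ∈ tau2 H) := by
  have hG := o.hG
  have hM := o.hM
  have hr : r.Prime := o.hr1.1
  haveI : Fact r.Prime := ⟨hr⟩
  have hPH : P ≤ H := Subgroup.le_normalizer.trans hNH
  -- `r ∈ σ(H)` or `r ∈ τ₂(H)`
  have hcase : r ∈ sigma H ∨ r ∈ tau2 H := by
    by_cases hrσ : r ∈ sigma H
    · left; exact hrσ
    · right
      obtain ⟨⟨h2, h1⟩, -, -⟩ := Cfsg.Agent.S1409.result hG H hH r hrσ P o.hPc hNH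
      exact ⟨hr, hrσ, h2, h1⟩
  -- `M` and `H` are not conjugate
  have hnc : ∀ g : G, cj g M ≠ H := k1_not_conj_of_tau1 o.hr1 hcase
  -- `σ(H) ∩ σ(M) = ∅`
  have hσ : ∀ q : ℕ, q ∈ sigma H → q ∉ sigma M := by
    intro q hqH hqM
    rcases hcase with hrσ | hr2
    · exact hST M H hM hH hnc q hqM hqH r o.hr1 hrσ
    · obtain ⟨A, hAH, hA, hAc⟩ := Cfsg.Agent.Lib.Helper13.BG12.exists_elemAb_sq_of_tau2 hr2
      have hnil := (Cfsg.Agent.S1417.result hG H hH r hr2 A ⟨hAH, hA, hAc⟩).1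
      exact Cfsg.Agent.Lib.Helper31.BG12.sigma_sigma_disjoint hG hH hM (k1_nc_symm hnc) hnil
        hqH hqM
  -- `M_σ ∩ H = C_{M_σ}(P)`
  have hC : sigmaCore M ⊓ H = CP M P := by
    apply le_antisymm
    · have hr1H : r ∉ tau1 H := by
        intro h
        rcases hcase with hrσ | hr2
        · exact h.2.1 hrσ
        · exact hr2.2.2.2 h.2.2.2.2
      have hPp : IsPGroup r P := IsPGroup.of_card (n := 1) (by rw [o.hPc, pow_one])
      have h1 := h131 M H hM hH hnc r o.hr1.2.1 P hPp o.hPM hPH hr1H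
      intro z hz
      refine ⟨hz.1, ?_⟩
      show z ∈ Subgroup.centralizer (P : Set G)
      rw [Subgroup.mem_centralizer_iff]
      intro y hy
      exact (Subgroup.mem_centralizer_iff.mp (h1 hy) z hz).symm
    · exact le_inf inf_le_left
        (inf_le_right.trans ((Subgroup.centralizer_le_normalizer _).trans hNH))
  exact ⟨⟨o, hH, hNH, hnc, hσ, hC⟩, hcase⟩

end Cfsg.Agent.Lib.Helper83.BG139
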