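import Mathlib
import Cfsg.Agent.Lib.Helper83.BG139K1
import Cfsg.Agent.Lib.Helper83.BG139K2a
import Cfsg.Agent.Lib.Helper83.BG139K3b
import Cfsg.Agent.Lib.Helper83.BG139K3c
import Cfsg.Agent.Lib.Helper21.BG139K3a
import Cfsg.Agent.Lib.Helper70.BG139K2b
import Cfsg.Agent.Lib.Helper47.BG139K2c
import Cfsg.Agent.Lib.Helper31.BG139L178
import Cfsg.Agent.Lib.Helper12.CNMaxSub

/-!
# BG Theorem 13.9 (S1378): assembly of PART II (steps 14-16 of `notes/BG13_9_proof_helper15.md`)

`false_of_pout`: the outputs `POut M P r`, `POut N P r` of part I for two non-conjugate maximal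
subgroups `M`, `N` (with the same `P`, `r`) are contradictory.
-/

set_option autoImplicit false
set_option linter.unusedSectionVars false
set_option linter.unusedVariables false
set_option linter.style.haveILetI false

namespace Cfsg.Agent.Lib.Helper83.BG139

open Cfsg Cfsg.Agent.Lib.Helper55 Cfsg.Agent.Lib.Helper31.BG134 Cfsg.Agent.Lib.Helper15.BG139

variable {G : Type*} [Group G] [Finite G]

/-- **PART II of BG 13.9** (steps 14-16). -/
theorem false_of_pout {M N P : Subgroup G} {r : ℕ} (oM : POut M P r) (oN : POut N P r)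
    (hnc : ∀ g : G, cj g M ≠ N) (hST : SigmaTau G) (h131 : T131 G) (h28 : H1428 G) : False := by
  have hG := oM.hG
  have hM := oM.hM
  have hr : r.Prime := oM.hr1.1
  -- a maximal subgroup `H ≥ N_G(P)`
  have hP1 : P ≠ ⊥ := by
    intro h
    have := oM.hPc
    rw [h, Subgroup.card_bot] at this
    exact hr.one_lt.ne this
  have hPtop : P ≠ ⊤ := by
    intro h
    apply hM.1
    rw [eq_top_iff, ← h]; exact oM.hPM
  obtain ⟨H, hH, hNH⟩ :=
    Cfsg.Agent.Lib.Helper12.CNMaxSub.exists_coatom_normalizer_le hG hP1 hPtop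
  obtain ⟨lM, hcase⟩ := POut.loc oM hH hNH hST h131
  obtain ⟨lN, -⟩ := POut.loc oN hH hNH hST h131
  rcases hcase with hrσ | hr2
  · -- `r ∈ σ(H)`: step 16
    have hM1 := sigma_primes lM lN hnc hrσ
      (fun Y hYM hYH hY => Cfsg.Agent.Lib.Helper21.BG139.Loc.le_CP lM hrσ h131 hYM hYH hY)
    have hN1 := sigma_primes lN lM (k1_nc_symm hnc) hrσ
      (fun Y hYN hYH hY => Cfsg.Agent.Lib.Helper21.BG139.Loc.le_CP lN hrσ h131 hYN hYH hY)
    exact sigma_final lM lN hnc hrσ
      (fun EH E₁ hEH hE₁ => Cfsg.Agent.Lib.Helper31.BG139.primeAct hG hH h28 hEH hE₁) hM1 hN1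
  · -- `r ∈ τ₂(H)`: step 15
    obtain ⟨EH, A, w⟩ := Loc.tau2_act lM hr2
    obtain ⟨EH', A', w'⟩ := Loc.tau2_act lN hr2
    have hM1 := Cfsg.Agent.Lib.Helper70.BG139.Loc.tau2_primes lM hr2 w
    have hN1 := Cfsg.Agent.Lib.Helper70.BG139.Loc.tau2_primes lN hr2 w'
    exact Cfsg.Agent.Lib.Helper47.BG139.tau2_final lM lN hnc hr2 w hM1 hN1

end Cfsg.Agent.Lib.Helper83.BG139
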