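import Mathlib
import Cfsg.Agent.Lib.Helper15.BG142Defs
import Cfsg.Agent.Lib.Helper70.BG139K2b

/-!
# BG Theorem 14.2 (S1430), keystone 143004 (K-TX-4): `Bad.primes` (parallel hand)

Copy of `Helper70.BG139.Loc.tau2_primes` with `Loc` replaced by `Bad`.
-/

set_option autoImplicit false
set_option linter.unusedSectionVars false
set_option linter.unusedVariables false
set_option linter.style.haveILetI false

namespace Cfsg.Agent.Lib.Helper83.BG142

open Cfsg Cfsg.Agent.Lib.Helper55 Cfsg.Agent.Lib.Helper31.BG134 Cfsg.Agent.Lib.Helper15.BG139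
  Cfsg.Agent.Lib.Helper15.BG142

variable {G : Type*} [Group G] [Finite G]

/-- **KEYSTONE 143004  K-TX-4**. -/
theorem Bad.primes {M P H EH A : Subgroup G} {p : ℕ} (b : Bad M P H p)
    (hb : (∀ g : G, cj g M ≠ H) ∧ (∀ q : ℕ, q ∈ sigma H → q ∉ sigma M) ∧
      sigmaCore M ⊓ H = CP M P)
    (w : T2 M P H EH A p) :
    ∀ t : ℕ, t.Prime → t ∣ Nat.card ↥(CP M P) → t ∈ tau1 H := by
  intro t ht htd
  have hG := b.hG
  have hM := b.hM
  have hH := b.hH
  haveI : Fact t.Prime := ⟨ht⟩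
  have hr : p.Prime := b.hp2.1
  haveI : Fact p.Prime := ⟨hr⟩
  have hHallH := (Cfsg.Agent.S1350.result hG H hH).1
  -- Cauchy: `x` of order `t` in `C_{M_σ}(P)`
  obtain ⟨x, hx⟩ := exists_prime_orderOf_dvd_card' t htd
  have hxG : orderOf (x : G) = t := by rw [Subgroup.orderOf_coe, hx]
  set X : Subgroup G := Subgroup.zpowers (x : G) with hXdef
  have hXC : X ≤ CP M P := Subgroup.zpowers_le.mpr x.2
  have hXc : Nat.card X = t := by rw [hXdef, Nat.card_zpowers, hxG]
  have hX1 : X ≠ ⊥ := by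
    intro h
    rw [h, Subgroup.card_bot] at hXc
    exact ht.one_lt.ne hXc
  have htσM : t ∈ sigma M := Cfsg.Agent.Lib.Helper71.BG11.sigmaCore_pi hG hM ht
    (htd.trans (Subgroup.card_dvd_of_le inf_le_left))
  have htσH : t ∉ sigma H := fun h => hb.2.1 t h htσM
  have hpσM : p ∉ sigma M := by
    rcases b.hp13 with h | h
    · exact h.2.1
    · exact h.2.1
  have htr : t ≠ p := by
    intro h
    exact hpσM (h ▸ htσM)
  have hXEH : X ≤ EH := hXC.trans (le_sup_left.trans w.hCE)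
  have hEHH : EH ≤ H := w.hEH.1
  have hXH : X ≤ H := hXEH.trans hEHH
  have htH : t ∣ Nat.card H := by
    rw [← hXc]; exact Subgroup.card_dvd_of_le hXH
  have hXprimes : ∀ q : ℕ, q.Prime → q ∣ Nat.card X → q = t := by
    intro q hq hqd
    rw [hXc] at hqd
    exact (Nat.prime_dvd_prime_iff_eq hq ht).mp hqd
  -- the contradiction: `A ≤ C(X)` is impossible
  have hcontra : A ≤ Subgroup.centralizer (X : Set G) → False := by
    intro hAC
    have h1 := w.hfix X hXC hX1
    rw [inf_of_le_left hAC] at h1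
    have h2 := w.hAc
    rw [h1, b.hPc] at h2
    have h3 : p * 1 = p * p := by rw [mul_one, ← sq]; exact h2
    have h4 : 1 = p := Nat.eq_of_mul_eq_mul_left hr.pos h3
    exact hr.one_lt.ne h4
  have hcopr : Nat.Coprime t p := (Nat.coprime_primes ht hr).mpr htr
  rcases Cfsg.Agent.Lib.Helper16.BG134.mem_tau_cases hG hH ht htH htσH with h1 | h2 | h3
  · exact h1
  · -- `t ∈ τ₂(H)`
    exfalso
    obtain ⟨At, hAtE, hAtel, hAtc⟩ :=
      Cfsg.Agent.Lib.Helper13.BG12.exists_elemAb_sq_le_compl hG hH hHallH h2 w.hEH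
    obtain ⟨⟨hAtn, hAtX⟩, -, -⟩ :=
      Cfsg.Agent.S1418.result hG H hH EH w.hEH t h2 At ⟨hAtE, hAtel, hAtc⟩
    have hXAt : X ≤ At := hAtX X hXEH hXc
    have hd : At ⊓ A = ⊥ := by
      apply disjoint_iff.mp
      apply Subgroup.disjoint_of_coprime_natCard
      rw [hAtc, w.hAc]
      exact Nat.Coprime.pow 2 2 hcopr
    have hAC : A ≤ Subgroup.centralizer (At : Set G) :=
      Cfsg.Agent.Lib.Helper70.BG139.k2b_le_centralizer_of_normalize (hAtE.trans w.hAn)
        (w.hAE.trans hAtn) hd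
    exact hcontra (hAC.trans (Subgroup.centralizer_le hXAt))
  · -- `t ∈ τ₃(H)`
    exfalso
    have hEHsolv : Group.IsSolvable ↥EH :=
      ms_solvable hG (ne_top_of_le_ne_top hH.1 hEHH)
    obtain ⟨E₃, hE₃, hXE₃⟩ := Cfsg.Agent.Lib.Helper54.BG134.exists_isPiHallOf_ge hEHsolv
      (tau3 H) hXEH (by
        intro q hq hqd
        rw [hXprimes q hq hqd]; exact h3)
    obtain ⟨hE₃c, -, hE₃n⟩ := (Cfsg.Agent.S1415.result hG H hH EH w.hEH).2.2 E₃ hE₃
    have hEHX : EH ≤ Subgroup.normalizer (X : Set G) := by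
      intro e he
      rw [← cj_eq_self_iff]
      have h1 : cj e E₃ = E₃ := cj_eq_self_iff.mpr (hE₃n he)
      have h2' : cj e X ≤ E₃ := by
        rw [← h1]; exact cj_mono hXE₃
      exact Cfsg.Agent.Lib.Helper41.BG134.z_eq_of_le_cyclic hE₃c h2' hXE₃ (card_cj e X)
    have hd : X ⊓ A = ⊥ := by
      apply disjoint_iff.mp
      apply Subgroup.disjoint_of_coprime_natCard
      rw [hXc, w.hAc]
      exact Nat.Coprime.pow_right 2 hcopr
    exact hcontra (Cfsg.Agent.Lib.Helper70.BG139.k2b_le_centralizer_of_normalize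
      (hXEH.trans w.hAn) (w.hAE.trans hEHX) hd)

end Cfsg.Agent.Lib.Helper83.BG142
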