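import Mathlib
import Cfsg.Agent.S1445
import Cfsg.Agent.Lib.Helper01.Coprime
import Cfsg.Agent.Lib.Helper01.PCore
import Cfsg.Agent.Lib.Helper03.FrobThompson
import Cfsg.Agent.Lib.Helper54.Basic
import Cfsg.Agent.Lib.Helper59.BenderFStar
import Cfsg.Agent.Lib.Helper76.Fitting

/-!
# K-151-C (keystone 135503, pack K-151 of helper12): `core`  (helper83, parallel hand)

`X = H ⋊ K` finite solvable of odd order, `K` acting in a prime manner on the normal Hall subgroup `H`,
`|C_H(K)| = q` a prime, `[H, K] = H`, `H` not nilpotent.  Then `Q := O_q(H)` is a normal Sylow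
`q`-subgroup of `X` containing `C_H(K)` and `H = Q D` with `D` nilpotent.
-/

set_option autoImplicit false
set_option linter.unusedVariables false
set_option linter.unusedSectionVars false
set_option linter.style.haveILetI false

namespace Cfsg.Agent.Lib.Helper83.BG151

open Cfsg

/-- a group embedding into a nilpotent group is nilpotent -/
theorem isNilpotent_of_injective {A B : Type*} [Group A] [Group B] (f : A →* B)
    (hf : Function.Injective f) [h : Group.IsNilpotent B] : Group.IsNilpotent A := by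
  obtain ⟨n, hn⟩ := Subgroup.nilpotent_iff_lowerCentralSeries.mp h
  rw [Subgroup.nilpotent_iff_lowerCentralSeries]
  refine ⟨n, ?_⟩
  have := Subgroup.lowerCentralSeries.map f n
  rw [hn, le_bot_iff] at this
  exact (Subgroup.map_eq_bot_iff_of_injective _ hf).mp this

variable {X : Type*} [Group X] [Finite X]

/-- Step 1: `F(H) ∩ C(K) ≠ 1`. -/
theorem fittingOf_inf_ne_bot [Group.IsSolvable X] (hodd : Odd (Nat.card X))
    (H K : Subgroup X) [H.Normal] (hHK : H ⊔ K = ⊤) (hcop : (Nat.card H).Coprime (Nat.card K))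
    (hprime : ∀ x ∈ K, x ≠ 1 →
      H ⊓ Subgroup.centralizer ({x} : Set X) = H ⊓ Subgroup.centralizer (K : Set X))
    (hcomm : ⁅H, K⁆ = H) (hnn : ¬ Group.IsNilpotent H) :
    fittingOf H ⊓ Subgroup.centralizer (K : Set X) ≠ ⊥ := by
  intro hF
  have h := Cfsg.Agent.S1445.result hodd H K hHK hcop hprime hF
  rw [hcomm] at h
  apply hnn
  have htop : fittingSubgroup ↥H = ⊤ := by
    rw [eq_top_iff]
    intro x _
    obtain ⟨y, hy, hyx⟩ := h x.2
    have : y = x := Subtype.ext hyx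
    rwa [← this]
  have hnil : Group.IsNilpotent (fittingSubgroup ↥H) :=
    Cfsg.Agent.Lib.Helper76.fittingSubgroup_isNilpotent
  rw [htop] at hnil
  exact Group.nilpotent_of_mulEquiv (Subgroup.topEquiv : (⊤ : Subgroup ↥H) ≃* ↥H)

/-- `O_q(H)` as a subgroup of `X`. -/
noncomputable def oq (q : ℕ) (H : Subgroup X) : Subgroup X := (pCore q ↥H).map H.subtype

theorem oq_le (q : ℕ) (H : Subgroup X) : oq q H ≤ H := by
  rintro _ ⟨y, -, rfl⟩
  exact y.2

theorem oq_normal (q : ℕ) (H : Subgroup X) [hH : H.Normal] : (oq q H).Normal := by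
  haveI : (pCore q ↥H).Characteristic := Cfsg.Agent.Lib.Helper54.pCore_characteristic q ↥H
  unfold oq
  infer_instance

theorem oq_isPGroup (q : ℕ) (H : Subgroup X) : IsPGroup q (oq q H) :=
  (Cfsg.Agent.Lib.Helper01.pCore_isPGroup q).map H.subtype

/-- a `q`-subgroup of `H` normalized by `H` lies in `O_q(H)` -/
theorem le_oq {q : ℕ} {H R : Subgroup X} (hRH : R ≤ H) (hq : IsPGroup q R)
    (hn : ∀ h ∈ H, ∀ r ∈ R, h * r * h⁻¹ ∈ R) : R ≤ oq q H := by
  have hnorm : (R.subgroupOf H).Normal := by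
    constructor
    intro n hn' g
    rw [Subgroup.mem_subgroupOf] at hn' ⊢
    exact hn g g.2 n hn'
  have hp : IsPGroup q (R.subgroupOf H) := hq.comap_subtype
  have hle := Cfsg.Agent.Lib.Helper01.le_pCore hnorm hp
  intro r hr
  exact ⟨⟨r, hRH hr⟩, hle (Subgroup.mem_subgroupOf.mpr hr), rfl⟩


/-- Step 2: `C_H(K) ≤ O_q(H)`. -/
theorem cent_le_oq [Group.IsSolvable X] (hodd : Odd (Nat.card X))
    (H K : Subgroup X) [H.Normal] (hHK : H ⊔ K = ⊤) (hcop : (Nat.card H).Coprime (Nat.card K))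
    (hprime : ∀ x ∈ K, x ≠ 1 →
      H ⊓ Subgroup.centralizer ({x} : Set X) = H ⊓ Subgroup.centralizer (K : Set X))
    (q : ℕ) (hq : q.Prime) (hC : Nat.card ↥(H ⊓ Subgroup.centralizer (K : Set X)) = q)
    (hcomm : ⁅H, K⁆ = H) (hnn : ¬ Group.IsNilpotent H) :
    H ⊓ Subgroup.centralizer (K : Set X) ≤ oq q H := by
  haveI : Fact q.Prime := ⟨hq⟩
  have h1 := fittingOf_inf_ne_bot hodd H K hHK hcop hprime hcomm hnn
  obtain ⟨⟨y, hy⟩, hy1⟩ := (Subgroup.ne_bot_iff_exists_ne_one).mp h1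
  have hy1' : y ≠ 1 := fun h => hy1 (Subtype.ext h)
  obtain ⟨hyF, hyK⟩ := Subgroup.mem_inf.mp hy
  have hFH : fittingOf H ≤ H := by
    rintro _ ⟨z, -, rfl⟩
    exact z.2
  have hyC : y ∈ H ⊓ Subgroup.centralizer (K : Set X) := Subgroup.mem_inf.mpr ⟨hFH hyF, hyK⟩
  -- `C = zpowers y`
  have hzle : Subgroup.zpowers y ≤ H ⊓ Subgroup.centralizer (K : Set X) :=
    Subgroup.zpowers_le.mpr hyC
  have hzc : Nat.card (Subgroup.zpowers y) = q := by
    have hd : Nat.card (Subgroup.zpowers y) ∣ q := hC ▸ Subgroup.card_dvd_of_le hzle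
    rcases (Nat.dvd_prime hq).mp hd with h | h
    · exfalso
      rw [Nat.card_zpowers, orderOf_eq_one_iff] at h
      exact hy1' h
    · exact h
  have hzeq : Subgroup.zpowers y = H ⊓ Subgroup.centralizer (K : Set X) :=
    Subgroup.eq_of_le_of_card_ge hzle (by rw [hzc, hC])
  rw [← hzeq, Subgroup.zpowers_le]
  -- `y ∈ O_q(H)`
  obtain ⟨y', hy'F, hy'y⟩ := hyF
  have hyq : y ^ q = 1 := by
    have : orderOf y = q := by rw [← Nat.card_zpowers, hzc]
    rw [← this]
    exact pow_orderOf_eq_one y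
  have hy'q : y' ^ (q ^ 1) = 1 := by
    apply Subtype.ext
    rw [pow_one, Subgroup.coe_pow]
    have : ((y' : ↥H) : X) = y := hy'y
    rw [this, hyq]
    rfl
  have := Cfsg.Agent.Lib.Helper59.Bender.mem_pCore_of_pow q hy'F hy'q
  exact ⟨y', this, hy'y⟩


/-- `H ⊓ K = ⊥` from coprimality, elementwise. -/
theorem eq_one_of_mem_of_mem {H K : Subgroup X} (hcop : (Nat.card H).Coprime (Nat.card K))
    {x : X} (hxH : x ∈ H) (hxK : x ∈ K) : x = 1 := by
  have := (Subgroup.disjoint_of_coprime_natCard hcop).le_bot (Subgroup.mem_inf.mpr ⟨hxH, hxK⟩)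
  simpa using this

/-- Steps 3, 4: `K` acts fixed-point-freely on `H / Q` for a normal `Q ≤ H` containing `C_H(K)`;
so `H / Q` is nilpotent. -/
theorem isNilpotent_map_mk [Group.IsSolvable X]
    (H K : Subgroup X) [H.Normal] (hcop : (Nat.card H).Coprime (Nat.card K))
    (hK1 : K ≠ ⊥)
    (hprime : ∀ x ∈ K, x ≠ 1 →
      H ⊓ Subgroup.centralizer ({x} : Set X) = H ⊓ Subgroup.centralizer (K : Set X))
    (Q : Subgroup X) [Q.Normal] (hQH : Q ≤ H)
    (hCQ : H ⊓ Subgroup.centralizer (K : Set X) ≤ Q) :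
    Group.IsNilpotent ↥(H.map (QuotientGroup.mk' Q)) := by
  have hHbn : (H.map (QuotientGroup.mk' Q)).Normal :=
    Subgroup.Normal.map inferInstance _ (QuotientGroup.mk'_surjective Q)
  apply Cfsg.Agent.Lib.Helper03.FrobThompson.isNilpotent_of_fpf (X := X ⧸ Q)
    (H.map (QuotientGroup.mk' Q)) (K.map (QuotientGroup.mk' Q))
  · -- `Kbar ≠ ⊥`
    obtain ⟨⟨k, hk⟩, hk1⟩ := (Subgroup.ne_bot_iff_exists_ne_one).mp hK1
    have hk1' : k ≠ 1 := fun h => hk1 (Subtype.ext h)
    intro hbot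
    have hmem : (QuotientGroup.mk' Q) k ∈ K.map (QuotientGroup.mk' Q) := ⟨k, hk, rfl⟩
    rw [hbot, Subgroup.mem_bot] at hmem
    have hkQ : k ∈ Q := (QuotientGroup.eq_one_iff k).mp hmem
    exact hk1' (eq_one_of_mem_of_mem hcop (hQH hkQ) hk)
  · intro e _ u hu
    exact hHbn.conj_mem u hu e
  · rintro _ ⟨k, hk, rfl⟩ hk1 _ ⟨h, hh, rfl⟩ hcomm
    have hk1' : k ≠ 1 := by
      rintro rfl
      exact hk1 (map_one _)
    -- the Glauberman-type argument
    have hAN : Subgroup.zpowers k ≤ Subgroup.normalizer (Q : Set X) := by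
      rw [Subgroup.normalizer_eq_top]
      exact le_top
    have hAK : Subgroup.zpowers k ≤ K := Subgroup.zpowers_le.mpr hk
    have hcopQA : (Nat.card Q).Coprime (Nat.card (Subgroup.zpowers k)) :=
      Nat.Coprime.coprime_dvd_left (Subgroup.card_dvd_of_le hQH)
        (Nat.Coprime.coprime_dvd_right (Subgroup.card_dvd_of_le hAK) hcop)
    have hk' : ∀ a ∈ Subgroup.zpowers k, h⁻¹ * a * h * a⁻¹ ∈ Q := by
      rintro _ ⟨n, rfl⟩
      rw [← QuotientGroup.eq_one_iff]
      have hc : Commute ((QuotientGroup.mk' Q) k) ((QuotientGroup.mk' Q) h) := hcomm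
      have hc' : Commute (((QuotientGroup.mk' Q) k) ^ n) ((QuotientGroup.mk' Q) h) := hc.zpow_left n
      have e : ((h⁻¹ * k ^ n * h * (k ^ n)⁻¹ : X) : X ⧸ Q) =
          ((QuotientGroup.mk' Q) h)⁻¹ * ((QuotientGroup.mk' Q) k) ^ n * ((QuotientGroup.mk' Q) h) *
            (((QuotientGroup.mk' Q) k) ^ n)⁻¹ := by
        simp
      rw [e, mul_assoc ((QuotientGroup.mk' Q) h)⁻¹, hc'.eq]
      group
    obtain ⟨n, hn, hnA⟩ := Cfsg.Agent.Lib.Helper01.exists_mul_inv_normalizes hAN hcopQA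
      (Or.inr inferInstance) h hk'
    have hcH : n * h⁻¹ ∈ H := H.mul_mem (hQH hn) (H.inv_mem hh)
    have hAH : Subgroup.zpowers k ≤ Subgroup.normalizer (H : Set X) := by
      rw [Subgroup.normalizer_eq_top]
      exact le_top
    have hdisj : H ⊓ Subgroup.zpowers k = ⊥ := by
      rw [eq_bot_iff]
      intro x hx
      rw [Subgroup.mem_bot]
      exact eq_one_of_mem_of_mem hcop hx.1 (hAK hx.2)
    have hcC := Cfsg.Agent.Lib.Helper01.mem_centralizer_of_conj_smul_eq hAH hdisj hcH hnA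
    have hck : n * h⁻¹ ∈ Subgroup.centralizer ({k} : Set X) := by
      rw [Subgroup.mem_centralizer_iff]
      intro z hz
      rw [Set.mem_singleton_iff] at hz
      rw [hz]
      exact (Subgroup.mem_centralizer_iff.mp hcC) k (Subgroup.mem_zpowers k)
    have hcQ : n * h⁻¹ ∈ Q := by
      apply hCQ
      rw [← hprime k hk hk1']
      exact Subgroup.mem_inf.mpr ⟨hcH, hck⟩
    have hhQ : h ∈ Q := by
      have : h = (n * h⁻¹)⁻¹ * n := by group
      rw [this]
      exact Q.mul_mem (Q.inv_mem hcQ) hn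
    exact (QuotientGroup.eq_one_iff h).mpr hhQ


/-- Step 5: if `H / O_q(H)` is nilpotent then `q` does not divide its order. -/
theorem not_dvd_card_map_mk (q : ℕ) (hq : q.Prime) (H : Subgroup X) [H.Normal]
    [hQn : (oq q H).Normal]
    (hnil : Group.IsNilpotent ↥(H.map (QuotientGroup.mk' (oq q H)))) :
    ¬ q ∣ Nat.card ↥(H.map (QuotientGroup.mk' (oq q H))) := by
  haveI : Fact q.Prime := ⟨hq⟩
  intro hdvd
  set Q := oq q H with hQ
  set Hb : Subgroup (X ⧸ Q) := H.map (QuotientGroup.mk' Q) with hHb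
  obtain ⟨P⟩ : Nonempty (Sylow q ↥Hb) := inferInstance
  have hPn : (P : Subgroup ↥Hb).Normal := by
    have h03 := (Group.isNilpotent_of_finite_tfae (G := ↥Hb)).out 0 3
    exact (h03.mp hnil) q inferInstance P
  have hPne : (P : Subgroup ↥Hb) ≠ ⊥ := Sylow.ne_bot_of_dvd_card P hdvd
  -- the preimage
  set P1 : Subgroup (X ⧸ Q) := (P : Subgroup ↥Hb).map Hb.subtype with hP1
  set R : Subgroup X := P1.comap (QuotientGroup.mk' Q) with hR
  have hP1q : IsPGroup q P1 := P.isPGroup'.map _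
  have hRq : IsPGroup q R := by
    apply hP1q.comap_of_ker_isPGroup
    rw [QuotientGroup.ker_mk']
    exact oq_isPGroup q H
  have hP1le : P1 ≤ Hb := by
    rintro _ ⟨y, -, rfl⟩
    exact y.2
  have hRH : R ≤ H := by
    intro r hr
    have h1 : (QuotientGroup.mk' Q) r ∈ Hb := hP1le hr
    obtain ⟨h, hh, hhr⟩ := h1
    have h2 : h⁻¹ * r ∈ Q := by
      rw [← QuotientGroup.eq_one_iff]
      have : ((h⁻¹ * r : X) : X ⧸ Q) = ((QuotientGroup.mk' Q) h)⁻¹ * (QuotientGroup.mk' Q) r := by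
        simp
      rw [this, hhr]
      group
    have : r = h * (h⁻¹ * r) := by group
    rw [this]
    exact H.mul_mem hh (oq_le q H h2)
  have hRn : ∀ h ∈ H, ∀ r ∈ R, h * r * h⁻¹ ∈ R := by
    intro h hh r hr
    obtain ⟨y, hy, hyr⟩ := hr
    have hhb : (QuotientGroup.mk' Q) h ∈ Hb := ⟨h, hh, rfl⟩
    have := hPn.conj_mem y hy ⟨(QuotientGroup.mk' Q) h, hhb⟩
    refine ⟨_, this, ?_⟩
    simp only [map_mul, map_inv]
    rw [← hyr]
    rfl
  have hRQ : R ≤ Q := le_oq hRH hRq hRn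
  apply hPne
  rw [eq_bot_iff]
  intro y hy
  rw [Subgroup.mem_bot]
  obtain ⟨r, hr⟩ := QuotientGroup.mk'_surjective Q (y : X ⧸ Q)
  have hrR : r ∈ R := by
    show (QuotientGroup.mk' Q) r ∈ P1
    rw [hr]
    exact ⟨y, hy, rfl⟩
  have : (QuotientGroup.mk' Q) r = 1 := (QuotientGroup.eq_one_iff r).mpr (hRQ hrR)
  apply Subtype.ext
  rw [← hr, this]
  rfl


/-- **KEYSTONE 135503  K-151-C (CORE)**. -/
theorem core {X : Type*} [Group X] [Finite X] [Group.IsSolvable X] (hodd : Odd (Nat.card X))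
    (H K : Subgroup X) [H.Normal] (hHK : H ⊔ K = ⊤) (hcop : (Nat.card H).Coprime (Nat.card K))
    (hK1 : K ≠ ⊥)
    (hprime : ∀ x ∈ K, x ≠ 1 →
      H ⊓ Subgroup.centralizer ({x} : Set X) = H ⊓ Subgroup.centralizer (K : Set X))
    (q : ℕ) (hq : q.Prime) (hC : Nat.card ↥(H ⊓ Subgroup.centralizer (K : Set X)) = q)
    (hcomm : ⁅H, K⁆ = H) (hnn : ¬ Group.IsNilpotent H) :
    ∃ Q D : Subgroup X, Q.Normal ∧ IsPGroup q Q ∧ (Nat.card Q).Coprime Q.index ∧
      H ⊓ Subgroup.centralizer (K : Set X) ≤ Q ∧ Q ⊔ D = H ∧ Group.IsNilpotent D := by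
  haveI : Fact q.Prime := ⟨hq⟩
  haveI hQn : (oq q H).Normal := oq_normal q H
  set Q := oq q H with hQ
  have hQH : Q ≤ H := oq_le q H
  have hQq : IsPGroup q Q := oq_isPGroup q H
  have hCQ : H ⊓ Subgroup.centralizer (K : Set X) ≤ Q :=
    cent_le_oq hodd H K hHK hcop hprime q hq hC hcomm hnn
  have hnil : Group.IsNilpotent ↥(H.map (QuotientGroup.mk' Q)) :=
    isNilpotent_map_mk H K hcop hK1 hprime Q hQH hCQ
  have hndvd : ¬ q ∣ Nat.card ↥(H.map (QuotientGroup.mk' Q)) :=
    not_dvd_card_map_mk q hq H hnil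
  -- `q ∤ |K|`
  have hqH : q ∣ Nat.card H := by
    rw [← hC]
    exact Subgroup.card_dvd_of_le inf_le_left
  have hqK : ¬ q ∣ Nat.card K := by
    intro h
    have := Nat.dvd_gcd hqH h
    rw [Nat.Coprime] at hcop
    rw [hcop] at this
    exact hq.one_lt.ne' (Nat.dvd_one.mp this)
  -- the restriction of the quotient map to `H`
  set φ : ↥H →* X ⧸ Q := (QuotientGroup.mk' Q).comp H.subtype with hφ
  have hφr : φ.range = H.map (QuotientGroup.mk' Q) := by
    rw [hφ, MonoidHom.range_comp, Subgroup.range_subtype]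
  have hφk : φ.ker = pCore q ↥H := by
    ext x
    rw [MonoidHom.mem_ker, hφ, MonoidHom.comp_apply, QuotientGroup.mk'_apply,
      QuotientGroup.eq_one_iff]
    constructor
    · rintro ⟨y, hy, hyx⟩
      have : y = x := Subtype.ext hyx
      rwa [← this]
    · intro hx
      exact ⟨x, hx, rfl⟩
  haveI hQ'n : (pCore q ↥H).Normal := Cfsg.Agent.Lib.Helper01.pCore_normal q
  have hidx : (pCore q ↥H).index = Nat.card ↥(H.map (QuotientGroup.mk' Q)) := by
    rw [← hφk, Subgroup.index_ker, hφr]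
  have hQ'q : IsPGroup q (pCore q ↥H) := Cfsg.Agent.Lib.Helper01.pCore_isPGroup q
  obtain ⟨n, hn⟩ := IsPGroup.iff_card.mp hQ'q
  have hcop' : (Nat.card (pCore q ↥H)).Coprime (pCore q ↥H).index := by
    rw [hn, hidx]
    exact Nat.Coprime.pow_left n ((Nat.Prime.coprime_iff_not_dvd hq).mpr hndvd)
  obtain ⟨D', hD'⟩ := Subgroup.exists_right_complement'_of_coprime hcop'
  refine ⟨Q, D'.map H.subtype, hQn, hQq, ?_, hCQ, ?_, ?_⟩
  · -- `(|Q|, |X : Q|) = 1`
    obtain ⟨m, hm⟩ := IsPGroup.iff_card.mp hQq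
    rw [hm]
    apply Nat.Coprime.pow_left
    rw [Nat.Prime.coprime_iff_not_dvd hq]
    intro hd
    -- `|X : Q| = |H : Q| |X : H|`
    have h1 : Q.relIndex H * H.index = Q.index := Subgroup.relIndex_mul_index hQH
    have h2 : Q.relIndex H = (pCore q ↥H).index := by
      rw [Subgroup.relIndex]
      congr 1
      rw [hQ]
      unfold oq
      rw [Subgroup.subgroupOf]
      exact Subgroup.comap_map_eq_self_of_injective H.subtype_injective _
    have h3 : H.index ∣ Nat.card K := by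
      have hc : Nat.card (K ⊔ H : Subgroup X) = Nat.card H * Nat.card K :=
        Cfsg.Agent.Lib.Helper01.card_sup_of_coprime_of_le_normalizer H K
          (by rw [Subgroup.normalizer_eq_top]; exact le_top) hcop
      rw [sup_comm, hHK, Subgroup.card_top] at hc
      have := Subgroup.card_mul_index H
      rw [hc] at this
      have hpos : 0 < Nat.card H := Nat.card_pos
      have : H.index = Nat.card K := Nat.eq_of_mul_eq_mul_left hpos this
      rw [this]
    rw [← h1, h2, hidx] at hd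
    rcases (Nat.Prime.dvd_mul hq).mp hd with h | h
    · exact hndvd h
    · exact hqK (h.trans h3)
  · -- `Q ⊔ D = H`
    have h1 : pCore q ↥H ⊔ D' = ⊤ := hD'.sup_eq_top
    have h2 : (pCore q ↥H ⊔ D').map H.subtype = Q ⊔ D'.map H.subtype := by
      rw [Subgroup.map_sup]
      rfl
    rw [← h2, h1, ← MonoidHom.range_eq_map, Subgroup.range_subtype]
  · -- `D` nilpotent
    have hdisj : Disjoint (pCore q ↥H) D' := hD'.disjoint
    -- `D' ↪ H / Q`
    set ψ : ↥D' →* ↥(H.map (QuotientGroup.mk' Q)) :=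
      (φ.comp D'.subtype).codRestrict (H.map (QuotientGroup.mk' Q))
        (fun d => ⟨(d : ↥H), (d : ↥H).2, rfl⟩) with hψ
    have hψi : Function.Injective ψ := by
      rw [injective_iff_map_eq_one]
      intro d hd
      have h1 : φ (d : ↥H) = 1 := by
        have := congrArg Subtype.val hd
        exact this
      have h2 : (d : ↥H) ∈ pCore q ↥H := by
        rw [← hφk]
        exact h1
      have h3 : (d : ↥H) ∈ pCore q ↥H ⊓ D' := Subgroup.mem_inf.mpr ⟨h2, d.2⟩
      rw [hdisj.eq_bot, Subgroup.mem_bot] at h3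
      exact Subtype.ext h3
    haveI := hnil
    haveI hD'nil : Group.IsNilpotent ↥D' := isNilpotent_of_injective ψ hψi
    exact Group.nilpotent_of_mulEquiv (D'.equivMapOfInjective H.subtype H.subtype_injective)

end Cfsg.Agent.Lib.Helper83.BG151
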