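import Mathlib
import Cfsg.Agent.S1350
import Cfsg.Agent.S1351
import Cfsg.Agent.S1352
import Cfsg.Agent.S1359
import Cfsg.Agent.S1430
import Cfsg.Agent.S1431
import Cfsg.Agent.Lib.Helper01.Coprime
import Cfsg.Agent.Lib.Helper32.BG147P2
import Cfsg.Agent.Lib.Helper54.BG134A3a
import Cfsg.Agent.Lib.Helper55.Uniq2
import Cfsg.Agent.Lib.Helper71.BG11a
import Cfsg.Agent.Lib.Helper71.BG11c
import Cfsg.Agent.Lib.Helper76.Fitting
import Cfsg.Agent.Lib.Helper83.BG11e
import Cfsg.Agent.S0046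

/-!
# K-152-L2b (keystone 135606, pack K-152 of helper12): `C_M(M_σ) ≤ F(M)` when `M_σ = M_F` is nilpotent
(helper83)

`C := M ⊓ C(M_σ)` is normal in `M`; `C = (C ⊓ M_σ)(C ⊓ U)` for the Hall subgroup `U` of a standard
factorisation (no prime of `κ(M)` divides `|C|`), `C ⊓ M_σ` is central in `C` and `C ⊓ U` lies in the abelian
group `⟨U ∩ M̂_σ⟩` (S1359): `C` is abelian, hence `≤ F(M)`.
-/

set_option autoImplicit false
set_option linter.unusedVariables false
set_option linter.unusedSectionVars false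
set_option linter.style.haveILetI false

namespace Cfsg.Agent.Lib.Helper83.BG152

open Cfsg

variable {G : Type*} [Group G] [Finite G]

theorem card_mul_relIndex' {H M : Subgroup G} (h : H ≤ M) :
    Nat.card H * H.relIndex M = Nat.card M := by
  have := Subgroup.relIndex_mul_relIndex ⊥ H M bot_le h
  rwa [Subgroup.relIndex_bot_left, Subgroup.relIndex_bot_left] at this

/-- pure: a normal subgroup `C` of `M` is the product of `C ⊓ S` and `C ⊓ U`, `U` a Hall subgroup of `M`,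
when `|C ⊓ S|` is prime to `|U|` and `|C : C ⊓ S|` is prime to `|M : U|`. -/
theorem le_inf_sup_inf_of_hall {M C S U : Subgroup G}
    (hCM : C ≤ M) (hUM : U ≤ M) (hUC : U ≤ Subgroup.normalizer (C : Set G))
    (hCS : C ≤ Subgroup.normalizer (S : Set G))
    (hA : (Nat.card ↥(C ⊓ S)).Coprime (Nat.card U))
    (hB : ((C ⊓ S).relIndex C).Coprime (U.relIndex M)) :
    C ≤ (C ⊓ S) ⊔ (C ⊓ U) := by
  -- cardinalities
  have h1 : Nat.card ↥(U ⊔ C) * Nat.card ↥(C ⊓ U) = Nat.card C * Nat.card U :=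
    Cfsg.Agent.Lib.Helper01.card_sup_mul_card_inf_of_le_normalizer C U hUC
  have hUle : U ≤ U ⊔ C := le_sup_left
  have hUCM : U ⊔ C ≤ M := sup_le hUM hCM
  have h2 : Nat.card U * U.relIndex (U ⊔ C) = Nat.card ↥(U ⊔ C) := card_mul_relIndex' hUle
  have h3 : U.relIndex (U ⊔ C) * (U ⊔ C).relIndex M = U.relIndex M :=
    Subgroup.relIndex_mul_relIndex U (U ⊔ C) M hUle hUCM
  have h4 : Nat.card ↥(C ⊓ S) * (C ⊓ S).relIndex C = Nat.card C := card_mul_relIndex' inf_le_left
  have hnpos : 0 < Nat.card U := Nat.card_pos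
  -- `r u = c`
  have h5 : U.relIndex (U ⊔ C) * Nat.card ↥(C ⊓ U) = Nat.card C := by
    have : Nat.card U * (U.relIndex (U ⊔ C) * Nat.card ↥(C ⊓ U)) = Nat.card U * Nat.card C := by
      rw [← mul_assoc, h2, h1, mul_comm]
    exact Nat.eq_of_mul_eq_mul_left hnpos this
  -- `b ∣ u`
  have hbr : ((C ⊓ S).relIndex C).Coprime (U.relIndex (U ⊔ C)) :=
    Nat.Coprime.coprime_dvd_right (Dvd.intro _ h3) hB
  have hbu : (C ⊓ S).relIndex C ∣ Nat.card ↥(C ⊓ U) := by
    have : (C ⊓ S).relIndex C ∣ U.relIndex (U ⊔ C) * Nat.card ↥(C ⊓ U) := by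
      rw [h5, ← h4]
      exact Dvd.intro_left _ rfl
    exact hbr.dvd_of_dvd_mul_left this
  -- the product
  have hau : (Nat.card ↥(C ⊓ S)).Coprime (Nat.card ↥(C ⊓ U)) :=
    Nat.Coprime.coprime_dvd_right (Subgroup.card_dvd_of_le inf_le_right) hA
  have hnorm : C ⊓ U ≤ Subgroup.normalizer ((C ⊓ S : Subgroup G) : Set G) := by
    intro x hx
    have hxC : x ∈ C := hx.1
    have hxS := hCS hxC
    rw [Subgroup.mem_normalizer_iff] at hxS ⊢
    intro y
    constructor
    · intro hy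
      exact Subgroup.mem_inf.mpr ⟨C.mul_mem (C.mul_mem hxC hy.1) (C.inv_mem hxC), (hxS y).mp hy.2⟩
    · intro hy
      refine Subgroup.mem_inf.mpr ⟨?_, (hxS y).mpr hy.2⟩
      have : y = x⁻¹ * (x * y * x⁻¹) * x := by group
      rw [this]
      exact C.mul_mem (C.mul_mem (C.inv_mem hxC) hy.1) hxC
  have h6 : Nat.card ↥((C ⊓ U) ⊔ (C ⊓ S)) = Nat.card ↥(C ⊓ S) * Nat.card ↥(C ⊓ U) :=
    Cfsg.Agent.Lib.Helper01.card_sup_of_coprime_of_le_normalizer (C ⊓ S) (C ⊓ U) hnorm hau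
  have hle : (C ⊓ S) ⊔ (C ⊓ U) ≤ C := sup_le inf_le_left inf_le_left
  have hge : Nat.card C ≤ Nat.card ↥((C ⊓ S) ⊔ (C ⊓ U)) := by
    rw [sup_comm, h6, ← h4]
    exact Nat.mul_le_mul_left _ (Nat.le_of_dvd Nat.card_pos hbu)
  exact (Subgroup.eq_of_le_of_card_ge hle hge).ge


theorem coatom_ne_bot_l2b (hG : IsMinSimpleOddOrder G) {M : Subgroup G} (hM : IsCoatom M) : M ≠ ⊥ := by
  haveI : IsSimpleGroup G := hG.2.1
  refine Cfsg.Agent.S0046.coatom_ne_bot ?_ M hM
  intro h
  exact hG.2.2.1 ⟨⟨h⟩⟩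

theorem sigmaCore_ne_bot_l2b (hG : IsMinSimpleOddOrder G) {M : Subgroup G} (hM : IsCoatom M) :
    sigmaCore M ≠ ⊥ :=
  Cfsg.Agent.Lib.Helper83.BG11.sigmaCore_ne_bot hG hM (coatom_ne_bot_l2b hG hM)

/-- (A) no prime of `κ(M)` divides `|C_M(M_σ)|`. -/
theorem not_dvd_card_cent_of_mem_kappa (hG : IsMinSimpleOddOrder G) {M : Subgroup G}
    (hM : IsCoatom M) {p : ℕ} (hp : p ∈ kappa M) :
    ¬ p ∣ Nat.card ↥(M ⊓ Subgroup.centralizer (sigmaCore M : Set G)) := by
  intro hd
  have hpp : p.Prime := hp.1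
  haveI : Fact p.Prime := ⟨hpp⟩
  obtain ⟨x, hx⟩ := exists_prime_orderOf_dvd_card' p hd
  have hxo : orderOf (x : G) = p := by rw [Subgroup.orderOf_coe]; exact hx
  have hAc : Nat.card (Subgroup.zpowers (x : G)) = p := by rw [Nat.card_zpowers, hxo]
  have hxM : (x : G) ∈ M := x.2.1
  have hxC : (x : G) ∈ Subgroup.centralizer (sigmaCore M : Set G) := x.2.2
  have hAM : Subgroup.zpowers (x : G) ≤ M := Subgroup.zpowers_le.mpr hxM
  have hsolv : Group.IsSolvable ↥M := Cfsg.Agent.Lib.Helper55.ms_solvable hG hM.1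
  obtain ⟨K1, hK1, hAK1⟩ := Cfsg.Agent.Lib.Helper54.BG134.exists_isPiHallOf_ge hsolv (kappa M) hAM
    (by
      intro r hr hrd
      rw [hAc] at hrd
      rw [(Nat.prime_dvd_prime_iff_eq hr hpp).mp hrd]
      exact hp)
  have hx1 : (x : G) ≠ 1 := by
    intro h
    rw [h, orderOf_one] at hxo
    exact hpp.one_lt.ne hxo
  have hxK1 : (x : G) ∈ K1 := hAK1 (Subgroup.mem_zpowers _)
  have hK1ne : K1 ≠ ⊥ := by
    intro h
    rw [h, Subgroup.mem_bot] at hxK1
    exact hx1 hxK1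
  have h30 := (Cfsg.Agent.S1430.result hG M hM K1 hK1 hK1ne).1 (x : G) hxK1 hx1
  have hS : sigmaCore M ⊓ Subgroup.centralizer ({(x : G)} : Set G) = sigmaCore M := by
    rw [inf_eq_left]
    intro s hs
    rw [Subgroup.mem_centralizer_iff]
    intro y hy
    rw [Set.mem_singleton_iff] at hy
    rw [hy]
    exact ((Subgroup.mem_centralizer_iff.mp hxC) s hs).symm
  have hSne : sigmaCore M ≠ ⊥ := sigmaCore_ne_bot_l2b hG hM
  obtain ⟨p', hp', hp'd⟩ : ∃ p' : ℕ, p'.Prime ∧ p' ∣ Nat.card (sigmaCore M) := by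
    apply Nat.exists_prime_and_dvd
    intro h
    exact hSne ((Subgroup.card_eq_one).mp h)
  haveI : Fact p'.Prime := ⟨hp'⟩
  have hKs : sigmaCore M ⊓ Subgroup.centralizer (K1 : Set G) = sigmaCore M := by rw [← h30, hS]
  have h31 := (Cfsg.Agent.S1431.result hG M hM K1 hK1 hK1ne).2.2.1 p' hp' (by rw [hKs]; exact hp'd)
    (default : Sylow p' ↥(sigmaCore M))
  apply h31.2.2
  rw [hKs]
  exact Subgroup.map_subtype_le _

/-- **KEYSTONE 135606  K-152-L2b**. -/
theorem centralizer_le_fittingOf_of_nilpotent {G : Type*} [Group G] [Finite G]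
    (hG : IsMinSimpleOddOrder G) {M : Subgroup G} (hM : IsCoatom M)
    (hnil : Group.IsNilpotent (sigmaCore M)) (hF : fittingHallOf M = sigmaCore M) :
    M ⊓ Subgroup.centralizer (fittingHallOf M : Set G) ≤ fittingOf M := by
  rw [hF]
  set S := sigmaCore M with hS
  set C := M ⊓ Subgroup.centralizer (S : Set G) with hC
  have hSM : S ≤ M := Cfsg.Agent.Lib.Helper71.BG11.sigmaCore_le M
  have hMS : M ≤ Subgroup.normalizer (S : Set G) := Cfsg.Agent.Lib.Helper71.BG11.le_normalizer_sigmaCore M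
  have hCM : C ≤ M := inf_le_left
  -- `M` normalizes `C`
  have hMC : M ≤ Subgroup.normalizer (C : Set G) := by
    intro m hm
    have hmS := hMS hm
    have key : ∀ m ∈ M, ∀ c ∈ C, m * c * m⁻¹ ∈ C := by
      intro m hm c hc
      have hmS := hMS hm
      refine Subgroup.mem_inf.mpr ⟨M.mul_mem (M.mul_mem hm hc.1) (M.inv_mem hm), ?_⟩
      rw [Subgroup.mem_centralizer_iff]
      intro s hs
      have hs' : m⁻¹ * s * m ∈ S := by
        have := (Subgroup.mem_normalizer_iff.mp (Subgroup.inv_mem _ hmS) s).mp hs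
        simpa using this
      have hcs := (Subgroup.mem_centralizer_iff.mp hc.2) (m⁻¹ * s * m) hs'
      calc s * (m * c * m⁻¹) = m * ((m⁻¹ * s * m) * c) * m⁻¹ := by group
        _ = m * (c * (m⁻¹ * s * m)) * m⁻¹ := by rw [hcs]
        _ = m * c * m⁻¹ * s := by group
    rw [Subgroup.mem_normalizer_iff]
    intro c
    constructor
    · exact key m hm c
    · intro hc
      have := key m⁻¹ (M.inv_mem hm) _ hc
      have e : m⁻¹ * (m * c * m⁻¹) * m⁻¹⁻¹ = c := by group
      rwa [e] at this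
  -- a standard factorisation
  obtain ⟨⟨K, hK⟩, hKcyc⟩ := Cfsg.Agent.S1351.result hG M hM
  obtain ⟨⟨U, hKU⟩, -⟩ := Cfsg.Agent.S1352.result hG M hM K (hKcyc K hK) hK
  have hUhall := Cfsg.Agent.Lib.Helper32.BG147P.isPiHallOf_U_aux hG hM hKU
  have hUM : U ≤ M := hUhall.1
  have hHallσ := (Cfsg.Agent.S1350.result hG M hM).1
  -- coprimality (A)
  have hA : (Nat.card ↥(C ⊓ S)).Coprime (Nat.card U) := by
    apply Nat.coprime_of_dvd
    intro r hr hr1 hr2
    have h1 : r ∈ sigma M :=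
      hHallσ.2.1 r hr (hr1.trans (Subgroup.card_dvd_of_le inf_le_right))
    exact (hUhall.2.1 r hr hr2).2.2 h1
  -- coprimality (B)
  have hB : ((C ⊓ S).relIndex C).Coprime (U.relIndex M) := by
    apply Nat.coprime_of_dvd
    intro r hr hr1 hr2
    -- `r ∣ |C|`
    have hrC : r ∣ Nat.card C := hr1.trans (Subgroup.relIndex_dvd_card _ _)
    have hrκ : r ∉ kappa M := fun h => not_dvd_card_cent_of_mem_kappa hG hM h hrC
    -- `r ∉ σ(M)`
    have hrσ : r ∉ sigma M := by
      intro h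
      apply hHallσ.2.2 r hr h
      -- `|C : C ⊓ S|` divides `|M : S|`
      have e1 : (C ⊓ S).relIndex C = S.relIndex C := by
        rw [inf_comm]
        exact Subgroup.inf_relIndex_right S C
      have e2 : S.relIndex C = (S.subgroupOf M).relIndex (C.subgroupOf M) :=
        (Subgroup.relIndex_subgroupOf hCM).symm
      haveI : (S.subgroupOf M).Normal := by
        constructor
        intro n hn g
        rw [Subgroup.mem_subgroupOf] at hn ⊢
        have := (Subgroup.mem_normalizer_iff.mp (hMS g.2) n).mp hn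
        simpa using this
      have e3 : (S.subgroupOf M).relIndex (C.subgroupOf M) ∣ (S.subgroupOf M).index :=
        Subgroup.relIndex_dvd_index_of_normal _ _
      rw [e1, e2] at hr1
      exact hr1.trans e3
    exact hUhall.2.2 r hr ⟨hr, hrκ, hrσ⟩ hr2
  have hdec := le_inf_sup_inf_of_hall hCM hUM (hUM.trans hMC) (hCM.trans hMS) hA hB
  -- `C ⊓ S` is central in `C`, `C ⊓ U` is abelian
  have hcomm1 : ∀ z ∈ C ⊓ S, ∀ c ∈ C, z * c = c * z := by
    intro z hz c hc
    exact ((Subgroup.mem_centralizer_iff.mp hc.2) z hz.2)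
  have hSne : S ≠ ⊥ := sigmaCore_ne_bot_l2b hG hM
  obtain ⟨⟨y, hyS⟩, hy1⟩ := (Subgroup.ne_bot_iff_exists_ne_one).mp hSne
  have hy1' : y ≠ 1 := fun h => hy1 (Subtype.ext h)
  have hT : IsMulCommutative ↥(Subgroup.closure ((U : Set G) ∩ sigmaHat M)) :=
    Cfsg.Agent.S1359.result hG M hM K U hKU
  have hCU : C ⊓ U ≤ Subgroup.closure ((U : Set G) ∩ sigmaHat M) := by
    intro t ht
    apply Subgroup.subset_closure
    refine ⟨ht.2, ht.1.1, y, hyS, hy1', ?_⟩
    exact ((Subgroup.mem_centralizer_iff.mp ht.1.2) y hyS).symm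
  have hcomm2 : ∀ t ∈ C ⊓ U, ∀ t' ∈ C ⊓ U, t * t' = t' * t := by
    intro t ht t' ht'
    have := hT.is_comm.comm ⟨t, hCU ht⟩ ⟨t', hCU ht'⟩
    exact congrArg Subtype.val this
  -- `C` is abelian
  have hnormSU : C ⊓ U ≤ Subgroup.normalizer ((C ⊓ S : Subgroup G) : Set G) := by
    intro x hx
    rw [Subgroup.mem_normalizer_iff]
    intro z
    constructor
    · intro hz
      have : x * z * x⁻¹ = z := by
        rw [← hcomm1 z hz x hx.1]; group
      rwa [this]
    · intro hz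
      have h1 := hcomm1 _ hz x hx.1
      have : z = x * z * x⁻¹ := by
        have : x * z * x⁻¹ * x = x * (x * z * x⁻¹) := h1
        have h2 : x * z = x * (x * z * x⁻¹) := by
          calc x * z = x * z * x⁻¹ * x := by group
            _ = x * (x * z * x⁻¹) := this
        exact mul_left_cancel h2
      rw [this]
      exact hz
  have hCcomm : ∀ c ∈ C, ∀ c' ∈ C, c * c' = c' * c := by
    intro c hc c' hc'
    have h1 : c ∈ (C ⊓ U) ⊔ (C ⊓ S) := by rw [sup_comm]; exact hdec hc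
    have h2 : c' ∈ (C ⊓ U) ⊔ (C ⊓ S) := by rw [sup_comm]; exact hdec hc'
    obtain ⟨t, ht, z, hz, rfl⟩ := Cfsg.Agent.Lib.Helper01.exists_mul_of_mem_sup hnormSU h1
    obtain ⟨t', ht', z', hz', rfl⟩ := Cfsg.Agent.Lib.Helper01.exists_mul_of_mem_sup hnormSU h2
    have e1 := hcomm1 z hz t' ht'.1
    have e2 := hcomm1 z' hz' t ht.1
    have e3 := hcomm1 z hz z' hz'.1
    have e4 := hcomm2 t ht t' ht'
    calc t * z * (t' * z') = t * (z * t') * z' := by group
      _ = t * (t' * z) * z' := by rw [e1]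
      _ = (t * t') * (z * z') := by group
      _ = (t' * t) * (z' * z) := by rw [e4, e3]
      _ = t' * (t * z') * z := by group
      _ = t' * (z' * t) * z := by rw [← e2]
      _ = t' * z' * (t * z) := by group
  -- conclusion
  haveI : IsMulCommutative ↥C := ⟨⟨fun a b => Subtype.ext (hCcomm a a.2 b b.2)⟩⟩
  have hCnil : Group.IsNilpotent ↥C :=
    ⟨⟨1, Subgroup.upperCentralSeries_one_eq_top_iff.mpr inferInstance⟩⟩
  have hnormal : (C.subgroupOf M).Normal := by
    constructor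
    intro n hn g
    rw [Subgroup.mem_subgroupOf] at hn ⊢
    have := (Subgroup.mem_normalizer_iff.mp (hMC g.2) n).mp hn
    simpa using this
  have hnil' : Group.IsNilpotent ↥(C.subgroupOf M) :=
    Group.nilpotent_of_mulEquiv (Subgroup.subgroupOfEquivOfLe hCM).symm
  have hle := Cfsg.Agent.Lib.Helper76.le_fittingSubgroup hnormal hnil'
  intro c hc
  exact ⟨⟨c, hCM hc⟩, hle (Subgroup.mem_subgroupOf.mpr hc), rfl⟩

end Cfsg.Agent.Lib.Helper83.BG152
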