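import Mathlib
import Cfsg.Agent.S1350
import Cfsg.Agent.S1354
import Cfsg.Agent.S1430
import Cfsg.Agent.S1431
import Cfsg.Agent.Lib.Helper01.Coprime
import Cfsg.Agent.Lib.Helper30.BG151F2
import Cfsg.Agent.Lib.Helper54.BG134A3a
import Cfsg.Agent.Lib.Helper55.Uniq2
import Cfsg.Agent.Lib.Helper71.BG11a
import Cfsg.Agent.Lib.Helper76.Fitting

/-!
# K-152-L2c (keystone 135607, pack K-152 of helper12): `C_M(M_F) ≤ F(M)` in the non-nilpotent structure case
(helper83)

`M = M_σ ⋊ K`, `M_σ = Q ⋊ D` with `Q ≤ M_F` the normal Sylow `q`-subgroup containing `K*`, `D` nilpotent.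
`C := M ⊓ C(Q) ⊇ C_M(M_F)` is normal in `M`, no prime of `κ(M)` divides `|C|`, so `C ≤ M_σ = Q D`;
`C ⊓ Q` is central in `C` and `C / (C ⊓ Q)` embeds in `M_σ / Q`, a quotient of `D`: `C` is nilpotent.
-/

set_option autoImplicit false
set_option linter.unusedVariables false
set_option linter.unusedSectionVars false
set_option linter.style.haveILetI false

namespace Cfsg.Agent.Lib.Helper83.BG152

open Cfsg

variable {G : Type*} [Group G] [Finite G]

theorem card_mul_relIndex_l2c {H M : Subgroup G} (h : H ≤ M) :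
    Nat.card H * H.relIndex M = Nat.card M := by
  have := Subgroup.relIndex_mul_relIndex ⊥ H M bot_le h
  rwa [Subgroup.relIndex_bot_left, Subgroup.relIndex_bot_left] at this

/-- `M` normalizes `C_M(N)` when `M` normalizes `N`. -/
theorem le_normalizer_inf_centralizer {M N : Subgroup G}
    (hMN : M ≤ Subgroup.normalizer (N : Set G)) :
    M ≤ Subgroup.normalizer ((M ⊓ Subgroup.centralizer (N : Set G) : Subgroup G) : Set G) := by
  have key : ∀ m ∈ M, ∀ c ∈ M ⊓ Subgroup.centralizer (N : Set G),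
      m * c * m⁻¹ ∈ M ⊓ Subgroup.centralizer (N : Set G) := by
    intro m hm c hc
    have hmS := hMN hm
    refine Subgroup.mem_inf.mpr ⟨M.mul_mem (M.mul_mem hm hc.1) (M.inv_mem hm), ?_⟩
    rw [Subgroup.mem_centralizer_iff]
    intro s hs
    have hs' : m⁻¹ * s * m ∈ N := by
      have := (Subgroup.mem_normalizer_iff.mp (Subgroup.inv_mem _ hmS) s).mp hs
      simpa using this
    have hcs := (Subgroup.mem_centralizer_iff.mp hc.2) (m⁻¹ * s * m) hs'
    calc s * (m * c * m⁻¹) = m * ((m⁻¹ * s * m) * c) * m⁻¹ := by group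
      _ = m * (c * (m⁻¹ * s * m)) * m⁻¹ := by rw [hcs]
      _ = m * c * m⁻¹ * s := by group
  intro m hm
  rw [Subgroup.mem_normalizer_iff]
  intro c
  constructor
  · exact key m hm c
  · intro hc
    have := key m⁻¹ (M.inv_mem hm) _ hc
    have e : m⁻¹ * (m * c * m⁻¹) * m⁻¹⁻¹ = c := by group
    rwa [e] at this

/-- `N.subgroupOf M` is normal when `M` normalizes `N`. -/
theorem subgroupOf_normal_of_le_normalizer {M N : Subgroup G}
    (hMN : M ≤ Subgroup.normalizer (N : Set G)) : (N.subgroupOf M).Normal := by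
  constructor
  intro n hn g
  rw [Subgroup.mem_subgroupOf] at hn ⊢
  have := (Subgroup.mem_normalizer_iff.mp (hMN g.2) n).mp hn
  simpa using this

/-- `|C : C ⊓ S|` divides `|M : S|` for `C ≤ M` and `S` normalized by `M`. -/
theorem relIndex_dvd_relIndex_of_le_normalizer {M S C : Subgroup G} (hCM : C ≤ M)
    (hMS : M ≤ Subgroup.normalizer (S : Set G)) : S.relIndex C ∣ S.relIndex M := by
  have e2 : S.relIndex C = (S.subgroupOf M).relIndex (C.subgroupOf M) :=
    (Subgroup.relIndex_subgroupOf hCM).symm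
  haveI : (S.subgroupOf M).Normal := subgroupOf_normal_of_le_normalizer hMS
  rw [e2]
  exact Subgroup.relIndex_dvd_index_of_normal _ _

/-- **KEYSTONE 135607  K-152-L2c**. -/
theorem centralizer_le_fittingOf_of_structure {G : Type*} [Group G] [Finite G]
    (hG : IsMinSimpleOddOrder G) {M : Subgroup G} (hM : IsCoatom M) {K Q D : Subgroup G}
    (hKU : IsSigmaDecomposition M K ⊥) (hK1 : K ≠ ⊥) (q : ℕ) (hq : q.Prime)
    (hQn : M ≤ Subgroup.normalizer (Q : Set G)) (hQq : IsPGroup q Q)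
    (hcop : (Nat.card Q).Coprime (Q.relIndex M))
    (hKQ : sigmaCore M ⊓ Subgroup.centralizer (K : Set G) ≤ Q) (hQD : Q ⊔ D = sigmaCore M)
    (hD : Group.IsNilpotent D) (hQF : Q ≤ fittingHallOf M) :
    M ⊓ Subgroup.centralizer (fittingHallOf M : Set G) ≤ fittingOf M := by
  haveI : Fact q.Prime := ⟨hq⟩
  set S := sigmaCore M with hS
  have hSM : S ≤ M := Cfsg.Agent.Lib.Helper71.BG11.sigmaCore_le M
  have hMS : M ≤ Subgroup.normalizer (S : Set G) := Cfsg.Agent.Lib.Helper71.BG11.le_normalizer_sigmaCore M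
  have hQS : Q ≤ S := by rw [← hQD]; exact le_sup_left
  have hDS : D ≤ S := by rw [← hQD]; exact le_sup_right
  have hQM : Q ≤ M := hQS.trans hSM
  have hDM : D ≤ M := hDS.trans hSM
  have hK : IsPiHallOf (kappa M) K M := hKU.hall
  -- `Q ≠ ⊥`
  have hKs1 : S ⊓ Subgroup.centralizer (K : Set G) ≠ ⊥ :=
    (Cfsg.Agent.S1354.result hG M hM K hKU.cyclic hK).1
  have hQ1 : Q ≠ ⊥ := by
    intro h
    apply hKs1
    rw [eq_bot_iff, ← h]
    exact hKQ
  have hqQ : q ∣ Nat.card Q := by
    obtain ⟨n, hn⟩ := IsPGroup.iff_card.mp hQq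
    rw [hn]
    cases n with
    | zero =>
      exfalso
      rw [pow_zero] at hn
      exact hQ1 ((Subgroup.card_eq_one).mp hn)
    | succ n => exact dvd_pow_self q (Nat.succ_ne_zero n)
  have hqidx : ¬ q ∣ Q.relIndex M := by
    intro h
    have := Nat.dvd_gcd hqQ h
    rw [Nat.Coprime] at hcop
    rw [hcop] at this
    exact hq.one_lt.ne' (Nat.dvd_one.mp this)
  set C := M ⊓ Subgroup.centralizer (Q : Set G) with hC
  have hCM : C ≤ M := inf_le_left
  have h0 : M ⊓ Subgroup.centralizer (fittingHallOf M : Set G) ≤ C :=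
    inf_le_inf_left _ (Subgroup.centralizer_le hQF)
  refine h0.trans ?_
  have hMC : M ≤ Subgroup.normalizer (C : Set G) := le_normalizer_inf_centralizer hQn
  -- Step 1: no prime of `κ(M)` divides `|C|`
  have hstep1 : ∀ p : ℕ, p ∈ kappa M → ¬ p ∣ Nat.card C := by
    intro p hp hd
    have hpp : p.Prime := hp.1
    haveI : Fact p.Prime := ⟨hpp⟩
    obtain ⟨x, hx⟩ := exists_prime_orderOf_dvd_card' p hd
    have hxo : orderOf (x : G) = p := by rw [Subgroup.orderOf_coe]; exact hx
    have hAc : Nat.card (Subgroup.zpowers (x : G)) = p := by rw [Nat.card_zpowers, hxo]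
    have hxM : (x : G) ∈ M := x.2.1
    have hxC : (x : G) ∈ Subgroup.centralizer (Q : Set G) := x.2.2
    have hAM : Subgroup.zpowers (x : G) ≤ M := Subgroup.zpowers_le.mpr hxM
    have hsolv : Group.IsSolvable ↥M := Cfsg.Agent.Lib.Helper55.ms_solvable hG hM.1
    obtain ⟨K1, hK1', hAK1⟩ := Cfsg.Agent.Lib.Helper54.BG134.exists_isPiHallOf_ge hsolv (kappa M) hAM
      (by
        intro r hr hrd
        rw [hAc] at hrd
        rw [(Nat.prime_dvd_prime_iff_eq hr hpp).mp hrd]
        exact hp)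
    have hx1 : (x : G) ≠ 1 := by
      intro h
      rw [h, orderOf_one] at hxo
      exact hpp.one_lt.ne hxo
    have hxK1 : (x : G) ∈ K1 := hAK1 (Subgroup.mem_zpowers _)
    have hK1ne : K1 ≠ ⊥ := by
      intro h
      rw [h, Subgroup.mem_bot] at hxK1
      exact hx1 hxK1
    have h30 := (Cfsg.Agent.S1430.result hG M hM K1 hK1' hK1ne).1 (x : G) hxK1 hx1
    have hQle : Q ≤ S ⊓ Subgroup.centralizer (K1 : Set G) := by
      rw [← h30]
      refine le_inf hQS ?_
      intro s hs
      rw [Subgroup.mem_centralizer_iff]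
      intro y hy
      rw [Set.mem_singleton_iff] at hy
      rw [hy]
      exact ((Subgroup.mem_centralizer_iff.mp hxC) s hs).symm
    have hqd : q ∣ Nat.card ↥(S ⊓ Subgroup.centralizer (K1 : Set G)) :=
      hqQ.trans (Subgroup.card_dvd_of_le hQle)
    obtain ⟨P⟩ : Nonempty (Sylow q ↥S) := inferInstance
    have h31 := (Cfsg.Agent.S1431.result hG M hM K1 hK1' hK1ne).2.2.1 q hq hqd P
    apply h31.2.2
    refine le_trans ?_ hQle
    -- `P = Q` as `Q` is a normal Sylow `q`-subgroup of `S`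
    have hQ'q : IsPGroup q (Q.subgroupOf S) := hQq.comap_subtype
    have hQ'n : (Q.subgroupOf S).Normal := subgroupOf_normal_of_le_normalizer (hSM.trans hQn)
    have hQ'i : ¬ q ∣ (Q.subgroupOf S).index := by
      intro h
      apply hqidx
      have : Q.relIndex S * S.relIndex M = Q.relIndex M := Subgroup.relIndex_mul_relIndex Q S M hQS hSM
      rw [← this]
      exact Dvd.dvd.mul_right h _
    have hnP : ((hQ'q.toSylow hQ'i : Sylow q ↥S) : Subgroup ↥S).Normal := by
      rw [IsPGroup.toSylow_coe]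
      exact hQ'n
    haveI := Sylow.unique_of_normal (hQ'q.toSylow hQ'i) hnP
    have hPeq : P = hQ'q.toSylow hQ'i := Subsingleton.elim _ _
    rw [hPeq, IsPGroup.toSylow_coe, Subgroup.map_subgroupOf_eq_of_le hQS]
  -- Step 2: `C ≤ S`
  have hKS : K ⊔ S = M := by
    apply le_antisymm hKU.compl.2.1
    intro m hm
    obtain ⟨a, ha, b, hb, rfl⟩ := hKU.compl.2.2.2 m hm
    rw [Subgroup.mem_bot] at ha
    rw [ha, one_mul]
    exact hb
  have hSK : S.relIndex M ∣ Nat.card K := by
    have h1 : Nat.card ↥(K ⊔ S) * Nat.card ↥(S ⊓ K) = Nat.card S * Nat.card K :=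
      Cfsg.Agent.Lib.Helper01.card_sup_mul_card_inf_of_le_normalizer S K (hK.1.trans hMS)
    rw [hKS, ← card_mul_relIndex_l2c hSM, mul_assoc] at h1
    have hpos : 0 < Nat.card S := Nat.card_pos
    have := Nat.eq_of_mul_eq_mul_left hpos h1
    exact Dvd.intro _ this
  have hCS : C ≤ S := by
    rw [← Subgroup.relIndex_eq_one]
    by_contra hne
    obtain ⟨r, hr, hrd⟩ := Nat.exists_prime_and_dvd hne
    have hrC : r ∣ Nat.card C := hrd.trans (Subgroup.relIndex_dvd_card _ _)
    have hrK : r ∣ Nat.card K :=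
      (hrd.trans (relIndex_dvd_relIndex_of_le_normalizer hCM hMS)).trans hSK
    exact hstep1 r (hK.2.1 r hr hrK) hrC
  -- Step 3: nilpotency, inside `↥M`
  haveI hQ'n : (Q.subgroupOf M).Normal := subgroupOf_normal_of_le_normalizer hQn
  have hD' : Group.IsNilpotent ↥(D.subgroupOf M) :=
    Group.nilpotent_of_mulEquiv (Subgroup.subgroupOfEquivOfLe hDM).symm
  have hA : C.subgroupOf M ≤ Q.subgroupOf M ⊔ D.subgroupOf M := by
    rw [← Subgroup.subgroupOf_sup hQM hDM, hQD]
    intro x hx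
    rw [Subgroup.mem_subgroupOf] at hx ⊢
    exact hCS hx
  haveI hnil1 : Group.IsNilpotent ↥((C.subgroupOf M).map (QuotientGroup.mk' (Q.subgroupOf M))) :=
    Cfsg.Agent.Lib.Helper30.BG151.isNilpotent_map_mk (Q.subgroupOf M) (D.subgroupOf M)
      (C.subgroupOf M) hD' hA
  have hker : ((QuotientGroup.mk' (Q.subgroupOf M)).subgroupMap (C.subgroupOf M)).ker ≤
      Subgroup.center ↥(C.subgroupOf M) := by
    intro x hx
    rw [MonoidHom.mem_ker] at hx
    have h1 : (QuotientGroup.mk' (Q.subgroupOf M)) (x : ↥M) = 1 := congrArg Subtype.val hx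
    have h2 : (x : ↥M) ∈ Q.subgroupOf M := (QuotientGroup.eq_one_iff _).mp h1
    have h3 : ((x : ↥M) : G) ∈ Q := Subgroup.mem_subgroupOf.mp h2
    rw [Subgroup.mem_center_iff]
    intro y
    have hy : ((y : ↥M) : G) ∈ C := Subgroup.mem_subgroupOf.mp y.2
    have := (Subgroup.mem_centralizer_iff.mp hy.2) _ h3
    apply Subtype.ext
    apply Subtype.ext
    exact this.symm
  have hnil' : Group.IsNilpotent ↥(C.subgroupOf M) :=
    Subgroup.isNilpotent_of_ker_le_center _ hker
  have hnormal : (C.subgroupOf M).Normal := subgroupOf_normal_of_le_normalizer hMC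
  have hle := Cfsg.Agent.Lib.Helper76.le_fittingSubgroup hnormal hnil'
  intro c hc
  exact ⟨⟨c, hCM hc⟩, hle (Subgroup.mem_subgroupOf.mpr hc), rfl⟩

end Cfsg.Agent.Lib.Helper83.BG152
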