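import Mathlib
import Cfsg.Prelude.Def_OddOrderLocal

/-!
# K-152-L2d (keystone 135608, pack K-152 of helper12): `M_F ≤ F(M)`  (helper83)
-/

set_option autoImplicit false

namespace Cfsg.Agent.Lib.Helper83.BG152

open Cfsg

/-- the group form: `fittingHall M ≤ fittingSubgroup M` -/
theorem fittingHall_le_fittingSubgroup (M : Type*) [Group M] : fittingHall M ≤ fittingSubgroup M :=
  sSup_le_sSup (fun _ h => ⟨h.1, h.2.1⟩)

/-- **KEYSTONE 135608  K-152-L2d** (pure) -/
theorem fittingHallOf_le_fittingOf {G : Type*} [Group G] [Finite G] (M : Subgroup G) :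
    fittingHallOf M ≤ fittingOf M :=
  Subgroup.map_mono (fittingHall_le_fittingSubgroup ↥M)

end Cfsg.Agent.Lib.Helper83.BG152
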