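import Mathlib
import Cfsg.Agent.Lib.Helper83.Berger1

set_option autoImplicit false

/-!
# Induction and inflation, further general lemmas for Berger's theorem
-/

namespace Cfsg.Agent.Lib.Helper83

open scoped ComplexConjugate
open Cfsg Module

universe u

section Sums

variable {Γ G : Type u} [Group Γ] [Group G] [Fintype Γ] [Fintype G]

/-- Summing a function of the image under a surjective homomorphism. -/
theorem sum_comp_surjective (f : Γ →* G) (hf : Function.Surjective f) (F : G → ℂ) :
    ∑ x : Γ, F (f x) = (Nat.card f.ker : ℂ) * ∑ q : G, F q := by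
  classical
  have : Fintype (Γ ⧸ f.ker) := Fintype.ofFinite _
  set e := QuotientGroup.quotientKerEquivOfSurjective f hf with he
  have h1 := sum_comp_quotient_mk f.ker (fun q => F (e q))
  have h2 : ∀ x : Γ, e (QuotientGroup.mk x) = f x := fun x => rfl
  simp only [h2] at h1
  rw [h1]
  congr 1
  exact Equiv.sum_comp e.toEquiv F

omit [Fintype Γ] in
theorem card_comap_surjective (f : Γ →* G) (hf : Function.Surjective f) (H : Subgroup G) :
    Nat.card (H.comap f) = Nat.card f.ker * Nat.card H := by
  have h1 : (H.comap f).index = H.index := Subgroup.index_comap_of_surjective H hf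
  have h2 := Subgroup.card_mul_index (H.comap f)
  have h3 := Subgroup.card_mul_index H
  have h4 := Subgroup.card_mul_index f.ker
  have h5 : f.ker.index = Nat.card G := by
    rw [Subgroup.index_ker, MonoidHom.range_eq_top.2 hf, Subgroup.card_top]
  have hpos : 0 < H.index := Nat.pos_of_ne_zero Subgroup.index_ne_zero_of_finite
  rw [h1] at h2
  have h6 : Nat.card (H.comap f) * H.index = (Nat.card f.ker * Nat.card H) * H.index := by
    rw [h2, mul_assoc, h3, ← h5, h4]
  exact Nat.eq_of_mul_eq_mul_right hpos h6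

/-- Induction commutes with inflation along a surjective homomorphism. -/
theorem indFun_comap_surjective (f : Γ →* G) (hf : Function.Surjective f) (H : Subgroup G)
    (ψ : H → ℂ) (γ : Γ) :
    indFun (H.comap f) (fun h : H.comap f => ψ ⟨f h, h.2⟩) γ = indFun H ψ (f γ) := by
  classical
  rw [Cfsg.Agent.Lib.Helper04.indFun_apply, Cfsg.Agent.Lib.Helper04.indFun_apply]
  have hext : ∀ y : Γ, extendByZero (H.comap f) (fun h : H.comap f => ψ ⟨f h, h.2⟩) y =
      extendByZero H ψ (f y) := by
    intro y
    by_cases hy : y ∈ H.comap f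
    · rw [Cfsg.Agent.Lib.Helper04.extendByZero_apply_of_mem _ _ y hy,
        Cfsg.Agent.Lib.Helper04.extendByZero_apply_of_mem H ψ (f y) hy]
    · rw [Cfsg.Agent.Lib.Helper04.extendByZero_apply_not_mem _ _ y hy,
        Cfsg.Agent.Lib.Helper04.extendByZero_apply_not_mem H ψ (f y) hy]
  have hsum : ∑ x : Γ, extendByZero (H.comap f) (fun h : H.comap f => ψ ⟨f h, h.2⟩)
      (x⁻¹ * γ * x) = (Nat.card f.ker : ℂ) * ∑ q : G, extendByZero H ψ (q⁻¹ * f γ * q) := by
    rw [← sum_comp_surjective f hf (fun q => extendByZero H ψ (q⁻¹ * f γ * q))]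
    apply Finset.sum_congr rfl
    intro x _
    rw [hext, map_mul, map_mul, map_inv]
  rw [hsum, card_comap_surjective f hf H]
  have hN0 : (Nat.card f.ker : ℂ) ≠ 0 := card_ne_zero_complex
  have hH0 : (Nat.card H : ℂ) ≠ 0 := card_ne_zero_complex
  push_cast
  field_simp

end Sums

section Misc

variable {G : Type u} [Group G]

/-- A finite group with a central subgroup mapping to a solvable group with central kernel is
solvable. -/
theorem isSolvable_of_ker_le_center {Γ : Type*} [Group Γ] (f : Γ →* G)
    (hker : f.ker ≤ Subgroup.center Γ) [Group.IsSolvable G] : Group.IsSolvable Γ := by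
  have : Group.IsSolvable (Subgroup.center Γ) :=
    Group.isSolvable_of_comm (fun a b =>
      Subtype.ext (Subgroup.mem_center_iff.mp b.2 (a : Γ)))
  apply Group.isSolvable_of_ker_le_range (Subgroup.center Γ).subtype f
  rw [Subgroup.range_subtype]
  exact hker

variable [Fintype G]

/-- Moving a factor across the inner product. -/
theorem classInner_mul_left (f ω g : G → ℂ) :
    classInner (f * ω) g = classInner f ((fun x => conj (ω x)) * g) := by
  rw [classInner_def, classInner_def]
  congr 1
  apply Finset.sum_congr rfl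
  intro x _
  simp only [Pi.mul_apply, map_mul, Complex.conj_conj]
  ring

/-- Complex conjugation commutes with induction. -/
theorem conj_indFun (K : Subgroup G) (θ : K → ℂ) :
    (fun g => conj (indFun K θ g)) = indFun K (fun k => conj (θ k)) := by
  classical
  funext g
  simp only [Cfsg.Agent.Lib.Helper04.indFun_apply, map_mul, map_inv₀, map_natCast,
    map_sum]
  congr 1
  apply Finset.sum_congr rfl
  intro x _
  by_cases h : x⁻¹ * g * x ∈ K
  · rw [Cfsg.Agent.Lib.Helper04.extendByZero_apply_of_mem K _ _ h,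
      Cfsg.Agent.Lib.Helper04.extendByZero_apply_of_mem K _ _ h]
  · rw [Cfsg.Agent.Lib.Helper04.extendByZero_apply_not_mem K _ _ h,
      Cfsg.Agent.Lib.Helper04.extendByZero_apply_not_mem K _ _ h, map_zero]

/-- A function induced from a function constant on the cosets of a normal subgroup `N ≤ H` of
`G` is constant on the cosets of `N`. -/
theorem indFun_mul_left_of_normal (N H : Subgroup G) [hN : N.Normal] (hNH : N ≤ H) (ψ : H → ℂ)
    (hψ : ∀ (n : G) (hn : n ∈ N) (h : H), ψ (⟨n, hNH hn⟩ * h) = ψ h) (n : G) (hn : n ∈ N)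
    (g : G) : indFun H ψ (n * g) = indFun H ψ g := by
  classical
  rw [Cfsg.Agent.Lib.Helper04.indFun_apply, Cfsg.Agent.Lib.Helper04.indFun_apply]
  congr 1
  apply Finset.sum_congr rfl
  intro x _
  have hn' : x⁻¹ * n * x ∈ N := by
    have := hN.conj_mem n hn x⁻¹
    rwa [inv_inv] at this
  have e1 : x⁻¹ * (n * g) * x = (x⁻¹ * n * x) * (x⁻¹ * g * x) := by group
  rw [e1]
  by_cases h : x⁻¹ * g * x ∈ H
  · have h' : (x⁻¹ * n * x) * (x⁻¹ * g * x) ∈ H := H.mul_mem (hNH hn') h
    rw [Cfsg.Agent.Lib.Helper04.extendByZero_apply_of_mem H ψ _ h,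
      Cfsg.Agent.Lib.Helper04.extendByZero_apply_of_mem H ψ _ h']
    exact hψ _ hn' ⟨_, h⟩
  · have h' : (x⁻¹ * n * x) * (x⁻¹ * g * x) ∉ H := by
      intro hc
      apply h
      have := H.mul_mem (H.inv_mem (hNH hn')) hc
      rwa [inv_mul_cancel_left] at this
    rw [Cfsg.Agent.Lib.Helper04.extendByZero_apply_not_mem H ψ _ h,
      Cfsg.Agent.Lib.Helper04.extendByZero_apply_not_mem H ψ _ h']

end Misc

end Cfsg.Agent.Lib.Helper83
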