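import Mathlib
import Cfsg.Agent.Lib.Helper83.Berger2

set_option autoImplicit false

/-!
# Homogeneous restrictions: general lemmas for Berger's theorem
-/

namespace Cfsg.Agent.Lib.Helper83

open scoped ComplexConjugate
open Cfsg Module

universe u

section Homog

variable {X : Type u} [Group X] [Fintype X]

/-- A character which is a summand of a multiple of an irreducible character is a multiple of
it. -/
theorem eq_smul_of_add_eq_smul : ∀ (b : ℕ) {ξ ξ' φ : X → ℂ} (c : ℂ), IsCharacter X ξ →
    IsCharacter X ξ' → IsIrrCharacter X φ → ξ + ξ' = c • φ → classInner ξ φ = (b : ℂ) →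
    ξ = (b : ℂ) • φ
  | 0, ξ, ξ', φ, c, hξ, hξ', hφ, hsum, hin => by
    rw [Nat.cast_zero, zero_smul]
    by_contra hne
    have h1 : ξ 1 ≠ 0 := fun h => hne (Cfsg.Agent.Lib.Helper85.char_eq_zero_of_apply_one hξ h)
    obtain ⟨φ', hφ', hne'⟩ := Cfsg.Agent.Lib.Helper85.exists_irr_constituent hξ h1
    have hφφ' : φ ≠ φ' := by
      rintro rfl
      rw [Nat.cast_zero] at hin
      exact hne' hin
    obtain ⟨n₁, hn₁⟩ := classInner_char_nat hξ (isCharacter_of_irr hφ')
    obtain ⟨n₂, hn₂⟩ := classInner_char_nat hξ' (isCharacter_of_irr hφ')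
    have h2 : classInner (ξ + ξ') φ' = 0 := by
      rw [hsum, classInner_smul_left,
        irr_inner_ne (χ := (⟨φ, hφ⟩ : IrrCharacter X)) (ψ := ⟨φ', hφ'⟩)
          (fun h => hφφ' (congrArg Subtype.val h)), mul_zero]
    rw [classInner_add_left, hn₁, hn₂] at h2
    have h3 : n₁ + n₂ = 0 := by exact_mod_cast h2
    have h4 : n₁ = 0 := by omega
    rw [h4, Nat.cast_zero] at hn₁
    exact hne' hn₁
  | b + 1, ξ, ξ', φ, c, hξ, hξ', hφ, hsum, hin => by
    have hne : classInner ξ φ ≠ 0 := by
      rw [hin]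
      exact_mod_cast Nat.succ_ne_zero b
    have hg := Cfsg.Agent.Lib.Helper85.isCharacter_sub_irr hξ hφ hne
    have hin' : classInner (ξ - φ) φ = (b : ℂ) := by
      rw [classInner_sub_left, hin, irr_inner_self (⟨φ, hφ⟩ : IrrCharacter X)]
      push_cast
      ring
    have hsum' : (ξ - φ) + ξ' = (c - 1) • φ := by
      funext x
      have := congrFun hsum x
      simp only [Pi.add_apply, Pi.sub_apply, Pi.smul_apply, smul_eq_mul] at this ⊢
      linear_combination this
    have := eq_smul_of_add_eq_smul b (c - 1) hg hξ' hφ hsum' hin'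
    funext g
    have hg' := congrFun this g
    simp only [Pi.sub_apply, Pi.smul_apply, smul_eq_mul] at hg' ⊢
    push_cast
    linear_combination hg'

/-- A character which is a summand of a multiple of an irreducible character is a natural
multiple of it. -/
theorem exists_eq_smul_of_add_eq_smul {ξ ξ' φ : X → ℂ} (c : ℂ) (hξ : IsCharacter X ξ)
    (hξ' : IsCharacter X ξ') (hφ : IsIrrCharacter X φ) (hsum : ξ + ξ' = c • φ) :
    ∃ b : ℕ, ξ = (b : ℂ) • φ := by
  obtain ⟨b, hb⟩ := classInner_char_nat hξ (isCharacter_of_irr hφ)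
  exact ⟨b, eq_smul_of_add_eq_smul b c hξ hξ' hφ hsum hb⟩

/-- If `F` is homogeneous on `M` (a multiple of the irreducible `γ`), and `M` is the product of a
subgroup `Y ≤ M` and elements on which `F` has full norm, then `γ` is irreducible on `Y`. -/
theorem isIrr_restrict_of_homog_supplement (F : X → ℂ) (M Y : Subgroup X) (hYM : Y ≤ M)
    {γ : M → ℂ} (hγ : IsIrrCharacter M γ) (c : ℂ) (hc : c ≠ 0)
    (hF : ∀ m : M, F m = c * γ m)
    (hsupp : ∀ g ∈ M, ∃ y ∈ Y, ∃ a ∈ M, g = y * a ∧ ‖F a‖ = ‖F 1‖) :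
    IsIrrCharacter Y (fun y : Y => γ ⟨y, hYM y.2⟩) := by
  classical
  have : Fintype M := Fintype.ofFinite _
  have h1 : IsIrrCharacter (Y.subgroupOf M) (fun y : Y.subgroupOf M => γ y) := by
    apply isIrr_restrict_of_supplement (Y.subgroupOf M) hγ
    intro g
    obtain ⟨y, hy, a, ha, hg, hn⟩ := hsupp g g.2
    refine ⟨⟨y, hYM hy⟩, Subgroup.mem_subgroupOf.2 hy, ⟨a, ha⟩, Subtype.ext hg, ?_⟩
    have h2 := hF ⟨a, ha⟩
    have h3 := hF 1
    have h4 : F ((1 : M) : X) = F 1 := rfl
    rw [h4] at h3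
    rw [h2, h3, norm_mul, norm_mul] at hn
    have hc' : ‖c‖ ≠ 0 := norm_ne_zero_iff.2 hc
    exact mul_left_cancel₀ hc' hn
  exact Cfsg.Agent.Lib.Helper84.isIrrCharacter_comp_mulEquiv
    (Subgroup.subgroupOfEquivOfLe hYM).symm h1

/-- Gallagher factorisation with cancellation: if `F ω = c η` with `F` constant on cosets of the
normal subgroup `A`, `ω` irreducible on `A` and `η` irreducible, then `F` is `c` times an
irreducible character inflated from the quotient by `A`. -/
theorem exists_irr_quotient_of_mul_eq (A : Subgroup X) [hA : A.Normal] {ω η : X → ℂ}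
    (hω : IsIrrCharacter X ω) (hωA : IsIrrCharacter A (fun a : A => ω a))
    (hη : IsIrrCharacter X η) (F : X → ℂ) (hFA : ∀ a ∈ A, ∀ x, F (a * x) = F x) (c : ℂ)
    (hc : c ≠ 0) (hFω : ∀ x, F x * ω x = c * η x) :
    ∃ β : IrrCharacter (X ⧸ A), ∀ x, F x = c * (β : X ⧸ A → ℂ) (QuotientGroup.mk x) := by
  classical
  have : Fintype A := Fintype.ofFinite _
  have hF1 : ∀ a : A, F a = F 1 := by
    intro a
    have := hFA a a.2 1
    rwa [mul_one] at this
  have hη1 : η 1 ≠ 0 := irr_degree_ne_zero (⟨η, hη⟩ : IrrCharacter X)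
  have hF1ne : F 1 ≠ 0 := by
    intro h0
    have := hFω 1
    rw [h0, zero_mul] at this
    rcases mul_eq_zero.1 this.symm with h | h
    · exact hc h
    · exact hη1 h
  have hηA : (fun a : A => η a) = (F 1 / c) • (fun a : A => ω a) := by
    funext a
    simp only [Pi.smul_apply, smul_eq_mul]
    have := hFω a
    rw [hF1 a] at this
    field_simp
    linear_combination -this
  have hcon : classInner (fun a : A => η a) (fun a : A => ω a) ≠ 0 := by
    rw [hηA, classInner_smul_left, irr_inner_self (⟨_, hωA⟩ : IrrCharacter A), mul_one]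
    exact div_ne_zero hF1ne hc
  obtain ⟨β, hβ⟩ := (Cfsg.Agent.Lib.Helper85.gallagher A hω hωA).2 η hη hcon
  refine ⟨β, ?_⟩
  set D : X → ℂ := fun x => F x - c * (β : X ⧸ A → ℂ) (QuotientGroup.mk x) with hD
  have hD0 : D = 0 := by
    apply eq_zero_of_mul_restrict_irr A hω hωA D
    · intro a ha x
      simp only [hD]
      rw [hFA a ha x]
      have : (QuotientGroup.mk (a * x) : X ⧸ A) = QuotientGroup.mk x := by
        rw [QuotientGroup.mk_mul, (QuotientGroup.eq_one_iff a).2 ha, one_mul]
      rw [this]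
    · intro x
      simp only [hD]
      have h1 := hFω x
      have h2 := congrFun hβ x
      rw [sub_mul, h1, h2]
      ring
  intro x
  have := congrFun hD0 x
  simp only [hD, Pi.zero_apply] at this
  exact sub_eq_zero.1 this

end Homog

end Cfsg.Agent.Lib.Helper83
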