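import Mathlib
import Cfsg.Agent.Lib.Helper83.Berger3

set_option autoImplicit false

/-!
# Quasi-primitivity and induction through the lifting group
-/

namespace Cfsg.Agent.Lib.Helper83

open scoped ComplexConjugate
open Cfsg Module Cfsg.Agent.Lib.Helper85

universe u

section Lift

variable {T : Type u} [Group T] [Fintype T] (M : Subgroup T) [hM : M.Normal] {d : ℕ}
  (Θ : Representation ℂ M (Fin d → ℂ)) [hΘ : Θ.IsIrreducible]

omit hΘ in
theorem liftEmb_mem_liftN (n : M) : liftEmb M Θ n ∈ liftN M Θ :=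
  (mem_liftN M Θ _).2 ⟨n, rfl⟩

omit hΘ in
theorem liftChar_liftEmb (n : M) :
    (liftRep M Θ).character (liftEmb M Θ n) = Θ.character n := by
  change LinearMap.trace ℂ _ (liftRep M Θ (liftEmb M Θ n)) = LinearMap.trace ℂ _ (Θ n)
  rw [liftRep_liftEmb]

omit [Fintype T] in
theorem liftProj_ker_le_center : (liftProj M Θ).ker ≤ Subgroup.center (liftGroup M Θ) := by
  intro γ hγ
  exact mem_center_of_liftProj_eq_one M Θ γ (MonoidHom.mem_ker.1 hγ)

omit hΘ in
/-- An element lying over `M` is the product of an element of the image of `M` and an element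
lying over `1`. -/
theorem exists_liftEmb_mul (γ : liftGroup M Θ) (hγ : liftProj M Θ γ ∈ M) :
    ∃ w : liftGroup M Θ, liftProj M Θ w = 1 ∧ γ = liftEmb M Θ ⟨liftProj M Θ γ, hγ⟩ * w := by
  refine ⟨(liftEmb M Θ ⟨liftProj M Θ γ, hγ⟩)⁻¹ * γ, ?_, ?_⟩
  · rw [map_mul, map_inv, liftProj_liftEmb]
    exact inv_mul_cancel _
  · rw [mul_inv_cancel_left]

omit hΘ in
theorem mk_liftEmb_mul (n : M) (w : liftGroup M Θ) :
    (QuotientGroup.mk (liftEmb M Θ n * w) : liftGroup M Θ ⧸ liftN M Θ) = QuotientGroup.mk w := by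
  rw [QuotientGroup.mk_mul, (QuotientGroup.eq_one_iff _).2 (liftEmb_mem_liftN M Θ n), one_mul]

omit hΘ in
theorem mk_mul_of_mem_liftN {a : liftGroup M Θ} (ha : a ∈ liftN M Θ) (w : liftGroup M Θ) :
    (QuotientGroup.mk (a * w) : liftGroup M Θ ⧸ liftN M Θ) = QuotientGroup.mk w := by
  rw [QuotientGroup.mk_mul, (QuotientGroup.eq_one_iff _).2 ha, one_mul]

/-- The inflation of an irreducible character of the quotient by the image of `M` has full norm
on the elements lying over `M`. -/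
theorem norm_inflate_of_proj_mem [Fintype (liftGroup M Θ)]
    (β : IrrCharacter (liftGroup M Θ ⧸ liftN M Θ)) (a : liftGroup M Θ)
    (ha : liftProj M Θ a ∈ M) :
    ‖(β : liftGroup M Θ ⧸ liftN M Θ → ℂ) (QuotientGroup.mk a)‖ =
      ‖(β : liftGroup M Θ ⧸ liftN M Θ → ℂ) (QuotientGroup.mk (1 : liftGroup M Θ))‖ := by
  have hβ' : IsIrrCharacter (liftGroup M Θ)
      (fun γ => (β : liftGroup M Θ ⧸ liftN M Θ → ℂ) (QuotientGroup.mk γ)) :=
    isIrrCharacter_inflate (liftN M Θ) β.2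
  obtain ⟨w, hw1, hw⟩ := exists_liftEmb_mul M Θ a ha
  have hcen := mem_center_of_liftProj_eq_one M Θ w hw1
  have := norm_irr_center hβ' hcen
  rw [hw, mk_liftEmb_mul]
  exact this

/-- **Quasi-primitivity passes to the tensor factor over the lifting group.** -/
theorem qp_lift [Fintype (liftGroup M Θ)] {χ : T → ℂ} (hχ : IsIrrCharacter T χ)
    (hqp : ∀ N : Subgroup T, N.Normal → ∃ (ϑ : N → ℂ) (e : ℕ), IsIrrCharacter N ϑ ∧
      (fun n : N => χ n) = (e : ℂ) • ϑ)
    (hinv : ∀ (t : T) (n : M), Θ.character (MulAut.conjNormal t n) = Θ.character n)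
    (β : IrrCharacter (liftGroup M Θ ⧸ liftN M Θ))
    (hβ : ∀ γ : liftGroup M Θ, χ (liftProj M Θ γ) =
      (β : liftGroup M Θ ⧸ liftN M Θ → ℂ) (QuotientGroup.mk γ) * (liftRep M Θ).character γ) :
    ∀ X' : Subgroup (liftGroup M Θ), X'.Normal → ∃ (ϑ : X' → ℂ) (e : ℕ), IsIrrCharacter X' ϑ ∧
      (fun x : X' => (β : liftGroup M Θ ⧸ liftN M Θ → ℂ)
        (QuotientGroup.mk (x : liftGroup M Θ))) = (e : ℂ) • ϑ := by
  intro X' hX'
  classical
  have hsurj := liftProj_surjective M Θ hinv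
  set π := liftProj M Θ with hπ
  set X : Subgroup T := X'.map π ⊔ M with hX
  have hXn : X.Normal := by
    have : (X'.map π).Normal := hX'.map π hsurj
    exact Subgroup.sup_normal _ _
  set X₁ : Subgroup (liftGroup M Θ) := X.comap π with hX₁
  have hX₁n : X₁.Normal := hXn.comap π
  obtain ⟨η, c, hη, hηc⟩ := hqp X hXn
  have hχ1 : χ 1 ≠ 0 := irr_degree_ne_zero (⟨χ, hχ⟩ : IrrCharacter T)
  have hc0 : (c : ℂ) ≠ 0 := by
    intro h0
    have := congrFun hηc 1
    simp only [Pi.smul_apply, smul_eq_mul, h0, zero_mul] at this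
    exact hχ1 this
  have hω : IsIrrCharacter (liftGroup M Θ) (liftRep M Θ).character :=
    isIrrCharacter_of_rep (liftRep M Θ) (liftRep_irreducible M Θ)
  have : Fintype (liftN M Θ) := Fintype.ofFinite _
  have hωN : IsIrrCharacter (liftN M Θ) (fun h : liftN M Θ => (liftRep M Θ).character h) :=
    isIrrCharacter_of_rep
      ((liftRep M Θ).comp (liftN M Θ).subtype : Representation ℂ (liftN M Θ) (Fin d → ℂ))
      (liftRep_restrict_irreducible M Θ)
  have hNX₁ : liftN M Θ ≤ X₁ := by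
    intro γ hγ
    obtain ⟨n, rfl⟩ := (mem_liftN M Θ γ).1 hγ
    change π (liftEmb M Θ n) ∈ X
    rw [hπ, liftProj_liftEmb]
    exact Subgroup.mem_sup_right n.2
  have hX'X₁ : X' ≤ X₁ := fun γ hγ => Subgroup.mem_sup_left (Subgroup.mem_map_of_mem π hγ)
  set A₁ : Subgroup X₁ := (liftN M Θ).subgroupOf X₁ with hA₁
  have hA₁n : A₁.Normal := (liftN_normal M Θ).subgroupOf X₁
  have : Fintype X₁ := Fintype.ofFinite _
  have : Fintype A₁ := Fintype.ofFinite _
  set ω₁ : X₁ → ℂ := fun y => (liftRep M Θ).character (y : liftGroup M Θ) with hω₁def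
  have hω₁A : IsIrrCharacter A₁ (fun a : A₁ => ω₁ a) :=
    Cfsg.Agent.Lib.Helper84.isIrrCharacter_comp_mulEquiv (Subgroup.subgroupOfEquivOfLe hNX₁) hωN
  have hω₁ : IsIrrCharacter X₁ ω₁ :=
    isIrr_of_restrict_isIrr A₁ (isCharacter_restrict X₁ (isCharacter_of_irr hω)) hω₁A
  set f : X₁ →* X := (π.comp X₁.subtype).codRestrict X (fun y => y.2) with hf
  have hfs : Function.Surjective f := by
    intro x
    obtain ⟨γ, hγ⟩ := hsurj x
    exact ⟨⟨γ, by change π γ ∈ X; rw [hγ]; exact x.2⟩, Subtype.ext hγ⟩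
  have hη' : IsIrrCharacter X₁ (fun y => η (f y)) := isIrrCharacter_comp_surjective f hfs hη
  set F : liftGroup M Θ → ℂ :=
    fun γ => (β : liftGroup M Θ ⧸ liftN M Θ → ℂ) (QuotientGroup.mk γ) with hF
  obtain ⟨β', hβ'⟩ := exists_irr_quotient_of_mul_eq A₁ hω₁ hω₁A hη' (fun y : X₁ => F y)
    (by
      intro a ha x
      change F ((a : liftGroup M Θ) * (x : liftGroup M Θ)) = F x
      simp only [hF]
      rw [mk_mul_of_mem_liftN M Θ (Subgroup.mem_subgroupOf.1 ha)])
    c hc0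
    (by
      intro x
      have h1 := hβ (x : liftGroup M Θ)
      have h2 := congrFun hηc (f x)
      simp only [Pi.smul_apply, smul_eq_mul] at h2
      rw [← h2]
      exact h1.symm)
  have hγ₁ : IsIrrCharacter X₁ (fun y => (β' : X₁ ⧸ A₁ → ℂ) (QuotientGroup.mk y)) :=
    isIrrCharacter_inflate A₁ β'.2
  have hirr := isIrr_restrict_of_homog_supplement F X₁ X' hX'X₁ hγ₁ c hc0 (fun m => hβ' m)
    (by
      intro g hg
      have hg' : π g ∈ X'.map π ⊔ M := hg
      obtain ⟨y, hy, z, hz, hyz⟩ := Subgroup.mem_sup_of_normal_right.1 hg'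
      obtain ⟨x, hx, rfl⟩ := Subgroup.mem_map.1 hy
      refine ⟨x, hx, x⁻¹ * g, X₁.mul_mem (X₁.inv_mem (hX'X₁ hx)) hg, by rw [mul_inv_cancel_left], ?_⟩
      have hπa : π (x⁻¹ * g) ∈ M := by
        rw [map_mul, map_inv, ← hyz, inv_mul_cancel_left]
        exact hz
      exact norm_inflate_of_proj_mem M Θ β (x⁻¹ * g) hπa)
  refine ⟨_, c, hirr, ?_⟩
  funext x
  exact hβ' ⟨x, hX'X₁ x.2⟩

/-- **Induction passes to the tensor factor over the lifting group.** If `χ = ψ^T` with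
`ψ ∈ Irr(H)`, `M ≤ H` and `ψ|_M` a multiple of the character of `Θ`, then the tensor factor `β` of
`χ` over the lifting group is induced from the preimage of `H`. -/
theorem induced_lift [Fintype (liftGroup M Θ)] {χ : T → ℂ}
    (hinv : ∀ (t : T) (n : M), Θ.character (MulAut.conjNormal t n) = Θ.character n)
    (β : IrrCharacter (liftGroup M Θ ⧸ liftN M Θ))
    (hβ : ∀ γ : liftGroup M Θ, χ (liftProj M Θ γ) =
      (β : liftGroup M Θ ⧸ liftN M Θ → ℂ) (QuotientGroup.mk γ) * (liftRep M Θ).character γ)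
    (H : Subgroup T) (hMH : M ≤ H) (ψ : H → ℂ) (hψ : IsIrrCharacter H ψ)
    (hind : indFun H ψ = χ) (b : ℂ)
    (hψM : ∀ n : M, ψ ⟨n, hMH n.2⟩ = b * Θ.character n) :
    ∃ ψ₁ : (H.comap (liftProj M Θ)) → ℂ, IsCharacter (H.comap (liftProj M Θ)) ψ₁ ∧
      indFun (H.comap (liftProj M Θ)) ψ₁ =
        fun γ => (β : liftGroup M Θ ⧸ liftN M Θ → ℂ) (QuotientGroup.mk γ) := by
  classical
  have hsurj := liftProj_surjective M Θ hinv
  set π := liftProj M Θ with hπ
  set H' : Subgroup (liftGroup M Θ) := H.comap π with hH'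
  have hω : IsIrrCharacter (liftGroup M Θ) (liftRep M Θ).character :=
    isIrrCharacter_of_rep (liftRep M Θ) (liftRep_irreducible M Θ)
  have : Fintype (liftN M Θ) := Fintype.ofFinite _
  have hωN : IsIrrCharacter (liftN M Θ) (fun h : liftN M Θ => (liftRep M Θ).character h) :=
    isIrrCharacter_of_rep
      ((liftRep M Θ).comp (liftN M Θ).subtype : Representation ℂ (liftN M Θ) (Fin d → ℂ))
      (liftRep_restrict_irreducible M Θ)
  have hNH' : liftN M Θ ≤ H' := by
    intro γ hγ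
    obtain ⟨n, rfl⟩ := (mem_liftN M Θ γ).1 hγ
    change π (liftEmb M Θ n) ∈ H
    rw [hπ, liftProj_liftEmb]
    exact hMH n.2
  set A₁ : Subgroup H' := (liftN M Θ).subgroupOf H' with hA₁
  have hA₁n : A₁.Normal := (liftN_normal M Θ).subgroupOf H'
  have : Fintype H' := Fintype.ofFinite _
  have : Fintype A₁ := Fintype.ofFinite _
  set ω₁ : H' → ℂ := fun y => (liftRep M Θ).character (y : liftGroup M Θ) with hω₁def
  have hω₁A : IsIrrCharacter A₁ (fun a : A₁ => ω₁ a) :=
    Cfsg.Agent.Lib.Helper84.isIrrCharacter_comp_mulEquiv (Subgroup.subgroupOfEquivOfLe hNH') hωN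
  have hω₁ : IsIrrCharacter H' ω₁ :=
    isIrr_of_restrict_isIrr A₁ (isCharacter_restrict H' (isCharacter_of_irr hω)) hω₁A
  set f : H' →* H := (π.comp H'.subtype).codRestrict H (fun y => y.2) with hf
  have hfs : Function.Surjective f := by
    intro x
    obtain ⟨γ, hγ⟩ := hsurj x
    exact ⟨⟨γ, by change π γ ∈ H; rw [hγ]; exact x.2⟩, Subtype.ext hγ⟩
  set ψ' : H' → ℂ := fun y => ψ (f y) with hψ'def
  have hψ' : IsIrrCharacter H' ψ' := isIrrCharacter_comp_surjective f hfs hψ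
  have hindψ' : ∀ γ, indFun H' ψ' γ = χ (π γ) := by
    intro γ
    rw [← hind]
    exact indFun_comap_surjective π hsurj H ψ γ
  have hψ1 : ψ 1 ≠ 0 := irr_degree_ne_zero (⟨ψ, hψ⟩ : IrrCharacter H)
  have hb0 : b ≠ 0 := by
    intro h0
    have := hψM 1
    rw [h0, zero_mul] at this
    exact hψ1 this
  have hkey : ∀ (γ : liftGroup M Θ) (hγ : γ ∈ H') (n : M), liftEmb M Θ n = γ →
      ψ ⟨π γ, hγ⟩ = b * (liftRep M Θ).character γ := by
    rintro γ hγ n rfl
    rw [liftChar_liftEmb]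
    exact hψM n
  have hψ'A : (fun a : A₁ => ψ' a) = b • (fun a : A₁ => ω₁ a) := by
    funext a
    obtain ⟨n, hn⟩ := (mem_liftN M Θ _).1 (Subgroup.mem_subgroupOf.1 a.2)
    simp only [Pi.smul_apply, smul_eq_mul]
    exact hkey _ (a : H').2 n hn
  have hcon : classInner (fun a : A₁ => ψ' a) (fun a : A₁ => ω₁ a) ≠ 0 := by
    rw [hψ'A, classInner_smul_left, irr_inner_self (⟨_, hω₁A⟩ : IrrCharacter A₁), mul_one]
    exact hb0
  obtain ⟨β', hβ'⟩ := (gallagher A₁ hω₁ hω₁A).2 ψ' hψ' hcon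
  set ψ₁ : H' → ℂ := fun y => (β' : H' ⧸ A₁ → ℂ) (QuotientGroup.mk y) with hψ₁def
  have hψ₁ : IsIrrCharacter H' ψ₁ := isIrrCharacter_inflate A₁ β'.2
  refine ⟨ψ₁, isCharacter_of_irr hψ₁, ?_⟩
  have hproj := Cfsg.Agent.Lib.Helper84.indFun_mul_restrict H' ψ₁
    (char_isClassFunction (isCharacter_of_irr hω))
  have hψ'eq : ψ' = ψ₁ * fun n : H' => (liftRep M Θ).character (n : liftGroup M Θ) := hβ'
  rw [← hψ'eq] at hproj
  set D : liftGroup M Θ → ℂ := fun γ => indFun H' ψ₁ γ -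
    (β : liftGroup M Θ ⧸ liftN M Θ → ℂ) (QuotientGroup.mk γ) with hD
  have hD0 : D = 0 := by
    apply eq_zero_of_mul_restrict_irr (liftN M Θ) hω hωN D
    · intro a ha x
      simp only [hD]
      rw [mk_mul_of_mem_liftN M Θ ha]
      congr 1
      apply indFun_mul_left_of_normal (liftN M Θ) H' hNH' ψ₁ _ a ha x
      intro n hn h
      simp only [hψ₁def]
      rw [QuotientGroup.mk_mul]
      have : (QuotientGroup.mk (⟨n, hNH' hn⟩ : H') : H' ⧸ A₁) = 1 := by
        rw [QuotientGroup.eq_one_iff]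
        exact Subgroup.mem_subgroupOf.2 hn
      rw [this, one_mul]
    · intro x
      simp only [hD]
      have h1 := congrFun hproj x
      simp only [Pi.mul_apply] at h1
      rw [sub_mul, ← h1, hindψ' x, hβ x, sub_self]
  funext γ
  have := congrFun hD0 γ
  simp only [hD, Pi.zero_apply] at this
  exact sub_eq_zero.1 this

end Lift

end Cfsg.Agent.Lib.Helper83
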