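import Mathlib
import Cfsg.Agent.Lib.Helper83.Berger4

set_option autoImplicit false

/-!
# Tensor factors of primitive characters; scalar action from coprimality
-/

namespace Cfsg.Agent.Lib.Helper83

open scoped ComplexConjugate
open Cfsg Module Cfsg.Agent.Lib.Helper85

universe u

section Prim

variable {Y : Type u} [Group Y] [Fintype Y]

/-- If `ξ = conj(ω) ψ'` is irreducible with `ω`, `ψ'` characters, then `ω` is irreducible. -/
theorem isIrr_of_tensor_isIrr {ξ ω ψ' : Y → ℂ} (hξ : IsIrrCharacter Y ξ) (hω : IsCharacter Y ω)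
    (hψ' : IsCharacter Y ψ') (hprod : ξ = (fun y => conj (ω y)) * ψ') : IsIrrCharacter Y ω := by
  classical
  have hξ1 : ξ 1 ≠ 0 := irr_degree_ne_zero (⟨ξ, hξ⟩ : IrrCharacter Y)
  have h1 : ξ 1 = conj (ω 1) * ψ' 1 := by rw [hprod]; rfl
  have hω1 : ω 1 ≠ 0 := by
    intro h0
    rw [h0, map_zero, zero_mul] at h1
    exact hξ1 h1
  have hψ1 : ψ' 1 ≠ 0 := by
    intro h0
    rw [h0, mul_zero] at h1
    exact hξ1 h1
  obtain ⟨ω₁, hω₁, hne⟩ := exists_irr_constituent hω hω1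
  have hR : IsCharacter Y (ω - ω₁) := isCharacter_sub_irr hω hω₁ hne
  have hsum : ξ = (fun y => conj (ω₁ y)) * ψ' + (fun y => conj ((ω - ω₁) y)) * ψ' := by
    rw [hprod]
    funext y
    simp only [Pi.mul_apply, Pi.add_apply, Pi.sub_apply, map_sub]
    ring
  have hc1 : IsCharacter Y ((fun y => conj (ω₁ y)) * ψ') :=
    isCharacter_mul (isCharacter_conj (isCharacter_of_irr hω₁)) hψ'
  have hc2 : IsCharacter Y ((fun y => conj ((ω - ω₁) y)) * ψ') :=
    isCharacter_mul (isCharacter_conj hR) hψ'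
  have hne1 : ((fun y => conj (ω₁ y)) * ψ') 1 ≠ 0 := by
    simp only [Pi.mul_apply]
    apply mul_ne_zero _ hψ1
    intro h0
    exact irr_degree_ne_zero (⟨ω₁, hω₁⟩ : IrrCharacter Y) ((map_eq_zero _).1 h0)
  rw [hsum] at hξ
  have h2 := eq_zero_of_add_isIrr hc1 hc2 hξ hne1
  have h3 := congrFun h2 1
  simp only [Pi.mul_apply, Pi.zero_apply] at h3
  have h4 : (ω - ω₁) 1 = 0 := by
    rcases mul_eq_zero.1 h3 with h | h
    · exact (map_eq_zero _).1 h
    · exact absurd h hψ1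
  have h5 := char_eq_zero_of_apply_one hR h4
  have h6 : ω = ω₁ := by
    funext x
    have := congrFun h5 x
    simp only [Pi.sub_apply, Pi.zero_apply] at this
    exact sub_eq_zero.1 this
  rw [h6]
  exact hω₁

/-- If `ξ = conj(ω) ψ'` is a primitive irreducible character, then `ω` restricts homogeneously to
every normal subgroup. -/
theorem homog_of_primitive_tensor {ξ ω ψ' : Y → ℂ}
    (hprim : ∀ I : Subgroup Y, I ≠ ⊤ → ∀ ψ : I → ℂ, IsCharacter I ψ → indFun I ψ ≠ ξ)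
    (hω : IsIrrCharacter Y ω) (hψ' : IsCharacter Y ψ')
    (hprod : ξ = (fun y => conj (ω y)) * ψ') (N : Subgroup Y) (hN : N.Normal) :
    ∃ (ν : N → ℂ) (c : ℕ), IsIrrCharacter N ν ∧ (fun n : N => ω n) = (c : ℂ) • ν := by
  classical
  have : Fintype N := Fintype.ofFinite _
  have hωc := isCharacter_of_irr hω
  have hωN : IsCharacter N (fun n : N => ω n) := isCharacter_restrict N hωc
  have hω1 : (fun n : N => ω n) 1 ≠ 0 := irr_degree_ne_zero (⟨ω, hω⟩ : IrrCharacter Y)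
  obtain ⟨ν, hν, hne⟩ := exists_irr_constituent hωN hω1
  obtain ⟨ψ₀, hψ₀, -, hind⟩ := exists_irr_conjStab hN hω hν hne
  by_cases hI : conjStab hN ν = ⊤
  · have hinv : ∀ t ∈ (⊤ : Subgroup Y), Cfsg.Agent.Lib.Helper85.conjFun hN ν t = ν := by
      intro t _
      apply (mem_conjStab hN ν t).1
      rw [hI]
      exact Subgroup.mem_top t
    have hωtop : IsIrrCharacter (⊤ : Subgroup Y) (fun t => ω t) :=
      Cfsg.Agent.Lib.Helper84.isIrrCharacter_comp_mulEquiv Subgroup.topEquiv hω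
    have h1 := restrict_eq_smul_of_invariant hN le_top hωtop hν hinv hne
    obtain ⟨c, hc⟩ := classInner_char_nat hωN (isCharacter_of_irr hν)
    refine ⟨ν, c, hν, ?_⟩
    rw [← hc]
    exact h1
  · exfalso
    have : Fintype (conjStab hN ν) := Fintype.ofFinite _
    apply hprim (conjStab hN ν) hI ((fun t => conj (ψ₀ t)) * (fun t : conjStab hN ν => ψ' t))
      (isCharacter_mul (isCharacter_conj (isCharacter_of_irr hψ₀))
        (isCharacter_restrict _ hψ'))
    rw [Cfsg.Agent.Lib.Helper84.indFun_mul_restrict _ _ (char_isClassFunction hψ'),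
      ← conj_indFun, ← hind, hprod]

end Prim

section Scalar

/-- Every endomorphism of a one-dimensional space is a scalar. -/
theorem exists_eq_smul_id_of_finrank_eq_one {V : Type*} [AddCommGroup V] [Module ℂ V]
    (h : finrank ℂ V = 1) (f : V →ₗ[ℂ] V) : ∃ c : ℂ, f = c • LinearMap.id := by
  obtain ⟨v, hv⟩ := finrank_eq_one_iff'.1 h
  obtain ⟨c, hc⟩ := hv.2 (f v)
  refine ⟨c, ?_⟩
  ext w
  obtain ⟨a, rfl⟩ := hv.2 w
  rw [map_smul, ← hc]
  simp only [LinearMap.smul_apply, LinearMap.id_coe, id_eq]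
  rw [smul_comm]

variable {Γ : Type u} [Group Γ] [Fintype Γ]

/-- A linear irreducible character has values of norm one. -/
theorem norm_eq_one_of_linear {φ : Γ → ℂ} (hφ : IsIrrCharacter Γ φ) (h1 : φ 1 = 1) (g : Γ) :
    ‖φ g‖ = 1 := by
  obtain ⟨d, ρ, _, rfl⟩ := hφ
  rw [Representation.char_one] at h1
  have hd : finrank ℂ (Fin d → ℂ) = 1 := by exact_mod_cast h1
  obtain ⟨c, hc⟩ := exists_eq_smul_id_of_finrank_eq_one hd (ρ g)
  have := (Cfsg.Agent.Lib.Helper04.norm_char_eq_iff ρ g).2 ⟨c, hc⟩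
  rw [this, hd]
  simp

/-- If `ρ` restricts to `N₁` as a multiple of an irreducible character, a subgroup `Z₁ ≤ N₁` acts
by scalars and the index of `Z₁` in `N₁` is coprime to the degree of `ρ`, then `N₁` acts by
scalars. -/
theorem scalar_of_homog_coprime {W : Type*} [AddCommGroup W] [Module ℂ W] [FiniteDimensional ℂ W]
    (ρ : Representation ℂ Γ W) (hW : finrank ℂ W ≠ 0) (N₁ Z₁ : Subgroup Γ)
    (hZ : ∀ z ∈ Z₁, ∃ c : ℂ, ρ z = c • (LinearMap.id : W →ₗ[ℂ] W))
    {ν : N₁ → ℂ} (hν : IsIrrCharacter N₁ ν) (c : ℕ)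
    (hc : (fun n : N₁ => ρ.character n) = (c : ℂ) • ν)
    (hcop : ∀ s : ℕ, s ∣ finrank ℂ W → s ∣ Z₁.relIndex N₁ → s = 1) :
    ∀ n ∈ N₁, ∃ c : ℂ, ρ n = c • (LinearMap.id : W →ₗ[ℂ] W) := by
  classical
  obtain ⟨d', σ, hσ, rfl⟩ := hν
  have := hσ
  have h1 : finrank ℂ W = c * d' := by
    have := congrFun hc 1
    simp only [Pi.smul_apply, smul_eq_mul] at this
    have h2 : ρ.character ((1 : N₁) : Γ) = ρ.character 1 := rfl
    rw [h2, Representation.char_one, Representation.char_one, Module.finrank_fin_fun] at this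
    exact_mod_cast this
  have hc0 : c ≠ 0 := by
    rintro rfl
    rw [zero_mul] at h1
    exact hW h1
  have hc0' : (c : ℝ) ≠ 0 := by exact_mod_cast hc0
  have hscal : ∀ z ∈ Z₁.subgroupOf N₁, ∃ c' : ℂ, σ z = c' • (LinearMap.id : _ →ₗ[ℂ] _) := by
    intro z hz
    apply (Cfsg.Agent.Lib.Helper04.norm_char_eq_iff σ z).1
    have h2 := (Cfsg.Agent.Lib.Helper04.norm_char_eq_iff ρ (z : Γ)).2
      (hZ z (Subgroup.mem_subgroupOf.1 hz))
    have h3 := congrFun hc z
    simp only [Pi.smul_apply, smul_eq_mul] at h3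
    rw [h3, norm_mul, Complex.norm_natCast, h1] at h2
    push_cast at h2
    rw [Module.finrank_fin_fun]
    exact mul_left_cancel₀ hc0' h2
  have hdvd := finrank_dvd_index_of_scalar σ (Z₁.subgroupOf N₁) hscal
  rw [Module.finrank_fin_fun] at hdvd
  have hd1 : d' = 1 := hcop d' ⟨c, by rw [h1, mul_comm]⟩ hdvd
  intro n hn
  apply (Cfsg.Agent.Lib.Helper04.norm_char_eq_iff ρ n).1
  have hfr : finrank ℂ (Fin d' → ℂ) = 1 := by rw [Module.finrank_fin_fun, hd1]
  obtain ⟨c', hc'⟩ := exists_eq_smul_id_of_finrank_eq_one hfr (σ ⟨n, hn⟩)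
  have h2 := (Cfsg.Agent.Lib.Helper04.norm_char_eq_iff σ ⟨n, hn⟩).2 ⟨c', hc'⟩
  have h3 := congrFun hc ⟨n, hn⟩
  simp only [Pi.smul_apply, smul_eq_mul] at h3
  rw [h3, norm_mul, Complex.norm_natCast, h2, hfr, h1, hd1]
  push_cast
  ring

end Scalar

end Cfsg.Agent.Lib.Helper83
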