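import Mathlib
import Cfsg.Agent.Lib.Helper83.Berger5

set_option autoImplicit false

/-!
# The lifting group over a chief factor: restriction to the preimage of a supplement
-/

namespace Cfsg.Agent.Lib.Helper83

open scoped ComplexConjugate
open Cfsg Module Cfsg.Agent.Lib.Helper85

universe u

section LiftSupp

variable {T : Type u} [Group T] [Fintype T] (M : Subgroup T) [hM : M.Normal] {d : ℕ}
  (Θ : Representation ℂ M (Fin d → ℂ)) [hΘ : Θ.IsIrreducible] [Fintype (liftGroup M Θ)]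
  (H : Subgroup T)

omit hΘ [Fintype (liftGroup M Θ)] in
/-- Every element of the lifting group is a product of an element over `H` and an element of the
image of `M`, when `T = M H`. -/
theorem exists_mul_liftN_of_supplement (hsup : ∀ g : T, ∃ k ∈ M, ∃ h ∈ H, k * h = g)
    (g : liftGroup M Θ) :
    ∃ y ∈ H.comap (liftProj M Θ), ∃ a ∈ liftN M Θ, g = y * a := by
  obtain ⟨k, hk, h, hh, hkh⟩ := hsup (liftProj M Θ g)⁻¹
  refine ⟨g * liftEmb M Θ ⟨k, hk⟩, ?_, (liftEmb M Θ ⟨k, hk⟩)⁻¹,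
    (liftN M Θ).inv_mem (liftEmb_mem_liftN M Θ _), by rw [mul_inv_cancel_right]⟩
  change liftProj M Θ (g * liftEmb M Θ ⟨k, hk⟩) ∈ H
  rw [map_mul, liftProj_liftEmb]
  have : liftProj M Θ g * k = h⁻¹ := by
    have h1 : liftProj M Θ g * (k * h) = 1 := by rw [hkh, mul_inv_cancel]
    rw [← mul_assoc] at h1
    exact eq_inv_of_mul_eq_one_left h1
  change liftProj M Θ g * k ∈ H
  rw [this]
  exact H.inv_mem hh

omit hΘ in
/-- The tensor factor stays irreducible on the preimage of a supplement of `M`. -/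
theorem lift_restrict_irr (hsup : ∀ g : T, ∃ k ∈ M, ∃ h ∈ H, k * h = g)
    (β : IrrCharacter (liftGroup M Θ ⧸ liftN M Θ)) :
    IsIrrCharacter (H.comap (liftProj M Θ))
      (fun y : H.comap (liftProj M Θ) => (β : liftGroup M Θ ⧸ liftN M Θ → ℂ)
        (QuotientGroup.mk (y : liftGroup M Θ))) := by
  have hβ' : IsIrrCharacter (liftGroup M Θ)
      (fun γ => (β : liftGroup M Θ ⧸ liftN M Θ → ℂ) (QuotientGroup.mk γ)) :=
    isIrrCharacter_inflate (liftN M Θ) β.2
  apply isIrr_restrict_of_supplement (H.comap (liftProj M Θ)) hβ'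
  intro g
  obtain ⟨y, hy, a, ha, hg⟩ := exists_mul_liftN_of_supplement M Θ H hsup g
  refine ⟨y, hy, a, hg, ?_⟩
  have : (QuotientGroup.mk a : liftGroup M Θ ⧸ liftN M Θ) = QuotientGroup.mk 1 := by
    rw [QuotientGroup.mk_one, QuotientGroup.eq_one_iff]
    exact ha
  simp only [this]

omit hΘ in
/-- Quasi-primitivity of the tensor factor passes to a supplement of the image of `M`. -/
theorem qp_restrict_supplement (H' : Subgroup (liftGroup M Θ))
    (hdec : ∀ g : liftGroup M Θ, ∃ y ∈ H', ∃ a ∈ liftN M Θ, g = y * a)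
    (β : IrrCharacter (liftGroup M Θ ⧸ liftN M Θ))
    (hqp : ∀ X' : Subgroup (liftGroup M Θ), X'.Normal → ∃ (ϑ : X' → ℂ) (e : ℕ),
      IsIrrCharacter X' ϑ ∧ (fun x : X' => (β : liftGroup M Θ ⧸ liftN M Θ → ℂ)
        (QuotientGroup.mk (x : liftGroup M Θ))) = (e : ℂ) • ϑ) :
    ∀ X' : Subgroup H', X'.Normal → ∃ (ϑ : X' → ℂ) (e : ℕ),
      IsIrrCharacter X' ϑ ∧ (fun x : X' => (β : liftGroup M Θ ⧸ liftN M Θ → ℂ)
        (QuotientGroup.mk ((x : H') : liftGroup M Θ))) = (e : ℂ) • ϑ := by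
  intro X' hX'
  classical
  set X₂ : Subgroup (liftGroup M Θ) := X'.map H'.subtype with hX₂
  set M₂ : Subgroup (liftGroup M Θ) := liftN M Θ ⊔ X₂ with hM₂
  have hconjX₂ : ∀ y ∈ H', ∀ x ∈ X₂, y * x * y⁻¹ ∈ X₂ := by
    intro y hy x hx
    obtain ⟨x', hx', rfl⟩ := Subgroup.mem_map.1 hx
    exact Subgroup.mem_map.2 ⟨⟨y, hy⟩ * x' * ⟨y, hy⟩⁻¹, hX'.conj_mem x' hx' ⟨y, hy⟩, rfl⟩
  have hM₂n : M₂.Normal := by
    constructor
    intro m hm g
    obtain ⟨y, hy, a, ha, rfl⟩ := hdec g
    have haM₂ : a ∈ M₂ := Subgroup.mem_sup_left ha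
    have h1 : a * m * a⁻¹ ∈ M₂ := M₂.mul_mem (M₂.mul_mem haM₂ hm) (M₂.inv_mem haM₂)
    obtain ⟨n, hn, x, hx, hnx⟩ := Subgroup.mem_sup_of_normal_left.1 h1
    have e1 : y * a * m * (y * a)⁻¹ = y * (a * m * a⁻¹) * y⁻¹ := by group
    have e2 : y * (n * x) * y⁻¹ = (y * n * y⁻¹) * (y * x * y⁻¹) := by group
    rw [e1, ← hnx, e2]
    exact M₂.mul_mem (Subgroup.mem_sup_left ((liftN_normal M Θ).conj_mem n hn y))
      (Subgroup.mem_sup_right (hconjX₂ y hy x hx))
  obtain ⟨γ, c, hγ, hγc⟩ := hqp M₂ hM₂n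
  set F : liftGroup M Θ → ℂ :=
    fun γ => (β : liftGroup M Θ ⧸ liftN M Θ → ℂ) (QuotientGroup.mk γ) with hF
  have hF1 : F 1 ≠ 0 := by
    simp only [hF, QuotientGroup.mk_one]
    exact irr_degree_ne_zero β
  have hc0 : (c : ℂ) ≠ 0 := by
    intro h0
    have := congrFun hγc 1
    simp only [Pi.smul_apply, smul_eq_mul, h0, zero_mul] at this
    exact hF1 this
  have hirr := isIrr_restrict_of_homog_supplement F M₂ X₂ le_sup_right hγ c hc0
    (fun m => congrFun hγc m)
    (by
      intro g hg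
      obtain ⟨n, hn, x, hx, hnx⟩ := Subgroup.mem_sup_of_normal_left.1 hg
      have hmem : x⁻¹ * n * x ∈ liftN M Θ := by
        have := (liftN_normal M Θ).conj_mem n hn x⁻¹
        rwa [inv_inv] at this
      refine ⟨x, hx, x⁻¹ * n * x, Subgroup.mem_sup_left hmem, by rw [← hnx]; group, ?_⟩
      have : (QuotientGroup.mk (x⁻¹ * n * x) : liftGroup M Θ ⧸ liftN M Θ) =
          QuotientGroup.mk 1 := by
        rw [QuotientGroup.mk_one, QuotientGroup.eq_one_iff]
        exact hmem
      simp only [hF, this])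
  set e := Subgroup.equivMapOfInjective X' H'.subtype (Subgroup.subtype_injective _) with he
  have hirr' := Cfsg.Agent.Lib.Helper84.isIrrCharacter_comp_mulEquiv e hirr
  refine ⟨_, c, hirr', ?_⟩
  funext x
  exact congrFun hγc ⟨((x : H') : liftGroup M Θ), le_sup_right (α := Subgroup (liftGroup M Θ))
    (Subgroup.mem_map.2 ⟨x, x.2, rfl⟩)⟩

/-- On the preimage of a supplement `H` of `M`, the tensor factor of `χ = ψ^T` is
`conj(ω) ψ`, where `ω` is the character of the lifting group. -/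
theorem lift_restrict_eq_tensor
    (hinv : ∀ (t : T) (n : M), Θ.character (MulAut.conjNormal t n) = Θ.character n)
    (hsup : ∀ g : T, ∃ k ∈ M, ∃ h ∈ H, k * h = g) {χ : T → ℂ} (hχ : IsIrrCharacter T χ)
    (β : IrrCharacter (liftGroup M Θ ⧸ liftN M Θ))
    (hβ : ∀ γ : liftGroup M Θ, χ (liftProj M Θ γ) =
      (β : liftGroup M Θ ⧸ liftN M Θ → ℂ) (QuotientGroup.mk γ) * (liftRep M Θ).character γ)
    (ψ : H → ℂ) (hψ : IsIrrCharacter H ψ) (hind : indFun H ψ = χ)
    (hdeg : (β : liftGroup M Θ ⧸ liftN M Θ → ℂ) 1 = (d : ℂ) * ψ 1) :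
    (fun y : H.comap (liftProj M Θ) => (β : liftGroup M Θ ⧸ liftN M Θ → ℂ)
        (QuotientGroup.mk (y : liftGroup M Θ))) =
      (fun y : H.comap (liftProj M Θ) => conj ((liftRep M Θ).character (y : liftGroup M Θ))) *
        (fun y : H.comap (liftProj M Θ) => ψ ⟨liftProj M Θ y, y.2⟩) := by
  classical
  have hsurj := liftProj_surjective M Θ hinv
  have : Fintype (H.comap (liftProj M Θ)) := Fintype.ofFinite _
  have hω : IsIrrCharacter (liftGroup M Θ) (liftRep M Θ).character :=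
    isIrrCharacter_of_rep (liftRep M Θ) (liftRep_irreducible M Θ)
  have hξ := lift_restrict_irr M Θ H hsup β
  have hωc : IsCharacter (H.comap (liftProj M Θ))
      (fun y : H.comap (liftProj M Θ) => (liftRep M Θ).character (y : liftGroup M Θ)) :=
    isCharacter_restrict _ (isCharacter_of_irr hω)
  set f : H.comap (liftProj M Θ) →* H :=
    ((liftProj M Θ).comp (H.comap (liftProj M Θ)).subtype).codRestrict H (fun y => y.2) with hf
  have hfs : Function.Surjective f := by
    intro x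
    obtain ⟨γ, hγ⟩ := hsurj x
    exact ⟨⟨γ, by change liftProj M Θ γ ∈ H; rw [hγ]; exact x.2⟩, Subtype.ext hγ⟩
  have hψ' : IsIrrCharacter (H.comap (liftProj M Θ)) (fun y => ψ (f y)) :=
    isIrrCharacter_comp_surjective f hfs hψ
  have hχπ : IsIrrCharacter (liftGroup M Θ) (fun γ => χ (liftProj M Θ γ)) :=
    isIrrCharacter_comp_surjective (liftProj M Θ) hsurj hχ
  have hindψ' : indFun (H.comap (liftProj M Θ)) (fun y => ψ (f y)) =
      fun γ => χ (liftProj M Θ γ) := by
    funext γ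
    rw [← hind]
    exact indFun_comap_surjective (liftProj M Θ) hsurj H ψ γ
  have hfrob := Cfsg.Agent.Lib.Helper04.frobenius_reciprocity (H.comap (liftProj M Θ))
    (fun y => ψ (f y)) (fun γ => χ (liftProj M Θ γ))
    (char_isClassFunction (isCharacter_of_irr hχπ))
  rw [hindψ', irr_inner_self (⟨_, hχπ⟩ : IrrCharacter (liftGroup M Θ))] at hfrob
  have hprod : (fun h : H.comap (liftProj M Θ) => χ (liftProj M Θ (h : liftGroup M Θ))) =
      (fun y : H.comap (liftProj M Θ) => (β : liftGroup M Θ ⧸ liftN M Θ → ℂ)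
        (QuotientGroup.mk (y : liftGroup M Θ))) *
      (fun y : H.comap (liftProj M Θ) => (liftRep M Θ).character (y : liftGroup M Θ)) := by
    funext y
    exact hβ y
  rw [hprod] at hfrob
  have hin1 : classInner ((fun y : H.comap (liftProj M Θ) =>
      (β : liftGroup M Θ ⧸ liftN M Θ → ℂ) (QuotientGroup.mk (y : liftGroup M Θ))) *
      (fun y : H.comap (liftProj M Θ) => (liftRep M Θ).character (y : liftGroup M Θ)))
      (fun y => ψ (f y)) = 1 := by
    rw [← classInner_conj_symm, ← hfrob]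
    simp
  rw [classInner_mul_left] at hin1
  have hin2 : classInner ((fun y : H.comap (liftProj M Θ) =>
      conj ((liftRep M Θ).character (y : liftGroup M Θ))) * (fun y => ψ (f y)))
      (fun y : H.comap (liftProj M Θ) => (β : liftGroup M Θ ⧸ liftN M Θ → ℂ)
        (QuotientGroup.mk (y : liftGroup M Θ))) = ((1 : ℕ) : ℂ) := by
    rw [← classInner_conj_symm, hin1]
    simp
  have hchar : IsCharacter (H.comap (liftProj M Θ)) ((fun y : H.comap (liftProj M Θ) =>
      conj ((liftRep M Θ).character (y : liftGroup M Θ))) * (fun y => ψ (f y))) :=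
    isCharacter_mul (isCharacter_conj hωc) (isCharacter_of_irr hψ')
  have hd1 : ((fun y : H.comap (liftProj M Θ) =>
      conj ((liftRep M Θ).character (y : liftGroup M Θ))) * (fun y => ψ (f y))) 1 =
      ((1 : ℕ) : ℂ) * (fun y : H.comap (liftProj M Θ) => (β : liftGroup M Θ ⧸ liftN M Θ → ℂ)
        (QuotientGroup.mk (y : liftGroup M Θ))) 1 := by
    simp only [Pi.mul_apply, map_one, Nat.cast_one, one_mul]
    have h1 : (liftRep M Θ).character ((1 : H.comap (liftProj M Θ)) : liftGroup M Θ) =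
        (d : ℂ) := by
      change (liftRep M Θ).character 1 = (d : ℂ)
      rw [Representation.char_one, Module.finrank_fin_fun]
    rw [h1, Complex.conj_natCast]
    change (d : ℂ) * ψ 1 = (β : liftGroup M Θ ⧸ liftN M Θ → ℂ) 1
    exact hdeg.symm
  have := eq_smul_of_inner_of_degree 1 hchar hξ hin2 hd1
  rw [Nat.cast_one, one_smul] at this
  exact this.symm

/-- If the character of the lifting group restricts homogeneously to the preimage of `N`, the
subgroup `L ≤ M ⊓ N` acts by scalars in `Θ` and the index of `L` in `N` is coprime to the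
degree, then `N` centralizes `M` in `Θ`. -/
theorem lift_conj_eq
    (hinv : ∀ (t : T) (n : M), Θ.character (MulAut.conjNormal t n) = Θ.character n)
    (N L : Subgroup T) (hLM : L ≤ M)
    (hLs : ∀ (l : T) (hl : l ∈ L), ∃ c : ℂ,
      Θ ⟨l, hLM hl⟩ = c • (LinearMap.id : (Fin d → ℂ) →ₗ[ℂ] (Fin d → ℂ)))
    {ν : (N.comap (liftProj M Θ)) → ℂ} (hν : IsIrrCharacter (N.comap (liftProj M Θ)) ν) (c : ℕ)
    (hc : (fun n : N.comap (liftProj M Θ) => (liftRep M Θ).character (n : liftGroup M Θ)) =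
      (c : ℂ) • ν)
    (hcop : ∀ s : ℕ, s ∣ d → s ∣ L.relIndex N → s = 1) :
    ∀ n ∈ N, ∀ k : M, Θ (MulAut.conjNormal n k) = Θ k := by
  classical
  have hsurj := liftProj_surjective M Θ hinv
  have hirr : (liftRep M Θ).IsIrreducible := liftRep_irreducible M Θ
  have hd : 0 < finrank ℂ (Fin d → ℂ) := Cfsg.Agent.Lib.Helper84.irr_finrank_pos Θ
  have hscal := scalar_of_homog_coprime (liftRep M Θ) hd.ne' (N.comap (liftProj M Θ))
    (L.comap (liftProj M Θ))
    (by
      intro z hz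
      have hz' : liftProj M Θ z ∈ L := hz
      obtain ⟨w, hw1, hw⟩ := exists_liftEmb_mul M Θ z (hLM hz')
      have hcen := mem_center_of_liftProj_eq_one M Θ w hw1
      have hcomm : ∀ g : liftGroup M Θ,
          liftRep M Θ w ∘ₗ liftRep M Θ g = liftRep M Θ g ∘ₗ liftRep M Θ w := by
        intro g
        rw [← Module.End.mul_eq_comp, ← Module.End.mul_eq_comp, ← map_mul, ← map_mul]
        congr 1
        exact (Subgroup.mem_center_iff.mp hcen g).symm
      have hsc := Cfsg.Agent.Lib.Helper84.schur_scalar (liftRep M Θ) (liftRep M Θ w) hcomm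
      obtain ⟨c₁, hc₁⟩ := hLs (liftProj M Θ z) hz'
      refine ⟨c₁ * (LinearMap.trace ℂ _ (liftRep M Θ w) / (finrank ℂ (Fin d → ℂ) : ℂ)), ?_⟩
      rw [hw, map_mul, liftRep_liftEmb, hc₁]
      conv_lhs => rw [hsc]
      ext v
      simp [mul_smul]
      ring)
    hν c hc
    (by
      intro s hs1 hs2
      rw [Module.finrank_fin_fun] at hs1
      rw [Subgroup.relIndex_comap, Subgroup.map_comap_eq_self_of_surjective hsurj] at hs2
      exact hcop s hs1 hs2)
  intro n hn k
  obtain ⟨n', rfl⟩ := hsurj n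
  obtain ⟨c', hc'⟩ := hscal n' hn
  have h1 : liftRep M Θ n' * Θ k = Θ k * liftRep M Θ n' := by
    rw [hc']
    ext v
    simp
  have h2 := conj_liftEmb M Θ n' k
  calc Θ (MulAut.conjNormal (liftProj M Θ n') k)
      = liftRep M Θ (liftEmb M Θ (MulAut.conjNormal (liftProj M Θ n') k)) :=
        (liftRep_liftEmb M Θ _).symm
    _ = liftRep M Θ (n' * liftEmb M Θ k * n'⁻¹) := by rw [h2]; rfl
    _ = liftRep M Θ n' * liftRep M Θ (liftEmb M Θ k) * liftRep M Θ n'⁻¹ := by
        rw [map_mul, map_mul]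
    _ = Θ k * liftRep M Θ n' * liftRep M Θ n'⁻¹ := by rw [liftRep_liftEmb, h1]
    _ = Θ k := by rw [mul_assoc, ← map_mul, mul_inv_cancel, map_one, mul_one]

end LiftSupp

end Cfsg.Agent.Lib.Helper83
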