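import Mathlib

set_option autoImplicit false

/-!
# S4460 (three character degrees): the GROUP LEMMA

`X` finite solvable, not nilpotent, `X'` contained in every nontrivial normal subgroup.
Then `X'` is abelian, every `x ∉ X'` acts fixed point freely on `X'`, and `|X : X'|` is prime to `|X'|`
(`X` is a Frobenius group with kernel `X'` and abelian complement).
Elementary route: no Sylow theory, no Schur-Zassenhaus.
-/

namespace Cfsg.Agent.Lib.Helper83.K4460

variable {X : Type*} [Group X]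

/-- commutators lie in the commutator subgroup -/
theorem g_comm_mem (x y : X) : x * y * x⁻¹ * y⁻¹ ∈ commutator X := by
  rw [commutator_def]
  exact Subgroup.commutator_mem_commutator (Subgroup.mem_top x) (Subgroup.mem_top y)

/-- conjugates of elements of `X'` lie in `X'` -/
theorem g_conj_mem (x : X) {v : X} (hv : v ∈ commutator X) : x * v * x⁻¹ ∈ commutator X :=
  (inferInstance : (commutator X).Normal).conj_mem v hv x

/-- `X'` is abelian when `X` is solvable and `X'` lies in every nontrivial normal subgroup -/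
theorem g_abelian [Group.IsSolvable X]
    (hV : ∀ N : Subgroup X, N.Normal → N ≠ ⊥ → commutator X ≤ N) :
    ∀ a ∈ commutator X, ∀ b ∈ commutator X, a * b = b * a := by
  have hN : (⁅commutator X, commutator X⁆ : Subgroup X).Normal := inferInstance
  by_cases hb : (⁅commutator X, commutator X⁆ : Subgroup X) = ⊥
  · rw [Subgroup.commutator_eq_bot_iff_le_centralizer] at hb
    intro a ha b hb'
    have := hb ha
    exact (Subgroup.mem_centralizer_iff.mp this b hb').symm
  · exfalso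
    have hle := hV _ hN hb
    have heq : (⁅commutator X, commutator X⁆ : Subgroup X) = commutator X :=
      le_antisymm (Subgroup.commutator_le_left _ _) hle
    have hall : ∀ n : ℕ, derivedSeries X (n + 1) = commutator X := by
      intro n
      induction n with
      | zero => exact derivedSeries_one X
      | succ n ih => rw [derivedSeries_succ, ih, heq]
    obtain ⟨n, hn⟩ := (Group.isSolvable_def X).mp inferInstance
    have h1 : commutator X = ⊥ := by
      have := hall n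
      rw [derivedSeries_succ, hn] at this
      rw [← this]; exact Subgroup.commutator_bot_left _
    apply hb; rw [h1]; exact Subgroup.commutator_bot_left _

/-- the centre is trivial -/
theorem g_center_eq_bot
    (hV : ∀ N : Subgroup X, N.Normal → N ≠ ⊥ → commutator X ≤ N)
    (hnil : ¬ Group.IsNilpotent X) : Subgroup.center X = ⊥ := by
  by_contra hne
  apply hnil
  have hle := hV _ inferInstance hne
  have hk : (Abelianization.of : X →* Abelianization X).ker ≤ Subgroup.center X := by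
    rw [Abelianization.ker_of]; exact hle
  exact Subgroup.isNilpotent_of_ker_le_center _ hk

/-- `X' ≠ ⊥` -/
theorem g_commutator_ne_bot (hnil : ¬ Group.IsNilpotent X) : commutator X ≠ ⊥ := by
  intro h
  apply hnil
  have hk : (Abelianization.of : X →* Abelianization X).ker ≤ Subgroup.center X := by
    rw [Abelianization.ker_of, h]; exact bot_le
  exact Subgroup.isNilpotent_of_ker_le_center _ hk

/-- an element not centralizing `X'` acts fixed point freely on it -/
theorem g_fpf_of_not_centralizing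
    (hV : ∀ N : Subgroup X, N.Normal → N ≠ ⊥ → commutator X ≤ N)
    (hab : ∀ a ∈ commutator X, ∀ b ∈ commutator X, a * b = b * a)
    (x v₁ : X) (hv₁ : v₁ ∈ commutator X) (hx : x * v₁ ≠ v₁ * x) :
    ∀ v ∈ commutator X, x * v = v * x → v = 1 := by
  let N : Subgroup X :=
    { carrier := {v | v ∈ commutator X ∧ x * v = v * x}
      mul_mem' := by
        rintro a b ⟨ha, hax⟩ ⟨hb, hbx⟩
        refine ⟨mul_mem ha hb, ?_⟩
        rw [← mul_assoc, hax, mul_assoc, hbx, mul_assoc]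
      one_mem' := ⟨one_mem _, by simp⟩
      inv_mem' := by
        rintro a ⟨ha, hax⟩
        refine ⟨inv_mem ha, ?_⟩
        calc x * a⁻¹ = a⁻¹ * (a * x) * a⁻¹ := by group
          _ = a⁻¹ * (x * a) * a⁻¹ := by rw [hax]
          _ = a⁻¹ * x := by group }
  have hNn : N.Normal := by
    constructor
    rintro v ⟨hvV, hvx⟩ g
    refine ⟨g_conj_mem g hvV, ?_⟩
    have hwV : g⁻¹ * x * g * x⁻¹ ∈ commutator X := by
      have := g_comm_mem g⁻¹ x
      rwa [inv_inv] at this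
    have hwv := hab _ hwV v hvV
    have e1 : x * g = g * (g⁻¹ * x * g * x⁻¹ * x) := by group
    calc x * (g * v * g⁻¹) = (x * g) * v * g⁻¹ := by group
      _ = g * (g⁻¹ * x * g * x⁻¹ * x) * v * g⁻¹ := by rw [← e1]
      _ = g * (g⁻¹ * x * g * x⁻¹) * (x * v) * g⁻¹ := by group
      _ = g * (g⁻¹ * x * g * x⁻¹) * (v * x) * g⁻¹ := by rw [hvx]
      _ = g * (g⁻¹ * x * g * x⁻¹ * v) * x * g⁻¹ := by group
      _ = g * (v * (g⁻¹ * x * g * x⁻¹)) * x * g⁻¹ := by rw [hwv]
      _ = g * v * g⁻¹ * x := by group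
  have hNbot : N = ⊥ := by
    by_contra hne
    have hle := hV N hNn hne
    exact hx (hle hv₁).2
  intro v hv hvx
  have : v ∈ N := ⟨hv, hvx⟩
  rw [hNbot] at this
  exact Subgroup.mem_bot.mp this

/-- the centralizer of `X'` is `X'` -/
theorem g_mem_of_centralizing [Finite X]
    (hab : ∀ a ∈ commutator X, ∀ b ∈ commutator X, a * b = b * a)
    (hZ : Subgroup.center X = ⊥)
    (y₀ : X) (hy₀ : ∀ v ∈ commutator X, y₀ * v = v * y₀ → v = 1)
    (c : X) (hc : ∀ v ∈ commutator X, c * v = v * c) : c ∈ commutator X := by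
  let φ : commutator X → commutator X := fun v =>
    ⟨(v : X) * (y₀ * (v : X)⁻¹ * y₀⁻¹), mul_mem v.2 (g_conj_mem y₀ (inv_mem v.2))⟩
  have hφi : Function.Injective φ := by
    intro v w h
    have h' : (v : X) * (y₀ * (v : X)⁻¹ * y₀⁻¹) = (w : X) * (y₀ * (w : X)⁻¹ * y₀⁻¹) :=
      congrArg Subtype.val h
    have ht : (w : X)⁻¹ * v = y₀ * ((w : X)⁻¹ * v) * y₀⁻¹ := by
      calc (w : X)⁻¹ * v = (w : X)⁻¹ * ((v : X) * (y₀ * (v : X)⁻¹ * y₀⁻¹)) * (y₀ * v * y₀⁻¹) := by
            group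
        _ = (w : X)⁻¹ * ((w : X) * (y₀ * (w : X)⁻¹ * y₀⁻¹)) * (y₀ * v * y₀⁻¹) := by rw [h']
        _ = y₀ * ((w : X)⁻¹ * v) * y₀⁻¹ := by group
    have ht2 : y₀ * ((w : X)⁻¹ * v) = ((w : X)⁻¹ * v) * y₀ := by
      calc y₀ * ((w : X)⁻¹ * v) = (y₀ * ((w : X)⁻¹ * v) * y₀⁻¹) * y₀ := by group
        _ = ((w : X)⁻¹ * v) * y₀ := by rw [← ht]
    have h1 := hy₀ _ (mul_mem (inv_mem w.2) v.2) ht2
    exact Subtype.ext (inv_mul_eq_one.mp h1).symm
  have hφs : Function.Surjective φ := Finite.surjective_of_injective hφi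
  have haV : c⁻¹ * y₀ * c * y₀⁻¹ ∈ commutator X := by
    have := g_comm_mem c⁻¹ y₀
    rwa [inv_inv] at this
  obtain ⟨v₀, hv₀⟩ := hφs ⟨_, haV⟩
  have hv₀' : (v₀ : X) * (y₀ * (v₀ : X)⁻¹ * y₀⁻¹) = c⁻¹ * y₀ * c * y₀⁻¹ := congrArg Subtype.val hv₀
  have hzy : y₀ * (c * v₀) = (c * v₀) * y₀ := by
    calc y₀ * (c * v₀) = c * (c⁻¹ * y₀ * c * y₀⁻¹) * (y₀ * v₀ * y₀⁻¹) * y₀ := by group
      _ = c * ((v₀ : X) * (y₀ * (v₀ : X)⁻¹ * y₀⁻¹)) * (y₀ * v₀ * y₀⁻¹) * y₀ := by rw [hv₀']
      _ = (c * v₀) * y₀ := by group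
  have hzV : ∀ k ∈ commutator X, (c * v₀) * k = k * (c * v₀) := by
    intro k hk
    rw [mul_assoc, hab _ v₀.2 k hk, ← mul_assoc, hc k hk, mul_assoc]
  have hcen : c * (v₀ : X) ∈ Subgroup.center X := by
    rw [Subgroup.mem_center_iff]
    intro x
    have huV : (c * (v₀ : X))⁻¹ * x * (c * v₀) * x⁻¹ ∈ commutator X := by
      have := g_comm_mem (c * (v₀ : X))⁻¹ x
      rwa [inv_inv] at this
    have hkV : y₀ * x * y₀⁻¹ * x⁻¹ ∈ commutator X := g_comm_mem y₀ x
    have h1 : MulAut.conj y₀ (c * (v₀ : X)) = c * v₀ := by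
      rw [MulAut.conj_apply, hzy]; group
    have h2 : MulAut.conj y₀ x = (y₀ * x * y₀⁻¹ * x⁻¹) * x := by
      rw [MulAut.conj_apply]; group
    have hzk : (c * (v₀ : X))⁻¹ * (y₀ * x * y₀⁻¹ * x⁻¹) =
        (y₀ * x * y₀⁻¹ * x⁻¹) * (c * (v₀ : X))⁻¹ := by
      have := hzV _ hkV
      calc (c * (v₀ : X))⁻¹ * (y₀ * x * y₀⁻¹ * x⁻¹)
          = (c * (v₀ : X))⁻¹ * ((y₀ * x * y₀⁻¹ * x⁻¹) * (c * v₀)) * (c * (v₀ : X))⁻¹ := by group
        _ = (c * (v₀ : X))⁻¹ * ((c * v₀) * (y₀ * x * y₀⁻¹ * x⁻¹)) * (c * (v₀ : X))⁻¹ := by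
            rw [this]
        _ = (y₀ * x * y₀⁻¹ * x⁻¹) * (c * (v₀ : X))⁻¹ := by group
    have h3 : MulAut.conj y₀ ((c * (v₀ : X))⁻¹ * x * (c * v₀) * x⁻¹) =
        (y₀ * x * y₀⁻¹ * x⁻¹) * ((c * (v₀ : X))⁻¹ * x * (c * v₀) * x⁻¹) *
          (y₀ * x * y₀⁻¹ * x⁻¹)⁻¹ := by
      rw [map_mul, map_mul, map_mul, map_inv, map_inv, h1, h2]
      calc (c * (v₀ : X))⁻¹ * ((y₀ * x * y₀⁻¹ * x⁻¹) * x) * (c * v₀) * ((y₀ * x * y₀⁻¹ * x⁻¹) * x)⁻¹
          = ((c * (v₀ : X))⁻¹ * (y₀ * x * y₀⁻¹ * x⁻¹)) * x * (c * v₀) * x⁻¹ *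
              (y₀ * x * y₀⁻¹ * x⁻¹)⁻¹ := by group
        _ = ((y₀ * x * y₀⁻¹ * x⁻¹) * (c * (v₀ : X))⁻¹) * x * (c * v₀) * x⁻¹ *
              (y₀ * x * y₀⁻¹ * x⁻¹)⁻¹ := by rw [hzk]
        _ = _ := by group
    have h4 : MulAut.conj y₀ ((c * (v₀ : X))⁻¹ * x * (c * v₀) * x⁻¹) =
        (c * (v₀ : X))⁻¹ * x * (c * v₀) * x⁻¹ := by
      rw [h3, hab _ hkV _ huV]; group
    have h5 : y₀ * ((c * (v₀ : X))⁻¹ * x * (c * v₀) * x⁻¹) =
        ((c * (v₀ : X))⁻¹ * x * (c * v₀) * x⁻¹) * y₀ := by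
      rw [MulAut.conj_apply] at h4
      calc y₀ * ((c * (v₀ : X))⁻¹ * x * (c * v₀) * x⁻¹)
          = (y₀ * ((c * (v₀ : X))⁻¹ * x * (c * v₀) * x⁻¹) * y₀⁻¹) * y₀ := by group
        _ = _ := by rw [h4]
    have h6 := hy₀ _ huV h5
    calc x * (c * v₀) = (c * v₀) * ((c * (v₀ : X))⁻¹ * x * (c * v₀) * x⁻¹) * x := by group
      _ = (c * v₀) * x := by rw [h6, mul_one]
  rw [hZ, Subgroup.mem_bot] at hcen
  have : c = (v₀ : X)⁻¹ := eq_inv_of_mul_eq_one_left hcen
  rw [this]; exact inv_mem v₀.2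

/-- **GROUP LEMMA** for S4460: `X` finite solvable, not nilpotent, `X'` in every nontrivial normal subgroup:
`X'` abelian, elements outside `X'` act fixed point freely on `X'`, `|X : X'|` prime to `|X'|`. -/
theorem frobenius_of_commutator_min [Finite X] [Group.IsSolvable X]
    (hV : ∀ N : Subgroup X, N.Normal → N ≠ ⊥ → commutator X ≤ N)
    (hnil : ¬ Group.IsNilpotent X) :
    (∀ a ∈ commutator X, ∀ b ∈ commutator X, a * b = b * a) ∧
    (∀ x : X, x ∉ commutator X → ∀ v ∈ commutator X, x * v = v * x → v = 1) ∧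
    ((commutator X).index).Coprime (Nat.card (commutator X)) := by
  classical
  have hab := g_abelian hV
  have hZ := g_center_eq_bot hV hnil
  have hVne := g_commutator_ne_bot hnil
  -- an element not centralizing `X'`
  have hex : ∃ y₀ v₁ : X, v₁ ∈ commutator X ∧ y₀ * v₁ ≠ v₁ * y₀ := by
    by_contra hcon
    simp only [not_exists, not_and, not_not] at hcon
    apply hVne
    rw [eq_bot_iff, ← hZ]
    intro v hv
    rw [Subgroup.mem_center_iff]
    intro g
    exact hcon g v hv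
  obtain ⟨y₀, v₁, hv₁, hy₀v₁⟩ := hex
  have hy₀ := g_fpf_of_not_centralizing hV hab y₀ v₁ hv₁ hy₀v₁
  have hfpf : ∀ x : X, x ∉ commutator X → ∀ v ∈ commutator X, x * v = v * x → v = 1 := by
    intro x hx
    have hex2 : ∃ v₂ : X, v₂ ∈ commutator X ∧ x * v₂ ≠ v₂ * x := by
      by_contra hcon
      simp only [not_exists, not_and, not_not] at hcon
      exact hx (g_mem_of_centralizing hab hZ y₀ hy₀ x hcon)
    obtain ⟨v₂, hv₂, hxv₂⟩ := hex2
    exact g_fpf_of_not_centralizing hV hab x v₂ hv₂ hxv₂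
  refine ⟨hab, hfpf, ?_⟩
  apply Nat.coprime_of_dvd
  intro s hs hsi hsV
  have : Fact s.Prime := ⟨hs⟩
  have hsi' : s ∣ Nat.card (X ⧸ commutator X) := hsi
  obtain ⟨xb, hxb⟩ := exists_prime_orderOf_dvd_card' s hsi'
  obtain ⟨x, rfl⟩ := QuotientGroup.mk_surjective xb
  have hxV : x ∉ commutator X := by
    intro h
    have h1 : (QuotientGroup.mk x : X ⧸ commutator X) = 1 := (QuotientGroup.eq_one_iff x).mpr h
    rw [h1, orderOf_one] at hxb
    exact hs.one_lt.ne hxb
  have hxs : x ^ s ∈ commutator X := by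
    have h1 : (QuotientGroup.mk x : X ⧸ commutator X) ^ s = 1 := by
      rw [← hxb]; exact pow_orderOf_eq_one _
    rw [← QuotientGroup.mk_pow] at h1
    exact (QuotientGroup.eq_one_iff _).mp h1
  have : Fintype (commutator X) := Fintype.ofFinite _
  let σ : Equiv.Perm (commutator X) := MulAut.toPerm _ (MulAut.conjNormal x)
  have hσ : σ ^ s ^ 1 = 1 := by
    rw [pow_one]
    show (MulAut.toPerm _ (MulAut.conjNormal x)) ^ s = 1
    rw [← map_pow, ← map_pow]
    ext v
    show ((MulAut.conjNormal (x ^ s) v : commutator X) : X) = v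
    rw [MulAut.conjNormal_apply]
    rw [hab _ hxs _ v.2]; group
  have hσ1 : σ 1 = 1 := by
    show MulAut.conjNormal x (1 : commutator X) = 1
    exact map_one _
  have hsV' : s ∣ Fintype.card (commutator X) := by
    rwa [Nat.card_eq_fintype_card] at hsV
  obtain ⟨b, hb, hb1⟩ := Equiv.Perm.exists_fixed_point_of_prime' hsV' hσ hσ1
  apply hb1
  have hb' : x * (b : X) * x⁻¹ = b := by
    have := congrArg Subtype.val hb
    rwa [show ((σ b : commutator X) : X) = x * b * x⁻¹ from MulAut.conjNormal_apply x b] at this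
  have hb2 : x * (b : X) = b * x := by
    calc x * (b : X) = (x * b * x⁻¹) * x := by group
      _ = b * x := by rw [hb']
  exact Subtype.ext (hfpf x hxV b b.2 hb2)

end Cfsg.Agent.Lib.Helper83.K4460
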