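import Mathlib
import Cfsg.Agent.Lib.Helper83.K4460Grp

set_option autoImplicit false

/-!
# K-CD3 leaf GRP (S4460, keystone 446025): `frobenius_structure`
-/

namespace Cfsg.Agent.Lib.Helper83.CD3

open Cfsg.Agent.Lib.Helper83.K4460

universe u

/-- `X' ≠ ⊥` for nonabelian `X` -/
theorem grp_commutator_ne_bot {X : Type u} [Group X] (hnab : ∃ a b : X, a * b ≠ b * a) :
    commutator X ≠ ⊥ := by
  intro h
  obtain ⟨a, b, hab⟩ := hnab
  apply hab
  have h1 : a * b * a⁻¹ * b⁻¹ ∈ commutator X := g_comm_mem a b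
  rw [h, Subgroup.mem_bot] at h1
  calc a * b = (a * b * a⁻¹ * b⁻¹) * (b * a) := by group
    _ = b * a := by rw [h1, one_mul]

/-- `X` is not nilpotent -/
theorem grp_not_nilpotent {X : Type u} [Group X] [Finite X]
    (hnab : ∃ a b : X, a * b ≠ b * a)
    (hmin : ∀ L : Subgroup X, L.Normal → L ≠ ⊥ → commutator X ≤ L)
    (hnp : ∀ p : ℕ, p.Prime → ¬ IsPGroup p X) : ¬ Group.IsNilpotent X := by
  intro hnil
  have hVne := grp_commutator_ne_bot hnab
  have hsyl : ∀ (p : ℕ) (_hp : Fact p.Prime) (P : Sylow p X), (P : Subgroup X).Normal :=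
    (Group.isNilpotent_of_finite_tfae (G := X)).out 0 3 rfl rfl |>.mp hnil
  have hcard : Nat.card X ≠ 1 := by
    intro h1
    have : Subsingleton X := (Nat.card_eq_one_iff_unique.mp h1).1
    obtain ⟨a, b, hab⟩ := hnab
    exact hab (Subsingleton.elim _ _)
  have hpos : Nat.card X ≠ 0 := Nat.card_pos.ne'
  set p := (Nat.card X).minFac with hp
  have hpp : p.Prime := Nat.minFac_prime hcard
  have : Fact p.Prime := ⟨hpp⟩
  have hpd : p ∣ Nat.card X := Nat.minFac_dvd _
  have P : Sylow p X := default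
  have hPle : commutator X ≤ (P : Subgroup X) :=
    hmin _ (hsyl p inferInstance P) (P.ne_bot_of_dvd_card hpd)
  apply hnp p hpp
  have hpow : Nat.card X = p ^ (Nat.card X).primeFactorsList.length := by
    apply Nat.eq_prime_pow_of_unique_prime_dvd hpos
    intro s hs hsd
    by_contra hne
    have : Fact s.Prime := ⟨hs⟩
    have S : Sylow s X := default
    have hSle : commutator X ≤ (S : Subgroup X) :=
      hmin _ (hsyl s inferInstance S) (S.ne_bot_of_dvd_card hsd)
    have hdis : Disjoint (P : Subgroup X) (S : Subgroup X) :=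
      IsPGroup.disjoint_of_coprime P.2 S.2
        ((Nat.coprime_primes hpp hs).mpr (fun h => hne h.symm))
    apply hVne
    rw [eq_bot_iff]
    intro v hv
    have := hdis.le_bot (Subgroup.mem_inf.mpr ⟨hPle hv, hSle hv⟩)
    exact this
  exact IsPGroup.of_card hpow

/-- 446025 K-CD3-GRP: GROUP LEMMA (Isaacs 12.3(b), pure group theory, Mathlib only). -/
theorem frobenius_structure {X : Type u} [Group X] [Finite X] (hsolv : Group.IsSolvable X)
    (hnab : ∃ a b : X, a * b ≠ b * a)
    (hmin : ∀ L : Subgroup X, L.Normal → L ≠ ⊥ → commutator X ≤ L)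
    (hnp : ∀ p : ℕ, p.Prime → ¬ IsPGroup p X) :
    ∃ (r : ℕ) (Q : Subgroup X), r.Prime ∧ IsPGroup r (commutator X) ∧
      (∀ a ∈ commutator X, ∀ b ∈ commutator X, a * b = b * a) ∧
      (∀ a ∈ Q, ∀ b ∈ Q, a * b = b * a) ∧
      commutator X ⊓ Q = ⊥ ∧ commutator X ⊔ Q = ⊤ ∧ (Nat.card Q).Coprime r ∧
      (∀ q ∈ Q, q ≠ 1 → ∀ v ∈ commutator X, q * v = v * q → v = 1) ∧
      (∀ g : X, g ∉ commutator X → ∀ v ∈ commutator X, g * v = v * g → v = 1) ∧
      (commutator X).index = Nat.card Q ∧ 1 < Nat.card Q ∧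
      ∃ a : ℕ, 0 < a ∧ Nat.card (commutator X) = r ^ a := by
  have hnil := grp_not_nilpotent hnab hmin hnp
  have hVne := grp_commutator_ne_bot hnab
  obtain ⟨hab, hfpf, hcop⟩ := frobenius_of_commutator_min hmin hnil
  -- the prime `r`
  have hcardV : Nat.card (commutator X) ≠ 1 := by
    intro h1
    exact hVne ((Subgroup.card_eq_one).mp h1)
  set r := (Nat.card (commutator X)).minFac with hr
  have hrp : r.Prime := Nat.minFac_prime hcardV
  have : Fact r.Prime := ⟨hrp⟩
  have hrd : r ∣ Nat.card (commutator X) := Nat.minFac_dvd _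
  -- `Ω = {v ∈ X' | v^r = 1}` is a nontrivial normal subgroup
  let Ω : Subgroup X :=
    { carrier := {v | v ∈ commutator X ∧ v ^ r = 1}
      mul_mem' := by
        rintro a b ⟨ha, har⟩ ⟨hb, hbr⟩
        refine ⟨mul_mem ha hb, ?_⟩
        rw [(show Commute a b from hab a ha b hb).mul_pow, har, hbr, one_mul]
      one_mem' := ⟨one_mem _, one_pow _⟩
      inv_mem' := by
        rintro a ⟨ha, har⟩
        exact ⟨inv_mem ha, by rw [inv_pow, har, inv_one]⟩ }
  have hΩn : Ω.Normal := by
    constructor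
    rintro v ⟨hv, hvr⟩ g
    refine ⟨g_conj_mem g hv, ?_⟩
    rw [conj_pow, hvr, mul_one, mul_inv_cancel]
  have hΩne : Ω ≠ ⊥ := by
    obtain ⟨v, hv⟩ := exists_prime_orderOf_dvd_card' r hrd
    intro hbot
    have hvΩ : (v : X) ∈ Ω := by
      refine ⟨v.2, ?_⟩
      have : v ^ r = 1 := by rw [← hv]; exact pow_orderOf_eq_one v
      have := congrArg Subtype.val this
      simpa using this
    rw [hbot, Subgroup.mem_bot] at hvΩ
    have hv1 : v = 1 := Subtype.ext hvΩ
    rw [hv1, orderOf_one] at hv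
    exact hrp.one_lt.ne hv
  have hVΩ := hmin Ω hΩn hΩne
  have hpg : IsPGroup r (commutator X) := by
    intro v
    refine ⟨1, ?_⟩
    rw [pow_one]
    exact Subtype.ext (by simpa using (hVΩ v.2).2)
  obtain ⟨a, ha⟩ := IsPGroup.iff_card.mp hpg
  have ha0 : 0 < a := by
    rcases Nat.eq_zero_or_pos a with h | h
    · rw [h, pow_zero] at ha; exact absurd ha hcardV
    · exact h
  -- the complement
  obtain ⟨Q, hQ⟩ := Subgroup.exists_right_complement'_of_coprime
    (N := commutator X) hcop.symm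
  have hinf : commutator X ⊓ Q = ⊥ := hQ.disjoint.eq_bot
  have hsup : commutator X ⊔ Q = ⊤ := hQ.sup_eq_top
  have hidx : (commutator X).index = Nat.card Q := hQ.symm.index_eq_card
  have hQab : ∀ a ∈ Q, ∀ b ∈ Q, a * b = b * a := by
    intro a ha b hb
    have h1 : a * b * a⁻¹ * b⁻¹ ∈ commutator X ⊓ Q :=
      Subgroup.mem_inf.mpr ⟨g_comm_mem a b,
        Q.mul_mem (Q.mul_mem (Q.mul_mem ha hb) (Q.inv_mem ha)) (Q.inv_mem hb)⟩
    rw [hinf, Subgroup.mem_bot] at h1
    calc a * b = (a * b * a⁻¹ * b⁻¹) * (b * a) := by group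
      _ = b * a := by rw [h1, one_mul]
  have hQr : (Nat.card Q).Coprime r := by
    rw [← hidx]
    exact Nat.Coprime.coprime_dvd_right hrd hcop
  have hQ1 : 1 < Nat.card Q := by
    rw [← hidx]
    have hpos : 0 < (commutator X).index := Nat.pos_of_ne_zero Subgroup.index_ne_zero_of_finite
    rcases Nat.lt_or_ge 1 (commutator X).index with h | h
    · exact h
    · exfalso
      have h1 : (commutator X).index = 1 := by omega
      have htop : commutator X = ⊤ := Subgroup.index_eq_one.mp h1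
      apply hnp r hrp
      have hc : Nat.card X = r ^ a := by
        rw [← ha, ← Subgroup.card_mul_index (commutator X), h1, mul_one]
      exact IsPGroup.of_card hc
  refine ⟨r, Q, hrp, hpg, hab, hQab, hinf, hsup, hQr, ?_, hfpf, hidx, hQ1, a, ha0, ha⟩
  intro q hq hq1 v hv hqv
  apply hfpf q _ v hv hqv
  intro hqV
  apply hq1
  have : q ∈ commutator X ⊓ Q := Subgroup.mem_inf.mpr ⟨hqV, hq⟩
  rwa [hinf, Subgroup.mem_bot] at this

end Cfsg.Agent.Lib.Helper83.CD3
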