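import Mathlib
import Cfsg.Prelude.Def_Blocks
import Cfsg.Agent.Lib.Helper01.CD3Defs
import Cfsg.Agent.Lib.Helper83.Decompose
import Cfsg.Agent.Lib.Helper83.Linear
import Cfsg.Agent.Lib.Helper85.Clifford

set_option autoImplicit false
set_option linter.unusedSectionVars false

/-!
# K-CD3 leaf VAN (S4460, keystone 446029): `dvd_degree_of_twist_invariant`
-/

namespace Cfsg.Agent.Lib.Helper83.CD3

open Cfsg Cfsg.Agent.Lib.Helper01.CD3 Cfsg.Agent.Lib.Helper83
open scoped ComplexConjugate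

universe u

section TwelveFour

variable {G : Type u} [Group G] [Finite G] (K N : Subgroup G) [hK : K.Normal] [hN : N.Normal]

/-- a linear character of `N`, trivial on `K`, not `1` at a given `x ∉ K` -/
theorem van_exists_sep (hNK : ∀ x ∈ N, ∀ y ∈ N, x * y * x⁻¹ * y⁻¹ ∈ K) (x : N)
    (hx : (x : G) ∉ K) :
    ∃ μ : N →* ℂˣ, (∀ k : N, (k : G) ∈ K → μ k = 1) ∧ μ x ≠ 1 := by
  classical
  have hcomm : ∀ a b : N ⧸ K.subgroupOf N, a * b = b * a := by
    intro a b
    induction a using QuotientGroup.induction_on with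
    | H a =>
      induction b using QuotientGroup.induction_on with
      | H b =>
        rw [← QuotientGroup.mk_mul, ← QuotientGroup.mk_mul, QuotientGroup.eq]
        rw [Subgroup.mem_subgroupOf]
        have := hNK (b⁻¹ : N) (b⁻¹ : N).2 (a⁻¹ : N) (a⁻¹ : N).2
        convert this using 1
        simp [mul_assoc]
  let _ : CommGroup (N ⧸ K.subgroupOf N) :=
    { (inferInstance : Group (N ⧸ K.subgroupOf N)) with mul_comm := hcomm }
  have hxne : (QuotientGroup.mk x : N ⧸ K.subgroupOf N) ≠ 1 := by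
    rw [Ne, QuotientGroup.eq_one_iff, Subgroup.mem_subgroupOf]; exact hx
  have hne : NeZero (Monoid.exponent (N ⧸ K.subgroupOf N)) :=
    ⟨Monoid.exponent_ne_zero_of_finite⟩
  have hne' : NeZero ((Monoid.exponent (N ⧸ K.subgroupOf N) : ℕ) : ℂ) := NeZero.charZero
  obtain ⟨φ, hφ⟩ :=
    CommGroup.exists_apply_ne_one_of_hasEnoughRootsOfUnity (N ⧸ K.subgroupOf N) ℂ hxne
  refine ⟨φ.comp (QuotientGroup.mk' (K.subgroupOf N)), ?_, hφ⟩
  intro k hk
  show φ (QuotientGroup.mk k) = 1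
  rw [(QuotientGroup.eq_one_iff k).mpr (Subgroup.mem_subgroupOf.mpr hk), map_one]

/-- `ψ` vanishes off `K` -/
theorem van_vanish (hNK : ∀ x ∈ N, ∀ y ∈ N, x * y * x⁻¹ * y⁻¹ ∈ K) {ψ : N → ℂ}
    (hinv : ∀ μ : N → ℂ, IsIrrCharacter N μ → μ 1 = 1 → (∀ k : N, (k : G) ∈ K → μ k = 1) →
      ψ * μ = ψ) (x : N) (hx : (x : G) ∉ K) : ψ x = 0 := by
  obtain ⟨μ, hμK, hμx⟩ := van_exists_sep K N hNK x hx
  have h1 := hinv (fun g => ((μ g : ℂˣ) : ℂ)) (isIrrCharacter_of_hom μ) (by simp)
    (fun k hk => by simp [hμK k hk])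
  have h2 := congrFun h1 x
  simp only [Pi.mul_apply] at h2
  have h3 : ψ x * (((μ x : ℂˣ) : ℂ) - 1) = 0 := by linear_combination h2
  rcases mul_eq_zero.mp h3 with h | h
  · exact h
  · exfalso
    apply hμx
    apply Units.ext
    rw [Units.val_one]
    exact sub_eq_zero.mp h

/-- the norm of the restriction to `K` -/
theorem van_norm [Fintype N] [Fintype (K.subgroupOf N)] {ψ : N → ℂ} (hψ : IsIrrCharacter N ψ)
    (hvan : ∀ x : N, (x : G) ∉ K → ψ x = 0) :
    classInner (fun k : K.subgroupOf N => ψ k) (fun k : K.subgroupOf N => ψ k) =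
      (K.relIndex N : ℂ) := by
  classical
  have h1 : classInner ψ ψ = 1 := by
    have := irr_orthonormal (⟨ψ, hψ⟩ : IrrCharacter N) ⟨ψ, hψ⟩
    simpa using this
  rw [classInner_def] at h1
  have hNne : (Nat.card N : ℂ) ≠ 0 := card_ne_zero_complex
  have hKne : (Nat.card (K.subgroupOf N) : ℂ) ≠ 0 := card_ne_zero_complex
  have hsumN : ∑ x : N, ψ x * conj (ψ x) = (Nat.card N : ℂ) := by
    field_simp at h1
    exact h1
  have hsum : ∑ k : K.subgroupOf N, ψ k * conj (ψ k) = ∑ x : N, ψ x * conj (ψ x) := by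
    rw [← Finset.sum_subtype (Finset.univ.filter (fun x : N => x ∈ K.subgroupOf N))
      (by intro x; simp) (fun x : N => ψ x * conj (ψ x))]
    rw [Finset.sum_filter]
    apply Finset.sum_congr rfl
    intro x _
    split_ifs with h
    · rfl
    · rw [hvan x (by rwa [Subgroup.mem_subgroupOf] at h), zero_mul]
  rw [classInner_def, hsum, hsumN]
  have hcard : (Nat.card N : ℂ) = (Nat.card (K.subgroupOf N) : ℂ) * (K.relIndex N : ℂ) := by
    rw [← Nat.cast_mul]
    congr 1
    exact (Subgroup.card_mul_index (K.subgroupOf N)).symm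
  rw [hcard]
  field_simp

/-- 446029 K-CD3-VAN: if every linear character of `N` trivial on `K` fixes `ψ` under multiplication,
then `ψ` vanishes off `K`, `[ψ_K, ψ_K] = |N : K|`, and Clifford for `K ⊴ N` gives `r ∣ ψ 1`. -/
theorem dvd_degree_of_twist_invariant (hKN : K ≤ N)
    (hNK : ∀ x ∈ N, ∀ y ∈ N, x * y * x⁻¹ * y⁻¹ ∈ K) {r : ℕ} (hr : r.Prime)
    (hidx : ∃ a : ℕ, 0 < a ∧ K.relIndex N = r ^ a)
    {ψ : N → ℂ} (hψ : IsIrrCharacter N ψ)
    (hinv : ∀ μ : N → ℂ, IsIrrCharacter N μ → μ 1 = 1 → (∀ k : N, (k : G) ∈ K → μ k = 1) → ψ * μ = ψ) :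
    r ∣ charDegree ψ := by
  classical
  have : Fintype N := Fintype.ofFinite _
  have : Fintype (K.subgroupOf N) := Fintype.ofFinite _
  have : Fintype (IrrCharacter (K.subgroupOf N)) := Fintype.ofFinite _
  have hK' : (K.subgroupOf N).Normal := inferInstance
  have hvan := van_vanish K N hNK hinv
  have hnorm := van_norm K N hψ hvan
  have hψc : IsCharacter N ψ := isCharacter_of_irr hψ
  have hresc : IsCharacter (K.subgroupOf N) (fun k : K.subgroupOf N => ψ k) :=
    isCharacter_restrict (K.subgroupOf N) hψc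
  have hψ1 : ψ 1 ≠ 0 := irr_degree_ne_zero (⟨ψ, hψ⟩ : IrrCharacter N)
  -- an irreducible constituent
  have hex : ∃ θ : IrrCharacter (K.subgroupOf N),
      classInner (fun k : K.subgroupOf N => ψ k) (θ : K.subgroupOf N → ℂ) ≠ 0 := by
    by_contra hcon
    simp only [not_exists, not_not] at hcon
    have h1 := classFunction_eq_sum_irr (char_isClassFunction hresc)
    have h2 : (fun k : K.subgroupOf N => ψ k) = 0 := by
      rw [h1]
      apply Finset.sum_eq_zero
      intro θ _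
      rw [hcon θ, zero_smul]
    have h3 := congrFun h2 1
    exact hψ1 h3
  obtain ⟨θ, hθ⟩ := hex
  obtain ⟨m, hm⟩ := classInner_char_nat hresc (IrrCharacter_isCharacter θ)
  have hcl := Cfsg.Agent.Lib.Helper85.clifford_finset hK' hψ θ.2 hθ
  rw [hm] at hcl
  set S : Finset (K.subgroupOf N → ℂ) :=
    Finset.univ.image (fun g : N => Cfsg.Agent.Lib.Helper85.conjFun hK' (θ : K.subgroupOf N → ℂ) g)
    with hS
  have hSirr : ∀ φ ∈ S, IsIrrCharacter (K.subgroupOf N) φ := by
    intro φ hφ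
    rw [hS, Finset.mem_image] at hφ
    obtain ⟨g, -, rfl⟩ := hφ
    exact Cfsg.Agent.Lib.Helper85.isIrrCharacter_conjFun hK' θ.2 g
  have hS1 : ∀ φ ∈ S, φ 1 = (θ : K.subgroupOf N → ℂ) 1 := by
    intro φ hφ
    rw [hS, Finset.mem_image] at hφ
    obtain ⟨g, -, rfl⟩ := hφ
    rw [Cfsg.Agent.Lib.Helper85.conjFun_apply]
    have h1 : (⟨g * ((1 : K.subgroupOf N) : N) * g⁻¹,
        hK'.conj_mem (1 : K.subgroupOf N) (1 : K.subgroupOf N).2 g⟩ : K.subgroupOf N) = 1 :=
      Subtype.ext (by simp)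
    rw [h1]
  -- norm computation
  have horth : ∀ φ ∈ S, ∀ φ' ∈ S, classInner φ φ' = if φ = φ' then 1 else 0 := by
    intro φ hφ φ' hφ'
    have := irr_orthonormal (⟨φ, hSirr φ hφ⟩ : IrrCharacter (K.subgroupOf N)) ⟨φ', hSirr φ' hφ'⟩
    simpa using this
  have hnorm2 : classInner (fun k : K.subgroupOf N => ψ k) (fun k : K.subgroupOf N => ψ k) =
      (m : ℂ) * (m : ℂ) * (S.card : ℂ) := by
    rw [hcl, classInner_smul_left, classInner_smul_right, classInner_sum_left]
    have : ∀ φ ∈ S, classInner φ (∑ φ' ∈ S, φ') = 1 := by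
      intro φ hφ
      rw [classInner_sum_right]
      rw [Finset.sum_congr rfl (fun φ' hφ' => horth φ hφ φ' hφ')]
      simp [hφ]
    rw [Finset.sum_congr rfl this]
    simp
    ring
  have hdeg : ψ 1 = (m : ℂ) * ((S.card : ℂ) * (θ : K.subgroupOf N → ℂ) 1) := by
    have h1 := congrFun hcl 1
    simp only [Pi.smul_apply, Finset.sum_apply, smul_eq_mul] at h1
    rw [Finset.sum_congr rfl hS1] at h1
    simp only [Finset.sum_const, nsmul_eq_mul] at h1
    exact h1
  obtain ⟨a, ha0, ha⟩ := hidx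
  have hnat1 : m * m * S.card = r ^ a := by
    apply Nat.cast_injective (R := ℂ)
    push_cast
    rw [← hnorm2, hnorm, ha]
    push_cast
    rfl
  have hnat2 : charDegree ψ = m * (S.card * charDegree (θ : K.subgroupOf N → ℂ)) := by
    apply Nat.cast_injective (R := ℂ)
    push_cast
    rw [charDegree_cast hψc, charDegree_cast (IrrCharacter_isCharacter θ)]
    exact hdeg
  have hrd : r ∣ m * m * S.card := by
    rw [hnat1]
    exact dvd_pow_self r ha0.ne'
  rw [hnat2]
  rcases (Nat.Prime.dvd_mul hr).mp hrd with h | h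
  · rcases (Nat.Prime.dvd_mul hr).mp h with h' | h'
    · exact Dvd.dvd.mul_right h' _
    · exact Dvd.dvd.mul_right h' _
  · exact Dvd.dvd.mul_left (Dvd.dvd.mul_right h _) _

end TwelveFour

end Cfsg.Agent.Lib.Helper83.CD3
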