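import Mathlib
import Cfsg.Agent.Lib.Helper83.IndRestrict
import Cfsg.Agent.Lib.Helper83.Abelian
import Cfsg.Agent.Lib.Helper85.Gallagher
import Cfsg.Agent.Lib.Helper85.CliffordCorr
import Cfsg.Agent.Lib.Helper85.CliffordAbelian
import Cfsg.Agent.Lib.Helper84.Gallagher
import Cfsg.Agent.Lib.Helper34.GenChar
import Cfsg.Agent.Lib.Helper04.IndFun
import Cfsg.Agent.Lib.Helper80.Monomial
import Cfsg.Agent.Lib.Helper21.LinearChar

/-!
# Abstract part of Dade's embedding theorem

The criterion that a group with a normal M-subgroup of prime index is an M-group, provided the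
invariant irreducible characters of the normal subgroup are induced from linear characters
that extend to a supplement.
-/

set_option autoImplicit false

namespace Cfsg.Agent.Lib.Helper83

open scoped ComplexConjugate
open Cfsg Cfsg.Agent.Lib.Helper80 Cfsg.Agent.Lib.Helper85

universe u
variable {G : Type u} [Group G]

/-- A subgroup between a normal subgroup of prime index and the group is one of the two. -/
theorem eq_or_eq_top_of_prime_index [Finite G] (N T : Subgroup G) (hp : N.index.Prime)
    (hNT : N ≤ T) : T = N ∨ T = ⊤ := by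
  have h := Subgroup.relIndex_mul_index hNT
  have hdvd : T.index ∣ N.index := Dvd.intro_left _ h
  rcases (Nat.dvd_prime hp).1 hdvd with h1 | h1
  · right
    exact Subgroup.index_eq_one.1 h1
  · left
    rw [h1] at h
    have h2 : N.relIndex T = 1 := by
      have hpos : 0 < N.index := hp.pos
      nlinarith
    exact le_antisymm (Subgroup.relIndex_eq_one.1 h2) hNT

/-- A homomorphism to the units of `ℂ`, as a class function. -/
theorem isClassFunction_unitHom {K : Type u} [Group K] (μ : K →* ℂˣ) :
    IsClassFunction K (fun k => ((μ k : ℂˣ) : ℂ)) := by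
  intro g h
  simp [mul_comm]

/-- **M-group criterion for a normal subgroup of prime index.** -/
theorem isMonomial_of_prime_index [Fintype G] (N : Subgroup G) [hN : N.Normal] [Fintype N]
    (hp : N.index.Prime)
    (hmono : ∀ θ : N → ℂ, IsIrrCharacter N θ → IsMonomialChar N θ)
    (hinv : ∀ θ : N → ℂ, IsIrrCharacter N θ → (∀ g : G, conjFun hN θ g = θ) →
      ∃ (K : Subgroup G) (μ : K →* ℂˣ), (∀ g : G, ∃ m ∈ N, ∃ k ∈ K, m * k = g) ∧
        indFun (K.subgroupOf N) (fun x : K.subgroupOf N => ((μ ⟨x.1.1, x.2⟩ : ℂˣ) : ℂ)) = θ)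
    {χ : G → ℂ} (hχ : IsIrrCharacter G χ) : IsMonomialChar G χ := by
  classical
  have hχc := isCharacter_of_irr hχ
  have hχN : IsCharacter N (fun n : N => χ n) := isCharacter_restrict N hχc
  have hχ1 : (fun n : N => χ n) 1 ≠ 0 := irr_degree_ne_zero (⟨χ, hχ⟩ : IrrCharacter G)
  obtain ⟨θ, hθ, hne⟩ := exists_irr_constituent hχN hχ1
  have hθcl := char_isClassFunction (isCharacter_of_irr hθ)
  have hNT : N ≤ conjStab hN θ := le_conjStab hN hθcl
  rcases eq_or_eq_top_of_prime_index N (conjStab hN θ) hp hNT with hT | hT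
  · -- the stabilizer is `N`: `χ` is induced from `N`
    obtain ⟨ψ, hψ, -, hχψ⟩ := exists_irr_conjStab hN hχ hθ hne
    generalize conjStab hN θ = T at ψ hψ hχψ hT
    subst hT
    rw [hχψ]
    exact isMonomialChar_induce T (hmono ψ hψ)
  · -- `θ` is invariant
    have hinvθ : ∀ g : G, conjFun hN θ g = θ := by
      intro g
      rw [← mem_conjStab, hT]
      trivial
    obtain ⟨K, μ, hsup, hind⟩ := hinv θ hθ hinvθ
    have : Fintype K := Fintype.ofFinite K
    have : Fintype (K.subgroupOf N) := Fintype.ofFinite _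
    set η : G → ℂ := indFun K (fun k => ((μ k : ℂˣ) : ℂ)) with hη
    have hηc : IsCharacter G η :=
      Cfsg.Agent.Lib.Helper34.isCharacter_indFun K (isCharacter_of_hom μ)
    have hηN : (fun n : N => η n) = θ := by
      rw [← hind]
      funext n
      exact indFun_restrict_of_supplement N K hsup _ (isClassFunction_unitHom μ) n
    have hηirr : IsIrrCharacter G η := isIrr_of_restrict_isIrr N hηc (by rw [hηN]; exact hθ)
    have hne' : classInner (fun h : N => χ h) (fun h : N => η h) ≠ 0 := by rw [hηN]; exact hne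
    obtain ⟨β, hβ⟩ := (gallagher N hηirr (by rw [hηN]; exact hθ)).2 χ hχ hne'
    -- `β` is linear
    have hcomm : ∀ a b : G ⧸ N, a * b = b * a := by
      have hcard : Nat.card (G ⧸ N) = N.index := rfl
      have : Fact (N.index.Prime) := ⟨hp⟩
      have hcyc : IsCyclic (G ⧸ N) := isCyclic_of_prime_card hcard
      intro a b
      exact (IsCyclic.commGroup (α := G ⧸ N)).mul_comm a b
    have hβ1 : (β : G ⧸ N → ℂ) 1 = 1 := irr_degree_one_of_comm hcomm β
    have hβc : IsCharacter (G ⧸ N) (β : G ⧸ N → ℂ) := IrrCharacter_isCharacter β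
    set βG : G → ℂ := fun g => (β : G ⧸ N → ℂ) (QuotientGroup.mk g) with hβG
    have hβGc : IsCharacter G βG := isCharacter_inflate N hβc
    have hβG1 : βG 1 = 1 := hβ1
    set ν : K →* ℂˣ := μ * (linUnitHom hβGc hβG1).comp K.subtype with hν
    refine ⟨K, ν, ?_⟩
    have h1 : (fun h : K => ((ν h : ℂˣ) : ℂ)) =
        (fun k : K => ((μ k : ℂˣ) : ℂ)) * fun k : K => βG k := by
      funext k
      simp [hν, linUnitHom_apply]
    rw [h1, Cfsg.Agent.Lib.Helper84.indFun_mul_restrict K _ (char_isClassFunction hβGc), hβ]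
    funext g
    simp only [Pi.mul_apply, hβG, hη]
    ring

end Cfsg.Agent.Lib.Helper83
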