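import Mathlib
import Cfsg.Agent.Lib.Helper83.Dade1
import Cfsg.Agent.S0188
import Cfsg.Agent.Lib.Helper83.Berger2

/-!
# Characters of a finite power of a finite group

Irreducible characters of `ι → D` are the tensor products of irreducible characters of `D`;
induction commutes with tensor products; uniqueness of the tensor decomposition.
-/

set_option autoImplicit false

namespace Cfsg.Agent.Lib.Helper83

open scoped ComplexConjugate
open Cfsg Cfsg.Agent.Lib.Helper80 Cfsg.Agent.Lib.Helper85

universe u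

section Pi

variable {D : Type u} [Group D]

/-- The group isomorphism `(Option α → D) ≃* D × (α → D)`. -/
def piOptionMulEquiv (α : Type u) (D : Type u) [Group D] : (Option α → D) ≃* D × (α → D) where
  toFun f := (f none, fun a => f (some a))
  invFun x := fun o => o.elim x.1 x.2
  left_inv f := by
    funext o
    cases o <;> rfl
  right_inv x := rfl
  map_mul' f g := rfl

/-- The irreducible characters of a finite power `ι → D` are tensor products. -/
theorem irr_pi_aux [Finite D] (ι : Type u) [Finite ι] :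
    ∀ (inst : Fintype ι) (θ : (ι → D) → ℂ), IsIrrCharacter (ι → D) θ →
      ∃ ψ : ι → D → ℂ, (∀ i, IsIrrCharacter D (ψ i)) ∧ θ = fun f => ∏ i, ψ i (f i) := by
  classical
  refine Finite.induction_empty_option (P := fun ι : Type u =>
    ∀ (inst : Fintype ι) (θ : (ι → D) → ℂ), IsIrrCharacter (ι → D) θ →
      ∃ ψ : ι → D → ℂ, (∀ i, IsIrrCharacter D (ψ i)) ∧ θ = fun f => ∏ i, ψ i (f i)) ?_ ?_ ?_ ι
  · -- transport along an equivalence
    intro α β e hα inst θ hθ
    let _ : Fintype α := Fintype.ofEquiv β e.symm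
    let E : (α → D) ≃* (β → D) := MulEquiv.arrowCongr e (MulEquiv.refl D)
    have hθ' := Cfsg.Agent.Lib.Helper84.isIrrCharacter_comp_mulEquiv E hθ
    obtain ⟨ψ, hψ, hθψ⟩ := hα _ _ hθ'
    refine ⟨fun b => ψ (e.symm b), fun b => hψ _, ?_⟩
    funext g
    have h1 := congrFun hθψ (E.symm g)
    simp only [MulEquiv.apply_symm_apply] at h1
    rw [h1]
    apply Fintype.prod_equiv e
    intro a
    simp [E, MulEquiv.arrowCongr]
  · -- empty index type
    intro inst θ hθ
    refine ⟨fun i => i.elim, fun i => i.elim, ?_⟩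
    funext f
    have hf : f = 1 := Subsingleton.elim _ _
    have hcomm : ∀ a b : (PEmpty.{u+1} → D), a * b = b * a := fun a b => Subsingleton.elim _ _
    have h1 := irr_degree_one_of_comm hcomm ⟨θ, hθ⟩
    rw [hf]
    simpa using h1
  · -- option step
    intro α instα hα inst θ hθ
    obtain rfl : inst = instFintypeOption := Subsingleton.elim _ _
    let E := piOptionMulEquiv α D
    have hθ' := Cfsg.Agent.Lib.Helper84.isIrrCharacter_comp_mulEquiv E.symm hθ
    obtain ⟨φ, ψ', hφ, hψ', hθφ⟩ := (Cfsg.Agent.S0188.result _).1 hθ'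
    obtain ⟨ψ, hψ, hψψ'⟩ := hα instα ψ' hψ'
    refine ⟨fun o => o.elim φ ψ, ?_, ?_⟩
    · intro o
      cases o with
      | none => exact hφ
      | some a => exact hψ a
    · funext f
      have h1 := congrFun hθφ (E f)
      simp only [MulEquiv.symm_apply_apply] at h1
      rw [h1, hψψ']
      have h2 : ∏ i : Option α, (i.elim φ ψ) (f i) = φ (f none) * ∏ a : α, ψ a (f (some a)) := by
        exact Fintype.prod_option (fun i : Option α => (i.elim φ ψ) (f i))
      rw [h2]
      rfl

theorem irr_pi [Finite D] {ι : Type u} [Fintype ι] {θ : (ι → D) → ℂ}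
    (hθ : IsIrrCharacter (ι → D) θ) :
    ∃ ψ : ι → D → ℂ, (∀ i, IsIrrCharacter D (ψ i)) ∧ θ = fun f => ∏ i, ψ i (f i) :=
  irr_pi_aux ι _ θ hθ

/-- The tensor product of homomorphisms `H i →* ℂˣ`, on the product subgroup. -/
def piUnitHom {ι : Type u} [Fintype ι] (H : ι → Subgroup D) (lam : ∀ i, H i →* ℂˣ) :
    Subgroup.pi Set.univ H →* ℂˣ where
  toFun x := ∏ i, lam i ⟨x.1 i, x.2 i (Set.mem_univ i)⟩
  map_one' := by
    apply Finset.prod_eq_one
    intro i _
    exact map_one (lam i)
  map_mul' x y := by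
    rw [← Finset.prod_mul_distrib]
    apply Finset.prod_congr rfl
    intro i _
    rw [← map_mul]
    rfl

theorem piUnitHom_apply {ι : Type u} [Fintype ι] (H : ι → Subgroup D) (lam : ∀ i, H i →* ℂˣ)
    (x : Subgroup.pi Set.univ H) :
    ((piUnitHom H lam x : ℂˣ) : ℂ) = ∏ i, ((lam i ⟨x.1 i, x.2 i (Set.mem_univ i)⟩ : ℂˣ) : ℂ) := by
  simp [piUnitHom]

theorem extendByZero_pi {ι : Type u} [Fintype ι] (H : ι → Subgroup D) (φ : ∀ i, H i → ℂ)
    (g : ι → D) :
    extendByZero (Subgroup.pi Set.univ H)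
      (fun x => ∏ i, φ i ⟨x.1 i, x.2 i (Set.mem_univ i)⟩) g
      = ∏ i, extendByZero (H i) (φ i) (g i) := by
  by_cases hg : g ∈ Subgroup.pi Set.univ H
  · rw [Cfsg.Agent.Lib.Helper04.extendByZero_apply_of_mem _ _ _ hg]
    apply Finset.prod_congr rfl
    intro i _
    rw [Cfsg.Agent.Lib.Helper04.extendByZero_apply_of_mem _ _ _ (hg i (Set.mem_univ i))]
  · rw [Cfsg.Agent.Lib.Helper04.extendByZero_apply_not_mem _ _ _ hg]
    have : ∃ i, g i ∉ H i := by
      by_contra h
      push Not at h
      exact hg (fun i _ => h i)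
    obtain ⟨i, hi⟩ := this
    symm
    apply Finset.prod_eq_zero (Finset.mem_univ i)
    rw [Cfsg.Agent.Lib.Helper04.extendByZero_apply_not_mem _ _ _ hi]

theorem card_subgroup_pi [Finite D] {ι : Type u} [Fintype ι] (H : ι → Subgroup D) :
    Nat.card (Subgroup.pi Set.univ H) = ∏ i, Nat.card (H i) := by
  rw [← Nat.card_pi]
  exact Nat.card_congr ⟨fun x i => ⟨x.1 i, x.2 i (Set.mem_univ i)⟩,
    fun y => ⟨fun i => y i, fun i _ => (y i).2⟩, fun x => rfl, fun y => rfl⟩

/-- Induction commutes with tensor products. -/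
theorem indFun_pi [Fintype D] {ι : Type u} [Fintype ι] [DecidableEq ι] (H : ι → Subgroup D)
    (φ : ∀ i, H i → ℂ) (f : ι → D) :
    indFun (Subgroup.pi Set.univ H) (fun x => ∏ i, φ i ⟨x.1 i, x.2 i (Set.mem_univ i)⟩) f
      = ∏ i, indFun (H i) (φ i) (f i) := by
  simp only [Cfsg.Agent.Lib.Helper04.indFun_apply]
  rw [Finset.prod_mul_distrib, Fintype.prod_sum]
  congr 1
  · rw [card_subgroup_pi, Nat.cast_prod, Finset.prod_inv_distrib]
  · apply Finset.sum_congr rfl
    intro x _
    rw [extendByZero_pi]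
    rfl

/-- Uniqueness of the tensor decomposition of an irreducible character of a power. -/
theorem pi_tensor_unique [Finite D] {ι : Type u} [Fintype ι] [DecidableEq ι] {ψ ψ' : ι → D → ℂ}
    (hψ : ∀ i, IsIrrCharacter D (ψ i)) (hψ' : ∀ i, IsIrrCharacter D (ψ' i))
    (h : ∀ f : ι → D, ∏ i, ψ i (f i) = ∏ i, ψ' i (f i)) : ψ = ψ' := by
  classical
  have : Fintype D := Fintype.ofFinite D
  funext i
  set c : ℂ := ∏ j ∈ Finset.univ.erase i, ψ j 1 with hc
  set c' : ℂ := ∏ j ∈ Finset.univ.erase i, ψ' j 1 with hc'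
  have hc0 : c ≠ 0 :=
    Finset.prod_ne_zero_iff.2 (fun j _ => irr_degree_ne_zero (⟨ψ j, hψ j⟩ : IrrCharacter D))
  have hc0' : c' ≠ 0 :=
    Finset.prod_ne_zero_iff.2 (fun j _ => irr_degree_ne_zero (⟨ψ' j, hψ' j⟩ : IrrCharacter D))
  have key : ∀ d, ψ i d * c = ψ' i d * c' := by
    intro d
    have h1 := h (Function.update 1 i d)
    rw [← Finset.mul_prod_erase _ _ (Finset.mem_univ i),
      ← Finset.mul_prod_erase _ _ (Finset.mem_univ i)] at h1
    simp only [Function.update_self] at h1
    have e1 : ∏ j ∈ Finset.univ.erase i, ψ j (Function.update (1 : ι → D) i d j) = c :=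
      Finset.prod_congr rfl (fun j hj => by
        rw [Function.update_of_ne (Finset.ne_of_mem_erase hj)]; rfl)
    have e2 : ∏ j ∈ Finset.univ.erase i, ψ' j (Function.update (1 : ι → D) i d j) = c' :=
      Finset.prod_congr rfl (fun j hj => by
        rw [Function.update_of_ne (Finset.ne_of_mem_erase hj)]; rfl)
    rw [e1, e2] at h1
    exact h1
  by_contra hne
  have h0 := irr_inner_ne (χ := (⟨ψ i, hψ i⟩ : IrrCharacter D)) (ψ := ⟨ψ' i, hψ' i⟩)
    (by intro h; apply hne; exact congrArg Subtype.val h)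
  have h1 : ψ i = (c' / c) • ψ' i := by
    funext d
    simp only [Pi.smul_apply, smul_eq_mul]
    field_simp
    linear_combination key d
  simp only at h0
  rw [h1, classInner_smul_left, irr_inner_self (⟨ψ' i, hψ' i⟩ : IrrCharacter D), mul_one] at h0
  exact (div_ne_zero hc0' hc0) h0

end Pi

section Transport

/-- Monomial characters pull back to monomial characters along surjective homomorphisms. -/
theorem isMonomialChar_comp_surjective {X Y : Type u} [Group X] [Group Y] [Fintype X] [Fintype Y]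
    (π : X →* Y) (hπ : Function.Surjective π) {ψ : Y → ℂ} (hψ : IsMonomialChar Y ψ) :
    IsMonomialChar X (fun x => ψ (π x)) := by
  obtain ⟨H, lam, rfl⟩ := hψ
  refine ⟨H.comap π, lam.comp (π.subgroupComap H), ?_⟩
  funext x
  exact (indFun_comap_surjective π hπ H _ x).symm

end Transport

end Cfsg.Agent.Lib.Helper83
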