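import Mathlib
import Cfsg.Agent.Lib.Helper83.Dade2

/-!
# The wreath product of an M-group with a group of prime order is an M-group
-/

set_option autoImplicit false

namespace Cfsg.Agent.Lib.Helper83

open scoped ComplexConjugate
open Cfsg Cfsg.Agent.Lib.Helper80 Cfsg.Agent.Lib.Helper85 RegularWreathProduct

universe u

variable {D Q : Type u} [Group D] [Group Q]

/-- The base group of the regular wreath product. -/
def wrBase (D Q : Type u) [Group D] [Group Q] : Subgroup (D ≀ᵣ Q) :=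
  (rightHom : D ≀ᵣ Q →* Q).ker

instance wrBase_normal : (wrBase D Q).Normal := MonoidHom.normal_ker _

theorem mem_wrBase (w : D ≀ᵣ Q) : w ∈ wrBase D Q ↔ w.right = 1 := MonoidHom.mem_ker

/-- The base group is the power `Q → D`. -/
def wrBaseEquiv (D Q : Type u) [Group D] [Group Q] : wrBase D Q ≃* (Q → D) where
  toFun x := x.1.left
  invFun f := ⟨⟨f, 1⟩, (mem_wrBase _).2 rfl⟩
  left_inv x := Subtype.ext (RegularWreathProduct.ext rfl ((mem_wrBase _).1 x.2).symm)
  right_inv f := rfl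
  map_mul' x y := by
    have hx : x.1.right = 1 := (mem_wrBase _).1 x.2
    funext q
    change (x.1 * y.1).left q = x.1.left q * y.1.left q
    rw [mul_left, Pi.mul_apply, hx, inv_one, one_mul]

theorem wrBaseEquiv_apply (x : wrBase D Q) : wrBaseEquiv D Q x = x.1.left := rfl

theorem wrBaseEquiv_symm_apply_coe (f : Q → D) :
    ((wrBaseEquiv D Q).symm f : D ≀ᵣ Q) = ⟨f, 1⟩ := rfl

theorem index_wrBase : (wrBase D Q).index = Nat.card Q := by
  unfold wrBase
  rw [Subgroup.index_ker]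
  have : (rightHom : D ≀ᵣ Q →* Q).range = ⊤ := by
    rw [MonoidHom.range_eq_top]
    intro q
    exact ⟨inl q, rfl⟩
  rw [this, Subgroup.card_top]

/-- The subgroup `H ≀ Q` of `D ≀ Q`. -/
def wrSub (Q : Type u) [Group Q] (H : Subgroup D) : Subgroup (D ≀ᵣ Q) where
  carrier := {w | ∀ q, w.left q ∈ H}
  mul_mem' := by
    intro a b ha hb q
    rw [mul_left]
    exact H.mul_mem (ha q) (hb _)
  one_mem' := fun q => H.one_mem
  inv_mem' := by
    intro a ha q
    rw [inv_left]
    exact H.inv_mem (ha _)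

theorem mem_wrSub (H : Subgroup D) (w : D ≀ᵣ Q) : w ∈ wrSub Q H ↔ ∀ q, w.left q ∈ H := Iff.rfl

/-- The extension to `H ≀ Q` of the tensor power of a linear character of `H`. -/
def wrSubHom [Fintype Q] (H : Subgroup D) (lam : H →* ℂˣ) : wrSub Q H →* ℂˣ where
  toFun w := ∏ q, lam ⟨w.1.left q, w.2 q⟩
  map_one' := by
    apply Finset.prod_eq_one
    intro q _
    exact map_one lam
  map_mul' a b := by
    have h1 : ∀ q, lam ⟨(a * b).1.left q, (a * b).2 q⟩ =
        lam ⟨a.1.left q, a.2 q⟩ * lam ⟨b.1.left (a.1.right⁻¹ * q), b.2 _⟩ := by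
      intro q
      rw [← map_mul]
      rfl
    simp_rw [h1]
    rw [Finset.prod_mul_distrib]
    congr 1
    exact Fintype.prod_equiv (Equiv.mulLeft a.1.right⁻¹) _ _ (fun q => rfl)

theorem wrSubHom_apply [Fintype Q] (H : Subgroup D) (lam : H →* ℂˣ) (w : wrSub Q H) :
    ((wrSubHom H lam w : ℂˣ) : ℂ) = ∏ q, ((lam ⟨w.1.left q, w.2 q⟩ : ℂˣ) : ℂ) := by
  simp [wrSubHom]

theorem wrSub_supplement (H : Subgroup D) (g : D ≀ᵣ Q) :
    ∃ m ∈ wrBase D Q, ∃ k ∈ wrSub Q H, m * k = g := by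
  refine ⟨⟨g.left, 1⟩, (mem_wrBase _).2 rfl, ⟨1, g.right⟩, fun q => H.one_mem, ?_⟩
  apply RegularWreathProduct.ext
  · rw [mul_left]
    funext q
    simp
  · rw [mul_right]
    simp

/-- Tensor products of monomial characters are monomial. -/
theorem isMonomialChar_pi [Fintype D] {ι : Type u} [Fintype ι] [DecidableEq ι] {ψ : ι → D → ℂ}
    (hψ : ∀ i, IsMonomialChar D (ψ i)) : IsMonomialChar (ι → D) (fun f => ∏ i, ψ i (f i)) := by
  choose H lam hlam using hψ
  refine ⟨Subgroup.pi Set.univ H, piUnitHom H lam, ?_⟩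
  funext f
  simp_rw [piUnitHom_apply]
  rw [indFun_pi H (fun i h => ((lam i h : ℂˣ) : ℂ)) f]
  apply Finset.prod_congr rfl
  intro i _
  rw [hlam i]

/-- Conjugation by an element of the complement shifts the coordinates of the base group. -/
theorem inl_conj_base (q₀ : Q) (f : Q → D) :
    (inl q₀ : D ≀ᵣ Q) * ((wrBaseEquiv D Q).symm f : D ≀ᵣ Q) * (inl q₀ : D ≀ᵣ Q)⁻¹ =
      ((wrBaseEquiv D Q).symm (fun x => f (q₀⁻¹ * x)) : D ≀ᵣ Q) := by
  rw [wrBaseEquiv_symm_apply_coe, wrBaseEquiv_symm_apply_coe]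
  apply RegularWreathProduct.ext
  · funext x
    simp [mul_left, inv_left]
  · simp [mul_right, inv_right]

/-- **The wreath product of an M-group with a group of prime order is an M-group.** -/
theorem isMonomial_wreath [Fintype D] [Fintype Q] [DecidableEq Q] [Fintype (D ≀ᵣ Q)]
    (hQ : (Nat.card Q).Prime)
    (hD : ∀ ψ : D → ℂ, IsIrrCharacter D ψ → IsMonomialChar D ψ)
    {χ : D ≀ᵣ Q → ℂ} (hχ : IsIrrCharacter (D ≀ᵣ Q) χ) : IsMonomialChar (D ≀ᵣ Q) χ := by
  classical
  have : Fintype (wrBase D Q) := Fintype.ofFinite _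
  refine isMonomial_of_prime_index (wrBase D Q) (by rw [index_wrBase]; exact hQ) ?_ ?_ hχ
  · intro θ hθ
    have hθ' := Cfsg.Agent.Lib.Helper84.isIrrCharacter_comp_mulEquiv (wrBaseEquiv D Q).symm hθ
    obtain ⟨ψ, hψ, hθψ⟩ := irr_pi hθ'
    have hmon := isMonomialChar_pi (fun q => hD _ (hψ q))
    have := isMonomialChar_comp_surjective (wrBaseEquiv D Q).toMonoidHom
      (wrBaseEquiv D Q).surjective hmon
    convert this using 1
    funext x
    have h1 := congrFun hθψ (wrBaseEquiv D Q x)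
    simp only [MulEquiv.symm_apply_apply] at h1
    exact h1
  · intro θ hθ hinv
    have hθ' := Cfsg.Agent.Lib.Helper84.isIrrCharacter_comp_mulEquiv (wrBaseEquiv D Q).symm hθ
    obtain ⟨ψ, hψ, hθψ⟩ := irr_pi hθ'
    have hθf : ∀ f : Q → D, θ ((wrBaseEquiv D Q).symm f) = ∏ q, ψ q (f q) := fun f =>
      congrFun hθψ f
    have hshift : ∀ (q₀ : Q) (f : Q → D), ∏ q, ψ (q₀ * q) (f q) = ∏ q, ψ q (f q) := by
      intro q₀ f
      have h1 := congrFun (hinv (inl q₀)) ((wrBaseEquiv D Q).symm f)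
      rw [conjFun_apply] at h1
      have h2 : (⟨(inl q₀ : D ≀ᵣ Q) * ((wrBaseEquiv D Q).symm f : D ≀ᵣ Q) * (inl q₀ : D ≀ᵣ Q)⁻¹,
          (wrBase_normal (D := D) (Q := Q)).conj_mem _ ((wrBaseEquiv D Q).symm f).2 _⟩ : wrBase D Q) =
          (wrBaseEquiv D Q).symm (fun x => f (q₀⁻¹ * x)) := Subtype.ext (inl_conj_base q₀ f)
      rw [h2, hθf, hθf] at h1
      rw [← h1]
      apply Fintype.prod_equiv (Equiv.mulLeft q₀)
      intro q
      simp
    have hconst : ∀ q, ψ q = ψ 1 := by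
      intro q
      have h := pi_tensor_unique (ψ := fun q' => ψ (q * q')) (ψ' := ψ) (fun q' => hψ _) hψ
        (hshift q)
      have := congrFun h 1
      simpa using this
    obtain ⟨H, lam, hlam⟩ := hD (ψ 1) (hψ 1)
    refine ⟨wrSub Q H, wrSubHom H lam, wrSub_supplement H, ?_⟩
    funext n
    have h3 := indFun_comap_surjective (wrBaseEquiv D Q).toMonoidHom (wrBaseEquiv D Q).surjective
      (Subgroup.pi Set.univ (fun _ : Q => H))
      (fun x => ∏ q, ((lam ⟨x.1 q, x.2 q (Set.mem_univ q)⟩ : ℂˣ) : ℂ)) n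
    rw [indFun_pi (fun _ : Q => H) (fun _ h => ((lam h : ℂˣ) : ℂ))] at h3
    have h4 : θ n = ∏ q, ψ q (n.1.left q) := by
      have := hθf (wrBaseEquiv D Q n)
      rw [MulEquiv.symm_apply_apply] at this
      exact this
    rw [h4]
    simp_rw [hconst, hlam]
    refine Eq.trans ?_ h3
    apply congrFun
    apply indFun_congr_subgroup
      (by
        ext x
        simp [Subgroup.mem_subgroupOf, mem_wrSub, Subgroup.mem_pi, wrBaseEquiv_apply])
    intro x h₁ h₂
    rw [wrSubHom_apply]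
    rfl

end Cfsg.Agent.Lib.Helper83
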