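import Mathlib

/-!
# The Kaluzhnin–Krasner embedding into a regular wreath product
-/

set_option autoImplicit false

namespace Cfsg.Agent.Lib.Helper83

open RegularWreathProduct

universe u

section KK

variable {G : Type u} [Group G] (N : Subgroup G) [hN : N.Normal]

theorem kk_mem (g : G) (x : G ⧸ N) :
    (Quotient.out x)⁻¹ * g * Quotient.out ((g : G ⧸ N)⁻¹ * x) ∈ N := by
  rw [← QuotientGroup.eq_one_iff]
  simp

/-- The Kaluzhnin–Krasner embedding `G → N ≀ (G ⧸ N)`. -/
noncomputable def kkHom : G →* (N ≀ᵣ (G ⧸ N)) where
  toFun g := ⟨fun x => ⟨(Quotient.out x)⁻¹ * g * Quotient.out ((g : G ⧸ N)⁻¹ * x), kk_mem N g x⟩,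
    (g : G ⧸ N)⟩
  map_one' := by
    apply RegularWreathProduct.ext
    · funext x
      apply Subtype.ext
      simp
    · rfl
  map_mul' g h := by
    apply RegularWreathProduct.ext
    · funext x
      apply Subtype.ext
      simp only [mul_left, Pi.mul_apply, Subgroup.coe_mul, QuotientGroup.mk_mul, mul_inv_rev]
      simp only [mul_assoc, mul_inv_cancel_left]
    · rfl

theorem kkHom_injective : Function.Injective (kkHom N) := by
  intro g h hgh
  have h1 : ((g : G ⧸ N)) = h := congrArg RegularWreathProduct.right hgh
  have h2 := congrFun (congrArg RegularWreathProduct.left hgh) 1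
  have h3 := congrArg Subtype.val h2
  simp only [kkHom, MonoidHom.coe_mk, OneHom.coe_mk] at h3
  rw [h1] at h3
  rw [mul_assoc, mul_assoc] at h3
  exact mul_right_cancel (mul_left_cancel h3)

end KK

section Map

variable {D₁ D₂ : Type u} [Group D₁] [Group D₂] (Q : Type u) [Group Q]

/-- Functoriality of the regular wreath product in the base. -/
def wrMap (φ : D₁ →* D₂) : D₁ ≀ᵣ Q →* D₂ ≀ᵣ Q where
  toFun w := ⟨fun q => φ (w.left q), w.right⟩
  map_one' := by
    apply RegularWreathProduct.ext
    · funext q
      simp
    · rfl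
  map_mul' a b := by
    apply RegularWreathProduct.ext
    · funext q
      simp [mul_left]
    · rfl

theorem wrMap_injective {φ : D₁ →* D₂} (hφ : Function.Injective φ) :
    Function.Injective (wrMap Q φ) := by
  intro a b hab
  apply RegularWreathProduct.ext
  · funext q
    have := congrFun (congrArg RegularWreathProduct.left hab) q
    exact hφ this
  · exact congrArg (fun w : D₂ ≀ᵣ Q => w.right) hab

end Map

end Cfsg.Agent.Lib.Helper83
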