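import Mathlib
import Cfsg.Agent.Lib.Helper83.FullyRamified2

set_option autoImplicit false

namespace Cfsg.Agent.Lib.Helper83

open scoped ComplexConjugate
open Cfsg

universe u
variable {H : Type u} [Group H]

/-- The explicit bijection `H ≃ (H ⧸ W) × W`, `x ↦ (xW, (xW).out⁻¹ x)`. -/
noncomputable def quotProdEquiv (W : Subgroup H) : H ≃ (H ⧸ W) × W where
  toFun x := ((x : H ⧸ W), ⟨((x : H ⧸ W)).out⁻¹ * x,
    QuotientGroup.eq.1 (QuotientGroup.out_eq' (x : H ⧸ W))⟩)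
  invFun qw := qw.1.out * qw.2
  left_inv x := by simp
  right_inv qw := by
    obtain ⟨q, w⟩ := qw
    have h1 : ((q.out * (w : H) : H) : H ⧸ W) = q := by
      rw [QuotientGroup.mk_mul_of_mem _ w.2, QuotientGroup.out_eq']
    apply Prod.ext
    · exact h1
    · apply Subtype.ext
      simp only
      rw [h1]
      group

theorem sum_comp_mk_eq_card_mul_sum [Fintype H] (W : Subgroup H) [Fintype W] [Fintype (H ⧸ W)]
    (F : H ⧸ W → ℂ) :
    ∑ x : H, F (x : H ⧸ W) = (Nat.card W : ℂ) * ∑ q : H ⧸ W, F q := by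
  rw [Fintype.sum_equiv (quotProdEquiv W) (fun x : H => F (x : H ⧸ W))
    (fun qw : (H ⧸ W) × W => F qw.1) (fun x => rfl), Fintype.sum_prod_type]
  simp only [Finset.sum_const, Finset.card_univ, nsmul_eq_mul]
  rw [Finset.mul_sum, Nat.card_eq_fintype_card]

/-- A sum of a right-`W`-invariant function over `H` is `|W|` times a sum over `H ⧸ W`. -/
theorem sum_eq_card_mul_sum_of_right_invariant [Fintype H] (W : Subgroup H) [Fintype W]
    [Fintype (H ⧸ W)] (g : H → ℂ) (hg : ∀ x : H, ∀ v ∈ W, g (x * v) = g x) :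
    ∑ x : H, g x = (Nat.card W : ℂ) * ∑ q : H ⧸ W, g q.out := by
  rw [← sum_comp_mk_eq_card_mul_sum W (fun q => g q.out)]
  apply Finset.sum_congr rfl
  intro x _
  have hmem : ((x : H ⧸ W)).out⁻¹ * x ∈ W := QuotientGroup.eq.1 (QuotientGroup.out_eq' (x : H ⧸ W))
  have := hg ((x : H ⧸ W)).out _ hmem
  rw [mul_inv_cancel_left] at this
  exact this

/-- The divisibility hypothesis of `fr_exists_sup_index` when `χ` is induced from the normal
subgroup `K`. -/
theorem hyp5_of_induced [Fintype H] (χ : IrrCharacter H) (K : Subgroup H) [hK : K.Normal]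
    [Fintype K] (φ : ↥K → ℂ) (hφ : IsCharacter ↥K φ) (hind : indFun K φ = (χ : H → ℂ))
    (S₀ I₀ : Subgroup H) [Fintype ↥S₀] (hS₀I₀ : S₀ ≤ I₀) (hinf : I₀ ⊓ K = S₀)
    (φ₀ : IrrCharacter ↥S₀)
    (hfix : ∀ x ∈ I₀, ∀ (s : ↥S₀) (hx : x * s * x⁻¹ ∈ S₀),
        (φ₀ : ↥S₀ → ℂ) ⟨x * s * x⁻¹, hx⟩ = (φ₀ : ↥S₀ → ℂ) s) :
    ∃ k : ℕ, classInner (fun s : ↥S₀ => (χ : H → ℂ) s) (φ₀ : ↥S₀ → ℂ)
        = ((S₀.relIndex I₀ * k : ℕ) : ℂ) := by
  classical
  have hS₀K : S₀ ≤ K := hinf ▸ inf_le_right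
  have hI₀N : I₀ ≤ Subgroup.normalizer (S₀ : Set H) := by
    rw [← hinf]
    exact Cfsg.Agent.Lib.Helper01.le_normalizer_inf_normal I₀ K
  -- the conjugation homomorphisms `S₀ → K`
  let cj : H → (↥S₀ →* ↥K) := fun x =>
    ((MulAut.conjNormal x : MulAut ↥K).toMonoidHom).comp (Subgroup.inclusion hS₀K)
  have hcj : ∀ (x : H) (s : ↥S₀), ((cj x s : ↥K) : H) = x * s * x⁻¹ := by
    intro x s
    exact MulAut.conjNormal_apply x _
  set g : H → ℂ := fun x => classInner (fun s : ↥S₀ => φ (cj x s)) (φ₀ : ↥S₀ → ℂ) with hg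
  have hgnat : ∀ x, ∃ t : ℕ, g x = t := fun x =>
    classInner_char_nat (isCharacter_comp_hom (cj x) hφ) (IrrCharacter_isCharacter φ₀)
  have hχs : ∀ s : ↥S₀, (χ : H → ℂ) s = (Nat.card ↥K : ℂ)⁻¹ * ∑ x : H, φ (cj x s) := by
    intro s
    have h1 := congrFun (Cfsg.Agent.Lib.Helper85.indFun_restrict_normal hK φ) ⟨s, hS₀K s.2⟩
    simp only [Pi.smul_apply, Finset.sum_apply, smul_eq_mul] at h1
    rw [← hind, h1]
    rfl
  have hform : classInner (fun s : ↥S₀ => (χ : H → ℂ) s) (φ₀ : ↥S₀ → ℂ)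
      = (Nat.card ↥K : ℂ)⁻¹ * ∑ x : H, g x := by
    rw [classInner_def]
    simp only [hχs, hg, classInner_def]
    simp only [Finset.mul_sum, Finset.sum_mul]
    rw [Finset.sum_comm]
    apply Finset.sum_congr rfl
    intro x _
    apply Finset.sum_congr rfl
    intro s _
    ring
  -- invariance
  let T : Subgroup H :=
    { carrier := {v | ∀ x, g (x * v) = g x}
      one_mem' := fun x => by rw [mul_one]
      mul_mem' := fun {a b} ha hb x => by rw [← mul_assoc, hb, ha]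
      inv_mem' := fun {a} ha x => by
        have := ha (x * a⁻¹)
        rw [inv_mul_cancel_right] at this
        exact this.symm }
  have hI₀T : I₀ ≤ T := by
    intro v hv x
    simp only [hg, classInner_def]
    congr 1
    refine Fintype.sum_equiv (normConj S₀ ⟨v, hI₀N hv⟩).toEquiv _ _ ?_
    intro s
    have h1 : cj (x * v) s = cj x (normConj S₀ ⟨v, hI₀N hv⟩ s) := by
      apply Subtype.ext
      rw [hcj, hcj, normConj_coe]
      simp only [mul_inv_rev, mul_assoc]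
    have h2 : (φ₀ : ↥S₀ → ℂ) (normConj S₀ ⟨v, hI₀N hv⟩ s) = (φ₀ : ↥S₀ → ℂ) s :=
      hfix v hv s _
    simp only [MulEquiv.toEquiv_eq_coe, MulEquiv.coe_toEquiv]
    rw [h1, h2]
  have hKT : K ≤ T := by
    intro v hv x
    simp only [hg]
    congr 1
    funext s
    have hk' : x * v * x⁻¹ ∈ K := hK.conj_mem v hv x
    have h1 : cj (x * v) s = ⟨x * v * x⁻¹, hk'⟩ * cj x s * ⟨x * v * x⁻¹, hk'⟩⁻¹ := by
      apply Subtype.ext
      simp only [Subgroup.coe_mul, Subgroup.coe_inv, hcj]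
      group
    rw [h1]
    exact char_isClassFunction hφ _ _
  have hWT : I₀ ⊔ K ≤ T := sup_le hI₀T hKT
  have : Fintype ↥(I₀ ⊔ K : Subgroup H) := Fintype.ofFinite _
  have : Fintype (H ⧸ (I₀ ⊔ K : Subgroup H)) := Fintype.ofFinite _
  have hsum := sum_eq_card_mul_sum_of_right_invariant (I₀ ⊔ K) g (fun x v hv => hWT hv x)
  choose t ht using hgnat
  refine ⟨∑ q : H ⧸ (I₀ ⊔ K : Subgroup H), t q.out, ?_⟩
  rw [hform, hsum]
  simp only [ht]
  have hc1 := Cfsg.Agent.Lib.Helper01.card_sup_mul_card_inf K I₀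
  rw [inf_comm, hinf] at hc1
  have hc2 := Cfsg.Agent.Lib.Helper20.relIndex_mul_card_of_le hS₀I₀
  have hS₀pos : 0 < Nat.card ↥S₀ := Nat.card_pos
  have hc3 : Nat.card ↥(I₀ ⊔ K : Subgroup H) = Nat.card ↥K * S₀.relIndex I₀ := by
    apply Nat.eq_of_mul_eq_mul_right hS₀pos
    rw [hc1, ← hc2]
    ring
  rw [hc3]
  have hK0 : (Nat.card ↥K : ℂ) ≠ 0 := card_ne_zero_complex
  push_cast
  field_simp

end Cfsg.Agent.Lib.Helper83
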