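import Mathlib
import Cfsg.Prelude.Def_Solvable
import Cfsg.Prelude.Def_Transfer
import Cfsg.Prelude.Def_CaseTheorems
import Cfsg.Agent.Lib.Helper83.GSDefs
import Cfsg.Agent.Lib.Helper01.PCore
import Cfsg.Agent.Lib.Helper03.GSKillF
import Cfsg.Agent.Lib.Helper07.GSG1
import Cfsg.Agent.Lib.Helper08.GSB1
import Cfsg.Agent.Lib.Helper21.GSB3
import Cfsg.Agent.Lib.Helper25.GSG3
import Cfsg.Agent.Lib.Helper28.GSAS1
import Cfsg.Agent.Lib.Helper60.GSAS2
import Cfsg.Agent.Lib.Helper77.GSG0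
import Cfsg.Agent.Lib.Helper77.GSG2
import Cfsg.Agent.Lib.Helper80.GSAS3

/-!
# K-GS glue: the abstract theorem for S4840

`Γ` finite solvable acting faithfully on the elementary abelian `p`-group `V`, transitively on `V \ {1}`,
with `p`-group point stabilisers: `Γ` has a normal `p`-complement and commutative Sylow `p`-subgroups.
-/

set_option autoImplicit false

namespace Cfsg.Agent.Lib.Helper83.GS

universe u

variable {Γ V : Type u} [Group Γ] [Finite Γ] [CommGroup V] [Finite V]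

/-- `Good p (O_r(Γ))` for every prime `r ≠ p`. -/
theorem gs_good_pCore (p : ℕ) [Fact p.Prime] [Nontrivial V] (hV : IsPGroup p V)
    (hVp : ∀ v : V, v ^ p = 1)
    (ρ : Γ →* MulAut V)
    (htrans : ∀ v w : V, v ≠ 1 → w ≠ 1 → ∃ g : Γ, ρ g v = w)
    (hstab : ∀ (g : Γ) (v : V), v ≠ 1 → ρ g v = v → ∃ k : ℕ, g ^ (p ^ k) = 1)
    (r : ℕ) (hr : r.Prime) (hrp : r ≠ p) : Good p (Cfsg.pCore r Γ) := by
  have : Fact r.Prime := ⟨hr⟩
  have hRr : IsPGroup r (Cfsg.pCore r Γ) := Cfsg.Agent.Lib.Helper01.pCore_isPGroup r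
  rcases Cfsg.Agent.Lib.Helper21.GS.rgroup_cyclic_or_quaternion p ρ hstab r hrp (Cfsg.pCore r Γ) hRr with hcyc | ⟨n, ⟨e⟩⟩
  · exact Cfsg.Agent.Lib.Helper07.GS.good_of_isCyclic p _ hcyc
  · -- quaternion: `r = 2`, so `p ≠ 2`
    have hcard : Nat.card (Cfsg.pCore r Γ) = 4 * 2 ^ n := by
      haveI : NeZero (2 ^ n) := ⟨by positivity⟩
      rw [Nat.card_congr e.toEquiv, Nat.card_eq_fintype_card, QuaternionGroup.card]
    have hr2 : r = 2 := by
      obtain ⟨k, hk⟩ := hRr.exists_card_eq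
      rw [hcard] at hk
      have h2 : 2 ∣ r ^ k := by
        rw [← hk]; exact Dvd.dvd.mul_right (by norm_num) _
      have := (Nat.prime_dvd_prime_iff_eq Nat.prime_two hr).1 (Nat.Prime.dvd_of_dvd_pow Nat.prime_two h2)
      exact this.symm
    have hp2 : p ≠ 2 := fun h => hrp (hr2.trans h.symm)
    rcases Nat.lt_or_ge n 1 with hn0 | hn1
    · -- `n = 0`: `QuaternionGroup 1` is cyclic
      have hn : n = 0 := by omega
      subst hn
      have hcyc' : IsCyclic (QuaternionGroup (2 ^ 0)) := by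
        rw [pow_zero]; exact QuaternionGroup.quaternionGroup_one_isCyclic
      have hcyc : IsCyclic (Cfsg.pCore r Γ) :=
        isCyclic_of_surjective e.symm e.symm.surjective
      exact Cfsg.Agent.Lib.Helper07.GS.good_of_isCyclic p _ hcyc
    · rcases Nat.lt_or_ge n 2 with hn1' | hn2
      · have hn : n = 1 := by omega
        subst hn
        rw [pow_one] at e
        apply Cfsg.Agent.Lib.Helper25.GS.good_of_q8 p hp2 _ e
        intro hp3
        subst hp3
        exact Cfsg.Agent.Lib.Helper03.GS.q8_kill hV hVp ρ htrans hstab _ e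
      · apply Cfsg.Agent.Lib.Helper77.GS.good_of_centralizes
        rintro x ⟨k, hk⟩
        apply Cfsg.Agent.Lib.Helper77.GS.centralizes_of_quaternion_big _ n hn2 e x
        have hdvd : orderOf x ∣ p ^ k := orderOf_dvd_of_pow_eq_one hk
        have hodd : Odd (p ^ k) := Odd.pow ((Fact.out : p.Prime).odd_of_ne_two hp2)
        exact Odd.of_dvd_nat hodd hdvd

/-- The abstract theorem. -/
theorem main_abstract (hsol : Group.IsSolvable Γ) (p : ℕ) [Fact p.Prime] [Nontrivial V]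
    (hV : IsPGroup p V) (hVp : ∀ v : V, v ^ p = 1)
    (ρ : Γ →* MulAut V) (hinj : Function.Injective ρ)
    (htrans : ∀ v w : V, v ≠ 1 → w ≠ 1 → ∃ g : Γ, ρ g v = w)
    (hstab : ∀ (g : Γ) (v : V), v ≠ 1 → ρ g v = v → ∃ k : ℕ, g ^ (p ^ k) = 1) :
    Cfsg.HasNormalPComplement p Γ ∧ ∀ Q : Sylow p Γ, IsMulCommutative (Q : Subgroup Γ) := by
  have hB1 : ∀ M : Subgroup Γ, M.Normal → IsPGroup p M → M = ⊥ := by
    intro M hMn hM
    have := hMn
    exact Cfsg.Agent.Lib.Helper08.GS.normal_pgroup_eq_bot p hV ρ hinj htrans M hM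
  have hgood := gs_good_pCore p hV hVp ρ htrans hstab
  refine ⟨?_, ?_⟩
  · obtain ⟨K, hKn, hKidx, hKmin⟩ := Cfsg.Agent.Lib.Helper60.GS.exists_min_normal_ppow_index (Γ := Γ) p
    have := hKn
    apply Cfsg.Agent.Lib.Helper80.GS.hasNormalPComplement_of p K hKidx
    intro x hxK hx
    apply Cfsg.Agent.Lib.Helper28.GS.eq_one_of_centralizes_pCores hsol p hB1 x hx
    intro r hr hrp
    obtain ⟨⟨K', hK'n, hK'idx, hK'⟩, _⟩ := hgood r hr hrp
    exact hK' x (hKmin K' hK'n hK'idx hxK) hx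
  · intro Q
    refine ⟨⟨?_⟩⟩
    rintro ⟨x, hx⟩ ⟨y, hy⟩
    apply Subtype.ext
    show x * y = y * x
    have hc : x * y * x⁻¹ * y⁻¹ = 1 := by
      apply Cfsg.Agent.Lib.Helper28.GS.eq_one_of_centralizes_pCores hsol p hB1
      · have hmem : x * y * x⁻¹ * y⁻¹ ∈ (Q : Subgroup Γ) :=
          (Q : Subgroup Γ).mul_mem ((Q : Subgroup Γ).mul_mem ((Q : Subgroup Γ).mul_mem hx hy)
            ((Q : Subgroup Γ).inv_mem hx)) ((Q : Subgroup Γ).inv_mem hy)
        obtain ⟨k, hk⟩ := Q.isPGroup' ⟨_, hmem⟩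
        refine ⟨k, ?_⟩
        have := congrArg (fun t : (Q : Subgroup Γ) => (t : Γ)) hk
        simpa using this
      · intro r hr hrp
        exact (hgood r hr hrp).2 Q x hx y hy
    calc x * y = (x * y * x⁻¹ * y⁻¹) * (y * x) := by group
      _ = y * x := by rw [hc, one_mul]

end Cfsg.Agent.Lib.Helper83.GS
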