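import Mathlib

/-!
# K-GAG G12a: if the normal abelian `p`-subgroup `N` has `p'`-index and `C_G(x)` is a `p`-group,
then `C_G(x) = N` for `x ∈ N#`.
-/

set_option autoImplicit false

namespace Cfsg.Agent.Lib.Helper83.Gag

variable {G : Type*} [Group G] [Finite G]

/-- G12a (MEDIUM): if `N` is a Sylow `p`-subgroup then `C_G(x) = N` for `x ∈ N#`. -/
theorem centralizer_eq_of_hall {p : ℕ} [Fact p.Prime] (N : Subgroup G) [N.Normal]
    (hNp : IsPGroup p N)
    (hcomm : ∀ a ∈ N, ∀ b ∈ N, a * b = b * a)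
    (hcp : ∀ x ∈ N, x ≠ 1 → IsPGroup p (Subgroup.centralizer ({x} : Set G)))
    (hhall : ¬ p ∣ N.index) (x : G) (hx : x ∈ N) (hx1 : x ≠ 1) :
    Subgroup.centralizer ({x} : Set G) = N := by
  have hp : p.Prime := Fact.out
  apply le_antisymm
  · -- relIndex is a power of `p` dividing the `p'`-number `N.index`
    rw [← Subgroup.relIndex_eq_one]
    have h1 : N.relIndex (Subgroup.centralizer ({x} : Set G)) ∣ N.index :=
      Subgroup.relIndex_dvd_index_of_normal N _
    have h2 : N.relIndex (Subgroup.centralizer ({x} : Set G)) ∣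
        Nat.card (Subgroup.centralizer ({x} : Set G)) := by
      unfold Subgroup.relIndex
      exact Subgroup.index_dvd_card _
    obtain ⟨k, hk⟩ := (hcp x hx hx1).exists_card_eq
    rw [hk] at h2
    obtain ⟨j, _, hj⟩ := (Nat.dvd_prime_pow hp).1 h2
    rcases Nat.eq_zero_or_pos j with h0 | hpos
    · rw [hj, h0, pow_zero]
    · exfalso
      apply hhall
      refine dvd_trans ?_ h1
      rw [hj]
      exact dvd_pow_self p (Nat.pos_iff_ne_zero.mp hpos)
  · intro n hn
    rw [Subgroup.mem_centralizer_singleton_iff]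
    exact hcomm n hn x hx

end Cfsg.Agent.Lib.Helper83.Gag
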