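import Mathlib
import Cfsg.Agent.Lib.Helper83.Abelian

set_option autoImplicit false

namespace Cfsg.Agent.Lib.Helper83

open scoped ComplexConjugate ComplexOrder MonoidAlgebra
open Cfsg

universe u v
variable {G : Type u} [Group G]

/-- In a group with an irreducible character `χ` with `|G| = p * χ(1)`, every commutative subgroup
has order at most `p`. -/
theorem card_comm_subgroup_le_of_card_eq [Finite G] (χ : IrrCharacter G) (p : ℕ)
    (hcod : Nat.card G = p * charDegree (χ : G → ℂ)) (A : Subgroup G)
    (hA : ∀ a ∈ A, ∀ b ∈ A, a * b = b * a) : Nat.card A ≤ p := by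
  classical
  haveI := Fintype.ofFinite G
  have hχ := IrrCharacter_isCharacter χ
  have h1 := comm_subgroup_sum_normSq_ge hχ A hA
  have h2 : ∑ a : A, Complex.normSq ((χ : G → ℂ) a) ≤ ∑ g : G, Complex.normSq ((χ : G → ℂ) g) := by
    rw [sum_subgroup_eq_sum_ite' A (fun x => Complex.normSq ((χ : G → ℂ) x))]
    apply Finset.sum_le_sum
    intro x _
    split_ifs
    · exact le_refl _
    · exact Complex.normSq_nonneg _
  rw [irr_sum_normSq, charDegree_re hχ] at *
  have hd : (0 : ℝ) < charDegree (χ : G → ℂ) := by exact_mod_cast irr_charDegree_pos χ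
  have h3 : (Nat.card A : ℝ) * (charDegree (χ : G → ℂ) : ℝ) ≤ (p : ℝ) * (charDegree (χ : G → ℂ) : ℝ) := by
    have : (Nat.card G : ℝ) = (p : ℝ) * (charDegree (χ : G → ℂ) : ℝ) := by exact_mod_cast hcod
    linarith
  have h4 : (Nat.card A : ℝ) ≤ p := le_of_mul_le_mul_right h3 hd
  exact_mod_cast h4

/-- In a group with an irreducible character `χ` with `|G| = p * χ(1)`, `χ` vanishes off every
commutative subgroup of order `p`. -/
theorem irr_vanish_off_of_card_eq [Finite G] (χ : IrrCharacter G) (p : ℕ)
    (hcod : Nat.card G = p * charDegree (χ : G → ℂ)) (Q : Subgroup G)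
    (hQ : ∀ a ∈ Q, ∀ b ∈ Q, a * b = b * a) (hQp : Nat.card Q = p) (g : G) (hg : g ∉ Q) :
    (χ : G → ℂ) g = 0 := by
  classical
  haveI := Fintype.ofFinite G
  have hχ := IrrCharacter_isCharacter χ
  have h1 := comm_subgroup_sum_normSq_ge hχ Q hQ
  rw [charDegree_re hχ, hQp] at h1
  apply irr_vanish_off_of_sum_ge χ Q _ g hg
  have : (Nat.card G : ℝ) = (p : ℝ) * (charDegree (χ : G → ℂ) : ℝ) := by exact_mod_cast hcod
  rw [this]
  exact h1

/-- Structure of a group with a faithful irreducible character `χ` with `|G| = p χ(1)`, `p` prime: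
`χ(1) < p` and there is a normal subgroup `P` of order `p` which is the centralizer of each of its
non-identity elements. -/
theorem prime_codegree_structure [Finite G] (χ : IrrCharacter G)
    (hfaith : ∀ g : G, (χ : G → ℂ) g = (χ : G → ℂ) 1 → g = 1) (p : ℕ) (hp : p.Prime)
    (hcod : Nat.card G = p * charDegree (χ : G → ℂ)) :
    charDegree (χ : G → ℂ) < p ∧ ∃ P : Subgroup G, P.Normal ∧ Nat.card P = p ∧
      ∀ x ∈ P, x ≠ 1 → ∀ y : G, y * x = x * y → y ∈ P := by
  classical
  haveI := Fintype.ofFinite G
  haveI : Fintype (IrrCharacter G) := Fintype.ofFinite _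
  haveI : Fact p.Prime := ⟨hp⟩
  have hχ := IrrCharacter_isCharacter χ
  set d := charDegree (χ : G → ℂ) with hd
  have hdpos : 0 < d := irr_charDegree_pos χ
  -- χ is not trivial
  have hne : χ ≠ trivChar G := by
    intro h
    have hall : ∀ g : G, g = 1 := by
      intro g
      apply hfaith
      rw [h]; rfl
    have hsub : Subsingleton G := ⟨fun a b => by rw [hall a, hall b]⟩
    have hc : Nat.card G = 1 := Nat.card_unique
    have hd1 : d = 1 := by rw [hd, h, charDegree_trivChar]
    rw [hc, hd1, mul_one] at hcod
    exact hp.one_lt.ne' hcod.symm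
  -- d < p
  have hlt : d < p := by
    have hsum := sum_charDegree_sq (G := G)
    have hsub : ({χ, trivChar G} : Finset (IrrCharacter G)) ⊆ Finset.univ := Finset.subset_univ _
    have h2 := Finset.sum_le_sum_of_subset (f := fun ψ : IrrCharacter G => (charDegree (ψ : G → ℂ)) ^ 2) hsub
    rw [Finset.sum_pair hne, hsum, charDegree_trivChar, hcod, ← hd] at h2
    nlinarith
  refine ⟨hlt, ?_⟩
  have hpG : p ∣ Nat.card G := ⟨d, hcod⟩
  obtain ⟨x, hx⟩ := exists_prime_orderOf_dvd_card' p hpG
  -- subgroups generated by elements of order p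
  have hzcomm : ∀ y : G, ∀ a ∈ Subgroup.zpowers y, ∀ b ∈ Subgroup.zpowers y, a * b = b * a := by
    intro y a ha b hb
    obtain ⟨i, rfl⟩ := Subgroup.mem_zpowers_iff.1 ha
    obtain ⟨j, rfl⟩ := Subgroup.mem_zpowers_iff.1 hb
    rw [← zpow_add, ← zpow_add, add_comm]
  have hzcard : ∀ y : G, orderOf y = p → Nat.card (Subgroup.zpowers y) = p := by
    intro y hy
    rw [Nat.card_zpowers, hy]
  -- elements of P \ 1 generate P
  have hgen : ∀ y : G, orderOf y = p → ∀ z ∈ Subgroup.zpowers y, z ≠ 1 →
      Subgroup.zpowers z = Subgroup.zpowers y := by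
    intro y hy z hz hz1
    have hle : Subgroup.zpowers z ≤ Subgroup.zpowers y := Subgroup.zpowers_le.2 hz
    have hoz : orderOf z = p := by
      have hdvd : orderOf z ∣ p := by
        have := Subgroup.orderOf_dvd_natCard (Subgroup.zpowers y) hz
        rwa [hzcard y hy] at this
      rcases (Nat.dvd_prime hp).1 hdvd with h1 | h1
      · exact absurd (orderOf_eq_one_iff.1 h1) hz1
      · exact h1
    apply Subgroup.eq_of_le_of_card_ge hle
    rw [hzcard y hy, hzcard z hoz]
  set P := Subgroup.zpowers x with hP
  -- centralizer property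
  have hcent : ∀ y : G, orderOf y = p → ∀ z ∈ Subgroup.zpowers y, z ≠ 1 →
      ∀ w : G, w * z = z * w → w ∈ Subgroup.zpowers y := by
    intro y hy z hz hz1 w hw
    set A := Subgroup.closure ({z, w} : Set G) with hA
    have hAcomm : ∀ a ∈ A, ∀ b ∈ A, a * b = b * a := by
      have hgen : ∀ a ∈ ({z, w} : Set G), ∀ b ∈ ({z, w} : Set G), a * b = b * a := by
        intro a ha b hb
        rcases ha with rfl | rfl <;> rcases hb with rfl | rfl
        · rfl
        · exact hw.symm
        · exact hw
        · rfl
      intro a ha b hb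
      have := Subgroup.closure_le_centralizer_centralizer ({z, w} : Set G)
      have hsub : ({z, w} : Set G) ⊆ Subgroup.centralizer ({z, w} : Set G) := by
        intro a ha
        rw [SetLike.mem_coe, Subgroup.mem_centralizer_iff]
        intro b hb
        exact hgen b hb a ha
      have hA1 : A ≤ Subgroup.centralizer ({z, w} : Set G) := by
        rw [hA, Subgroup.closure_le]; exact hsub
      have hA2 : A ≤ Subgroup.centralizer (A : Set G) := by
        rw [hA, Subgroup.closure_le]
        intro c hc
        rw [SetLike.mem_coe, Subgroup.mem_centralizer_iff]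
        intro e he
        have := hA1 he
        rw [Subgroup.mem_centralizer_iff] at this
        exact (this c hc).symm
      have := hA2 hb
      rw [Subgroup.mem_centralizer_iff] at this
      exact this a ha
    have hAle := card_comm_subgroup_le_of_card_eq χ p hcod A hAcomm
    have hzA : Subgroup.zpowers z ≤ A := by
      rw [Subgroup.zpowers_le]
      exact Subgroup.subset_closure (Set.mem_insert z _)
    have hzeq := hgen y hy z hz hz1
    have hoz : Nat.card (Subgroup.zpowers z) = p := by rw [hzeq, hzcard y hy]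
    have hAeq : Subgroup.zpowers z = A := Subgroup.eq_of_le_of_card_ge hzA (by rw [hoz]; exact hAle)
    have hwA : w ∈ A := Subgroup.subset_closure (Set.mem_insert_of_mem z rfl)
    rw [← hAeq, hzeq] at hwA
    exact hwA
  -- uniqueness
  have huniq : ∀ y : G, orderOf y = p → y ∈ P := by
    intro y hy
    by_contra hyP
    have hvan : ∀ g : G, g ≠ 1 → (χ : G → ℂ) g = 0 := by
      intro g hg1
      by_cases hgP : g ∈ P
      · apply irr_vanish_off_of_card_eq χ p hcod (Subgroup.zpowers y) (hzcomm y) (hzcard y hy) g
        intro hgQ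
        have h1 := hgen x hx g hgP hg1
        have h2 := hgen y hy g hgQ hg1
        apply hyP
        rw [hP, ← h1, h2]
        exact Subgroup.mem_zpowers y
      · exact irr_vanish_off_of_card_eq χ p hcod P (hzcomm x) (hzcard x hx) g hgP
    have hsum := irr_sum_normSq χ
    rw [Finset.sum_eq_single (1 : G) (fun g _ hg => by rw [hvan g hg, map_zero])
      (fun h => absurd (Finset.mem_univ _) h)] at hsum
    have h1 : Complex.normSq ((χ : G → ℂ) 1) = (d : ℝ) ^ 2 := by
      rw [← charDegree_cast hχ, Complex.normSq_natCast, sq]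
    rw [h1, hcod] at hsum
    have : d ^ 2 = p * d := by exact_mod_cast hsum
    have : d = p := by nlinarith
    omega
  refine ⟨P, ?_, hzcard x hx, ?_⟩
  · constructor
    intro n hn g
    by_cases hn1 : n = 1
    · subst hn1; simp [P.one_mem]
    · have hon : orderOf n = p := by
        have hdvd : orderOf n ∣ p := by
          have := Subgroup.orderOf_dvd_natCard P hn
          rwa [hzcard x hx] at this
        rcases (Nat.dvd_prime hp).1 hdvd with h1 | h1
        · exact absurd (orderOf_eq_one_iff.1 h1) hn1
        · exact h1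
      apply huniq
      rw [← hon]
      exact (MulAut.conj g).orderOf_eq n
  · intro z hz hz1 w hw
    exact hcent x hx z hz hz1 w hw

end Cfsg.Agent.Lib.Helper83
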