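import Mathlib
import Cfsg.Agent.Lib.Helper83.PrimeCodegree
import Cfsg.Prelude.Def_Transfer

set_option autoImplicit false

namespace Cfsg.Agent.Lib.Helper83

open scoped ComplexConjugate ComplexOrder MonoidAlgebra
open Cfsg

universe u v
variable {G : Type u} [Group G]

/-- From "nonzero on exactly two classes" extract a representative of the second class. -/
theorem two_classes_extract [Finite G] (χ : IrrCharacter G)
    (hχ : Nat.card {C : ConjClasses G // ∃ g ∈ C.carrier, (χ : G → ℂ) g ≠ 0} = 2) :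
    ∃ g : G, g ≠ 1 ∧ (χ : G → ℂ) g ≠ 0 ∧ ∀ x : G, (χ : G → ℂ) x ≠ 0 → x = 1 ∨ IsConj g x := by
  classical
  obtain ⟨C₁, C₂, hne, huniv⟩ := Nat.card_eq_two_iff.1 hχ
  have hd := irr_degree_ne_zero χ
  -- the class of 1 is in the set
  let C1 : {C : ConjClasses G // ∃ g ∈ C.carrier, (χ : G → ℂ) g ≠ 0} :=
    ⟨ConjClasses.mk 1, 1, ConjClasses.mem_carrier_mk, hd⟩
  -- there is another class
  have hother : ∃ D : {C : ConjClasses G // ∃ g ∈ C.carrier, (χ : G → ℂ) g ≠ 0}, D ≠ C1 := by
    by_cases h : C₁ = C1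
    · exact ⟨C₂, fun h2 => hne (h.trans h2.symm)⟩
    · exact ⟨C₁, h⟩
  obtain ⟨D, hD⟩ := hother
  obtain ⟨g, hgD, hgχ⟩ := D.2
  have hDg : D.1 = ConjClasses.mk g := (ConjClasses.mem_carrier_iff_mk_eq.1 hgD).symm
  have hall : ∀ E : {C : ConjClasses G // ∃ g ∈ C.carrier, (χ : G → ℂ) g ≠ 0}, E = C1 ∨ E = D := by
    intro E
    have hE : E ∈ ({C₁, C₂} : Set _) := by rw [huniv]; trivial
    have hC1 : C1 ∈ ({C₁, C₂} : Set _) := by rw [huniv]; trivial
    have hDm : D ∈ ({C₁, C₂} : Set _) := by rw [huniv]; trivial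
    simp only [Set.mem_insert_iff, Set.mem_singleton_iff] at hE hC1 hDm
    rcases hE with rfl | rfl <;> rcases hC1 with h1 | h1 <;> rcases hDm with h2 | h2
    · left; exact h1.symm
    · left; exact h1.symm
    · right; exact h2.symm
    · exact absurd (h2.trans h1.symm) hD
    · exact absurd (h2.trans h1.symm) hD
    · right; exact h2.symm
    · left; exact h1.symm
    · left; exact h1.symm
  refine ⟨g, ?_, hgχ, ?_⟩
  · rintro rfl
    apply hD
    apply Subtype.ext
    exact hDg
  · intro x hx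
    let E : {C : ConjClasses G // ∃ g ∈ C.carrier, (χ : G → ℂ) g ≠ 0} :=
      ⟨ConjClasses.mk x, x, ConjClasses.mem_carrier_mk, hx⟩
    rcases hall E with h | h
    · left
      have : ConjClasses.mk x = ConjClasses.mk (1 : G) := congrArg Subtype.val h
      rw [ConjClasses.mk_eq_mk_iff_isConj] at this
      exact isConj_one_left.1 this
    · right
      have : ConjClasses.mk x = ConjClasses.mk g := (congrArg Subtype.val h).trans hDg
      rw [ConjClasses.mk_eq_mk_iff_isConj] at this
      exact this.symm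

end Cfsg.Agent.Lib.Helper83

namespace Cfsg.Agent.Lib.Helper83

open scoped ComplexConjugate ComplexOrder MonoidAlgebra
open Cfsg

universe u v
variable {G : Type u} [Group G]

section Gagola

open Classical

variable [Fintype G] (χ : IrrCharacter G) (g : G) (hg1 : g ≠ 1) (hgχ : (χ : G → ℂ) g ≠ 0)
  (hsupp : ∀ x : G, (χ : G → ℂ) x ≠ 0 → x = 1 ∨ IsConj g x)

include hg1 hsupp in
/-- Sum formula for a character supported on `{1} ∪ cl(g)`. -/
theorem gagola_sum (F : G → ℂ) :
    ∑ x : G, (χ : G → ℂ) x * F x =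
      (χ : G → ℂ) 1 * F 1 + (χ : G → ℂ) g * ∑ x : G, (if IsConj g x then F x else 0) := by
  have hnot : ¬ IsConj g 1 := fun h => hg1 (isConj_one_left.1 h)
  rw [Finset.mul_sum]
  have h1 : (χ : G → ℂ) 1 * F 1 = ∑ x : G, (if x = 1 then (χ : G → ℂ) 1 * F 1 else 0) := by
    simp
  rw [h1, ← Finset.sum_add_distrib]
  apply Finset.sum_congr rfl
  intro x _
  by_cases hx1 : x = 1
  · subst hx1
    rw [if_pos rfl, if_neg hnot, mul_zero, add_zero]
  · rw [if_neg hx1, zero_add]
    by_cases hxc : IsConj g x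
    · rw [if_pos hxc]
      obtain ⟨c, hc⟩ := isConj_iff.1 hxc
      rw [← hc, isClassFunction_irr χ g c]
    · rw [if_neg hxc, mul_zero]
      have : (χ : G → ℂ) x = 0 := by
        by_contra h
        rcases hsupp x h with h' | h'
        · exact hx1 h'
        · exact hxc h'
      rw [this, zero_mul]

theorem sum_ite_isConj_one (g : G) :
    ∑ x : G, (if IsConj g x then (1 : ℂ) else 0) = (Nat.card {x : G // IsConj g x} : ℂ) := by
  rw [← Finset.sum_filter, Finset.sum_const, nsmul_eq_mul, mul_one, Nat.card_eq_fintype_card,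
    Fintype.card_subtype]

include hg1 hsupp in
/-- Such a character is not the trivial character when `|G| > 2`. -/
theorem gagola_ne_triv (hG : 2 < Nat.card G) : χ ≠ trivChar G := by
  intro htriv
  have hall : ∀ x : G, x ≠ 1 → IsConj g x := by
    intro x hx
    have : (χ : G → ℂ) x ≠ 0 := by rw [htriv, trivChar_apply]; exact one_ne_zero
    rcases hsupp x this with h | h
    · exact absurd h hx
    · exact h
  have hcard := card_centralizer_mul_card_conj g
  have hk : Nat.card {x : G // IsConj g x} + 1 = Nat.card G := by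
    rw [Nat.card_eq_fintype_card, Nat.card_eq_fintype_card, Fintype.card_subtype]
    have : (Finset.univ.filter (fun x : G => IsConj g x)) = Finset.univ.erase 1 := by
      ext x
      simp only [Finset.mem_filter, Finset.mem_univ, true_and, Finset.mem_erase, and_true]
      constructor
      · intro h hx
        subst hx
        exact hg1 (isConj_one_left.1 h)
      · exact hall x
    rw [this, Finset.card_erase_of_mem (Finset.mem_univ _), Finset.card_univ]
    have : 0 < Fintype.card G := Fintype.card_pos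
    omega
  -- centralizer has at least 2 elements
  have hc2 : 2 ≤ Nat.card (Subgroup.centralizer ({g} : Set G)) := by
    have h1 : (1 : G) ∈ Subgroup.centralizer ({g} : Set G) := Subgroup.one_mem _
    have h2 : g ∈ Subgroup.centralizer ({g} : Set G) := by
      rw [Subgroup.mem_centralizer_iff]
      intro y hy
      rw [Set.mem_singleton_iff.1 hy]
    have hnt : Nontrivial (Subgroup.centralizer ({g} : Set G)) :=
      ⟨⟨⟨g, h2⟩, ⟨1, h1⟩, fun h => hg1 (congrArg Subtype.val h)⟩⟩
    exact Finite.one_lt_card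
  set k := Nat.card {x : G // IsConj g x} with hkdef
  set c := Nat.card (Subgroup.centralizer ({g} : Set G)) with hcdef
  have hkpos : 1 ≤ k := by
    by_contra h
    have : k = 0 := by omega
    rw [this] at hk
    omega
  -- c * k = k + 1 with c ≥ 2 forces k = 1
  have : c * k = k + 1 := by rw [hcard, hk]
  have hk1 : k = 1 := by nlinarith
  rw [hk1] at hk
  omega

include hg1 hsupp in
/-- `χ(1) + |cl(g)| χ(g) = 0`. -/
theorem gagola_degree_eq (hne : χ ≠ trivChar G) :
    (χ : G → ℂ) 1 + (Nat.card {x : G // IsConj g x} : ℂ) * (χ : G → ℂ) g = 0 := by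
  have h := irr_inner_ne hne
  rw [classInner_def] at h
  have h2 : ∑ x : G, (χ : G → ℂ) x * conj ((trivChar G : G → ℂ) x) = 0 := by
    rcases mul_eq_zero.1 h with h' | h'
    · exact absurd (inv_eq_zero.1 h') card_ne_zero_complex
    · exact h'
  simp only [trivChar_apply, map_one] at h2
  rw [gagola_sum χ g hg1 hsupp (fun _ => 1), sum_ite_isConj_one, mul_one] at h2
  rw [← h2]; ring

include hg1 hsupp in
/-- `∑_{x ∈ cl(g)} χ(h x) = - χ(h)`. -/
theorem gagola_class_sum (hne : χ ≠ trivChar G) (h : G) :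
    ∑ x : G, (if IsConj g x then (χ : G → ℂ) (h * x) else 0) = - (χ : G → ℂ) h := by
  set c : G → ℂ := fun x => if IsConj g x then 1 else 0 with hc
  have hcc : IsClassFunction G c := by
    intro x y
    simp only [hc]
    have : IsConj g (y * x * y⁻¹) ↔ IsConj g x := by
      constructor
      · intro h1; exact h1.trans (isConj_iff.2 ⟨y⁻¹, by group⟩)
      · intro h1; exact h1.trans (isConj_iff.2 ⟨y, rfl⟩)
    rw [if_congr this rfl rfl]
  have hm := irr_sum_classFunction_mul χ hcc h
  simp only [hc, ite_mul, one_mul, zero_mul] at hm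
  rw [hm]
  have h2 : ∑ x : G, (if IsConj g x then (χ : G → ℂ) x else 0)
      = (Nat.card {x : G // IsConj g x} : ℂ) * (χ : G → ℂ) g := by
    rw [← sum_ite_isConj_one, Finset.sum_mul]
    apply Finset.sum_congr rfl
    intro x _
    split_ifs with hx
    · obtain ⟨c', hc'⟩ := isConj_iff.1 hx
      rw [one_mul, ← hc', isClassFunction_irr χ g c']
    · rw [zero_mul]
  rw [h2]
  have hd := irr_degree_ne_zero χ
  have h3 := gagola_degree_eq χ g hg1 hsupp hne
  have h4 : (Nat.card {x : G // IsConj g x} : ℂ) * (χ : G → ℂ) g = - (χ : G → ℂ) 1 := by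
    linear_combination h3
  rw [h4]
  field_simp

omit [Fintype G] in
theorem gagola_val {x : G} (hx : IsConj g x) : (χ : G → ℂ) x = (χ : G → ℂ) g := by
  obtain ⟨c, hc⟩ := isConj_iff.1 hx
  rw [← hc, isClassFunction_irr χ g c]

include hg1 hgχ hsupp in
theorem gagola_inv_mem {h : G} (hh : IsConj g h) : IsConj g h⁻¹ := by
  have h0 : (χ : G → ℂ) h⁻¹ ≠ 0 := by
    rw [char_inv (IrrCharacter_isCharacter χ), gagola_val χ g hh]
    exact (map_ne_zero _).2 hgχ
  rcases hsupp h⁻¹ h0 with h1 | h1
  · exfalso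
    have : h = 1 := inv_eq_one.1 h1
    subst this
    exact hg1 (isConj_one_left.1 hh)
  · exact h1

include hg1 hgχ hsupp in
theorem gagola_mul_mem (hne : χ ≠ trivChar G) {h x : G} (hh : IsConj g h) (hx : IsConj g x) :
    h * x = 1 ∨ IsConj g (h * x) := by
  by_cases hxh : x = h⁻¹
  · left; rw [hxh, mul_inv_cancel]
  right
  set K : Finset G := Finset.univ.filter (fun x => IsConj g x) with hK
  have hkcard : (Nat.card {x : G // IsConj g x}) = K.card := by
    rw [Nat.card_eq_fintype_card, Fintype.card_subtype]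
  have hsum := gagola_class_sum χ g hg1 hsupp hne h
  rw [← Finset.sum_filter, ← hK] at hsum
  have hinv : h⁻¹ ∈ K := by
    rw [hK, Finset.mem_filter]
    exact ⟨Finset.mem_univ _, gagola_inv_mem χ g hg1 hgχ hsupp hh⟩
  rw [← Finset.add_sum_erase K _ hinv, mul_inv_cancel] at hsum
  have hterm : ∀ y ∈ K.erase h⁻¹, (χ : G → ℂ) (h * y) =
      if IsConj g (h * y) then (χ : G → ℂ) g else 0 := by
    intro y hy
    have hy1 : h * y ≠ 1 := by
      intro h1
      have : y = h⁻¹ := eq_inv_of_mul_eq_one_right h1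
      exact (Finset.ne_of_mem_erase hy) this
    split_ifs with hc
    · exact gagola_val χ g hc
    · by_contra h0
      rcases hsupp _ h0 with h' | h'
      · exact hy1 h'
      · exact hc h'
  rw [Finset.sum_congr rfl hterm, ← Finset.sum_filter, Finset.sum_const, nsmul_eq_mul,
    gagola_val χ g hh] at hsum
  have hdeg := gagola_degree_eq χ g hg1 hsupp hne
  rw [hkcard] at hdeg
  set j := ((K.erase h⁻¹).filter (fun y => IsConj g (h * y))).card with hj
  have hjk : ((j : ℂ) + 1 - (K.card : ℂ)) * (χ : G → ℂ) g = 0 := by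
    linear_combination hsum - hdeg
  have hjk2 : (j : ℂ) + 1 = (K.card : ℂ) := by
    rcases mul_eq_zero.1 hjk with h' | h'
    · linear_combination h'
    · exact absurd h' hgχ
  have hjk3 : j + 1 = K.card := by exact_mod_cast hjk2
  have hcard_erase : (K.erase h⁻¹).card = K.card - 1 := Finset.card_erase_of_mem hinv
  have hfe : (K.erase h⁻¹).filter (fun y => IsConj g (h * y)) = K.erase h⁻¹ := by
    apply Finset.eq_of_subset_of_card_le (Finset.filter_subset _ _)
    rw [hcard_erase, ← hj]; omega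
  have hxm : x ∈ K.erase h⁻¹ := by
    rw [Finset.mem_erase]
    exact ⟨hxh, by rw [hK, Finset.mem_filter]; exact ⟨Finset.mem_univ _, hx⟩⟩
  rw [← hfe, Finset.mem_filter] at hxm
  exact hxm.2

include hg1 hgχ hsupp in
/-- The support of `χ` is a normal subgroup. -/
theorem gagola_subgroup (hne : χ ≠ trivChar G) :
    ∃ N : Subgroup G, N.Normal ∧ ∀ x, x ∈ N ↔ (x = 1 ∨ IsConj g x) := by
  refine ⟨{ carrier := {x | x = 1 ∨ IsConj g x}
            mul_mem' := ?_
            one_mem' := Or.inl rfl
            inv_mem' := ?_ }, ⟨?_⟩, fun x => Iff.rfl⟩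
  · rintro a b (rfl | ha) (rfl | hb)
    · left; rw [mul_one]
    · right; rwa [one_mul]
    · right; rwa [mul_one]
    · exact gagola_mul_mem χ g hg1 hgχ hsupp hne ha hb
  · rintro a (rfl | ha)
    · left; exact inv_one
    · right; exact gagola_inv_mem χ g hg1 hgχ hsupp ha
  · rintro n (rfl | hn) c
    · left; simp
    · right
      exact hn.trans (isConj_iff.2 ⟨c, rfl⟩)

include hsupp in
/-- Every nontrivial normal subgroup contains `g`. -/
theorem gagola_minimal (K : Subgroup G) [K.Normal] (hK : K ≠ ⊥) : g ∈ K := by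
  by_contra hgK
  have hd := irr_degree_ne_zero χ
  have hvan : ∀ x ∈ K, x ≠ 1 → (χ : G → ℂ) x = 0 := by
    intro x hx hx1
    by_contra h0
    rcases hsupp x h0 with h | h
    · exact hx1 h
    · obtain ⟨c, hc⟩ := isConj_iff.1 h.symm
      apply hgK
      rw [← hc]
      exact Subgroup.Normal.conj_mem inferInstance x hx c
  have hsum : ∑ n : K, (χ : G → ℂ) n = (χ : G → ℂ) 1 := by
    rw [Finset.sum_eq_single (1 : K)]
    · rfl
    · intro b _ hb
      apply hvan b b.2
      intro h
      apply hb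
      exact Subtype.ext h
    · intro h; exact absurd (Finset.mem_univ _) h
  have hall : ∀ x ∈ K, (χ : G → ℂ) x = (χ : G → ℂ) 1 := by
    intro x hx
    by_contra hne
    have := irr_sum_normal_eq_zero χ K ⟨x, hx, hne⟩
    rw [hsum] at this
    exact hd this
  obtain ⟨x, hx1⟩ := (Subgroup.ne_bot_iff_exists_ne_one.1 hK)
  have h1 : (x : G) ≠ 1 := fun h => hx1 (Subtype.ext h)
  have := hvan x x.2 h1
  rw [hall x x.2] at this
  exact hd this

include hg1 hgχ hsupp in
/-- `χ(g) ≠ χ(1)`. -/
theorem gagola_val_ne (hne : χ ≠ trivChar G) : (χ : G → ℂ) g ≠ (χ : G → ℂ) 1 := by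
  intro h
  have hdeg := gagola_degree_eq χ g hg1 hsupp hne
  rw [h] at hdeg
  have hd := irr_degree_ne_zero χ
  have h2 : ((1 : ℂ) + (Nat.card {x : G // IsConj g x} : ℂ)) * (χ : G → ℂ) 1 = 0 := by
    linear_combination hdeg
  rcases mul_eq_zero.1 h2 with h' | h'
  · have h3 : ((1 + Nat.card {x : G // IsConj g x} : ℕ) : ℂ) = 0 := by push_cast; exact h'
    have h4 : (1 + Nat.card {x : G // IsConj g x}) = 0 := by exact_mod_cast h3
    omega
  · exact hd h'

include hg1 hgχ hsupp in
/-- `χ` is faithful. -/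
theorem gagola_faithful (hne : χ ≠ trivChar G) (x : G)
    (hx : (χ : G → ℂ) x = (χ : G → ℂ) 1) : x = 1 := by
  have hd := irr_degree_ne_zero χ
  have h0 : (χ : G → ℂ) x ≠ 0 := by rw [hx]; exact hd
  rcases hsupp x h0 with h | h
  · exact h
  · exfalso
    rw [gagola_val χ g h] at hx
    exact gagola_val_ne χ g hg1 hgχ hsupp hne hx

include hg1 hgχ hsupp in
/-- `χ` is the only faithful irreducible character. -/
theorem gagola_unique_faithful (hne : χ ≠ trivChar G) (ψ : IrrCharacter G)
    (hψ : ∀ x : G, (ψ : G → ℂ) x = (ψ : G → ℂ) 1 → x = 1) : ψ = χ := by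
  by_contra hψχ
  obtain ⟨N, hNn, hN⟩ := gagola_subgroup χ g hg1 hgχ hsupp hne
  have hgN : g ∈ N := (hN g).2 (Or.inr (IsConj.refl g))
  have hnot : ¬ IsConj g 1 := fun h => hg1 (isConj_one_left.1 h)
  -- sum of ψ over N vanishes
  have hsumN : ∑ n : N, (ψ : G → ℂ) n = 0 :=
    irr_sum_normal_eq_zero ψ N ⟨g, hgN, fun h => hg1 (hψ g h)⟩
  rw [sum_subgroup_eq_sum_ite] at hsumN
  have hsplit : ∑ x : G, (if x ∈ N then (ψ : G → ℂ) x else 0)
      = (ψ : G → ℂ) 1 + ∑ x : G, (if IsConj g x then (ψ : G → ℂ) x else 0) := by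
    have h1 : (ψ : G → ℂ) 1 = ∑ x : G, (if x = 1 then (ψ : G → ℂ) 1 else 0) := by simp
    rw [h1, ← Finset.sum_add_distrib]
    apply Finset.sum_congr rfl
    intro x _
    by_cases hx1 : x = 1
    · subst hx1
      rw [if_pos (N.one_mem), if_pos rfl, if_neg hnot, add_zero]
    · rw [if_neg hx1, zero_add]
      by_cases hxc : IsConj g x
      · rw [if_pos hxc, if_pos ((hN x).2 (Or.inr hxc))]
      · rw [if_neg hxc, if_neg]
        intro hxN
        rcases (hN x).1 hxN with h | h
        · exact hx1 h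
        · exact hxc h
  rw [hsplit] at hsumN
  -- orthogonality
  have horth := irr_inner_ne (Ne.symm hψχ)
  rw [classInner_def] at horth
  have h2 : ∑ x : G, (χ : G → ℂ) x * conj ((ψ : G → ℂ) x) = 0 := by
    rcases mul_eq_zero.1 horth with h' | h'
    · exact absurd (inv_eq_zero.1 h') card_ne_zero_complex
    · exact h'
  rw [gagola_sum χ g hg1 hsupp (fun x => conj ((ψ : G → ℂ) x))] at h2
  have h3 : ∑ x : G, (if IsConj g x then conj ((ψ : G → ℂ) x) else 0)
      = conj (∑ x : G, (if IsConj g x then (ψ : G → ℂ) x else 0)) := by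
    rw [map_sum]
    apply Finset.sum_congr rfl
    intro x _
    split_ifs
    · rfl
    · rw [map_zero]
  have h4 : ∑ x : G, (if IsConj g x then (ψ : G → ℂ) x else 0) = - (ψ : G → ℂ) 1 := by
    linear_combination hsumN
  rw [h3, h4, map_neg] at h2
  have h5 : ((χ : G → ℂ) 1 - (χ : G → ℂ) g) * conj ((ψ : G → ℂ) 1) = 0 := by
    linear_combination h2
  rcases mul_eq_zero.1 h5 with h' | h'
  · exact gagola_val_ne χ g hg1 hgχ hsupp hne (sub_eq_zero.1 h').symm
  · exact irr_degree_ne_zero ψ ((map_eq_zero _).1 h')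

end Gagola

/-- A normal subgroup of a finite group whose nonidentity elements form a single conjugacy class
is elementary abelian. -/
theorem elemAbelian_of_single_class [Finite G] (N : Subgroup G) [N.Normal] (g : G) (hg1 : g ≠ 1)
    (hN : ∀ x, x ∈ N ↔ (x = 1 ∨ IsConj g x)) :
    ∃ p : ℕ, p.Prime ∧ Cfsg.IsElementaryAbelian p N := by
  classical
  have hgN : g ∈ N := (hN g).2 (Or.inr (IsConj.refl g))
  have ho1 : orderOf g ≠ 1 := fun h => hg1 (orderOf_eq_one_iff.1 h)
  have ho0 : orderOf g ≠ 0 := (orderOf_pos g).ne'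
  set p := (orderOf g).minFac with hp
  have hpp : p.Prime := Nat.minFac_prime ho1
  have hpd : p ∣ orderOf g := Nat.minFac_dvd _
  -- g has order p
  have hgp : g ^ p = 1 := by
    set y := g ^ (orderOf g / p) with hy
    have hyo : orderOf y = p := orderOf_pow_orderOf_div ho0 hpd
    have hy1 : y ≠ 1 := by
      intro h
      rw [h, orderOf_one] at hyo
      exact hpp.one_lt.ne hyo
    have hyN : y ∈ N := N.pow_mem hgN _
    rcases (hN y).1 hyN with h | h
    · exact absurd h hy1
    · obtain ⟨c, hc⟩ := isConj_iff.1 h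
      have : y ^ p = 1 := by rw [← hyo]; exact pow_orderOf_eq_one y
      rw [← hc, conj_pow] at this
      have h2 : c⁻¹ * (c * g ^ p * c⁻¹) * c = 1 := by rw [this]; group
      rw [← h2]; group
  have hall : ∀ a ∈ N, a ^ p = 1 := by
    intro a ha
    rcases (hN a).1 ha with h | h
    · rw [h, one_pow]
    · obtain ⟨c, hc⟩ := isConj_iff.1 h
      rw [← hc, conj_pow, hgp]; group
  refine ⟨p, hpp, ?_, hall⟩
  -- commutativity
  haveI : Fact p.Prime := ⟨hpp⟩
  have hPG : IsPGroup p N := by
    intro a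
    refine ⟨1, ?_⟩
    rw [pow_one]
    exact Subtype.ext (by simpa using hall a a.2)
  haveI : Nontrivial N := ⟨⟨⟨g, hgN⟩, 1, fun h => hg1 (congrArg Subtype.val h)⟩⟩
  haveI := hPG.center_nontrivial
  obtain ⟨z, hz1⟩ := exists_ne (1 : Subgroup.center N)
  have hzc : ∀ m : N, m * (z : N) = (z : N) * m := fun m => Subgroup.mem_center_iff.1 z.2 m
  have hzG1 : ((z : N) : G) ≠ 1 := by
    intro h
    apply hz1
    apply Subtype.ext
    apply Subtype.ext
    exact h
  have hzconj : IsConj g ((z : N) : G) := by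
    rcases (hN _).1 (z : N).2 with h | h
    · exact absurd h hzG1
    · exact h
  have hcomm : ∀ a b : N, a * b = b * a := by
    intro a b
    rcases (hN _).1 a.2 with h | h
    · have : a = 1 := Subtype.ext h
      rw [this, one_mul, mul_one]
    · have hza : IsConj ((z : N) : G) (a : G) := hzconj.symm.trans h
      obtain ⟨c, hc⟩ := isConj_iff.1 hza
      have hm : c⁻¹ * (b : G) * c ∈ N := by
        have := Subgroup.Normal.conj_mem (inferInstance : N.Normal) b b.2 c⁻¹
        simpa using this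
      have h1 := congrArg Subtype.val (hzc ⟨_, hm⟩)
      simp only [Subgroup.coe_mul] at h1
      apply Subtype.ext
      simp only [Subgroup.coe_mul]
      rw [← hc]
      calc c * ((z : N) : G) * c⁻¹ * (b : G)
          = c * (((z : N) : G) * (c⁻¹ * (b : G) * c)) * c⁻¹ := by group
        _ = c * ((c⁻¹ * (b : G) * c) * ((z : N) : G)) * c⁻¹ := by rw [h1]
        _ = (b : G) * (c * ((z : N) : G) * c⁻¹) := by group
  exact ⟨⟨hcomm⟩⟩


end Cfsg.Agent.Lib.Helper83
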