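import Mathlib
import Cfsg.Agent.Lib.Helper83.Gagola
import Cfsg.Agent.Lib.Helper83.CharMisc
import Cfsg.Agent.Lib.Helper85.CliffordAbelian

set_option autoImplicit false

namespace Cfsg.Agent.Lib.Helper83

open scoped ComplexConjugate ComplexOrder MonoidAlgebra
open Cfsg

universe u v
variable {G : Type u} [Group G]

/-- If a character vanishes on the nonidentity elements of a subgroup `H`, then `|H|` divides
its degree. -/
theorem card_dvd_degree_of_vanish [Finite G] {θ : G → ℂ} (hθ : IsCharacter G θ) (H : Subgroup G)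
    (hv : ∀ h ∈ H, h ≠ 1 → θ h = 0) : Nat.card H ∣ charDegree θ := by
  classical
  have := Fintype.ofFinite G
  have : Fintype H := Fintype.ofFinite _
  have hres : IsCharacter H (fun h : H => θ (h : G)) := isCharacter_restrict H hθ
  obtain ⟨m, hm⟩ := classInner_char_nat hres (IrrCharacter_isCharacter (trivChar H))
  rw [classInner_def] at hm
  have hsum : ∑ h : H, θ (h : G) * conj ((trivChar H : H → ℂ) h) = θ 1 := by
    rw [Finset.sum_eq_single (1 : H)]
    · simp [trivChar_apply]
    · intro b _ hb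
      rw [hv b b.2 (fun h => hb (Subtype.ext h)), zero_mul]
    · intro h; exact absurd (Finset.mem_univ _) h
  rw [hsum, ← charDegree_cast hθ] at hm
  have hH : (Nat.card H : ℂ) ≠ 0 := card_ne_zero_complex
  have h2 : (charDegree θ : ℂ) = ((m * Nat.card H : ℕ) : ℂ) := by
    push_cast
    field_simp at hm
    linear_combination hm
  have h3 : charDegree θ = m * Nat.card H := by exact_mod_cast h2
  exact ⟨m, by rw [h3, mul_comm]⟩

/-- A subgroup of index `k` in a group of order `p^m k` with `p ∤ k` is a Sylow `p`-subgroup. -/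
theorem exists_sylow_of_index [Finite G] {p : ℕ} [Fact p.Prime] {m k : ℕ}
    (hG : Nat.card G = p ^ m * k) (hpk : ¬ p ∣ k) (C : Subgroup G) (hC : C.index = k) :
    ∃ P : Sylow p G, (P : Subgroup G) = C := by
  have hk0 : 0 < k := by
    rcases Nat.eq_zero_or_pos k with h | h
    · exact absurd (h ▸ dvd_zero p) hpk
    · exact h
  have hcard : Nat.card C = p ^ m := by
    have h := Subgroup.card_mul_index C
    rw [hC, hG] at h
    exact Nat.eq_of_mul_eq_mul_right hk0 h
  have hP : IsPGroup p C := IsPGroup.of_card hcard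
  exact ⟨hP.toSylow (by rw [hC]; exact hpk), IsPGroup.toSylow_coe _ _⟩

/-- The class of an element of `Z_{i+1}` has at most `|Z_i|` elements. -/
theorem card_conj_le_upperCentralSeries {H : Type*} [Group H] [Finite H] (i : ℕ) (z : H)
    (hz : z ∈ Subgroup.upperCentralSeries H (i + 1)) :
    Nat.card {x : H // IsConj z x} ≤ Nat.card (Subgroup.upperCentralSeries H i) := by
  rw [Subgroup.mem_upperCentralSeries_succ_iff] at hz
  have hmem : ∀ x : {x : H // IsConj z x}, (x : H) * z⁻¹ ∈ Subgroup.upperCentralSeries H i := by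
    rintro ⟨x, hx⟩
    obtain ⟨y, rfl⟩ := isConj_iff.1 hx
    have := (Subgroup.upperCentralSeries H i).inv_mem (hz y)
    rw [commutatorElement_def] at this
    have h2 : (z * y * z⁻¹ * y⁻¹)⁻¹ = y * z * y⁻¹ * z⁻¹ := by group
    rwa [h2] at this
  apply Nat.card_le_card_of_injective (fun x : {x : H // IsConj z x} =>
    (⟨(x : H) * z⁻¹, hmem x⟩ : Subgroup.upperCentralSeries H i))
  intro x y hxy
  apply Subtype.ext
  have := congrArg Subtype.val hxy
  exact mul_right_cancel this

/-- If every element outside `M` has a centralizer of order at most `|H| / |M|` in the finite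
nilpotent group `H`, then `M` is a term of the upper central series. -/
theorem exists_upperCentralSeries_eq {H : Type*} [Group H] [Finite H] [hnil : Group.IsNilpotent H]
    (M : Subgroup H)
    (hM : ∀ z : H, z ∉ M →
      Nat.card (Subgroup.centralizer ({z} : Set H)) * Nat.card M ≤ Nat.card H) :
    ∃ i : ℕ, Subgroup.upperCentralSeries H i = M := by
  classical
  have hA : ∀ i, Subgroup.upperCentralSeries H i < M → Subgroup.upperCentralSeries H (i + 1) ≤ M := by
    intro i hi z hz
    by_contra hzM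
    have h1 := card_centralizer_mul_card_conj z
    have h2 := card_conj_le_upperCentralSeries i z hz
    have h3 : Nat.card (Subgroup.upperCentralSeries H i) < Nat.card M := by
      rcases lt_or_eq_of_le (Subgroup.card_le_of_le hi.le) with h | h
      · exact h
      · exact absurd (Subgroup.eq_of_le_of_card_ge hi.le h.ge) hi.ne
    have h4 := hM z hzM
    have h5 : 0 < Nat.card (Subgroup.centralizer ({z} : Set H)) := Nat.card_pos
    have h6 : Nat.card (Subgroup.centralizer ({z} : Set H)) * Nat.card {x : H // IsConj z x}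
        < Nat.card (Subgroup.centralizer ({z} : Set H)) * Nat.card M :=
      Nat.mul_lt_mul_of_pos_left (lt_of_le_of_lt h2 h3) h5
    omega
  obtain ⟨c, hc⟩ := hnil.nilpotent'
  have hex : ∃ i, ¬ Subgroup.upperCentralSeries H i < M := ⟨c, by rw [hc]; exact not_top_lt⟩
  have hspec := Nat.find_spec hex
  refine ⟨Nat.find hex, ?_⟩
  rcases Nat.eq_zero_or_eq_succ_pred (Nat.find hex) with h0 | hs
  · rw [h0] at hspec ⊢
    rw [Subgroup.upperCentralSeries_zero] at hspec ⊢
    by_contra hne
    exact hspec (bot_lt_iff_ne_bot.2 (Ne.symm hne))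
  · have hlt : Subgroup.upperCentralSeries H (Nat.find hex - 1) < M := by
      by_contra h
      exact Nat.find_min hex (by omega : Nat.find hex - 1 < Nat.find hex) h
    have hle := hA _ hlt
    have hs' : Nat.find hex - 1 + 1 = Nat.find hex := by
      rw [Nat.pred_eq_sub_one] at hs; omega
    rw [hs'] at hle
    by_contra hne
    exact hspec (lt_of_le_of_ne hle hne)

section Gagola2

open Classical

variable [Fintype G] (χ : IrrCharacter G) (g : G) (hg1 : g ≠ 1) (hgχ : (χ : G → ℂ) g ≠ 0)
  (hsupp : ∀ x : G, (χ : G → ℂ) x ≠ 0 → x = 1 ∨ IsConj g x)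
  (N : Subgroup G) (hN : ∀ x, x ∈ N ↔ (x = 1 ∨ IsConj g x))

include hg1 hN in
/-- `|N| = |cl(g)| + 1`. -/
theorem gagola_card_N : Nat.card N = Nat.card {x : G // IsConj g x} + 1 := by
  have hnot : ¬ IsConj g 1 := fun h => hg1 (isConj_one_left.1 h)
  have h1 : Nat.card N = (Finset.univ.filter (fun x : G => x ∈ N)).card := by
    rw [Nat.card_eq_fintype_card, Fintype.card_subtype]
  have h2 : Nat.card {x : G // IsConj g x} = (Finset.univ.filter (fun x : G => IsConj g x)).card := by
    rw [Nat.card_eq_fintype_card, Fintype.card_subtype]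
  have : (Finset.univ.filter (fun x : G => x ∈ N))
      = insert 1 (Finset.univ.filter (fun x : G => IsConj g x)) := by
    ext x
    simp only [Finset.mem_insert, Finset.mem_filter, Finset.mem_univ, true_and]
    exact hN x
  rw [h1, h2, this, Finset.card_insert_of_notMem]
  simp only [Finset.mem_filter, Finset.mem_univ, true_and]
  exact hnot

include hg1 hsupp in
/-- Norm computation: `|G| * k = d² (k+1)`. -/
theorem gagola_card_mul (hne : χ ≠ trivChar G) :
    Nat.card G * Nat.card {x : G // IsConj g x}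
      = charDegree (χ : G → ℂ) ^ 2 * (Nat.card {x : G // IsConj g x} + 1) := by
  have hχc := IrrCharacter_isCharacter χ
  have hdeg := gagola_degree_eq χ g hg1 hsupp hne
  rw [← charDegree_cast hχc] at hdeg
  have h := irr_inner_self χ
  rw [classInner_def, gagola_sum χ g hg1 hsupp (fun x => conj ((χ : G → ℂ) x))] at h
  have h2 : ∑ x : G, (if IsConj g x then conj ((χ : G → ℂ) x) else 0)
      = (Nat.card {x : G // IsConj g x} : ℂ) * conj ((χ : G → ℂ) g) := by
    rw [← sum_ite_isConj_one, Finset.sum_mul]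
    apply Finset.sum_congr rfl
    intro x _
    split_ifs with hx
    · rw [one_mul, gagola_val χ g hx]
    · rw [zero_mul]
  rw [h2, ← charDegree_cast hχc] at h
  have hconj : (charDegree (χ : G → ℂ) : ℂ)
      + (Nat.card {x : G // IsConj g x} : ℂ) * conj ((χ : G → ℂ) g) = 0 := by
    have := congrArg conj hdeg
    simpa using this
  have hG := card_ne_zero_complex (G := G)
  have hG2 : (Nat.card G : ℂ) = (charDegree (χ : G → ℂ) : ℂ) * conj (charDegree (χ : G → ℂ) : ℂ)
      + (χ : G → ℂ) g * ((Nat.card {x : G // IsConj g x} : ℂ) * conj ((χ : G → ℂ) g)) := by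
    field_simp at h
    linear_combination -h
  rw [Complex.conj_natCast] at hG2
  have hfin : ((Nat.card G * Nat.card {x : G // IsConj g x} : ℕ) : ℂ)
      = ((charDegree (χ : G → ℂ) ^ 2 * (Nat.card {x : G // IsConj g x} + 1) : ℕ) : ℂ) := by
    push_cast
    linear_combination (Nat.card {x : G // IsConj g x} : ℂ) * hG2
      + ((Nat.card {x : G // IsConj g x} : ℂ) * conj ((χ : G → ℂ) g)) * hdeg
      - (charDegree (χ : G → ℂ) : ℂ) * hconj
  exact_mod_cast hfin

include hg1 hsupp hN in
/-- For a nonprincipal linear character `λ` of `N`: `⟨χ_N, λ⟩ · k = d`. -/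
theorem gagola_inner_restrict (hne : χ ≠ trivChar G) (lam : IrrCharacter N)
    (hlam : lam ≠ trivChar N) (hlin : (lam : N → ℂ) 1 = 1) :
    classInner (fun n : N => (χ : G → ℂ) n) (lam : N → ℂ)
        * (Nat.card {x : G // IsConj g x} : ℂ)
      = (charDegree (χ : G → ℂ) : ℂ) := by
  have hχc := IrrCharacter_isCharacter χ
  have hdeg := gagola_degree_eq χ g hg1 hsupp hne
  rw [← charDegree_cast hχc] at hdeg
  have hcardN := gagola_card_N g hg1 N hN
  have hNne := card_ne_zero_complex (G := N)
  -- sum of conj lam over N vanishes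
  have h0 := irr_inner_ne hlam
  rw [classInner_def] at h0
  have h1 : ∑ n : N, (lam : N → ℂ) n = 0 := by
    rcases mul_eq_zero.1 h0 with h' | h'
    · exact absurd (inv_eq_zero.1 h') hNne
    · simpa [trivChar_apply] using h'
  have h2 : ∑ n : N, conj ((lam : N → ℂ) n) = 0 := by
    rw [← map_sum, h1, map_zero]
  -- values of χ on N
  have hval : ∀ n : N, (χ : G → ℂ) n = (χ : G → ℂ) g
      + (if n = 1 then (charDegree (χ : G → ℂ) : ℂ) - (χ : G → ℂ) g else 0) := by
    intro n
    split_ifs with hn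
    · rw [hn, charDegree_cast hχc]; simp
    · rw [add_zero]
      rcases (hN n).1 n.2 with h | h
      · exact absurd (Subtype.ext h) hn
      · exact gagola_val χ g h
  have hsum : ∑ n : N, (χ : G → ℂ) n * conj ((lam : N → ℂ) n)
      = (charDegree (χ : G → ℂ) : ℂ) - (χ : G → ℂ) g := by
    simp_rw [hval, add_mul, Finset.sum_add_distrib, ← Finset.mul_sum, h2, mul_zero, zero_add,
      ite_mul, zero_mul]
    rw [Finset.sum_ite_eq' Finset.univ (1 : N), if_pos (Finset.mem_univ _), hlin, map_one, mul_one]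
  rw [classInner_def, hsum, hcardN]
  have hk1 : ((Nat.card {x : G // IsConj g x} + 1 : ℕ) : ℂ) ≠ 0 := by
    exact_mod_cast Nat.succ_ne_zero (Nat.card {x : G // IsConj g x})
  field_simp
  push_cast
  linear_combination -hdeg

include hg1 hsupp hN in
/-- The ramification `e`: `d = e k` and `|G| = e² k (k+1)`. -/
theorem gagola_exists_e (hne : χ ≠ trivChar G) (hcomm : ∀ a b : N, a * b = b * a) :
    ∃ e : ℕ, 0 < e ∧ charDegree (χ : G → ℂ) = e * Nat.card {x : G // IsConj g x} ∧
      Nat.card G = e ^ 2 * Nat.card {x : G // IsConj g x}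
        * (Nat.card {x : G // IsConj g x} + 1) := by
  have hχc := IrrCharacter_isCharacter χ
  have hgN : g ∈ N := (hN g).2 (Or.inr (IsConj.refl g))
  have hz : (⟨g, hgN⟩ : N) ≠ 1 := fun h => hg1 (congrArg Subtype.val h)
  obtain ⟨lam, hlam⟩ := exists_irr_ne_of_ne_one hz
  have hlam1 : lam ≠ trivChar N := by
    rintro rfl
    simp [trivChar_apply] at hlam
  have hlin := irr_degree_one_of_comm hcomm lam
  have hinner := gagola_inner_restrict χ g hg1 hsupp N hN hne lam hlam1 hlin
  obtain ⟨e, he⟩ := classInner_char_nat (isCharacter_restrict N hχc) (IrrCharacter_isCharacter lam)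
  rw [he] at hinner
  have hd : charDegree (χ : G → ℂ) = e * Nat.card {x : G // IsConj g x} := by
    exact_mod_cast hinner.symm
  have hdpos := irr_charDegree_pos χ
  have hkpos : 0 < Nat.card {x : G // IsConj g x} := by
    have : Nonempty {x : G // IsConj g x} := ⟨⟨g, IsConj.refl g⟩⟩
    exact Nat.card_pos
  have hepos : 0 < e := by
    rcases Nat.eq_zero_or_pos e with h | h
    · rw [h, zero_mul] at hd; omega
    · exact h
  refine ⟨e, hepos, hd, ?_⟩
  have hmul := gagola_card_mul χ g hg1 hsupp hne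
  rw [hd] at hmul
  apply Nat.eq_of_mul_eq_mul_right hkpos
  rw [hmul]; ring

include hg1 hsupp hN in
/-- `|G| = p^m · k` with `p ∤ k`, where `k = |N| - 1` is the size of the class of `g`. -/
theorem gagola_card_G (hne : χ ≠ trivChar G) (hcomm : ∀ a b : N, a * b = b * a)
    (p : ℕ) [hp : Fact p.Prime] (hNp : IsPGroup p N) :
    ∃ m : ℕ, Nat.card G = p ^ m * Nat.card {x : G // IsConj g x} ∧
      ¬ p ∣ Nat.card {x : G // IsConj g x} := by
  have hχc := IrrCharacter_isCharacter χ
  obtain ⟨e, hepos, hd, hG⟩ := gagola_exists_e χ g hg1 hsupp N hN hne hcomm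
  have hcardN := gagola_card_N g hg1 N hN
  obtain ⟨b, hb⟩ := (IsPGroup.iff_card).1 hNp
  set k := Nat.card {x : G // IsConj g x} with hk
  have hkpos : 0 < k := by
    have : Nonempty {x : G // IsConj g x} := ⟨⟨g, IsConj.refl g⟩⟩
    exact Nat.card_pos
  have hkb : k + 1 = p ^ b := by rw [← hcardN, hb]
  have hb0 : b ≠ 0 := by
    rintro rfl
    rw [pow_zero] at hkb
    omega
  have hpk : ¬ p ∣ k := by
    intro h
    have h1 : p ∣ k + 1 := by rw [hkb]; exact dvd_pow_self p hb0
    have h2 : p ∣ 1 := (Nat.dvd_add_right h).1 h1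
    exact hp.out.one_lt.ne' (Nat.dvd_one.1 h2)
  -- every prime divisor of e is p
  have hprime : ∀ {r : ℕ}, r.Prime → r ∣ e → r = p := by
    intro r hr hre
    by_contra hrp
    have : Fact r.Prime := ⟨hr⟩
    obtain ⟨R⟩ := (inferInstance : Nonempty (Sylow r G))
    have hdisj : Disjoint (R : Subgroup G) N :=
      IsPGroup.disjoint_of_ne r p hrp _ _ R.isPGroup' hNp
    have hv : ∀ h ∈ (R : Subgroup G), h ≠ 1 → (χ : G → ℂ) h = 0 := by
      intro h hh hh1
      by_contra h0
      have hhN : h ∈ N := (hN h).2 (hsupp h h0)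
      have : h ∈ (R : Subgroup G) ⊓ N := ⟨hh, hhN⟩
      rw [hdisj.eq_bot, Subgroup.mem_bot] at this
      exact hh1 this
    have hdvd := card_dvd_degree_of_vanish hχc (R : Subgroup G) hv
    rw [Sylow.card_eq_multiplicity, hd, hG] at hdvd
    have he0 : e ≠ 0 := hepos.ne'
    have hk0 : k ≠ 0 := hkpos.ne'
    have hk10 : k + 1 ≠ 0 := Nat.succ_ne_zero k
    have hfac1 : (e ^ 2 * k * (k + 1)).factorization r
        = 2 * e.factorization r + k.factorization r := by
      rw [Nat.factorization_mul (mul_ne_zero (pow_ne_zero 2 he0) hk0) hk10,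
        Nat.factorization_mul (pow_ne_zero 2 he0) hk0, Nat.factorization_pow]
      simp only [Finsupp.coe_add, Finsupp.coe_smul, Pi.add_apply, Pi.smul_apply, smul_eq_mul]
      have : (k + 1).factorization r = 0 := by
        apply Nat.factorization_eq_zero_of_not_dvd
        rw [hkb]
        intro h
        exact hrp ((Nat.prime_dvd_prime_iff_eq hr hp.out).1 (hr.dvd_of_dvd_pow h))
      rw [this, add_zero]
    have hfac2 : (e * k).factorization r = e.factorization r + k.factorization r := by
      rw [Nat.factorization_mul he0 hk0]; rfl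
    rw [hfac1, hr.pow_dvd_iff_le_factorization (mul_ne_zero he0 hk0), hfac2] at hdvd
    have hpos : 0 < e.factorization r := hr.factorization_pos_of_dvd he0 hre
    omega
  have hepow : e = p ^ e.primeFactorsList.length :=
    Nat.eq_prime_pow_of_unique_prime_dvd hepos.ne' hprime
  refine ⟨2 * e.primeFactorsList.length + b, ?_, hpk⟩
  rw [hG, hkb, pow_add, pow_mul', ← hepow]
  ring

include hg1 hsupp hN in
/-- Centralizers of nonidentity elements of `N` are Sylow `p`-subgroups. -/
theorem gagola_centralizer_sylow (hne : χ ≠ trivChar G) (hcomm : ∀ a b : N, a * b = b * a)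
    (p : ℕ) [hp : Fact p.Prime] (hNp : IsPGroup p N) (x : G) (hxN : x ∈ N) (hx1 : x ≠ 1) :
    ∃ P : Sylow p G, (P : Subgroup G) = Subgroup.centralizer ({x} : Set G) := by
  obtain ⟨m, hG, hpk⟩ := gagola_card_G χ g hg1 hsupp N hN hne hcomm p hNp
  have hgx : IsConj g x := by
    rcases (hN x).1 hxN with h | h
    · exact absurd h hx1
    · exact h
  apply exists_sylow_of_index hG hpk
  rw [index_centralizer_eq_card_conj]
  apply Nat.card_congr
  apply Equiv.subtypeEquivRight
  intro y
  exact ⟨fun h => hgx.trans h, fun h => hgx.symm.trans h⟩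

include hg1 hsupp hN in
/-- Inertia groups of nonprincipal irreducible characters of `N` are Sylow `p`-subgroups. -/
theorem gagola_inertia_sylow (hne : χ ≠ trivChar G) (hcomm : ∀ a b : N, a * b = b * a)
    (p : ℕ) [hp : Fact p.Prime] (hNp : IsPGroup p N) (hNn : N.Normal)
    (μ : IrrCharacter N) (hμ : μ ≠ trivChar N) :
    ∃ P : Sylow p G, ∀ x : G, x ∈ (P : Subgroup G) ↔
      Cfsg.Agent.Lib.Helper85.conjFun hNn (μ : N → ℂ) x = (μ : N → ℂ) := by
  obtain ⟨m, hG, hpk⟩ := gagola_card_G χ g hg1 hsupp N hN hne hcomm p hNp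
  have hcardN := gagola_card_N g hg1 N hN
  have hd0 : (charDegree (χ : G → ℂ) : ℂ) ≠ 0 := by
    exact_mod_cast (irr_charDegree_pos χ).ne'
  have hinner : ∀ lam : IrrCharacter N, lam ≠ trivChar N →
      classInner (fun n : N => (χ : G → ℂ) n) (lam : N → ℂ) ≠ 0 := by
    intro lam hlam h0
    have := gagola_inner_restrict χ g hg1 hsupp N hN hne lam hlam
      (irr_degree_one_of_comm hcomm lam)
    rw [h0, zero_mul] at this
    exact hd0 this.symm
  let _ := Cfsg.Agent.Lib.Helper85.conjFunAction hNn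
  have horbit : MulAction.orbit G (μ : N → ℂ)
      = (fun lam : IrrCharacter N => (lam : N → ℂ)) '' {lam | lam ≠ trivChar N} := by
    ext f
    constructor
    · rintro ⟨x, rfl⟩
      change Cfsg.Agent.Lib.Helper85.conjFun hNn (μ : N → ℂ) x⁻¹ ∈ _
      refine ⟨⟨_, Cfsg.Agent.Lib.Helper85.isIrrCharacter_conjFun hNn μ.2 x⁻¹⟩, ?_, rfl⟩
      intro h
      apply hμ
      apply Subtype.ext
      funext n
      have h1 := congrFun (congrArg Subtype.val h)
        ⟨x * n * x⁻¹, hNn.conj_mem n n.2 x⟩
      simp only [Cfsg.Agent.Lib.Helper85.conjFun_apply, trivChar_apply] at h1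
      rw [trivChar_apply, ← h1]
      refine congrArg _ (Subtype.ext ?_)
      simp [mul_assoc]
    · rintro ⟨lam, hlam, rfl⟩
      have hex : ∃ x : G, (lam : N → ℂ) = Cfsg.Agent.Lib.Helper85.conjFun hNn (μ : N → ℂ) x := by
        by_contra hcon
        have hcon := not_exists.1 hcon
        exact hinner lam hlam
          (Cfsg.Agent.Lib.Helper85.clifford_inner_eq_zero hNn χ.2 μ.2 (hinner μ hμ) lam.2 hcon)
      obtain ⟨x, hx⟩ := hex
      refine ⟨x⁻¹, ?_⟩
      change Cfsg.Agent.Lib.Helper85.conjFun hNn (μ : N → ℂ) x⁻¹⁻¹ = (lam : N → ℂ)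
      rw [inv_inv, hx]
  have hindex : (MulAction.stabilizer G (μ : N → ℂ)).index = Nat.card {x : G // IsConj g x} := by
    rw [MulAction.index_stabilizer, horbit, Set.ncard_image_of_injective _ Subtype.val_injective]
    have : {lam : IrrCharacter N | lam ≠ trivChar N} = {trivChar N}ᶜ := by
      ext lam; simp
    rw [this, Set.ncard_compl, Set.ncard_singleton, card_irr_of_comm hcomm, hcardN]
    omega
  obtain ⟨P, hP⟩ := exists_sylow_of_index hG hpk _ hindex
  refine ⟨P, fun x => ?_⟩
  rw [hP]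
  constructor
  · intro hx
    have := (MulAction.stabilizer G (μ : N → ℂ)).inv_mem hx
    rw [MulAction.mem_stabilizer_iff] at this
    change Cfsg.Agent.Lib.Helper85.conjFun hNn (μ : N → ℂ) x⁻¹⁻¹ = _ at this
    rwa [inv_inv] at this
  · intro hx
    have : x⁻¹ ∈ MulAction.stabilizer G (μ : N → ℂ) := by
      rw [MulAction.mem_stabilizer_iff]
      change Cfsg.Agent.Lib.Helper85.conjFun hNn (μ : N → ℂ) x⁻¹⁻¹ = _
      rwa [inv_inv]
    have h2 := (MulAction.stabilizer G (μ : N → ℂ)).inv_mem this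
    rwa [inv_inv] at h2

include hg1 hgχ hsupp hN in
/-- Every irreducible character other than `χ` has `N` in its kernel. -/
theorem gagola_kernel_of_ne (hne : χ ≠ trivChar G) (ψ : IrrCharacter G) (hψ : ψ ≠ χ) :
    ∀ n ∈ N, (ψ : G → ℂ) n = (ψ : G → ℂ) 1 := by
  have hψc := IrrCharacter_isCharacter ψ
  have hnf : ¬ ∀ x : G, (ψ : G → ℂ) x = (ψ : G → ℂ) 1 → x = 1 :=
    fun h => hψ (gagola_unique_faithful χ g hg1 hgχ hsupp hne ψ h)
  have hK : charKer hψc ≠ ⊥ := by
    intro hbot
    apply hnf
    intro x hx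
    have : x ∈ charKer hψc := (mem_charKer hψc x).2 hx
    rw [hbot, Subgroup.mem_bot] at this
    exact this
  have hgK : g ∈ charKer hψc := gagola_minimal χ g hsupp (charKer hψc) hK
  intro n hn
  rw [← mem_charKer hψc]
  rcases (hN n).1 hn with h | h
  · rw [h]; exact Subgroup.one_mem _
  · obtain ⟨c, hc⟩ := isConj_iff.1 h
    rw [← hc]
    exact (charKer_normal hψc).conj_mem g hgK c

include hg1 hgχ hsupp hN in
/-- For `x ∉ N`, `|C_G(x)| = |C_{G/N}(xN)|`. -/
theorem gagola_card_centralizer (hne : χ ≠ trivChar G) [hNn : N.Normal] (x : G) (hx : x ∉ N) :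
    Nat.card (Subgroup.centralizer ({x} : Set G))
      = Nat.card (Subgroup.centralizer ({(QuotientGroup.mk x : G ⧸ N)} : Set (G ⧸ N))) := by
  have : Fintype (IrrCharacter G) := Fintype.ofFinite _
  have : Fintype (G ⧸ N) := Fintype.ofFinite _
  have : Fintype (IrrCharacter (G ⧸ N)) := Fintype.ofFinite _
  have h1 := second_orthogonality x x
  rw [if_pos (IsConj.refl x)] at h1
  have h2 := second_orthogonality (QuotientGroup.mk x : G ⧸ N) (QuotientGroup.mk x)
  rw [if_pos (IsConj.refl _)] at h2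
  have hχx : (χ : G → ℂ) x = 0 := by
    by_contra h0
    exact hx ((hN x).2 (hsupp x h0))
  have h3 : ∑ φ : IrrCharacter (G ⧸ N), (φ : G ⧸ N → ℂ) (QuotientGroup.mk x)
        * conj ((φ : G ⧸ N → ℂ) (QuotientGroup.mk x))
      = ∑ ψ : {ψ : IrrCharacter G // ∀ n ∈ N, (ψ : G → ℂ) n = (ψ : G → ℂ) 1},
          (ψ.1 : G → ℂ) x * conj ((ψ.1 : G → ℂ) x) := by
    rw [← Equiv.sum_comp (irrQuotientEquiv N)]
    rfl
  have h4 : ∑ ψ : {ψ : IrrCharacter G // ∀ n ∈ N, (ψ : G → ℂ) n = (ψ : G → ℂ) 1},
          (ψ.1 : G → ℂ) x * conj ((ψ.1 : G → ℂ) x)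
      = ∑ ψ : IrrCharacter G, (ψ : G → ℂ) x * conj ((ψ : G → ℂ) x) := by
    rw [← Finset.sum_subtype (Finset.univ.filter
      (fun ψ : IrrCharacter G => ∀ n ∈ N, (ψ : G → ℂ) n = (ψ : G → ℂ) 1)) (by simp)
      (fun ψ : IrrCharacter G => (ψ : G → ℂ) x * conj ((ψ : G → ℂ) x))]
    apply Finset.sum_subset (Finset.subset_univ _)
    intro ψ _ hψ
    rw [Finset.mem_filter] at hψ
    have : ψ = χ := by
      by_contra hne'
      exact hψ ⟨Finset.mem_univ _, gagola_kernel_of_ne χ g hg1 hgχ hsupp N hN hne ψ hne'⟩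
    rw [this, hχx, zero_mul]
  rw [h3, h4, h1] at h2
  exact_mod_cast h2

include hg1 hgχ hsupp hN in
/-- For `z ∈ P \ N`, `P` Sylow: `|C_P(z)| · |N| ≤ |P|`. -/
theorem gagola_card_centralizer_sylow (hne : χ ≠ trivChar G) (hcomm : ∀ a b : N, a * b = b * a)
    (p : ℕ) [hp : Fact p.Prime] (hNp : IsPGroup p N) [hNn : N.Normal] (P : Sylow p G)
    (z : (P : Subgroup G)) (hz : (z : G) ∉ N) :
    Nat.card (Subgroup.centralizer ({z} : Set (P : Subgroup G))) * Nat.card N
      ≤ Nat.card (P : Subgroup G) := by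
  obtain ⟨m, hG, hpk⟩ := gagola_card_G χ g hg1 hsupp N hN hne hcomm p hNp
  set k := Nat.card {x : G // IsConj g x} with hk
  have hk0 : k ≠ 0 := fun h => hpk (h ▸ dvd_zero p)
  have hcardP : Nat.card (P : Subgroup G) = p ^ m := by
    rw [Sylow.card_eq_multiplicity, hG, Nat.factorization_mul (pow_ne_zero m hp.out.ne_zero) hk0,
      Nat.factorization_pow]
    simp [hp.out.factorization_self, Nat.factorization_eq_zero_of_not_dvd hpk]
  obtain ⟨b, hb⟩ := (IsPGroup.iff_card).1 hNp
  have hquot := Subgroup.card_eq_card_quotient_mul_card_subgroup N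
  set D := Subgroup.centralizer ({z} : Set (P : Subgroup G)) with hD
  have hDp : IsPGroup p D := P.isPGroup'.to_subgroup D
  obtain ⟨c, hc⟩ := (IsPGroup.iff_card).1 hDp
  have hmap : D.map (P : Subgroup G).subtype ≤ Subgroup.centralizer ({(z : G)} : Set G) := by
    rintro _ ⟨y, hy, rfl⟩
    have hy : y ∈ Subgroup.centralizer ({z} : Set (P : Subgroup G)) := hy
    rw [Subgroup.mem_centralizer_iff] at hy ⊢
    intro w hw
    rw [Set.mem_singleton_iff.1 hw]
    have := hy z rfl
    exact congrArg Subtype.val this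
  have h1 : Nat.card D ∣ Nat.card (Subgroup.centralizer ({(z : G)} : Set G)) := by
    rw [← Subgroup.card_map_of_injective (Subgroup.subtype_injective _)]
    exact Subgroup.card_dvd_of_le hmap
  rw [gagola_card_centralizer χ g hg1 hgχ hsupp N hN hne (z : G) hz] at h1
  have h2 : Nat.card D ∣ Nat.card (G ⧸ N) := h1.trans (Subgroup.card_subgroup_dvd_card _)
  have h3 : p ^ c * p ^ b ∣ p ^ m * k := by
    rw [← hG, hquot, ← hc, ← hb]
    exact Nat.mul_dvd_mul_right h2 _
  have hcop : Nat.Coprime (p ^ c * p ^ b) k := by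
    rw [← pow_add]
    exact Nat.Coprime.pow_left _ ((Nat.Prime.coprime_iff_not_dvd hp.out).2 hpk)
  have h4 : p ^ c * p ^ b ∣ p ^ m := hcop.dvd_of_dvd_mul_right h3
  rw [hc, hb, hcardP]
  exact Nat.le_of_dvd (pow_pos hp.out.pos m) h4

end Gagola2

end Cfsg.Agent.Lib.Helper83
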