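import Mathlib
import Cfsg.Agent.Lib.Helper01.Basic
import Cfsg.Agent.Lib.Helper04.BurnsidePQ
import Cfsg.Agent.Lib.Helper13.Basic
import Cfsg.Agent.Lib.Helper65.Hall

set_option autoImplicit false

namespace Cfsg.Agent.Lib.Helper83

universe u
variable {G : Type u} [Group G]

theorem index_inf_of_coprime [Finite G] (A B : Subgroup G) (h : Nat.Coprime A.index B.index) :
    (A ⊓ B).index = A.index * B.index := by
  have h1 : A.index ∣ (A ⊓ B).index := Subgroup.index_dvd_of_le inf_le_left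
  have h2 : B.index ∣ (A ⊓ B).index := Subgroup.index_dvd_of_le inf_le_right
  have h3 : A.index * B.index ∣ (A ⊓ B).index := Nat.Coprime.mul_dvd_of_dvd_of_dvd h h1 h2
  have h4 : (A ⊓ B).index ≠ 0 := Subgroup.index_ne_zero_of_finite
  exact Nat.le_antisymm (Subgroup.index_inf_le) (Nat.le_of_dvd (Nat.pos_of_ne_zero h4) h3)

theorem relIndex_eq_index_of_coprime [Finite G] (A B : Subgroup G)
    (h : Nat.Coprime A.index B.index) : B.relIndex A = B.index := by
  have h1 := index_inf_of_coprime A B h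
  have h2 := Subgroup.relIndex_mul_index (inf_le_left : A ⊓ B ≤ A)
  rw [h1, inf_comm, Subgroup.inf_relIndex_right] at h2
  have h3 : 0 < A.index := Nat.pos_of_ne_zero Subgroup.index_ne_zero_of_finite
  apply Nat.eq_of_mul_eq_mul_right h3
  rw [h2, mul_comm]

/-- Subgroups with coprime indices factorize the group. -/
theorem exists_mul_of_coprime_index [Finite G] (A B : Subgroup G)
    (h : Nat.Coprime A.index B.index) (g : G) : ∃ b ∈ B, ∃ a ∈ A, g = b * a := by
  classical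
  have hstab : MulAction.stabilizer ↥B ((1 : G) : G ⧸ A) = A.subgroupOf B := by
    ext b
    rw [MulAction.mem_stabilizer_iff, Subgroup.mem_subgroupOf]
    change ((((b : G) * 1 : G)) : G ⧸ A) = ((1 : G) : G ⧸ A) ↔ _
    rw [eq_comm, QuotientGroup.eq]
    simp
  have hidx := MulAction.index_stabilizer ↥B ((1 : G) : G ⧸ A)
  rw [hstab] at hidx
  change A.relIndex B = _ at hidx
  rw [relIndex_eq_index_of_coprime B A h.symm] at hidx
  have huniv : MulAction.orbit ↥B ((1 : G) : G ⧸ A) = Set.univ := by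
    rw [Set.eq_univ_iff_ncard, ← hidx]
    rfl
  have hg : (g : G ⧸ A) ∈ MulAction.orbit ↥B ((1 : G) : G ⧸ A) := by
    rw [huniv]
    exact Set.mem_univ _
  obtain ⟨b, hb⟩ := hg
  change ((((b : G) * 1 : G)) : G ⧸ A) = (g : G ⧸ A) at hb
  rw [QuotientGroup.eq] at hb
  refine ⟨b, b.2, _, hb, ?_⟩
  simp

/-- `G` has a `p`-complement for every prime `p`. -/
def HasPComplements (G : Type u) [Group G] : Prop :=
  ∀ p : ℕ, p.Prime → ∃ M : Subgroup G, (∃ j, M.index = p ^ j) ∧ ¬ p ∣ Nat.card M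

theorem HasPComplements.quotient [Finite G] (h : HasPComplements G) (N : Subgroup G) [N.Normal] :
    HasPComplements (G ⧸ N) := by
  intro p hp
  obtain ⟨M, ⟨j, hj⟩, hM⟩ := h p hp
  refine ⟨M.map (QuotientGroup.mk' N), ?_, ?_⟩
  · have h1 : (M.map (QuotientGroup.mk' N)).index ∣ M.index :=
      Subgroup.index_map_dvd M (QuotientGroup.mk'_surjective N)
    rw [hj] at h1
    obtain ⟨i, -, hi⟩ := (Nat.dvd_prime_pow hp).1 h1
    exact ⟨i, hi⟩
  · intro hdvd
    exact hM (hdvd.trans (Subgroup.card_map_dvd _ _))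

theorem HasPComplements.subgroup [Finite G] (h : HasPComplements G) (p : ℕ) (hp : p.Prime)
    (M : Subgroup G) (j : ℕ) (hj : M.index = p ^ j) (hM : ¬ p ∣ Nat.card M) :
    HasPComplements ↥M := by
  intro r hr
  by_cases hrp : r = p
  · subst hrp
    exact ⟨⊤, ⟨0, by simp⟩, by rw [Subgroup.card_top]; exact hM⟩
  · obtain ⟨Mr, ⟨i, hi⟩, hMr⟩ := h r hr
    refine ⟨Mr.subgroupOf M, ⟨i, ?_⟩, ?_⟩
    · change Mr.relIndex M = r ^ i
      rw [relIndex_eq_index_of_coprime M Mr ?_, hi]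
      rw [hj, hi]
      exact Nat.Coprime.pow _ _ ((Nat.coprime_primes hp hr).2 (Ne.symm hrp))
    · rw [Cfsg.Agent.Lib.Helper01.card_subgroupOf_eq_card_inf]
      intro hdvd
      exact hMr (hdvd.trans (Subgroup.card_dvd_of_le inf_le_left))

theorem isSolvable_of_hasPComplements_aux : ∀ n : ℕ, ∀ (G : Type u) [Group G] [Finite G],
    Nat.card G = n → HasPComplements G → Group.IsSolvable G := by
  intro n
  induction n using Nat.strong_induction_on with
  | _ n ih =>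
  intro G _ _ hn hpc
  by_cases h1 : Nat.card G = 1
  · have : Subsingleton G := (Nat.card_eq_one_iff_unique.1 h1).1
    infer_instance
  have hn1 : n ≠ 1 := hn ▸ h1
  have hn0 : n ≠ 0 := hn ▸ Nat.card_pos.ne'
  have hp : (n.minFac).Prime := Nat.minFac_prime hn1
  have hpn : n.minFac ∣ Nat.card G := hn ▸ Nat.minFac_dvd n
  generalize n.minFac = p at hp hpn
  obtain ⟨M₁, ⟨j₁, hj₁⟩, hM₁⟩ := hpc p hp
  have hlt : ∀ (q : ℕ) (M : Subgroup G), q ∣ Nat.card G → ¬ q ∣ Nat.card M → Nat.card M < n := by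
    intro q M hqG hqM
    rw [← hn]
    apply lt_of_le_of_ne (Subgroup.card_le_card_group M)
    intro heq
    exact hqM (heq ▸ hqG)
  have hsolv : ∀ (q : ℕ) (_ : q.Prime) (M : Subgroup G) (j : ℕ), q ∣ Nat.card G →
      M.index = q ^ j → ¬ q ∣ Nat.card M → Group.IsSolvable ↥M := fun q hq M j hqG hj hM =>
    ih _ (hlt q M hqG hM) ↥M rfl (hpc.subgroup q hq M j hj hM)
  have hM₁solv := hsolv p hp M₁ j₁ hpn hj₁ hM₁
  by_cases hM₁triv : Nat.card M₁ = 1
  · have hcard : Nat.card G = p ^ j₁ * 2 ^ 0 := by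
      rw [← M₁.card_mul_index, hM₁triv, hj₁]
      ring
    exact Cfsg.Agent.Lib.Helper04.burnside_paqb p 2 j₁ 0 hp Nat.prime_two hcard
  have : Nontrivial ↥M₁ := by
    apply (Finite.one_lt_card_iff_nontrivial).1
    have := Nat.card_pos (α := ↥M₁)
    omega
  obtain ⟨r, A, hr, hAn, hAne, hAp, -⟩ := Cfsg.Agent.Lib.Helper65.exists_normal_abelian_pgroup ↥M₁
  have hrF : Fact r.Prime := ⟨hr⟩
  obtain ⟨c, hc⟩ := (IsPGroup.iff_card).1 hAp
  have hc0 : c ≠ 0 := by
    rintro rfl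
    rw [pow_zero] at hc
    exact hAne (Subgroup.eq_bot_of_card_eq A hc)
  have hrM₁ : r ∣ Nat.card M₁ :=
    (dvd_pow_self r hc0).trans (hc ▸ Subgroup.card_subgroup_dvd_card A)
  have hrp : r ≠ p := fun h => hM₁ (h ▸ hrM₁)
  by_cases hex : ∃ p₂ : ℕ, p₂.Prime ∧ p₂ ∣ Nat.card G ∧ p₂ ≠ p ∧ p₂ ≠ r
  swap
  · push Not at hex
    have h2 := Nat.ordProj_mul_ordCompl_eq_self (Nat.card G) p
    have hG0 : Nat.card G ≠ 0 := Nat.card_pos.ne'
    have h3 : ordCompl[p] (Nat.card G) ≠ 0 := (Nat.ordCompl_pos p hG0).ne'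
    have h4 := Nat.eq_prime_pow_of_unique_prime_dvd (p := r) h3 (by
      intro d hd hdvd
      have hdG : d ∣ Nat.card G := hdvd.trans (Nat.ordCompl_dvd _ p)
      by_contra hdr
      by_cases hdp : d = p
      · subst hdp
        exact Nat.not_dvd_ordCompl hd hG0 hdvd
      · exact hdr (hex d hd hdG hdp))
    rw [h4] at h2
    exact Cfsg.Agent.Lib.Helper04.burnside_paqb p r _ _ hp hr h2.symm
  obtain ⟨p₂, hp₂, hp₂G, hp₂p, hp₂r⟩ := hex
  obtain ⟨M₂, ⟨j₂, hj₂⟩, hM₂⟩ := hpc p₂ hp₂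
  have hM₂solv := hsolv p₂ hp₂ M₂ j₂ hp₂G hj₂ hM₂
  have hcop12 : Nat.Coprime M₁.index M₂.index := by
    rw [hj₁, hj₂]
    exact Nat.Coprime.pow _ _ ((Nat.coprime_primes hp hp₂).2 (Ne.symm hp₂p))
  have hDidx : (M₂.subgroupOf M₁).index = p₂ ^ j₂ := by
    change M₂.relIndex M₁ = _
    rw [relIndex_eq_index_of_coprime M₁ M₂ hcop12, hj₂]
  have hAD : A ≤ M₂.subgroupOf M₁ := by
    have h1 : (M₂.subgroupOf M₁).relIndex A ∣ (M₂.subgroupOf M₁).index :=
      Cfsg.Agent.Lib.Helper13.relIndex_normal_dvd_index (M₂.subgroupOf M₁) A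
    have h2 : (M₂.subgroupOf M₁).relIndex A ∣ Nat.card A := Subgroup.relIndex_dvd_card _ _
    rw [hDidx] at h1
    rw [hc] at h2
    have hcop : Nat.Coprime (p₂ ^ j₂) (r ^ c) :=
      Nat.Coprime.pow _ _ ((Nat.coprime_primes hp₂ hr).2 hp₂r)
    exact Subgroup.relIndex_eq_one.1 (Nat.eq_one_of_dvd_coprimes hcop h1 h2)
  have hA'M₂ : A.map M₁.subtype ≤ M₂ := by
    rintro _ ⟨a, ha, rfl⟩
    exact hAD ha
  have hA'ne : A.map M₁.subtype ≠ ⊥ := by
    intro h
    apply hAne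
    rw [eq_bot_iff]
    intro a ha
    have h5 : (a : G) ∈ A.map M₁.subtype := ⟨a, ha, rfl⟩
    rw [h, Subgroup.mem_bot] at h5
    rw [Subgroup.mem_bot]
    exact Subtype.ext h5
  have hNM₂ : Subgroup.normalClosure ((A.map M₁.subtype : Subgroup G) : Set G) ≤ M₂ := by
    apply (Subgroup.closure_le _).2
    intro x hx
    obtain ⟨a, ha, hconj⟩ := Group.mem_conjugatesOfSet_iff.1 hx
    obtain ⟨g, hg⟩ := isConj_iff.1 hconj
    obtain ⟨m₂, hm₂, m₁, hm₁, rfl⟩ := exists_mul_of_coprime_index M₁ M₂ hcop12 g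
    have h3 : m₁ * a * m₁⁻¹ ∈ A.map M₁.subtype := by
      obtain ⟨a₀, ha₀, rfl⟩ := ha
      exact ⟨⟨m₁, hm₁⟩ * a₀ * ⟨m₁, hm₁⟩⁻¹, hAn.conj_mem a₀ ha₀ _, by simp⟩
    rw [← hg]
    have h4 : m₂ * m₁ * a * (m₂ * m₁)⁻¹ = m₂ * (m₁ * a * m₁⁻¹) * m₂⁻¹ := by group
    rw [h4]
    exact M₂.mul_mem (M₂.mul_mem hm₂ (hA'M₂ h3)) (M₂.inv_mem hm₂)
  generalize hN : Subgroup.normalClosure ((A.map M₁.subtype : Subgroup G) : Set G) = N at hNM₂
  have hNn : N.Normal := hN ▸ Subgroup.normalClosure_normal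
  have hA'N : A.map M₁.subtype ≤ N := hN ▸ Subgroup.le_normalClosure
  have hNne : N ≠ ⊥ := fun h => hA'ne (eq_bot_iff.2 (h ▸ hA'N))
  have hNsolv : Group.IsSolvable ↥N :=
    Group.isSolvable_of_isSolvable_injective (Subgroup.inclusion_injective hNM₂)
  have hQlt : Nat.card (G ⧸ N) < n := by
    rw [← hn, ← N.card_mul_index]
    change N.index < _
    have hNpos : 1 < Nat.card N := by
      have h6 := Nat.card_pos (α := ↥N)
      have h7 : Nat.card N ≠ 1 := fun h => hNne (Subgroup.eq_bot_of_card_eq N h)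
      omega
    have hidx : 0 < N.index := Nat.pos_of_ne_zero Subgroup.index_ne_zero_of_finite
    nlinarith
  have hQsolv : Group.IsSolvable (G ⧸ N) := ih _ hQlt (G ⧸ N) rfl (hpc.quotient N)
  exact Group.isSolvable_of_ker_le_range N.subtype (QuotientGroup.mk' N) (by simp)

/-- **Hall's converse theorem**: a finite group having a `p`-complement for every prime `p` is
solvable. -/
theorem isSolvable_of_hasPComplements (G : Type u) [Group G] [Finite G] (h : HasPComplements G) :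
    Group.IsSolvable G :=
  isSolvable_of_hasPComplements_aux _ G rfl h

end Cfsg.Agent.Lib.Helper83
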