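import Mathlib

set_option autoImplicit false

namespace Cfsg.Agent.Lib.Helper83.NineD8

variable {M : Type*} [AddCommGroup M] [Module (ZMod 2) M]

theorem add_self_z2 (m : M) : m + m = 0 := by
  have h : (2 : ZMod 2) = 0 := by decide
  calc m + m = (2 : ZMod 2) • m := (two_smul _ m).symm
    _ = 0 := by rw [h, zero_smul]

theorem eq_of_add_eq_zero_z2 {x y : M} (h : x + y = 0) : x = y := by
  have h2 := add_self_z2 y
  calc x = x + (y + y) := by rw [h2, add_zero]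
    _ = (x + y) + y := by abel
    _ = y := by rw [h, zero_add]

/-- An involution has a nonzero fixed vector in any invariant nonzero submodule. -/
theorem invol_fixed (g : M →ₗ[ZMod 2] M) (hg : ∀ m, g (g m) = m) (W : Submodule (ZMod 2) M)
    (hW : W ≠ ⊥) (hgW : ∀ w ∈ W, g w ∈ W) : ∃ w ∈ W, w ≠ 0 ∧ g w = w := by
  obtain ⟨w, hwW, hw0⟩ := (Submodule.ne_bot_iff W).1 hW
  by_cases h : g w = w
  · exact ⟨w, hwW, hw0, h⟩
  · refine ⟨w + g w, W.add_mem hwW (hgW w hwW), ?_, ?_⟩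
    · intro h0
      exact h (eq_of_add_eq_zero_z2 h0).symm
    · rw [map_add, hg, add_comm]

/-- The fixed submodule of a linear map. -/
def fixSub (f : M →ₗ[ZMod 2] M) : Submodule (ZMod 2) M where
  carrier := {m | f m = m}
  add_mem' := by
    intro x y hx hy
    simp only [Set.mem_ofPred_eq] at *
    rw [map_add, hx, hy]
  zero_mem' := by simp
  smul_mem' := by
    intro c x hx
    simp only [Set.mem_ofPred_eq] at *
    rw [map_smul, hx]

@[simp] theorem mem_fixSub {f : M →ₗ[ZMod 2] M} {m : M} : m ∈ fixSub f ↔ f m = m := Iff.rfl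

/-- The operator relations. -/
structure Ctx (a b r t : M →ₗ[ZMod 2] M) : Prop where
  a3 : ∀ m, a (a (a m)) = m
  b3 : ∀ m, b (b (b m)) = m
  ab : ∀ m, a (b m) = b (a m)
  r4 : ∀ m, r (r (r (r m))) = m
  t2 : ∀ m, t (t m) = m
  br : ∀ m, b (r m) = r (a m)
  arb : ∀ m, a (r (b m)) = r m
  ta : ∀ m, t (a m) = a (t m)
  btb : ∀ m, b (t (b m)) = t m
  rtr : ∀ m, r (t (r m)) = t m
  aza : ∀ m, a (r (r (a m))) = r (r m)
  bzb : ∀ m, b (r (r (b m))) = r (r m)
  irr : ∀ N : Submodule (ZMod 2) M, (∀ m ∈ N, a m ∈ N) → (∀ m ∈ N, b m ∈ N) →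
    (∀ m ∈ N, r m ∈ N) → (∀ m ∈ N, t m ∈ N) → N = ⊥ ∨ N = ⊤
  zero : ∀ m, a m = m → b m = m → m = 0
  sup : ∀ m, ∃ u w, a u = u ∧ b w = w ∧ m = u + w

namespace Ctx

variable {a b r t : M →ₗ[ZMod 2] M}

theorem r_fa (h : Ctx a b r t) {m : M} (hm : a m = m) : b (r m) = r m := by rw [h.br, hm]

theorem r_fb (h : Ctx a b r t) {m : M} (hm : b m = m) : a (r m) = r m := by
  have := h.arb m
  rwa [hm] at this

theorem z_fa (h : Ctx a b r t) {m : M} (hm : a m = m) : a (r (r m)) = r (r m) := by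
  have := h.aza m
  rwa [hm] at this

theorem b_fa (h : Ctx a b r t) {m : M} (hm : a m = m) : a (b m) = b m := by rw [h.ab, hm]

theorem t_fa (h : Ctx a b r t) {m : M} (hm : a m = m) : a (t m) = t m := by rw [← h.ta, hm]

theorem t_fb (h : Ctx a b r t) {m : M} (hm : b m = m) : b (t m) = t m := by
  have := h.btb m
  rwa [hm] at this

theorem tr_eq (h : Ctx a b r t) (m : M) : t (r m) = r (r (r (t m))) := by
  have := h.rtr m
  calc t (r m) = r (r (r (r (t (r m))))) := (h.r4 _).symm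
    _ = r (r (r (t m))) := by rw [this]

theorem tz_eq (h : Ctx a b r t) (m : M) : t (r (r m)) = r (r (t m)) := by
  rw [h.tr_eq, h.tr_eq, h.r4]

theorem ar_eq (h : Ctx a b r t) (m : M) : a (r m) = r (b (b m)) := by
  have := h.arb (b (b m))
  rwa [h.b3] at this

theorem zb_eq (h : Ctx a b r t) (m : M) : r (r (b m)) = b (b (r (r m))) := by
  calc r (r (b m)) = b (b (b (r (r (b m))))) := (h.b3 _).symm
    _ = b (b (r (r m))) := by rw [h.bzb]

theorem tbb_eq (h : Ctx a b r t) (m : M) : t (b (b m)) = b (t m) := by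
  have := h.btb (b (b m))
  rw [h.b3] at this
  exact this.symm

theorem r_inj (h : Ctx a b r t) {m : M} (hm : r m = 0) : m = 0 := by
  have := h.r4 m
  rw [hm] at this
  simpa using this.symm

theorem b_inj (h : Ctx a b r t) {m : M} (hm : b m = 0) : m = 0 := by
  have := h.b3 m
  rw [hm] at this
  simpa using this.symm

theorem fa_ne_bot (h : Ctx a b r t) [Nontrivial M] : fixSub a ≠ ⊥ := by
  obtain ⟨m, hm⟩ := exists_ne (0 : M)
  obtain ⟨u, w, hu, hw, rfl⟩ := h.sup m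
  intro hbot
  have hu0 : u = 0 := by
    have : u ∈ fixSub a := hu
    rw [hbot] at this
    simpa using this
  have hw0 : w = 0 := by
    have : r w ∈ fixSub a := h.r_fb hw
    rw [hbot] at this
    exact h.r_inj (by simpa using this)
  apply hm
  rw [hu0, hw0, add_zero]

theorem clifford (h : Ctx a b r t) (U : Submodule (ZMod 2) M) (hUa : ∀ u ∈ U, a u = u) (hUb : ∀ u ∈ U, b u ∈ U)
    (hUz : ∀ u ∈ U, r (r u) ∈ U) (hUt : ∀ u ∈ U, t u ∈ U) (hU : U ≠ ⊥) :
    ∀ v, a v = v → v ∈ U := by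
  have key : ∀ n ∈ U ⊔ U.map r, ∃ u ∈ U, ∃ u' ∈ U, n = u + r u' := by
    intro n hn
    obtain ⟨u, hu, w, hw, rfl⟩ := Submodule.mem_sup.1 hn
    obtain ⟨u', hu', rfl⟩ := Submodule.mem_map.1 hw
    exact ⟨u, hu, u', hu', rfl⟩
  have mk : ∀ u ∈ U, ∀ u' ∈ U, u + r u' ∈ U ⊔ U.map r := fun u hu u' hu' =>
    Submodule.add_mem_sup hu (Submodule.mem_map_of_mem hu')
  have ia : ∀ n ∈ U ⊔ U.map r, a n ∈ U ⊔ U.map r := by
    intro n hn
    obtain ⟨u, hu, u', hu', rfl⟩ := key n hn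
    rw [map_add, hUa u hu, h.ar_eq]
    exact mk u hu _ (hUb _ (hUb _ hu'))
  have ib : ∀ n ∈ U ⊔ U.map r, b n ∈ U ⊔ U.map r := by
    intro n hn
    obtain ⟨u, hu, u', hu', rfl⟩ := key n hn
    rw [map_add, h.br, hUa u' hu']
    exact mk _ (hUb u hu) u' hu'
  have ir : ∀ n ∈ U ⊔ U.map r, r n ∈ U ⊔ U.map r := by
    intro n hn
    obtain ⟨u, hu, u', hu', rfl⟩ := key n hn
    rw [map_add, add_comm]
    exact mk _ (hUz u' hu') u hu
  have it : ∀ n ∈ U ⊔ U.map r, t n ∈ U ⊔ U.map r := by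
    intro n hn
    obtain ⟨u, hu, u', hu', rfl⟩ := key n hn
    rw [map_add, h.tr_eq]
    exact mk _ (hUt u hu) _ (hUz _ (hUt _ hu'))
  have hNtop : U ⊔ U.map r = ⊤ := by
    rcases h.irr (U ⊔ U.map r) ia ib ir it with h0 | h1
    · exfalso
      apply hU
      rw [eq_bot_iff, ← h0]
      exact le_sup_left
    · exact h1
  intro v hv
  have hvN : v ∈ U ⊔ U.map r := by rw [hNtop]; trivial
  obtain ⟨u, hu, u', hu', rfl⟩ := key v hvN
  have h1 : b (r u') = r u' := h.r_fa (hUa u' hu')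
  have h2 : a (r u') = r u' := by
    have := hv
    rw [map_add, hUa u hu] at this
    exact add_left_cancel this
  have : r u' = 0 := h.zero _ h2 h1
  rw [this, add_zero]
  exact hu

theorem tz_invol (h : Ctx a b r t) (m : M) : t (r (r (t (r (r m))))) = m := by
  rw [← h.tz_eq (r (r m)), h.t2, h.r4]

theorem tz_fa [Nontrivial M] (h : Ctx a b r t) : ∀ v, a v = v → t (r (r v)) = v := by
  have hmem : ∀ m, m ∈ fixSub a ⊓ fixSub (t ∘ₗ r ∘ₗ r) ↔ a m = m ∧ t (r (r m)) = m := by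
    intro m
    simp [Submodule.mem_inf]
  have hUa : ∀ u ∈ fixSub a ⊓ fixSub (t ∘ₗ r ∘ₗ r), a u = u := fun u hu => ((hmem u).1 hu).1
  have hUb : ∀ u ∈ fixSub a ⊓ fixSub (t ∘ₗ r ∘ₗ r), b u ∈ fixSub a ⊓ fixSub (t ∘ₗ r ∘ₗ r) := by
    intro u hu
    obtain ⟨h1, h2⟩ := (hmem u).1 hu
    refine (hmem _).2 ⟨h.b_fa h1, ?_⟩
    rw [h.zb_eq, h.tbb_eq, h2]
  have hUz : ∀ u ∈ fixSub a ⊓ fixSub (t ∘ₗ r ∘ₗ r),
      r (r u) ∈ fixSub a ⊓ fixSub (t ∘ₗ r ∘ₗ r) := by
    intro u hu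
    obtain ⟨h1, h2⟩ := (hmem u).1 hu
    refine (hmem _).2 ⟨h.z_fa h1, ?_⟩
    rw [h.r4]
    calc t u = t (t (r (r u))) := by rw [h2]
      _ = r (r u) := h.t2 _
  have hUt : ∀ u ∈ fixSub a ⊓ fixSub (t ∘ₗ r ∘ₗ r), t u ∈ fixSub a ⊓ fixSub (t ∘ₗ r ∘ₗ r) := by
    intro u hu
    obtain ⟨h1, h2⟩ := (hmem u).1 hu
    refine (hmem _).2 ⟨h.t_fa h1, ?_⟩
    rw [← h.tz_eq, h2]
  have hUne : fixSub a ⊓ fixSub (t ∘ₗ r ∘ₗ r) ≠ ⊥ := by
    obtain ⟨w, hwW, hw0, hw⟩ := invol_fixed (t ∘ₗ r ∘ₗ r)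
      (fun m => by simpa using h.tz_invol m) (fixSub a) h.fa_ne_bot (fun w hw => by
        have hw' : a w = w := hw
        show a (t (r (r w))) = t (r (r w))
        exact h.t_fa (h.z_fa hw'))
    intro hbot
    have : w ∈ fixSub a ⊓ fixSub (t ∘ₗ r ∘ₗ r) := (hmem w).2 ⟨hwW, by simpa using hw⟩
    rw [hbot] at this
    exact hw0 (by simpa using this)
  intro v hv
  exact ((hmem v).1 (h.clifford _ hUa hUb hUz hUt hUne v hv)).2

theorem t_eq_z_fa [Nontrivial M] (h : Ctx a b r t) {v : M} (hv : a v = v) : t v = r (r v) := by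
  have := h.tz_fa (r (r v)) (h.z_fa hv)
  rwa [h.r4] at this

theorem t_fb_triv [Nontrivial M] (h : Ctx a b r t) {w : M} (hw : b w = w) : t w = w := by
  have hv : a (r (r (r w))) = r (r (r w)) := h.r_fb (h.r_fa (h.r_fb hw))
  have h1 := h.tr_eq (r (r (r w)))
  rw [h.r4, h.t_eq_z_fa hv] at h1
  rw [h1, h.r4, h.r4]

theorem exists_v [Nontrivial M] (h : Ctx a b r t) :
    ∃ v : M, v ≠ 0 ∧ a v = v ∧ r (r v) = v := by
  obtain ⟨w, hwW, hw0, hw⟩ := invol_fixed (r ∘ₗ r) (fun m => by simpa using h.r4 m)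
    (fixSub a) h.fa_ne_bot (fun w hw => h.z_fa hw)
  exact ⟨w, hw0, hwW, by simpa using hw⟩

theorem bbv (h : Ctx a b r t) {v : M} (hv : a v = v) : b (b v) = v + b v := by
  have hs : v + b v + b (b v) = 0 := by
    apply h.zero
    · rw [map_add, map_add, hv, h.b_fa hv, h.b_fa (h.b_fa hv)]
    · rw [map_add, map_add, h.b3]
      abel
  exact (eq_of_add_eq_zero_z2 hs).symm

end Ctx

/-- The linear map `(c₁, c₂) ↦ c₁ v + c₂ b v`. -/
noncomputable def lin (b : M →ₗ[ZMod 2] M) (v : M) : (ZMod 2 × ZMod 2) →ₗ[ZMod 2] M :=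
  (LinearMap.toSpanSingleton (ZMod 2) M v).coprod (LinearMap.toSpanSingleton (ZMod 2) M (b v))

theorem lin_apply (b : M →ₗ[ZMod 2] M) (v : M) (c : ZMod 2 × ZMod 2) :
    lin b v c = c.1 • v + c.2 • b v := by
  simp [lin, LinearMap.coprod_apply]

/-- The action of `z` in coordinates. -/
def zz (c : ZMod 2 × ZMod 2) : ZMod 2 × ZMod 2 := (c.1 + c.2, c.2)

namespace Ctx

variable {a b r t : M →ₗ[ZMod 2] M}

theorem lin_fa (h : Ctx a b r t) {v : M} (hva : a v = v) (c : ZMod 2 × ZMod 2) :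
    a (lin b v c) = lin b v c := by
  rw [lin_apply, map_add, map_smul, map_smul, hva, h.b_fa hva]

theorem b_lin (h : Ctx a b r t) {v : M} (hva : a v = v) (c : ZMod 2 × ZMod 2) :
    b (lin b v c) = lin b v (c.2, c.1 + c.2) := by
  rw [lin_apply, lin_apply, map_add, map_smul, map_smul, h.bbv hva, smul_add, add_smul]
  abel

theorem z_lin (h : Ctx a b r t) {v : M} (hva : a v = v) (hvz : r (r v) = v)
    (c : ZMod 2 × ZMod 2) : r (r (lin b v c)) = lin b v (zz c) := by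
  rw [lin_apply, lin_apply, map_add, map_add, map_smul, map_smul, map_smul, map_smul, hvz,
    h.zb_eq, hvz, h.bbv hva, zz, smul_add, add_smul]
  abel

theorem lin_inj (h : Ctx a b r t) {v : M} (hv0 : v ≠ 0) (hva : a v = v) (c : ZMod 2 × ZMod 2)
    (hc : lin b v c = 0) : c = 0 := by
  obtain ⟨c1, c2⟩ := c
  rw [lin_apply] at hc
  have h01 : ∀ c : ZMod 2, c = 0 ∨ c = 1 := by decide
  rcases h01 c1 with rfl | rfl <;> rcases h01 c2 with rfl | rfl
  · rfl
  · exfalso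
    simp only [zero_smul, one_smul, zero_add] at hc
    exact hv0 (h.b_inj hc)
  · exfalso
    simp only [zero_smul, one_smul, add_zero] at hc
    exact hv0 hc
  · exfalso
    simp only [one_smul] at hc
    have h1 : v = b v := eq_of_add_eq_zero_z2 hc
    exact hv0 (h.zero v hva h1.symm)

theorem lin_surj [Nontrivial M] (h : Ctx a b r t) {v : M} (hv0 : v ≠ 0) (hva : a v = v)
    (hvz : r (r v) = v) : ∀ x, a x = x → ∃ c, lin b v c = x := by
  have hmem : ∀ x, x ∈ LinearMap.range (lin b v) ↔ ∃ c, lin b v c = x := fun x =>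
    LinearMap.mem_range
  have hUa : ∀ u ∈ LinearMap.range (lin b v), a u = u := by
    rintro u hu
    obtain ⟨c, rfl⟩ := (hmem u).1 hu
    exact h.lin_fa hva c
  have hUb : ∀ u ∈ LinearMap.range (lin b v), b u ∈ LinearMap.range (lin b v) := by
    rintro u hu
    obtain ⟨c, rfl⟩ := (hmem u).1 hu
    exact (hmem _).2 ⟨_, (h.b_lin hva c).symm⟩
  have hUz : ∀ u ∈ LinearMap.range (lin b v), r (r u) ∈ LinearMap.range (lin b v) := by
    rintro u hu
    obtain ⟨c, rfl⟩ := (hmem u).1 hu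
    exact (hmem _).2 ⟨_, (h.z_lin hva hvz c).symm⟩
  have hUt : ∀ u ∈ LinearMap.range (lin b v), t u ∈ LinearMap.range (lin b v) := by
    intro u hu
    rw [h.t_eq_z_fa (hUa u hu)]
    exact hUz u hu
  have hUne : LinearMap.range (lin b v) ≠ ⊥ := by
    intro hbot
    have : v ∈ LinearMap.range (lin b v) := (hmem v).2 ⟨(1, 0), by simp [lin_apply]⟩
    rw [hbot] at this
    exact hv0 (by simpa using this)
  intro x hx
  exact (hmem x).1 (h.clifford _ hUa hUb hUz hUt hUne x hx)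

theorem final [Nontrivial M] (h : Ctx a b r t) :
    Nat.card M = 16 ∧ Nat.card {m : M // r (r m) = m ∧ t m = m} = 4 ∧
      Nat.card {m : M // r (r m) = m ∧ t (r m) = m} = 2 := by
  obtain ⟨v, hv0, hva, hvz⟩ := h.exists_v
  let φ : (ZMod 2 × ZMod 2) × (ZMod 2 × ZMod 2) →ₗ[ZMod 2] M :=
    (lin b v).coprod (r ∘ₗ lin b v)
  have hφ : ∀ x, φ x = lin b v x.1 + r (lin b v x.2) := fun x => by
    simp [φ, LinearMap.coprod_apply]
  have hinj : Function.Injective φ := by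
    rw [injective_iff_map_eq_zero]
    intro x hx
    rw [hφ] at hx
    have h1 : lin b v x.1 = r (lin b v x.2) := eq_of_add_eq_zero_z2 hx
    have h2 : b (lin b v x.1) = lin b v x.1 := by
      rw [h1]
      exact h.r_fa (h.lin_fa hva _)
    have h3 : lin b v x.1 = 0 := h.zero _ (h.lin_fa hva _) h2
    have h4 : lin b v x.2 = 0 := h.r_inj (by rw [← h1, h3])
    exact Prod.ext (h.lin_inj hv0 hva _ h3) (h.lin_inj hv0 hva _ h4)
  have hsurj : Function.Surjective φ := by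
    intro m
    obtain ⟨u, w, hu, hw, rfl⟩ := h.sup m
    obtain ⟨c, hc⟩ := h.lin_surj hv0 hva hvz u hu
    have hw' : a (r (r (r w))) = r (r (r w)) := h.r_fb (h.r_fa (h.r_fb hw))
    obtain ⟨c', hc'⟩ := h.lin_surj hv0 hva hvz _ hw'
    refine ⟨(c, c'), ?_⟩
    rw [hφ, hc, hc', h.r4]
  have hz : ∀ x, r (r (φ x)) = φ (zz x.1, zz x.2) := by
    intro x
    rw [hφ, hφ, map_add, map_add, h.z_lin hva hvz, h.z_lin hva hvz]
  have ht : ∀ x, t (φ x) = φ (zz x.1, x.2) := by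
    intro x
    rw [hφ, hφ, map_add, h.t_eq_z_fa (h.lin_fa hva _), h.z_lin hva hvz,
      h.t_fb_triv (h.r_fa (h.lin_fa hva _))]
  have htr : ∀ x, t (r (φ x)) = φ (x.2, x.1) := by
    intro x
    rw [hφ, hφ, map_add, map_add, h.t_fb_triv (h.r_fa (h.lin_fa hva x.1)),
      h.tz_fa _ (h.lin_fa hva x.2), add_comm]
  let e : (ZMod 2 × ZMod 2) × (ZMod 2 × ZMod 2) ≃ M := Equiv.ofBijective φ ⟨hinj, hsurj⟩
  have he : ∀ x, e x = φ x := fun x => rfl
  refine ⟨?_, ?_, ?_⟩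
  · rw [← Nat.card_congr e, Nat.card_eq_fintype_card]
    decide
  · have hiff : ∀ x : (ZMod 2 × ZMod 2) × (ZMod 2 × ZMod 2),
        ((zz x.1, zz x.2) = x ∧ (zz x.1, x.2) = x) ↔
          (r (r (e x)) = e x ∧ t (e x) = e x) := by
      intro x
      rw [he, hz, ht]
      constructor
      · rintro ⟨h1, h2⟩
        exact ⟨congrArg φ h1, congrArg φ h2⟩
      · rintro ⟨h1, h2⟩
        exact ⟨hinj h1, hinj h2⟩
    rw [← Nat.card_congr (e.subtypeEquiv hiff), Nat.card_eq_fintype_card]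
    decide
  · have hiff : ∀ x : (ZMod 2 × ZMod 2) × (ZMod 2 × ZMod 2),
        ((zz x.1, zz x.2) = x ∧ (x.2, x.1) = x) ↔
          (r (r (e x)) = e x ∧ t (r (e x)) = e x) := by
      intro x
      rw [he, hz, htr]
      constructor
      · rintro ⟨h1, h2⟩
        exact ⟨congrArg φ h1, congrArg φ h2⟩
      · rintro ⟨h1, h2⟩
        exact ⟨hinj h1, hinj h2⟩
    rw [← Nat.card_congr (e.subtypeEquiv hiff), Nat.card_eq_fintype_card]
    decide

end Ctx

end Cfsg.Agent.Lib.Helper83.NineD8
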