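import Mathlib
import Cfsg.Agent.Lib.Helper83.NineD8a

set_option autoImplicit false

namespace Cfsg.Agent.Lib.Helper83.NineD8

section grp

variable {S : Type*} [Group S]

theorem mem_zpowers_order3 {c x : S} (hc3 : c ^ 3 = 1) (hx : x ∈ Subgroup.zpowers c) :
    x = 1 ∨ x = c ∨ x = c⁻¹ := by
  obtain ⟨k, rfl⟩ := Subgroup.mem_zpowers_iff.1 hx
  have hk : k = 3 * (k / 3) + k % 3 := (Int.mul_ediv_add_emod k 3).symm
  have h3 : c ^ (3 : ℤ) = 1 := by exact_mod_cast hc3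
  rw [hk, zpow_add, zpow_mul, h3, one_zpow, one_mul]
  have : k % 3 = 0 ∨ k % 3 = 1 ∨ k % 3 = 2 := by omega
  rcases this with h | h | h <;> rw [h]
  · left; simp
  · right; left; simp
  · right; right
    rw [eq_inv_iff_mul_eq_one]
    have : c ^ (2 : ℤ) * c = c ^ 3 := by group
    rw [this, hc3]

theorem eq_one_of_inv_eq {c : S} (hc3 : c ^ 3 = 1) (h : c⁻¹ = c) : c = 1 := by
  have h2 : c * c = 1 := by
    nth_rewrite 1 [← h]
    exact inv_mul_cancel c
  have : c ^ 3 = c * c * c := by rw [pow_succ, pow_two]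
  rw [this, h2, one_mul] at hc3
  exact hc3

theorem conj_inv_rel {x y w : S} (h : x * y * x⁻¹ = w⁻¹) : w * x * y = x := by
  have : x * y = w⁻¹ * x := mul_inv_eq_iff_eq_mul.1 h
  rw [mul_assoc, this, mul_inv_cancel_left]

theorem le_closure_pair [Finite S] (A : Subgroup S) (hA9 : Nat.card A = 9)
    (c c' : S) (hc : c ∈ A) (hc' : c' ∈ A) (hc1 : c ≠ 1) (hc3 : c ^ 3 = 1)
    (hcc' : c' ∉ Subgroup.zpowers c) :
    A ≤ Subgroup.closure {c, c'} := by
  have hKA : Subgroup.closure ({c, c'} : Set S) ≤ A := (Subgroup.closure_le A).2 (by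
    intro x hx
    rcases hx with rfl | rfl <;> assumption)
  have hzK : Subgroup.zpowers c ≤ Subgroup.closure ({c, c'} : Set S) :=
    (Subgroup.zpowers_le).2 (Subgroup.subset_closure (by simp))
  have hcard_z : Nat.card (Subgroup.zpowers c) = 3 := by
    have : Fact (Nat.Prime 3) := ⟨by norm_num⟩
    rw [Nat.card_zpowers]
    exact orderOf_eq_prime hc3 hc1
  have hdvd : Nat.card (Subgroup.closure ({c, c'} : Set S)) ∣ 9 :=
    hA9 ▸ Subgroup.card_dvd_of_le hKA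
  have h3dvd : 3 ∣ Nat.card (Subgroup.closure ({c, c'} : Set S)) :=
    hcard_z ▸ Subgroup.card_dvd_of_le hzK
  have h39 : Nat.card (Subgroup.closure ({c, c'} : Set S)) = 3 ∨
      Nat.card (Subgroup.closure ({c, c'} : Set S)) = 9 := by
    have hle : Nat.card (Subgroup.closure ({c, c'} : Set S)) ≤ 9 :=
      Nat.le_of_dvd (by norm_num) hdvd
    generalize Nat.card (Subgroup.closure ({c, c'} : Set S)) = n at *
    interval_cases n <;> omega
  rcases h39 with h3 | h9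
  · exfalso
    have : Subgroup.zpowers c = Subgroup.closure ({c, c'} : Set S) :=
      Subgroup.eq_of_le_of_card_ge hzK (by rw [h3, hcard_z])
    apply hcc'
    rw [this]
    exact Subgroup.subset_closure (by simp)
  · have : Subgroup.closure ({c, c'} : Set S) = A :=
      Subgroup.eq_of_le_of_card_ge hKA (by rw [h9, hA9])
    rw [this]

/-- conjugating `a₀ * (g a₀ g⁻¹)` by an involution `g` fixes it (when things commute). -/
theorem conj_fix {g a₀ : S} (hg2 : g ^ 2 = 1)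
    (hcomm : (g * a₀ * g⁻¹) * a₀ = a₀ * (g * a₀ * g⁻¹)) :
    g * (a₀ * (g * a₀ * g⁻¹)) * g⁻¹ = a₀ * (g * a₀ * g⁻¹) := by
  calc g * (a₀ * (g * a₀ * g⁻¹)) * g⁻¹ = (g * a₀ * g⁻¹) * (g ^ 2 * a₀ * (g ^ 2)⁻¹) := by group
    _ = (g * a₀ * g⁻¹) * a₀ := by rw [hg2]; group
    _ = a₀ * (g * a₀ * g⁻¹) := hcomm

/-- conjugating `a₁ * (g a₁ g⁻¹)⁻¹` by an involution `g` inverts it. -/
theorem conj_inv {g a₁ : S} (hg2 : g ^ 2 = 1) :
    g * (a₁ * (g * a₁ * g⁻¹)⁻¹) * g⁻¹ = (a₁ * (g * a₁ * g⁻¹)⁻¹)⁻¹ := by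
  calc g * (a₁ * (g * a₁ * g⁻¹)⁻¹) * g⁻¹ = (g * a₁ * g⁻¹) * (g ^ 2 * a₁ * (g ^ 2)⁻¹)⁻¹ := by group
    _ = (g * a₁ * g⁻¹) * a₁⁻¹ := by rw [hg2]; group
    _ = (a₁ * (g * a₁ * g⁻¹)⁻¹)⁻¹ := by group

/-- The elements of an abelian subgroup inverted by `g`. -/
def invSub (A : Subgroup S) (hcomm : ∀ x ∈ A, ∀ y ∈ A, x * y = y * x) (g : S) : Subgroup S where
  carrier := {x | x ∈ A ∧ g * x * g⁻¹ = x⁻¹}
  one_mem' := ⟨A.one_mem, by group⟩
  mul_mem' := by
    rintro x y ⟨hx, hx'⟩ ⟨hy, hy'⟩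
    refine ⟨A.mul_mem hx hy, ?_⟩
    calc g * (x * y) * g⁻¹ = (g * x * g⁻¹) * (g * y * g⁻¹) := by group
      _ = x⁻¹ * y⁻¹ := by rw [hx', hy']
      _ = (y * x)⁻¹ := by group
      _ = (x * y)⁻¹ := by rw [hcomm y hy x hx]
  inv_mem' := by
    rintro x ⟨hx, hx'⟩
    refine ⟨A.inv_mem hx, ?_⟩
    calc g * x⁻¹ * g⁻¹ = (g * x * g⁻¹)⁻¹ := by group
      _ = x⁻¹⁻¹ := by rw [hx']

theorem mem_invSub {A : Subgroup S} {hcomm : ∀ x ∈ A, ∀ y ∈ A, x * y = y * x} {g x : S} :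
    x ∈ invSub A hcomm g ↔ x ∈ A ∧ g * x * g⁻¹ = x⁻¹ := Iff.rfl

end grp

section rep

variable {S : Type*} [Group S] {M : Type*} [AddCommGroup M] [Module (ZMod 2) M]
  (ρ : Representation (ZMod 2) S M)

theorem act_mul (x y : S) (m : M) : ρ (x * y) m = ρ x (ρ y m) := by
  rw [map_mul]; rfl

theorem act_one (m : M) : ρ 1 m = m := by
  rw [map_one]; rfl

/-- The stabiliser of a submodule. -/
def stab (N : Submodule (ZMod 2) M) : Subgroup S where
  carrier := {s | ∀ m, ρ s m ∈ N ↔ m ∈ N}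
  one_mem' := by
    intro m
    rw [act_one]
  mul_mem' := by
    intro x y hx hy m
    rw [act_mul, hx, hy]
  inv_mem' := by
    intro x hx m
    have := hx (ρ x⁻¹ m)
    rw [← act_mul, mul_inv_cancel, act_one] at this
    exact this.symm

theorem mem_stab {N : Submodule (ZMod 2) M} {s : S} :
    s ∈ stab ρ N ↔ ∀ m, ρ s m ∈ N ↔ m ∈ N := Iff.rfl

theorem mem_stab_of_forall [Finite S] {N : Submodule (ZMod 2) M} {s : S}
    (hs : ∀ m ∈ N, ρ s m ∈ N) : s ∈ stab ρ N := by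
  intro m
  refine ⟨fun hm => ?_, hs m⟩
  have hpow : ∀ k : ℕ, ∀ m ∈ N, ρ (s ^ k) m ∈ N := by
    intro k
    induction k with
    | zero =>
      intro m hm
      rw [pow_zero, act_one]
      exact hm
    | succ k ih =>
      intro m hm
      rw [pow_succ, act_mul]
      exact ih _ (hs m hm)
  obtain ⟨n, hn, hsn⟩ := (isOfFinOrder_of_finite s).exists_pow_eq_one
  have := hpow (n - 1) _ hm
  rw [← act_mul, ← pow_succ, Nat.sub_add_cancel hn, hsn, act_one] at this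
  exact this

/-- The fixer of a vector. -/
def fixer (m : M) : Subgroup S where
  carrier := {s | ρ s m = m}
  one_mem' := act_one ρ m
  mul_mem' := by
    intro x y hx hy
    simp only [Set.mem_ofPred_eq] at *
    rw [act_mul, hy, hx]
  inv_mem' := by
    intro x hx
    simp only [Set.mem_ofPred_eq] at *
    calc ρ x⁻¹ m = ρ x⁻¹ (ρ x m) := by rw [hx]
      _ = m := by rw [← act_mul, inv_mul_cancel, act_one]

theorem mem_fixer {m : M} {s : S} : s ∈ fixer ρ m ↔ ρ s m = m := Iff.rfl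

end rep

section mid

variable {S : Type*} [Group S] [Finite S] {M : Type*} [AddCommGroup M] [Module (ZMod 2) M]

theorem mid (A : Subgroup S) [hAn : A.Normal]
    (hcomm : ∀ x ∈ A, ∀ y ∈ A, x * y = y * x) (hexp : ∀ x ∈ A, x ^ 3 = 1) (hA9 : Nat.card A = 9)
    [Nontrivial M] (ρ : Representation (ZMod 2) S M)
    (r t a : S) (hr4 : r ^ 4 = 1) (ht2 : t ^ 2 = 1) (htr : t * r * t⁻¹ = r⁻¹)
    (hz : ∀ x ∈ A, r ^ 2 * x * (r ^ 2)⁻¹ = x⁻¹) (haA : a ∈ A) (ha1 : a ≠ 1)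
    (hta : t * a * t⁻¹ = a)
    (hgen : ∀ N : Submodule (ZMod 2) M, (∀ x ∈ A, ∀ m ∈ N, ρ x m ∈ N) → (∀ m ∈ N, ρ r m ∈ N) →
      (∀ m ∈ N, ρ t m ∈ N) → N = ⊥ ∨ N = ⊤)
    (hCA : ∀ m, (∀ x ∈ A, ρ x m = m) → m = 0) :
    ((∀ m, ρ a m = m → m = 0) ∧ (∀ m, ρ (r * a * r⁻¹) m = m → m = 0)) ∨
    (Nat.card M = 16 ∧ Nat.card {m : M // ρ (r ^ 2) m = m ∧ ρ t m = m} = 4 ∧
      Nat.card {m : M // ρ (r ^ 2) m = m ∧ ρ (t * r) m = m} = 2) := by
  obtain ⟨b, hb⟩ : ∃ b, b = r * a * r⁻¹ := ⟨_, rfl⟩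
  have hbA : b ∈ A := by rw [hb]; exact hAn.conj_mem a haA r
  have ha3 : a ^ 3 = 1 := hexp a haA
  have hb3 : b ^ 3 = 1 := hexp b hbA
  have hab : a * b = b * a := hcomm a haA b hbA
  have hrb : r * b * r⁻¹ = a⁻¹ := by
    rw [← hz a haA, hb, pow_two]; group
  have hz' : ∀ x ∈ A, (r ^ 2)⁻¹ * x * r ^ 2 = x⁻¹ := by
    intro x hx
    have h := hz x⁻¹ (A.inv_mem hx)
    rw [inv_inv] at h
    calc (r ^ 2)⁻¹ * x * r ^ 2 = (r ^ 2)⁻¹ * (r ^ 2 * x⁻¹ * (r ^ 2)⁻¹) * r ^ 2 := by rw [h]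
      _ = x⁻¹ := by group
  have htb : t * b * t⁻¹ = b⁻¹ := by
    calc t * b * t⁻¹ = (t * r * t⁻¹) * (t * a * t⁻¹) * (t * r * t⁻¹)⁻¹ := by rw [hb]; group
      _ = r⁻¹ * a * r⁻¹⁻¹ := by rw [htr, hta]
      _ = (r ^ 2)⁻¹ * (r * a * r⁻¹) * r ^ 2 := by group
      _ = (r * a * r⁻¹)⁻¹ := hz' _ (hb ▸ hbA)
      _ = b⁻¹ := by rw [hb]
  have hbz : b ∉ Subgroup.zpowers a := by
    intro hmem
    obtain ⟨k, hk⟩ := Subgroup.mem_zpowers_iff.1 hmem
    have h1 : t * b * t⁻¹ = b := by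
      rw [← hk, ← conj_zpow, hta]
    rw [htb] at h1
    have hb1 : b = 1 := eq_one_of_inv_eq hb3 h1
    rw [hb] at hb1
    exact ha1 (conj_eq_one_iff.1 hb1)
  have hAcl : A ≤ Subgroup.closure {a, b} := le_closure_pair A hA9 a b haA hbA ha1 ha3 hbz
  -- operator relations
  have o_a3 : ∀ m, ρ a (ρ a (ρ a m)) = m := by
    intro m
    rw [← act_mul, ← act_mul]
    have : a * a * a = 1 := by rw [← ha3, pow_succ, pow_two]
    rw [this, act_one]
  have o_b3 : ∀ m, ρ b (ρ b (ρ b m)) = m := by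
    intro m
    rw [← act_mul, ← act_mul]
    have : b * b * b = 1 := by rw [← hb3, pow_succ, pow_two]
    rw [this, act_one]
  have o_ab : ∀ m, ρ a (ρ b m) = ρ b (ρ a m) := by
    intro m
    rw [← act_mul, ← act_mul, hab]
  have o_r4 : ∀ m, ρ r (ρ r (ρ r (ρ r m))) = m := by
    intro m
    rw [← act_mul, ← act_mul, ← act_mul]
    have : r * r * r * r = 1 := by rw [← hr4, pow_succ, pow_succ, pow_two]
    rw [this, act_one]
  have o_t2 : ∀ m, ρ t (ρ t m) = m := by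
    intro m
    rw [← act_mul]
    have : t * t = 1 := by rw [← ht2, pow_two]
    rw [this, act_one]
  have o_br : ∀ m, ρ b (ρ r m) = ρ r (ρ a m) := by
    intro m
    rw [← act_mul, ← act_mul]
    have : b * r = r * a := by rw [hb]; group
    rw [this]
  have o_arb : ∀ m, ρ a (ρ r (ρ b m)) = ρ r m := by
    intro m
    rw [← act_mul, ← act_mul, conj_inv_rel hrb]
  have o_ta : ∀ m, ρ t (ρ a m) = ρ a (ρ t m) := by
    intro m
    rw [← act_mul, ← act_mul]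
    have : t * a = a * t := by
      nth_rewrite 2 [← hta]
      group
    rw [this]
  have o_btb : ∀ m, ρ b (ρ t (ρ b m)) = ρ t m := by
    intro m
    rw [← act_mul, ← act_mul, conj_inv_rel htb]
  have o_rtr : ∀ m, ρ r (ρ t (ρ r m)) = ρ t m := by
    intro m
    rw [← act_mul, ← act_mul, conj_inv_rel htr]
  have o_aza : ∀ m, ρ a (ρ r (ρ r (ρ a m))) = ρ r (ρ r m) := by
    intro m
    rw [← act_mul, ← act_mul, ← act_mul, ← act_mul]
    have h1 := conj_inv_rel (hz a haA)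
    rw [pow_two, ← mul_assoc] at h1
    rw [h1]
  have o_bzb : ∀ m, ρ b (ρ r (ρ r (ρ b m))) = ρ r (ρ r m) := by
    intro m
    rw [← act_mul, ← act_mul, ← act_mul, ← act_mul]
    have h1 := conj_inv_rel (hz b hbA)
    rw [pow_two, ← mul_assoc] at h1
    rw [h1]
  -- invariance under all of `A` from invariance under `a`, `b`
  have hAinv : ∀ N : Submodule (ZMod 2) M, (∀ m ∈ N, ρ a m ∈ N) → (∀ m ∈ N, ρ b m ∈ N) →
      ∀ x ∈ A, ∀ m ∈ N, ρ x m ∈ N := by
    intro N hNa hNb x hx m hm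
    have hcl : Subgroup.closure {a, b} ≤ stab ρ N := (Subgroup.closure_le _).2 (by
      intro y hy
      rcases hy with rfl | rfl
      · exact mem_stab_of_forall ρ hNa
      · exact mem_stab_of_forall ρ hNb)
    exact ((mem_stab ρ).1 (hcl (hAcl hx)) m).2 hm
  have o_irr : ∀ N : Submodule (ZMod 2) M, (∀ m ∈ N, ρ a m ∈ N) → (∀ m ∈ N, ρ b m ∈ N) →
      (∀ m ∈ N, ρ r m ∈ N) → (∀ m ∈ N, ρ t m ∈ N) → N = ⊥ ∨ N = ⊤ := by
    intro N hNa hNb hNr hNt
    exact hgen N (hAinv N hNa hNb) hNr hNt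
  have o_zero : ∀ m, ρ a m = m → ρ b m = m → m = 0 := by
    intro m hma hmb
    apply hCA
    intro x hx
    have hcl : Subgroup.closure {a, b} ≤ fixer ρ m := (Subgroup.closure_le _).2 (by
      intro y hy
      rcases hy with rfl | rfl
      · exact hma
      · exact hmb)
    exact (mem_fixer ρ).1 (hcl (hAcl hx))
  -- the dichotomy
  have hN0 : fixSub (ρ a) ⊔ fixSub (ρ b) = ⊥ ∨ fixSub (ρ a) ⊔ fixSub (ρ b) = ⊤ := by
    have key : ∀ n ∈ fixSub (ρ a) ⊔ fixSub (ρ b), ∃ u w, ρ a u = u ∧ ρ b w = w ∧ n = u + w := by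
      intro n hn
      obtain ⟨u, hu, w, hw, rfl⟩ := Submodule.mem_sup.1 hn
      exact ⟨u, w, hu, hw, rfl⟩
    have mk : ∀ u w, ρ a u = u → ρ b w = w → u + w ∈ fixSub (ρ a) ⊔ fixSub (ρ b) :=
      fun u w hu hw => Submodule.add_mem_sup hu hw
    apply o_irr
    · intro n hn
      obtain ⟨u, w, hu, hw, rfl⟩ := key n hn
      rw [map_add]
      refine mk _ _ (by rw [hu, hu]) ?_
      rw [← o_ab, hw]
    · intro n hn
      obtain ⟨u, w, hu, hw, rfl⟩ := key n hn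
      rw [map_add]
      refine mk _ _ ?_ (by rw [hw, hw])
      rw [o_ab, hu]
    · intro n hn
      obtain ⟨u, w, hu, hw, rfl⟩ := key n hn
      rw [map_add, add_comm]
      refine mk _ _ ?_ ?_
      · have := o_arb w
        rwa [hw] at this
      · rw [o_br, hu]
    · intro n hn
      obtain ⟨u, w, hu, hw, rfl⟩ := key n hn
      rw [map_add]
      refine mk _ _ ?_ ?_
      · rw [← o_ta, hu]
      · have := o_btb w
        rwa [hw] at this
  rcases hN0 with hbot | htop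
  · left
    constructor
    · intro m hm
      have : m ∈ fixSub (ρ a) ⊔ fixSub (ρ b) := Submodule.mem_sup_left hm
      rw [hbot] at this
      simpa using this
    · intro m hm
      rw [← hb] at hm
      have : m ∈ fixSub (ρ a) ⊔ fixSub (ρ b) := Submodule.mem_sup_right hm
      rw [hbot] at this
      simpa using this
  · right
    have hctx : Ctx (ρ a) (ρ b) (ρ r) (ρ t) :=
      { a3 := o_a3, b3 := o_b3, ab := o_ab, r4 := o_r4, t2 := o_t2, br := o_br, arb := o_arb,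
        ta := o_ta, btb := o_btb, rtr := o_rtr, aza := o_aza, bzb := o_bzb, irr := o_irr,
        zero := o_zero
        sup := by
          intro m
          have hm : m ∈ fixSub (ρ a) ⊔ fixSub (ρ b) := by rw [htop]; trivial
          obtain ⟨u, hu, w, hw, rfl⟩ := Submodule.mem_sup.1 hm
          exact ⟨u, w, hu, hw, rfl⟩ }
    have hfin := hctx.final
    simp only [pow_two, act_mul]
    exact hfin

end mid

end Cfsg.Agent.Lib.Helper83.NineD8
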