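import Mathlib
import Cfsg.Agent.Lib.Helper83.NineD8b

set_option autoImplicit false

namespace Cfsg.Agent.Lib.Helper83.NineD8

open DihedralGroup

/-- The four-group `{1, r², s, sr²}` of `D₈`. -/
def T1 : Subgroup (DihedralGroup 4) where
  carrier := {x | x = 1 ∨ x = r 2 ∨ x = sr 0 ∨ x = sr 2}
  one_mem' := Or.inl rfl
  mul_mem' := by
    intro x y hx hy
    simp only [Set.mem_ofPred_eq] at hx hy ⊢
    revert x y
    decide
  inv_mem' := by
    intro x hx
    simp only [Set.mem_ofPred_eq] at hx ⊢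
    revert x
    decide

/-- The four-group `{1, r², sr, sr³}` of `D₈`. -/
def T2 : Subgroup (DihedralGroup 4) where
  carrier := {x | x = 1 ∨ x = r 2 ∨ x = sr 1 ∨ x = sr 3}
  one_mem' := Or.inl rfl
  mul_mem' := by
    intro x y hx hy
    simp only [Set.mem_ofPred_eq] at hx hy ⊢
    revert x y
    decide
  inv_mem' := by
    intro x hx
    simp only [Set.mem_ofPred_eq] at hx ⊢
    revert x
    decide

theorem mem_T1 {x : DihedralGroup 4} : x ∈ T1 ↔ x = 1 ∨ x = r 2 ∨ x = sr 0 ∨ x = sr 2 := Iff.rfl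

theorem mem_T2 {x : DihedralGroup 4} : x ∈ T2 ↔ x = 1 ∨ x = r 2 ∨ x = sr 1 ∨ x = sr 3 := Iff.rfl

instance : DecidablePred (· ∈ T1) := fun _ => decidable_of_iff _ mem_T1.symm

instance : DecidablePred (· ∈ T2) := fun _ => decidable_of_iff _ mem_T2.symm

theorem card_T1 : Nat.card T1 = 4 := by
  rw [Nat.card_eq_fintype_card]
  decide

theorem card_T2 : Nat.card T2 = 4 := by
  rw [Nat.card_eq_fintype_card]
  decide

theorem classify_key : ∀ x y : DihedralGroup 4, x ^ 2 = 1 → y ^ 2 = 1 → (x * y) ^ 2 = 1 →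
    ((x = 1 ∨ x = r 2 ∨ x = sr 0 ∨ x = sr 2) ∧ (y = 1 ∨ y = r 2 ∨ y = sr 0 ∨ y = sr 2)) ∨
    ((x = 1 ∨ x = r 2 ∨ x = sr 1 ∨ x = sr 3) ∧ (y = 1 ∨ y = r 2 ∨ y = sr 1 ∨ y = sr 3)) := by
  decide

theorem classify (B : Subgroup (DihedralGroup 4)) (h4 : Nat.card B = 4)
    (h2 : ∀ b ∈ B, b ^ 2 = 1) : B = T1 ∨ B = T2 := by
  by_cases hB1 : ∀ x ∈ B, x ∈ T1
  · left
    exact Subgroup.eq_of_le_of_card_ge hB1 (by rw [h4, card_T1])
  · right
    push Not at hB1
    obtain ⟨x, hxB, hxT⟩ := hB1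
    have hB2 : ∀ y ∈ B, y ∈ T2 := by
      intro y hyB
      rcases classify_key x y (h2 x hxB) (h2 y hyB) (h2 _ (B.mul_mem hxB hyB)) with h | h
      · exact absurd (mem_T1.2 h.1) hxT
      · exact mem_T2.2 h.2
    exact Subgroup.eq_of_le_of_card_ge hB2 (by rw [h4, card_T2])

theorem sq_T1 : ∀ x : DihedralGroup 4, (x = 1 ∨ x = r 2 ∨ x = sr 0 ∨ x = sr 2) → x ^ 2 = 1 := by
  decide

theorem sq_T2 : ∀ x : DihedralGroup 4, (x = 1 ∨ x = r 2 ∨ x = sr 1 ∨ x = sr 3) → x ^ 2 = 1 := by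
  decide

theorem pow8 : ∀ x : DihedralGroup 4, x ^ 8 = 1 := by
  decide

theorem d4_rel : (r 1 : DihedralGroup 4) ^ 4 = 1 ∧ (sr 0 : DihedralGroup 4) ^ 2 = 1 ∧
    (sr 0 : DihedralGroup 4) * r 1 * (sr 0)⁻¹ = (r 1)⁻¹ ∧ (r 1 : DihedralGroup 4) ^ 2 ≠ 1 ∧
    (sr 0 : DihedralGroup 4) * (r 1) ^ 2 ≠ 1 ∧ (r 1 : DihedralGroup 4) ^ 2 = r 2 ∧
    (sr 0 : DihedralGroup 4) * r 1 = sr 1 ∧ (sr 0 : DihedralGroup 4) * (r 1) ^ 2 = sr 2 ∧
    (sr 0 : DihedralGroup 4) * r 1 * (r 1) ^ 2 = sr 3 := by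
  decide

theorem d4_gen (d : DihedralGroup 4) :
    d ∈ Subgroup.closure ({r 1, sr 0} : Set (DihedralGroup 4)) := by
  have hr : (r 1 : DihedralGroup 4) ∈ Subgroup.closure ({r 1, sr 0} : Set (DihedralGroup 4)) :=
    Subgroup.subset_closure (by simp)
  have hs : (sr 0 : DihedralGroup 4) ∈ Subgroup.closure ({r 1, sr 0} : Set (DihedralGroup 4)) :=
    Subgroup.subset_closure (by simp)
  cases d with
  | r i =>
    have : (r i : DihedralGroup 4) = (r 1) ^ (i.val) := by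
      rw [r_one_pow, ZMod.natCast_zmod_val]
    rw [this]
    exact pow_mem hr _
  | sr i =>
    have : (sr i : DihedralGroup 4) = sr 0 * (r 1) ^ (i.val) := by
      rw [r_one_pow, sr_mul_r, ZMod.natCast_zmod_val, zero_add]
    rw [this]
    exact mul_mem hs (pow_mem hr _)

section push

variable {S : Type*} [Group S] (ψ : DihedralGroup 4 →* S)

theorem classify_push (hψ : Function.Injective ψ) (B : Subgroup S) (hB : B ≤ ψ.range)
    (h4 : Nat.card B = 4) (h2 : ∀ b ∈ B, b ^ 2 = 1) : B = T1.map ψ ∨ B = T2.map ψ := by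
  have hmc : (B.comap ψ).map ψ = B := Subgroup.map_comap_eq_self hB
  have hcard : Nat.card (B.comap ψ) = 4 := by
    rw [← Subgroup.card_map_of_injective hψ, hmc, h4]
  have hexp : ∀ b ∈ B.comap ψ, b ^ 2 = 1 := by
    intro b hb
    apply hψ
    rw [map_pow, map_one]
    exact h2 _ hb
  rcases classify _ hcard hexp with h | h
  · left
    rw [← hmc, h]
  · right
    rw [← hmc, h]

theorem sq_map_T1 : ∀ b ∈ T1.map ψ, b ^ 2 = 1 := by
  intro b hb
  obtain ⟨d, hd, rfl⟩ := Subgroup.mem_map.1 hb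
  rw [← map_pow, sq_T1 d (mem_T1.1 hd), map_one]

theorem sq_map_T2 : ∀ b ∈ T2.map ψ, b ^ 2 = 1 := by
  intro b hb
  obtain ⟨d, hd, rfl⟩ := Subgroup.mem_map.1 hb
  rw [← map_pow, sq_T2 d (mem_T2.1 hd), map_one]

variable {M : Type*} [AddCommGroup M] [Module (ZMod 2) M] (ρ : Representation (ZMod 2) S M)

theorem fix_T1 (m : M) : (∀ b ∈ T1.map ψ, ρ b m = m) ↔
    (ρ (ψ (r 1) ^ 2) m = m ∧ ρ (ψ (sr 0)) m = m) := by
  obtain ⟨_, _, _, _, _, h6, h7, h8, h9⟩ := d4_rel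
  constructor
  · intro h
    constructor
    · apply h
      rw [← map_pow, h6]
      exact Subgroup.mem_map_of_mem ψ (mem_T1.2 (Or.inr (Or.inl rfl)))
    · apply h
      exact Subgroup.mem_map_of_mem ψ (mem_T1.2 (Or.inr (Or.inr (Or.inl rfl))))
  · rintro ⟨hz, ht⟩ b hb
    obtain ⟨d, hd, rfl⟩ := Subgroup.mem_map.1 hb
    rcases mem_T1.1 hd with rfl | rfl | rfl | rfl
    · rw [map_one, act_one]
    · rw [← h6, map_pow]
      exact hz
    · exact ht
    · rw [← h8, map_mul ψ, map_pow, act_mul, hz, ht]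

theorem fix_T2 (m : M) : (∀ b ∈ T2.map ψ, ρ b m = m) ↔
    (ρ (ψ (r 1) ^ 2) m = m ∧ ρ (ψ (sr 0) * ψ (r 1)) m = m) := by
  obtain ⟨_, _, _, _, _, h6, h7, h8, h9⟩ := d4_rel
  constructor
  · intro h
    constructor
    · apply h
      rw [← map_pow, h6]
      exact Subgroup.mem_map_of_mem ψ (mem_T2.2 (Or.inr (Or.inl rfl)))
    · apply h
      rw [← map_mul, h7]
      exact Subgroup.mem_map_of_mem ψ (mem_T2.2 (Or.inr (Or.inr (Or.inl rfl))))
  · rintro ⟨hz, ht⟩ b hb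
    obtain ⟨d, hd, rfl⟩ := Subgroup.mem_map.1 hb
    rcases mem_T2.1 hd with rfl | rfl | rfl | rfl
    · rw [map_one, act_one]
    · rw [← h6, map_pow]
      exact hz
    · rw [← h7, map_mul]
      exact ht
    · rw [← h9, map_mul ψ, map_mul ψ, map_pow, act_mul, hz, ht]

end push

/-- If a cube-one operator has no nonzero fixed vector then `f² = 1 + f`. -/
theorem sq_of_fix_trivial {M : Type*} [AddCommGroup M] [Module (ZMod 2) M]
    (f : M →ₗ[ZMod 2] M) (h3 : ∀ m, f (f (f m)) = m) (h0 : ∀ m, f m = m → m = 0) :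
    ∀ x, f (f x) = x + f x := by
  intro x
  have hs : x + f x + f (f x) = 0 := by
    apply h0
    rw [map_add, map_add, h3]
    abel
  exact (eq_of_add_eq_zero_z2 hs).symm

/-- Three trivial fixed spaces force two commuting cube-one operators to coincide. -/
theorem eq_of_three_fix_trivial {M : Type*} [AddCommGroup M] [Module (ZMod 2) M]
    (p q : M →ₗ[ZMod 2] M) (hpq : ∀ m, p (q m) = q (p m))
    (hp3 : ∀ m, p (p (p m)) = m) (hq3 : ∀ m, q (q (q m)) = m)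
    (hp0 : ∀ m, p m = m → m = 0) (hq0 : ∀ m, q m = m → m = 0)
    (hpq0 : ∀ m, p (q m) = m → m = 0) : ∀ m, p m = q m := by
  have E1 := sq_of_fix_trivial p hp3 hp0
  have E2 := sq_of_fix_trivial q hq3 hq0
  have hpq3 : ∀ m, (p ∘ₗ q) ((p ∘ₗ q) ((p ∘ₗ q) m)) = m := by
    intro m
    simp only [LinearMap.comp_apply]
    rw [← hpq (q m), ← hpq (p (q (q m))), ← hpq (q (q m)), hq3, hp3]
  have E3 := sq_of_fix_trivial (p ∘ₗ q) hpq3 (fun m hm => hpq0 m (by simpa using hm))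
  intro m
  have e3 : p (q (p (q m))) = m + p (q m) := by simpa using E3 m
  have h1 : p (q (p (q m))) = m + q m + p m + p (q m) := by
    rw [← hpq (q m), E1, E2, map_add]
    abel
  have h2 : (q m + p m) + (m + p (q m)) = 0 + (m + p (q m)) := by
    rw [zero_add]
    calc (q m + p m) + (m + p (q m)) = m + q m + p m + p (q m) := by abel
      _ = m + p (q m) := h1.symm.trans e3
  have h3 : q m + p m = 0 := add_right_cancel h2
  exact (eq_of_add_eq_zero_z2 h3).symm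

end Cfsg.Agent.Lib.Helper83.NineD8
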