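import Mathlib
import Cfsg.Agent.S3995
import Cfsg.Agent.S0497

set_option autoImplicit false

namespace Cfsg.Agent.Lib.Helper83.Nse

open Cfsg.Agent.S3995 (s)

/-- A fixed-point-free automorphism of `p`-power order: every invariant subset avoiding `1` has
cardinality divisible by `p`. -/
lemma d6_dvd_card_of_free {K : Type*} [Group K] [Finite K] (p : ℕ) [Fact p.Prime] (φ : MulAut K)
    (hφ : φ ^ p = 1) (hfree : ∀ k : K, k ≠ 1 → φ k ≠ k) (Pr : K → Prop)
    (hPr : ∀ k, Pr k → Pr (φ k)) (h1 : ¬ Pr 1) : p ∣ Nat.card {k : K // Pr k} := by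
  classical
  let _ : Fintype {k : K // Pr k} := Fintype.ofFinite _
  let f : Function.End {k : K // Pr k} := fun x => ⟨φ x.1, hPr x.1 x.2⟩
  have hpow : ∀ (n : ℕ) (x : {k : K // Pr k}),
      (((f ^ n) x : {k : K // Pr k}) : K) = (φ ^ n) x.1 := by
    intro n
    induction n with
    | zero => intro x; rw [pow_zero, pow_zero]; rfl
    | succ n ih =>
      intro x
      rw [pow_succ', pow_succ']
      show φ (((f ^ n) x : {k : K // Pr k}) : K) = _
      rw [ih x]
      rfl
  have hf : f ^ p ^ 1 = 1 := by
    rw [pow_one]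
    funext x
    apply Subtype.ext
    rw [hpow p x, hφ]
    rfl
  have h := Equiv.Perm.card_fixedPoints_modEq (f := f) (p := p) (n := 1) hf
  haveI hempty : IsEmpty (Function.fixedPoints f) := by
    constructor
    rintro ⟨x, hx⟩
    have hx' : f x = x := hx
    have hne : x.1 ≠ 1 := fun h => h1 (h ▸ x.2)
    exact hfree x.1 hne (congrArg Subtype.val hx')
  have h0 : Fintype.card (Function.fixedPoints f) = 0 := Fintype.card_eq_zero
  rw [h0, ← Nat.card_eq_fintype_card] at h
  exact (Nat.modEq_zero_iff_dvd).1 h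

lemma d6_mem_of_coprime {G : Type*} [Group G] [Finite G] (K : Subgroup G) [K.Normal] (x : G)
    (h : Nat.Coprime (orderOf x) K.index) : x ∈ K := by
  have h1 : orderOf (QuotientGroup.mk' K x) ∣ orderOf x := orderOf_map_dvd (QuotientGroup.mk' K) x
  have h2 : orderOf (QuotientGroup.mk' K x) ∣ K.index := by
    rw [Subgroup.index_eq_card]; exact orderOf_dvd_natCard _
  have h3 := Nat.dvd_gcd h1 h2
  rw [Nat.Coprime.gcd_eq_one h, Nat.dvd_one, orderOf_eq_one_iff] at h3
  exact (QuotientGroup.eq_one_iff x).1 h3

lemma d6_arith (n : ℕ) (hpos : 0 < n) (h72 : n ∣ 72) (hmod : 5 ∣ n - 1) (h1 : n ≠ 1) :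
    n = 6 ∨ n = 36 := by
  have hle : n ≤ 72 := Nat.le_of_dvd (by norm_num) h72
  interval_cases n <;> omega

theorem d6_simple {G : Type*} [Group G] [Finite G] (hN : Nat.card G = 360) (h3 : s G 3 = 80)
    (h5 : s G 5 = 144) (hsp : ∀ m, s G m ≠ 0 → m ≤ 5) : IsSimpleGroup G := by
  classical
  haveI hnt : Nontrivial G := by
    rw [← Finite.one_lt_card_iff_nontrivial, hN]; norm_num
  haveI : Fact (Nat.Prime 5) := ⟨by norm_num⟩
  have hle5 : ∀ x : G, orderOf x ≤ 5 := fun x =>
    hsp _ ((Cfsg.Agent.S3995.s_ne_zero_iff _).2 ⟨x, rfl⟩)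
  obtain ⟨g, hg⟩ : ∃ g : G, orderOf g = 5 :=
    (Cfsg.Agent.S3995.s_ne_zero_iff 5).1 (by rw [h5]; norm_num)
  refine { toNontrivial := hnt, eq_bot_or_eq_top_of_normal := fun K hK => ?_ }
  by_contra hcon
  rw [not_or] at hcon
  obtain ⟨hbot, htop⟩ := hcon
  haveI := hK
  have hKdvd : Nat.card K ∣ 360 := hN ▸ Subgroup.card_subgroup_dvd_card K
  have hK1 : Nat.card K ≠ 1 := fun h => hbot (Subgroup.eq_bot_of_card_eq K h)
  have hK360 : Nat.card K ≠ 360 := fun h =>
    htop ((Subgroup.card_eq_iff_eq_top K).1 (h.trans hN.symm))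
  have hidx : Nat.card K * K.index = 360 := hN ▸ Subgroup.card_mul_index K
  have hKpos : 0 < Nat.card K := Nat.card_pos
  have hA5 : ({x : G | orderOf x = 5} : Set G).ncard = 144 := h5
  have hA3 : ({x : G | orderOf x = 3} : Set G).ncard = 80 := h3
  have hKn : (K : Set G).ncard = Nat.card K := rfl
  by_cases h5K : 5 ∣ Nat.card K
  · -- the normal subgroup contains all elements of order 5
    have hni : ¬ 5 ∣ K.index := by
      intro h
      obtain ⟨a, ha⟩ := h5K
      obtain ⟨b, hb⟩ := h
      rw [ha, hb] at hidx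
      have : 25 * (a * b) = 360 := by nlinarith
      omega
    have h5in : ∀ x : G, orderOf x = 5 → x ∈ K := fun x hx =>
      d6_mem_of_coprime K x (by
        rw [hx]; exact (Nat.Prime.coprime_iff_not_dvd (by norm_num)).2 hni)
    have hsub1 : insert (1 : G) {x : G | orderOf x = 5} ⊆ (K : Set G) := by
      intro x hx
      rcases hx with rfl | hx
      · exact K.one_mem
      · exact h5in x hx
    have hnot1 : (1 : G) ∉ {x : G | orderOf x = 5} := by
      simp only [Set.mem_setOf_eq, orderOf_one]; norm_num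
    have hc1 : 145 ≤ Nat.card K := by
      have := Set.ncard_le_ncard hsub1 (Set.toFinite _)
      rw [Set.ncard_insert_of_notMem hnot1 (Set.toFinite _), hA5, hKn] at this
      exact this
    have hipos : 0 < K.index := by
      rcases Nat.eq_zero_or_pos K.index with h | h
      · rw [h] at hidx; omega
      · exact h
    have hi2 : K.index = 2 := by
      have hle2 : K.index ≤ 2 := by
        by_contra hlt
        have : 3 ≤ K.index := by omega
        nlinarith
      have hne1 : K.index ≠ 1 := by
        intro h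
        rw [h] at hidx
        omega
      omega
    have hc180 : Nat.card K = 180 := by rw [hi2] at hidx; omega
    have h3in : ∀ x : G, orderOf x = 3 → x ∈ K := fun x hx =>
      d6_mem_of_coprime K x (by rw [hx, hi2]; norm_num)
    have hsub2 : insert (1 : G) ({x : G | orderOf x = 5} ∪ {x : G | orderOf x = 3}) ⊆
        (K : Set G) := by
      intro x hx
      rcases hx with rfl | hx | hx
      · exact K.one_mem
      · exact h5in x hx
      · exact h3in x hx
    have hdisj : Disjoint {x : G | orderOf x = 5} {x : G | orderOf x = 3} := by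
      rw [Set.disjoint_left]
      intro x h1 h2
      simp only [Set.mem_setOf_eq] at h1 h2
      omega
    have hnot2 : (1 : G) ∉ {x : G | orderOf x = 5} ∪ {x : G | orderOf x = 3} := by
      simp only [Set.mem_union, Set.mem_setOf_eq, orderOf_one]; norm_num
    have := Set.ncard_le_ncard hsub2 (Set.toFinite _)
    rw [Set.ncard_insert_of_notMem hnot2 (Set.toFinite _),
      Set.ncard_union_eq hdisj (Set.toFinite _) (Set.toFinite _), hA5, hA3, hKn] at this
    omega
  · -- an element of order 5 acts fixed point freely on the normal subgroup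
    set φ : MulAut K := MulAut.conjNormal g with hφdef
    have hφ5 : φ ^ 5 = 1 := by
      rw [hφdef, ← map_pow, ← hg, pow_orderOf_eq_one, map_one]
    have hordK : ∀ k : K, orderOf k ∣ Nat.card K := fun k => orderOf_dvd_natCard k
    have hfree : ∀ k : K, k ≠ 1 → φ k ≠ k := by
      intro k hk1 heq
      have h1 : g * (k : G) * g⁻¹ = k := by
        rw [← MulAut.conjNormal_apply]; exact congrArg Subtype.val heq
      have hcomm : Commute g (k : G) := mul_inv_eq_iff_eq_mul.1 h1
      have hko : orderOf (k : G) = orderOf k := Subgroup.orderOf_coe k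
      have hcop : Nat.Coprime (orderOf g) (orderOf (k : G)) := by
        rw [hg, hko]
        exact (Nat.Prime.coprime_iff_not_dvd (by norm_num)).2
          (fun h => h5K (h.trans (hordK k)))
      have hmul := hcomm.orderOf_mul_eq_mul_orderOf_of_coprime hcop
      have hk2 : 2 ≤ orderOf (k : G) := by
        have hpos : 0 < orderOf (k : G) := orderOf_pos _
        have hne1 : orderOf (k : G) ≠ 1 := by
          rw [hko, Ne, orderOf_eq_one_iff]; exact hk1
        omega
      have := hle5 (g * (k : G))
      rw [hmul, hg] at this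
      omega
    have hdiv : ∀ (Pr : K → Prop), (∀ k, Pr k → Pr (φ k)) → ¬ Pr 1 →
        5 ∣ Nat.card {k : K // Pr k} :=
      fun Pr h1 h2 => d6_dvd_card_of_free 5 φ hφ5 hfree Pr h1 h2
    have hs : ∀ m, m ≠ 1 → 5 ∣ s K m := by
      intro m hm
      show 5 ∣ Nat.card {k : K // orderOf k = m}
      exact hdiv (fun k => orderOf k = m)
        (fun k hk => by rw [MulEquiv.orderOf_eq]; exact hk)
        (by rw [orderOf_one]; exact fun h => hm h.symm)
    have hmod : 5 ∣ Nat.card K - 1 := by
      have h := hdiv (fun k => k ≠ 1)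
        (fun k hk h => hk (φ.injective (h.trans (map_one φ).symm))) (by simp)
      have e1 : ({k : K | k ≠ 1} : Set K) = Set.univ \ {1} := by
        ext k; simp
      have e2 : Nat.card {k : K // k ≠ 1} = ({k : K | k ≠ 1} : Set K).ncard := rfl
      rw [e2, e1, Set.ncard_diff_singleton_of_mem (Set.mem_univ _), Set.ncard_univ] at h
      exact h
    have hcop5 : Nat.Coprime (Nat.card K) 5 :=
      Nat.Coprime.symm ((Nat.Prime.coprime_iff_not_dvd (by norm_num)).2 h5K)
    have h72 : Nat.card K ∣ 72 :=
      hcop5.dvd_of_dvd_mul_right (show Nat.card K ∣ 72 * 5 from hKdvd)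
    have key := d6_arith (Nat.card K) hKpos h72 hmod hK1
    have hc : ∀ q : ℕ, q.Prime → q ∣ Nat.card K → 5 ≤ s K q := by
      intro q hq hqK
      haveI := Fact.mk hq
      obtain ⟨k, hk⟩ := exists_prime_orderOf_dvd_card' (G := K) q hqK
      have hne : s K q ≠ 0 := (Cfsg.Agent.S3995.s_ne_zero_iff q).2 ⟨k, hk⟩
      have := hs q hq.one_lt.ne'
      omega
    have hcount : 1 + s K 2 + s K 3 ≤ Nat.card K := by
      have hdisj : Disjoint {k : K | orderOf k = 2} {k : K | orderOf k = 3} := by
        rw [Set.disjoint_left]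
        intro x h1 h2
        simp only [Set.mem_setOf_eq] at h1 h2
        omega
      have hnot : (1 : K) ∉ {k : K | orderOf k = 2} ∪ {k : K | orderOf k = 3} := by
        simp only [Set.mem_union, Set.mem_setOf_eq, orderOf_one]; norm_num
      have := Set.ncard_le_ncard (Set.subset_univ
        (insert (1 : K) ({k : K | orderOf k = 2} ∪ {k : K | orderOf k = 3}))) (Set.toFinite _)
      rw [Set.ncard_insert_of_notMem hnot (Set.toFinite _),
        Set.ncard_union_eq hdisj (Set.toFinite _) (Set.toFinite _), Set.ncard_univ] at this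
      have e2 : s K 2 = ({k : K | orderOf k = 2} : Set K).ncard := rfl
      have e3 : s K 3 = ({k : K | orderOf k = 3} : Set K).ncard := rfl
      omega
    rcases key with h6 | h36
    · have a := hc 2 (by norm_num) (by rw [h6]; norm_num)
      have b := hc 3 (by norm_num) (by rw [h6]; norm_num)
      omega
    · have a := hc 2 (by norm_num) (by rw [h36]; norm_num)
      have b := hs 3 (by norm_num)
      have hfr := Cfsg.Agent.S3995.frob_s (G := K) 9 (by rw [h36]; norm_num)
      have hd9 : Nat.divisors 9 = {1, 3, 9} := by decide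
      rw [hd9, Finset.sum_insert (by decide), Finset.sum_insert (by decide),
        Finset.sum_singleton, Cfsg.Agent.S3995.s_one] at hfr
      have h9 : s K 9 = 0 := by
        by_contra h
        obtain ⟨k, hk⟩ := (Cfsg.Agent.S3995.s_ne_zero_iff 9).1 h
        have := hle5 (k : G)
        rw [Subgroup.orderOf_coe, hk] at this
        omega
      rw [h9] at hfr
      omega

theorem recog_A6 {G : Type*} [Group G] [Finite G] (hN : Nat.card G = 360) (h3 : Cfsg.Agent.S3995.s G 3 = 80)
    (h5 : Cfsg.Agent.S3995.s G 5 = 144) (hsp : ∀ m, Cfsg.Agent.S3995.s G m ≠ 0 → m ≤ 5) :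
    Nonempty (G ≃* ↥(alternatingGroup (Fin 6))) := by
  haveI := d6_simple hN h3 h5 hsp
  exact Cfsg.Agent.S0497.result hN

end Cfsg.Agent.Lib.Helper83.Nse
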