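/-
K-OTs-O16c (keystone 597318, pack S5973/S5987, architect helper99): PURE ARITHMETIC.
PLUS: if the criterion fails one of the three derangement families applies.
-/
import Mathlib

set_option autoImplicit false
set_option linter.unusedVariables false

namespace Cfsg.Agent.Lib.Helper83.OTs

/-- `i ∣ 2 x`, `¬ i ∣ x`: then `2 x = i k` with `k` odd. -/
theorem exists_odd_mul_of_dvd_two_mul {i x : ℕ} (h1 : i ∣ 2 * x) (h2 : ¬ i ∣ x) :
    ∃ k, Odd k ∧ 2 * x = i * k := by
  obtain ⟨k, hk⟩ := h1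
  refine ⟨k, ?_, hk⟩
  rw [← Nat.not_even_iff_odd]
  rintro ⟨k', hk'⟩
  apply h2
  refine ⟨k', ?_⟩
  have : i * k = 2 * (i * k') := by rw [hk']; ring
  omega

/-- the even case of `arith_der_plus` / `arith_der_minus`, in terms of `N = 2d / i`, `ρ = 2d % i`,
`a = m / i`, `μ = m % i`, with the parity `π` of the number of blocks (`π = 0` plus, `π = 1` minus). -/
theorem arith_der_even_core (π : ℕ) (hπ : π < 2) (d m i t N ρ a μ : ℕ) (hie : Even i) (hi : 1 ≤ i)
    (ht : 1 ≤ t) (hm : 1 ≤ m) (hmd : m < d) (h2d : i * N + ρ = 2 * d) (hρ : ρ < i)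
    (hma : i * a + μ = m) (hμ : μ < i) (him : i ≤ m)
    (hcrit : ¬ (t + 2 * a ≤ N ∧
        ((2 * μ ≤ i ∧ ρ = 0 ∧ N % 2 ≠ π ∧ t + 2 * a < N) ∨
         (2 * μ ≤ ρ ∧ N % 2 = π) ∨
         (2 * μ < ρ ∧ N % 2 ≠ π)))) :
    (∃ j, 1 ≤ j ∧ i * j ≤ 2 * d ∧ (j % 2 ≠ π → i * j + 2 ≤ 2 * d) ∧
      (j % 2 = π → 2 * d - i * j < 2 * μ) ∧ (j % 2 ≠ π → 2 * d - i * j < 2 * μ + 2)) ∨
    (∃ j, 1 ≤ j ∧ j ≤ t ∧ i * j ≤ 2 * d ∧ (j % 2 ≠ π → i * j + 2 ≤ 2 * d) ∧
      (j % 2 = π → 2 * d - i * j < 2 * m) ∧ (j % 2 ≠ π → 2 * d - i * j < 2 * m + 2)) := by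
  obtain ⟨i', hi'⟩ := hie
  have hiN : i * N = 2 * (i' * N) := by rw [hi']; ring
  have hi2 : 2 ≤ i := by omega
  have ha1 : 1 ≤ a := by
    rcases Nat.eq_zero_or_pos a with h | h
    · rw [h, Nat.mul_zero] at hma; omega
    · exact h
  have hia_ge : i ≤ i * a := Nat.le_mul_of_pos_right i ha1
  have hN1 : 1 ≤ N := by
    rcases Nat.eq_zero_or_pos N with h | h
    · rw [h, Nat.mul_zero] at h2d; omega
    · exact h
  have hiN_ge : i ≤ i * N := Nat.le_mul_of_pos_right i hN1
  have hsub : i * (N - 1) = i * N - i := Nat.mul_sub_one i N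
  by_cases h2a : t + 2 * a ≤ N
  · -- the criterion's alternatives fail
    by_cases hNπ : N % 2 = π
    · have h1 : ρ < 2 * μ := by
        by_contra hc
        exact hcrit ⟨h2a, Or.inr (Or.inl ⟨by omega, hNπ⟩)⟩
      left
      refine ⟨N, hN1, by omega, fun h => absurd hNπ h, fun _ => by omega, fun h => absurd hNπ h⟩
    · have h1 : ρ ≤ 2 * μ := by
        by_contra hc
        exact hcrit ⟨h2a, Or.inr (Or.inr ⟨by omega, hNπ⟩)⟩
      by_cases hρ0 : ρ = 0
      · by_cases hμi : 2 * μ ≤ i
        · have h3 : ¬ (t + 2 * a < N) := fun hc => hcrit ⟨h2a, Or.inl ⟨hμi, hρ0, hNπ, hc⟩⟩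
          have hN : N = t + 2 * a := by omega
          have hit : i * N = i * t + 2 * (i * a) := by rw [hN]; ring
          right
          refine ⟨t, ht, le_rfl, by omega, fun _ => by omega, fun _ => by omega, fun _ => by omega⟩
        · left
          have hN2 : 2 ≤ N := by
            by_contra hc
            have : N = 1 := by omega
            rw [this, Nat.mul_one] at h2d
            omega
          refine ⟨N - 1, by omega, by omega, fun h => ?_, fun _ => by omega, fun h => ?_⟩
          · exfalso; omega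
          · exfalso; omega
      · left
        refine ⟨N, hN1, by omega, fun _ => by omega, fun h => absurd h hNπ, fun _ => by omega⟩
  · right
    by_cases htN : N ≤ t
    · by_cases hNπ : N % 2 = π
      · refine ⟨N, hN1, htN, by omega, fun h => absurd hNπ h, fun _ => by omega,
          fun h => absurd hNπ h⟩
      · by_cases hρ0 : ρ = 0
        · have hN2 : 2 ≤ N := by
            by_contra hc
            have : N = 1 := by omega
            rw [this, Nat.mul_one] at h2d
            omega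
          refine ⟨N - 1, by omega, by omega, by omega, fun h => ?_, fun _ => by omega, fun h => ?_⟩
          · exfalso; omega
          · exfalso; omega
        · refine ⟨N, hN1, htN, by omega, fun _ => by omega, fun h => absurd h hNπ,
            fun _ => by omega⟩
    · have h3 : i * (N + 1) ≤ i * (t + 2 * a) := Nat.mul_le_mul_left i (by omega)
      have h3' : i * N + i ≤ i * t + 2 * (i * a) := by
        have e1 : i * (N + 1) = i * N + i := by ring
        have e2 : i * (t + 2 * a) = i * t + 2 * (i * a) := by ring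
        omega
      have h4 : i * (t + 1) ≤ i * N := Nat.mul_le_mul_left i (by omega)
      have h4' : i * t + i ≤ i * N := by
        have e1 : i * (t + 1) = i * t + i := by ring
        omega
      refine ⟨t, ht, le_rfl, by omega, fun _ => by omega, fun _ => by omega, fun _ => by omega⟩

/-- **O16c (597318)**.  PLUS: if the criterion fails (and the divisibility hypothesis `hP` holds) one
of the three derangement families applies. -/
theorem arith_der_plus (d m i t : ℕ) (hi : 1 ≤ i) (ht : 1 ≤ t) (hd : 4 ≤ d) (hm : 1 ≤ m) (hmd : m < d)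
    (hP : ∃ j0, j0 < m ∧ (i ∣ (d - j0) ∨ (i ∣ 2 * (d - j0 - 1) ∧ ¬ i ∣ (d - j0 - 1))))
    (hcrit : ¬ ((Odd i ∧ i ≤ m ∧ 2 * (m % i) ≤ (2 * d) % (2 * i)) ∨
      (Even i ∧ i ≤ m ∧ t + 2 * (m / i) ≤ (2 * d) / i ∧
        ((2 * (m % i) ≤ i ∧ (2 * d) % i = 0 ∧ Odd ((2 * d) / i) ∧ t + 2 * (m / i) < (2 * d) / i) ∨
         (2 * (m % i) ≤ (2 * d) % i ∧ Even ((2 * d) / i)) ∨
         (2 * (m % i) < (2 * d) % i ∧ Odd ((2 * d) / i)))))) :
    (Odd i ∧ ∃ j, 1 ≤ j ∧ 2 * (i * j) ≤ 2 * d ∧
      ∀ b, b ≤ j → i * b ≤ m → 2 * d - 2 * (i * j) < 2 * (m - i * b)) ∨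
    (Even i ∧ ∃ j, 1 ≤ j ∧ i * j ≤ 2 * d ∧ (Odd j → i * j + 2 ≤ 2 * d) ∧
      (Even j → 2 * d - i * j < 2 * (m % i)) ∧ (Odd j → 2 * d - i * j < 2 * (m % i) + 2)) ∨
    (Even i ∧ ∃ j, 1 ≤ j ∧ j ≤ t ∧ i * j ≤ 2 * d ∧ (Odd j → i * j + 2 ≤ 2 * d) ∧
      (Even j → 2 * d - i * j < 2 * m) ∧ (Odd j → 2 * d - i * j < 2 * m + 2)) := by
  obtain ⟨j0, hj0, hPj⟩ := hP
  have hi0 : 0 < i := by omega
  have h2d := Nat.div_add_mod (2 * d) i
  have hρ := Nat.mod_lt (2 * d) hi0
  have hma := Nat.div_add_mod m i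
  have hμ := Nat.mod_lt m hi0
  rcases Nat.even_or_odd i with hie | hio
  · right
    by_cases him : i ≤ m
    · have hcore := arith_der_even_core 0 (by norm_num) d m i t (2 * d / i) (2 * d % i) (m / i)
        (m % i) hie hi ht hm hmd h2d hρ hma hμ him (by
          rintro ⟨h2a, hX⟩
          apply hcrit
          right
          refine ⟨hie, him, h2a, ?_⟩
          rcases hX with ⟨a1, a2, a3, a4⟩ | ⟨a1, a2⟩ | ⟨a1, a2⟩
          · left; exact ⟨a1, a2, Nat.odd_iff.mpr (by omega), a4⟩
          · right; left; exact ⟨a1, Nat.even_iff.mpr a2⟩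
          · right; right; exact ⟨a1, Nat.odd_iff.mpr (by omega)⟩)
      rcases hcore with ⟨j, h1, h2, h3, h4, h5⟩ | ⟨j, h1, h1', h2, h3, h4, h5⟩
      · left
        refine ⟨hie, j, h1, h2, ?_, ?_, ?_⟩
        · intro hj; rw [Nat.odd_iff] at hj; exact h3 (by omega)
        · intro hj; rw [Nat.even_iff] at hj; exact h4 (by omega)
        · intro hj; rw [Nat.odd_iff] at hj; exact h5 (by omega)
      · right
        refine ⟨hie, j, h1, h1', h2, ?_, ?_, ?_⟩
        · intro hj; rw [Nat.odd_iff] at hj; exact h3 (by omega)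
        · intro hj; rw [Nat.even_iff] at hj; exact h4 (by omega)
        · intro hj; rw [Nat.odd_iff] at hj; exact h5 (by omega)
    · -- `i > m`
      have hμm : m % i = m := Nat.mod_eq_of_lt (by omega)
      left
      rw [hμm]
      rcases hPj with ⟨k, hk⟩ | ⟨h1, h2⟩
      · have hk1 : 1 ≤ k := by
          rcases Nat.eq_zero_or_pos k with h | h
          · rw [h, Nat.mul_zero] at hk; omega
          · exact h
        have e : i * (2 * k) = 2 * (i * k) := by ring
        refine ⟨hie, 2 * k, by omega, by omega, ?_, ?_, ?_⟩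
        · intro hj; rw [Nat.odd_iff] at hj; omega
        · intro _; omega
        · intro hj; rw [Nat.odd_iff] at hj; omega
      · obtain ⟨k, hko, hk⟩ := exists_odd_mul_of_dvd_two_mul h1 h2
        have hk1 : 1 ≤ k := by rw [Nat.odd_iff] at hko; omega
        refine ⟨hie, k, hk1, by omega, ?_, ?_, ?_⟩
        · intro _; omega
        · intro hj; rw [Nat.even_iff] at hj; rw [Nat.odd_iff] at hko; omega
        · intro _; omega
  · left
    have hmod : (2 * d) % (2 * i) = 2 * (d % i) := Nat.mul_mod_mul_left 2 d i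
    have hdd := Nat.div_add_mod d i
    by_cases him : i ≤ m
    · have hlt : d % i < m % i := by
        by_contra hc
        apply hcrit
        left
        refine ⟨hio, him, ?_⟩
        rw [hmod]; omega
      refine ⟨hio, d / i, Nat.div_pos (by omega) hi0, by omega, ?_⟩
      intro b hb hib
      have hb' : b ≤ m / i := (Nat.le_div_iff_mul_le hi0).mpr (by rw [mul_comm]; exact hib)
      have := Nat.mul_le_mul_left i hb'
      omega
    · -- `i > m`
      have hcop : Nat.Coprime i 2 := Nat.coprime_two_right.mpr hio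
      rcases hPj with ⟨k, hk⟩ | ⟨h1, h2⟩
      · have hk1 : 1 ≤ k := by
          rcases Nat.eq_zero_or_pos k with h | h
          · rw [h, Nat.mul_zero] at hk; omega
          · exact h
        refine ⟨hio, k, hk1, by omega, ?_⟩
        intro b hb hib
        have hb0 : b = 0 := by
          by_contra hne
          have : i ≤ i * b := Nat.le_mul_of_pos_right i (Nat.pos_of_ne_zero hne)
          omega
        subst hb0
        rw [Nat.mul_zero]
        omega
      · exact absurd (Nat.Coprime.dvd_of_dvd_mul_left hcop h1) h2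

end Cfsg.Agent.Lib.Helper83.OTs
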