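/-
K-OTs-O16d (keystone 597319, pack S5973/S5987, architect helper99): PURE ARITHMETIC.
MINUS twin of O16c.
-/
import Mathlib
import Cfsg.Agent.Lib.Helper83.OTsO16c

set_option autoImplicit false
set_option linter.unusedVariables false

namespace Cfsg.Agent.Lib.Helper83.OTs

/-- **O16d (597319)**.  MINUS twin of O16c. -/
theorem arith_der_minus (d m i t : ℕ) (hi : 1 ≤ i) (ht : 1 ≤ t) (hd : 4 ≤ d) (hm : 1 ≤ m) (hmd : m + 1 ≤ d)
    (hP : ∃ j0, j0 < m ∧ ((i ∣ 2 * (d - j0) ∧ ¬ i ∣ (d - j0)) ∨ i ∣ (d - j0 - 1)))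
    (hcrit : ¬ ((Odd i ∧ i ≤ m ∧ ((2 * d) % (2 * i) = 0 ∨ 2 * (m % i) < (2 * d) % (2 * i))) ∨
      (Even i ∧ i ≤ m ∧ t + 2 * (m / i) ≤ (2 * d) / i ∧
        ((2 * (m % i) ≤ i ∧ (2 * d) % i = 0 ∧ Even ((2 * d) / i) ∧ t + 2 * (m / i) < (2 * d) / i) ∨
         (2 * (m % i) ≤ (2 * d) % i ∧ Odd ((2 * d) / i)) ∨
         (2 * (m % i) < (2 * d) % i ∧ Even ((2 * d) / i)))))) :
    (Odd i ∧ ∃ j, 1 ≤ j ∧ 2 * (i * j) + 2 ≤ 2 * d ∧
      ∀ b, b ≤ j → i * b ≤ m → 2 * d - 2 * (i * j) < 2 * (m - i * b) + 2) ∨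
    (Even i ∧ ∃ j, 1 ≤ j ∧ i * j ≤ 2 * d ∧ (Even j → i * j + 2 ≤ 2 * d) ∧
      (Odd j → 2 * d - i * j < 2 * (m % i)) ∧ (Even j → 2 * d - i * j < 2 * (m % i) + 2)) ∨
    (Even i ∧ ∃ j, 1 ≤ j ∧ j ≤ t ∧ i * j ≤ 2 * d ∧ (Even j → i * j + 2 ≤ 2 * d) ∧
      (Odd j → 2 * d - i * j < 2 * m) ∧ (Even j → 2 * d - i * j < 2 * m + 2)) := by
  obtain ⟨j0, hj0, hPj⟩ := hP
  have hi0 : 0 < i := by omega
  have h2d := Nat.div_add_mod (2 * d) i
  have hρ := Nat.mod_lt (2 * d) hi0
  have hma := Nat.div_add_mod m i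
  have hμ := Nat.mod_lt m hi0
  rcases Nat.even_or_odd i with hie | hio
  · right
    by_cases him : i ≤ m
    · have hcore := arith_der_even_core 1 (by norm_num) d m i t (2 * d / i) (2 * d % i) (m / i)
        (m % i) hie hi ht hm (by omega) h2d hρ hma hμ him (by
          rintro ⟨h2a, hX⟩
          apply hcrit
          right
          refine ⟨hie, him, h2a, ?_⟩
          rcases hX with ⟨a1, a2, a3, a4⟩ | ⟨a1, a2⟩ | ⟨a1, a2⟩
          · left; exact ⟨a1, a2, Nat.even_iff.mpr (by omega), a4⟩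
          · right; left; exact ⟨a1, Nat.odd_iff.mpr a2⟩
          · right; right; exact ⟨a1, Nat.even_iff.mpr (by omega)⟩)
      rcases hcore with ⟨j, h1, h2, h3, h4, h5⟩ | ⟨j, h1, h1', h2, h3, h4, h5⟩
      · left
        refine ⟨hie, j, h1, h2, ?_, ?_, ?_⟩
        · intro hj; rw [Nat.even_iff] at hj; exact h3 (by omega)
        · intro hj; rw [Nat.odd_iff] at hj; exact h4 (by omega)
        · intro hj; rw [Nat.even_iff] at hj; exact h5 (by omega)
      · right
        refine ⟨hie, j, h1, h1', h2, ?_, ?_, ?_⟩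
        · intro hj; rw [Nat.even_iff] at hj; exact h3 (by omega)
        · intro hj; rw [Nat.odd_iff] at hj; exact h4 (by omega)
        · intro hj; rw [Nat.even_iff] at hj; exact h5 (by omega)
    · -- `i > m`
      have hμm : m % i = m := Nat.mod_eq_of_lt (by omega)
      left
      rw [hμm]
      rcases hPj with ⟨h1, h2⟩ | ⟨k, hk⟩
      · obtain ⟨k, hko, hk⟩ := exists_odd_mul_of_dvd_two_mul h1 h2
        have hk1 : 1 ≤ k := by rw [Nat.odd_iff] at hko; omega
        refine ⟨hie, k, hk1, by omega, ?_, ?_, ?_⟩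
        · intro hj; rw [Nat.even_iff] at hj; rw [Nat.odd_iff] at hko; omega
        · intro _; omega
        · intro hj; rw [Nat.even_iff] at hj; rw [Nat.odd_iff] at hko; omega
      · have hk1 : 1 ≤ k := by
          rcases Nat.eq_zero_or_pos k with h | h
          · rw [h, Nat.mul_zero] at hk; omega
          · exact h
        have e : i * (2 * k) = 2 * (i * k) := by ring
        refine ⟨hie, 2 * k, by omega, by omega, ?_, ?_, ?_⟩
        · intro _; omega
        · intro hj; rw [Nat.odd_iff] at hj; omega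
        · intro _; omega
  · left
    have hmod : (2 * d) % (2 * i) = 2 * (d % i) := Nat.mul_mod_mul_left 2 d i
    have hdd := Nat.div_add_mod d i
    by_cases him : i ≤ m
    · have hlt : d % i ≠ 0 ∧ d % i ≤ m % i := by
        constructor
        · intro hc
          apply hcrit
          left
          refine ⟨hio, him, Or.inl ?_⟩
          rw [hmod, hc]
        · by_contra hc
          apply hcrit
          left
          refine ⟨hio, him, Or.inr ?_⟩
          rw [hmod]; omega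
      refine ⟨hio, d / i, Nat.div_pos (by omega) hi0, by omega, ?_⟩
      intro b hb hib
      have hb' : b ≤ m / i := (Nat.le_div_iff_mul_le hi0).mpr (by rw [mul_comm]; exact hib)
      have := Nat.mul_le_mul_left i hb'
      omega
    · -- `i > m`
      have hcop : Nat.Coprime i 2 := Nat.coprime_two_right.mpr hio
      rcases hPj with ⟨h1, h2⟩ | ⟨k, hk⟩
      · exact absurd (Nat.Coprime.dvd_of_dvd_mul_left hcop h1) h2
      · have hk1 : 1 ≤ k := by
          rcases Nat.eq_zero_or_pos k with h | h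
          · rw [h, Nat.mul_zero] at hk; omega
          · exact h
        refine ⟨hio, k, hk1, by omega, ?_⟩
        intro b hb hib
        have hb0 : b = 0 := by
          by_contra hne
          have : i ≤ i * b := Nat.le_mul_of_pos_right i (Nat.pos_of_ne_zero hne)
          omega
        subst hb0
        rw [Nat.mul_zero]
        omega

end Cfsg.Agent.Lib.Helper83.OTs
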