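import Mathlib
import Cfsg.Agent.Lib.Helper48.RSpDefs2

/-!
# K-RSp leaf E3 (keystone 228116, S2281): cosets of `W`, and additivity on `W'` for an abstract set `T`.
-/

set_option autoImplicit false

namespace Cfsg.Agent.Lib.Helper83.RSp

open Matrix Cfsg.Agent.Lib.Helper48.RSp Cfsg.Agent.Lib.Helper18

/-- vectors supported on the `inr` coordinates are mutually orthogonal -/
theorem e3_sf_inr_zero {n : ℕ} {F : Type*} [Field F] (y y' : Fin n ⊕ Fin n → F)
    (h : ∀ i, y (Sum.inl i) = 0) (h' : ∀ i, y' (Sum.inl i) = 0) :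
    Cfsg.sympForm n F y y' = 0 := by
  rw [sympForm_eq]
  apply Finset.sum_eq_zero
  intro i _
  rw [h, h']
  ring

/-- vectors supported on the `inl` coordinates are mutually orthogonal -/
theorem e3_sf_inl_zero {n : ℕ} {F : Type*} [Field F] (w w' : Fin n ⊕ Fin n → F)
    (h : ∀ i, w (Sum.inr i) = 0) (h' : ∀ i, w' (Sum.inr i) = 0) :
    Cfsg.sympForm n F w w' = 0 := by
  rw [sympForm_eq]
  apply Finset.sum_eq_zero
  intro i _
  rw [h, h']
  ring

theorem e3_single_inr {n : ℕ} {F : Type*} [Field F] (i j : Fin n) :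
    (Pi.single (Sum.inl i) (1 : F) : Fin n ⊕ Fin n → F) (Sum.inr j) = 0 := by
  classical
  simp

theorem T_coset {m : ℕ} {F : Type*} [Field F] (T : Set (Fin (m + 2) ⊕ Fin (m + 2) → F))
    (hW : ∀ w : Fin (m + 2) ⊕ Fin (m + 2) → F, (∀ i, w (Sum.inr i) = 0) → w ∈ T)
    (hhyp : ∀ v ∈ T, ∀ w ∈ T, Cfsg.sympForm (m + 2) F v w ≠ 0 → ∀ s : F, v + s • w ∈ T)
    (x : Fin (m + 2) ⊕ Fin (m + 2) → F) (hx : x ∈ T) (hxW : ∃ i, x (Sum.inr i) ≠ 0)
    (w : Fin (m + 2) ⊕ Fin (m + 2) → F) (hw : ∀ i, w (Sum.inr i) = 0) : x + w ∈ T := by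
  classical
  by_cases hf : Cfsg.sympForm (m + 2) F x w ≠ 0
  · have := hhyp x hx w (hW w hw) hf 1
    rwa [one_smul] at this
  · have hf0 : Cfsg.sympForm (m + 2) F x w = 0 := not_not.mp hf
    obtain ⟨i, hi⟩ := hxW
    set w₂ : Fin (m + 2) ⊕ Fin (m + 2) → F := Pi.single (Sum.inl i) 1 with hw₂
    have hw₂0 : ∀ j, w₂ (Sum.inr j) = 0 := fun j => e3_single_inr i j
    have hww : ∀ j, (w + w₂) (Sum.inr j) = 0 := by
      intro j
      rw [Pi.add_apply, hw j, hw₂0 j, add_zero]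
    have hxw₂ : Cfsg.sympForm (m + 2) F x w₂ = x (Sum.inr i) := sf_single_inl (m + 2) x i
    have h1 : Cfsg.sympForm (m + 2) F x (w + w₂) ≠ 0 := by
      rw [sf_add_right, hf0, zero_add, hxw₂]
      exact hi
    have hx' : x + (w + w₂) ∈ T := by
      have := hhyp x hx (w + w₂) (hW _ hww) h1 1
      rwa [one_smul] at this
    have h2 : Cfsg.sympForm (m + 2) F (x + (w + w₂)) w₂ ≠ 0 := by
      rw [sf_add_left, hxw₂, e3_sf_inl_zero (w + w₂) w₂ hww hw₂0, add_zero]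
      exact hi
    have := hhyp _ hx' w₂ (hW _ hw₂0) h2 (-1)
    have e : x + (w + w₂) + (-1 : F) • w₂ = x + w := by
      rw [neg_one_smul]; abel
    rwa [e] at this

theorem T_add_inr {m : ℕ} {F : Type*} [Field F] (T : Set (Fin (m + 2) ⊕ Fin (m + 2) → F))
    (hW : ∀ w : Fin (m + 2) ⊕ Fin (m + 2) → F, (∀ i, w (Sum.inr i) = 0) → w ∈ T)
    (hhyp : ∀ v ∈ T, ∀ w ∈ T, Cfsg.sympForm (m + 2) F v w ≠ 0 → ∀ s : F, v + s • w ∈ T)
    (y₁ y₂ : Fin (m + 2) ⊕ Fin (m + 2) → F) (h1 : y₁ ∈ T) (h2 : y₂ ∈ T)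
    (h1' : ∀ i, y₁ (Sum.inl i) = 0) (h2' : ∀ i, y₂ (Sum.inl i) = 0) : y₁ + y₂ ∈ T := by
  classical
  by_cases hy2 : ∃ i, y₂ (Sum.inr i) ≠ 0
  · obtain ⟨i, hi⟩ := hy2
    set w : Fin (m + 2) ⊕ Fin (m + 2) → F := Pi.single (Sum.inl i) 1 with hwdef
    have hw0 : ∀ j, w (Sum.inr j) = 0 := fun j => e3_single_inr i j
    -- step 1
    have hs1 : y₁ + w ∈ T := by
      by_cases hy1 : ∃ j, y₁ (Sum.inr j) ≠ 0
      · exact T_coset T hW hhyp y₁ h1 hy1 w hw0
      · simp only [not_exists, not_not] at hy1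
        apply hW
        intro j
        rw [Pi.add_apply, hy1 j, hw0 j, add_zero]
    -- step 2
    have hwy : Cfsg.sympForm (m + 2) F w y₂ = - y₂ (Sum.inr i) := by
      rw [sf_swap, sf_single_inl (m + 2) y₂ i]
    have hs2 : Cfsg.sympForm (m + 2) F (y₁ + w) y₂ ≠ 0 := by
      rw [sf_add_left, e3_sf_inr_zero y₁ y₂ h1' h2', zero_add, hwy]
      exact neg_ne_zero.mpr hi
    have hz : y₁ + w + y₂ ∈ T := by
      have := hhyp _ hs1 y₂ h2 hs2 1
      rwa [one_smul] at this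
    -- step 3
    have e : y₁ + w + y₂ + (-w) = y₁ + y₂ := by abel
    have hnw0 : ∀ j, (-w) (Sum.inr j) = 0 := by
      intro j
      rw [Pi.neg_apply, hw0 j, neg_zero]
    by_cases hz' : ∃ j, (y₁ + w + y₂) (Sum.inr j) ≠ 0
    · have := T_coset T hW hhyp _ hz hz' (-w) hnw0
      rwa [e] at this
    · simp only [not_exists, not_not] at hz'
      apply hW
      intro j
      have := hz' j
      rw [Pi.add_apply, Pi.add_apply, hw0 j, add_zero] at this
      rw [Pi.add_apply]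
      exact this
  · simp only [not_exists, not_not] at hy2
    have hy0 : y₂ = 0 := by
      funext k
      rcases k with k | k
      · exact h2' k
      · exact hy2 k
    rw [hy0, add_zero]
    exact h1

end Cfsg.Agent.Lib.Helper83.RSp
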