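import Mathlib
import Cfsg.Agent.Lib.Helper48.RSpDefs2
import Cfsg.Agent.S0765

/-!
# K-RSp leaf E6 (keystone 228119, S2281): all transvections in `G` gives `G = ⊤`.
-/

set_option autoImplicit false

namespace Cfsg.Agent.Lib.Helper83.RSp

open Matrix Cfsg.Agent.Lib.Helper48.RSp Cfsg.Agent.Lib.Helper18

theorem eq_top_of_TG_univ {m : ℕ} {F : Type*} [Field F] (G : Subgroup (SpG m F))
    (h : ∀ v : Fin (m + 2) ⊕ Fin (m + 2) → F, v ∈ TG G) : G = ⊤ := by
  rw [eq_top_iff, ← Cfsg.Agent.S0765.result (F := F) (m + 2)]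
  rw [Subgroup.closure_le]
  rintro A ⟨w, c, hA⟩
  have hAe : A = tv (m + 2) w c := Subtype.ext (by rw [hA, tv_val])
  rw [hAe]
  exact h w c

end Cfsg.Agent.Lib.Helper83.RSp
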