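import Mathlib

/-!
# K-S2037-F (Q-lemma): lifts of involutions are involutions

NOTE: the spec statement lacked the hypothesis `n₁ * n₁ = 1` (without it the statement is false:
`PSL₂(7)`, `n₁` of order 3); it is added here as `hn₁`.
-/

set_option autoImplicit false

namespace Cfsg.Agent.Lib.Helper83.SchurTwo

section

variable {G Γ : Type*} [Group G] [Group Γ] (σ : Γ →* G)

/-- squares of lifts are invariant under conjugation downstairs. -/
theorem sq_eq_one_of_conj (hσ : Function.Surjective σ) (z : Γ) (hz2 : z * z = 1)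
    (hzc : ∀ x : Γ, x * z = z * x) (hker : ∀ x : Γ, σ x = 1 → x = 1 ∨ x = z)
    (x y : Γ) (g : G) (hg : g * σ x * g⁻¹ = σ y) (hx : x * x = 1) : y * y = 1 := by
  obtain ⟨g', rfl⟩ := hσ g
  set w := g' * x * g'⁻¹ with hw
  have hww : w * w = 1 := by
    rw [hw]
    calc g' * x * g'⁻¹ * (g' * x * g'⁻¹) = g' * (x * x) * g'⁻¹ := by group
      _ = 1 := by rw [hx]; group
  have hσw : σ (w⁻¹ * y) = 1 := by
    rw [map_mul, map_inv, hw, map_mul, map_mul, map_inv, hg, inv_mul_cancel]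
  rcases hker _ hσw with h | h
  · have : y = w := by
      have := congrArg (fun t => w * t) h
      simpa using this
    rw [this, hww]
  · have : y = w * z := by
      have := congrArg (fun t => w * t) h
      simpa using this
    rw [this]
    calc w * z * (w * z) = w * (z * w) * z := by group
      _ = w * (w * z) * z := by rw [hzc w]
      _ = (w * w) * (z * z) := by group
      _ = 1 := by rw [hww, hz2, one_mul]

/-- anticommutation forced by three squares equal to `z`. -/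
theorem anti_of_sq (z : Γ) (hzc : ∀ x : Γ, x * z = z * x) (p r : Γ)
    (hp : p * p = z) (hr : r * r = z) (hpr : (p * r) * (p * r) = z) : p * r = z * (r * p) := by
  have h1 : p * (r * p * r) = p * p := by
    rw [hp, ← hpr]; group
  have h2 : r * p * r = p := mul_left_cancel h1
  calc p * r = (r * p * r) * r := by rw [h2]
    _ = r * p * (r * r) := by group
    _ = r * p * z := by rw [hr]
    _ = z * (r * p) := hzc _

/-- commutation of two lifts with squares one whose product has square one. -/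
theorem comm_of_sq (p r : Γ) (hp : p * p = 1) (hr : r * r = 1)
    (hpr : (p * r) * (p * r) = 1) : p * r = r * p := by
  have h1 : p * r = (p * r)⁻¹ := eq_inv_of_mul_eq_one_left hpr
  have h2 : p⁻¹ = p := inv_eq_of_mul_eq_one_left hp
  have h3 : r⁻¹ = r := inv_eq_of_mul_eq_one_left hr
  rw [h1, mul_inv_rev, h2, h3]

/-- K-S2037-F (Q-lemma), with the necessary extra hypothesis `hn₁ : n₁ * n₁ = 1`. -/
theorem sq_eq_one_of_involution_classes
    (hσ : Function.Surjective σ) (z : Γ) (hz2 : z * z = 1) (hzc : ∀ x : Γ, x * z = z * x)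
    (hker : ∀ x : Γ, σ x = 1 → x = 1 ∨ x = z)
    (n₁ n₂ n₃ a b d : G) (hn₁ : n₁ * n₁ = 1)
    (h2 : ∃ g : G, g * n₂ * g⁻¹ = n₁) (h3 : ∃ g : G, g * n₃ * g⁻¹ = n₁)
    (h12 : ∃ g : G, g * (n₁ * n₂) * g⁻¹ = n₁) (h13 : ∃ g : G, g * (n₁ * n₃) * g⁻¹ = n₁)
    (h23 : ∃ g : G, g * (n₂ * n₃) * g⁻¹ = n₁) (h123 : ∃ g : G, g * (n₁ * (n₂ * n₃)) * g⁻¹ = n₁)
    (ha : ∃ g : G, g * a * g⁻¹ = n₁) (hb : ∃ g : G, g * b * g⁻¹ = n₁)
    (hd : ∃ g : G, g * d * g⁻¹ = n₁)
    (hab : ∃ g : G, g * (a * b) * g⁻¹ = n₁) (had : ∃ g : G, g * (a * d) * g⁻¹ = n₁)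
    (hbd : ∃ g : G, g * (b * d) * g⁻¹ = n₁)
    (hcl : ∀ τ : G, τ * τ = 1 → τ = 1 ∨ (∃ g : G, g * τ * g⁻¹ = n₁) ∨
      ∃ g : G, g * τ * g⁻¹ = a * (b * d)) :
    ∀ x : Γ, σ x * σ x = 1 → x * x = 1 := by
  have hconj := sq_eq_one_of_conj σ hσ z hz2 hzc hker
  -- squares of lifts of elements of square one lie in `{1, z}`
  have hsq : ∀ x : Γ, σ x * σ x = 1 → x * x = 1 ∨ x * x = z := by
    intro x hx
    apply hker
    rw [map_mul, hx]
  -- a conjugate of `n₁` has square one
  have hcsq : ∀ t : G, (∃ g : G, g * t * g⁻¹ = n₁) → t * t = 1 := by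
    rintro t ⟨g, hg⟩
    have ht : t = g⁻¹ * n₁ * g := by rw [← hg]; group
    rw [ht]
    calc g⁻¹ * n₁ * g * (g⁻¹ * n₁ * g) = g⁻¹ * (n₁ * n₁) * g := by group
      _ = 1 := by rw [hn₁]; group
  obtain ⟨m₁, hm₁⟩ := hσ n₁
  obtain ⟨m₂, hm₂⟩ := hσ n₂
  obtain ⟨m₃, hm₃⟩ := hσ n₃
  -- the key step: the lift of `n₁` has square one
  have hm₁sq : m₁ * m₁ = 1 := by
    by_contra hne
    -- every lift of a conjugate of `n₁` has square `z`
    have hall : ∀ y : Γ, (∃ g : G, g * σ y * g⁻¹ = n₁) → y * y = z := by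
      intro y hy
      rcases hsq y (hcsq _ hy) with h | h
      · exfalso
        obtain ⟨g, hg⟩ := hy
        exact hne (hconj y m₁ g (by rw [hg, hm₁]) h)
      · exact h
    have e1 : m₁ * m₁ = z := hall m₁ ⟨1, by rw [hm₁]; group⟩
    have e2 : m₂ * m₂ = z := hall m₂ (by rw [hm₂]; exact h2)
    have e3 : m₃ * m₃ = z := hall m₃ (by rw [hm₃]; exact h3)
    have e12 : (m₁ * m₂) * (m₁ * m₂) = z := hall _ (by rw [map_mul, hm₁, hm₂]; exact h12)
    have e13 : (m₁ * m₃) * (m₁ * m₃) = z := hall _ (by rw [map_mul, hm₁, hm₃]; exact h13)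
    have e23 : (m₂ * m₃) * (m₂ * m₃) = z := hall _ (by rw [map_mul, hm₂, hm₃]; exact h23)
    have e123 : (m₁ * (m₂ * m₃)) * (m₁ * (m₂ * m₃)) = z :=
      hall _ (by rw [map_mul, map_mul, hm₁, hm₂, hm₃]; exact h123)
    have a12 := anti_of_sq z hzc m₁ m₂ e1 e2 e12
    have a13 := anti_of_sq z hzc m₁ m₃ e1 e3 e13
    have a123 := anti_of_sq z hzc m₁ (m₂ * m₃) e1 e23 e123
    have c1 : m₁ * (m₂ * m₃) = (m₂ * m₃) * m₁ := by
      calc m₁ * (m₂ * m₃) = (m₁ * m₂) * m₃ := by group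
        _ = z * (m₂ * m₁) * m₃ := by rw [a12]
        _ = z * m₂ * (m₁ * m₃) := by group
        _ = z * m₂ * (z * (m₃ * m₁)) := by rw [a13]
        _ = z * (m₂ * z) * (m₃ * m₁) := by group
        _ = z * (z * m₂) * (m₃ * m₁) := by rw [hzc m₂]
        _ = (z * z) * (m₂ * m₃ * m₁) := by group
        _ = (m₂ * m₃) * m₁ := by rw [hz2, one_mul]
    rw [c1] at a123
    have hz1 : z = 1 := by
      have := mul_right_cancel (a := (1 : Γ)) (b := m₂ * m₃ * m₁) (c := z) (by rw [one_mul]; exact a123)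
      exact this.symm
    exact hne (e1.trans hz1)
  -- lifts of conjugates of `n₁` have square one
  have hlift : ∀ y : Γ, (∃ g : G, g * σ y * g⁻¹ = n₁) → y * y = 1 := by
    rintro y ⟨g, hg⟩
    refine hconj m₁ y g⁻¹ ?_ hm₁sq
    rw [hm₁, ← hg]; group
  intro x hx
  rcases hcl (σ x) hx with h | h | ⟨g, hg⟩
  · rcases hker x h with h' | h'
    · rw [h', one_mul]
    · rw [h', hz2]
  · exact hlift x h
  · obtain ⟨a', ha'⟩ := hσ a
    obtain ⟨b', hb'⟩ := hσ b
    obtain ⟨d', hd'⟩ := hσ d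
    have sa : a' * a' = 1 := hlift a' (by rw [ha']; exact ha)
    have sb : b' * b' = 1 := hlift b' (by rw [hb']; exact hb)
    have sd : d' * d' = 1 := hlift d' (by rw [hd']; exact hd)
    have sab : (a' * b') * (a' * b') = 1 := hlift _ (by rw [map_mul, ha', hb']; exact hab)
    have sad : (a' * d') * (a' * d') = 1 := hlift _ (by rw [map_mul, ha', hd']; exact had)
    have sbd : (b' * d') * (b' * d') = 1 := hlift _ (by rw [map_mul, hb', hd']; exact hbd)
    have cab := comm_of_sq a' b' sa sb sab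
    have cad := comm_of_sq a' d' sa sd sad
    have cbd := comm_of_sq b' d' sb sd sbd
    have sw : (a' * (b' * d')) * (a' * (b' * d')) = 1 := by
      calc (a' * (b' * d')) * (a' * (b' * d')) = a' * b' * (d' * a') * (b' * d') := by group
        _ = a' * b' * (a' * d') * (b' * d') := by rw [cad]
        _ = a' * (b' * a') * (d' * b') * d' := by group
        _ = a' * (a' * b') * (b' * d') * d' := by rw [cab, cbd]
        _ = (a' * a') * (b' * b') * (d' * d') := by group
        _ = 1 := by rw [sa, sb, sd]; group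
    refine hconj (a' * (b' * d')) x g⁻¹ ?_ sw
    rw [map_mul, map_mul, ha', hb', hd', ← hg]; group

end

end Cfsg.Agent.Lib.Helper83.SchurTwo
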