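import Mathlib
import Cfsg.Prelude.Def_ClassicalGeometry
import Cfsg.Agent.Lib.Helper48.Sp2GDefs

set_option autoImplicit false

/-!
# K-Sp2G leaf L1 (S2411): the adjacency lemma `hW_of_adjacent`
-/

namespace Cfsg.Agent.Lib.Helper83.Sp2G

open Matrix Cfsg.Agent.Lib.Helper48.RSp Cfsg.Agent.Lib.Helper48.Sp2G Cfsg.Agent.Lib.Helper18

section
variable {m : ℕ} {F : Type*} [Field F]

theorem l1_sf_eI (x : Fin (m + 2) ⊕ Fin (m + 2) → F) (i : Fin (m + 2)) :
    Cfsg.sympForm (m + 2) F x (eI i) = x (Sum.inr i) := by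
  unfold eI; exact sf_single_inl (m + 2) x i

theorem l1_sf_fI (x : Fin (m + 2) ⊕ Fin (m + 2) → F) (i : Fin (m + 2)) :
    Cfsg.sympForm (m + 2) F x (fI i) = - x (Sum.inl i) := by
  unfold fI; exact sf_single_inr (m + 2) x i

theorem l1_eI_inl (i j : Fin (m + 2)) :
    (eI i : Fin (m + 2) ⊕ Fin (m + 2) → F) (Sum.inl j) = if j = i then 1 else 0 := by
  unfold eI; rw [Pi.single_apply]; simp

theorem l1_eI_inr (i j : Fin (m + 2)) :
    (eI i : Fin (m + 2) ⊕ Fin (m + 2) → F) (Sum.inr j) = 0 := by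
  unfold eI; rw [Pi.single_apply]; simp

theorem l1_fI_inl (i j : Fin (m + 2)) :
    (fI i : Fin (m + 2) ⊕ Fin (m + 2) → F) (Sum.inl j) = 0 := by
  unfold fI; rw [Pi.single_apply]; simp

theorem l1_fI_inr (i j : Fin (m + 2)) :
    (fI i : Fin (m + 2) ⊕ Fin (m + 2) → F) (Sum.inr j) = if j = i then 1 else 0 := by
  unfold fI; rw [Pi.single_apply]; simp

variable (T : Set (Fin (m + 2) ⊕ Fin (m + 2) → F))
    (hsmul : ∀ v ∈ T, ∀ a : F, a • v ∈ T)
    (hhyp : ∀ v ∈ T, ∀ w ∈ T, Cfsg.sympForm (m + 2) F v w ≠ 0 → ∀ s : F, v + s • w ∈ T)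
    (he : ∀ j : Fin (m + 2), (eI j : Fin (m + 2) ⊕ Fin (m + 2) → F) ∈ T)
    (hf : ∀ j : Fin (m + 2), (fI j : Fin (m + 2) ⊕ Fin (m + 2) → F) ∈ T)
    (hadj : ∀ (j : Fin (m + 2)) (hj : j.val + 1 < m + 2),
      (eI j + eI ⟨j.val + 1, hj⟩ : Fin (m + 2) ⊕ Fin (m + 2) → F) ∈ T)

include hhyp he hf in
theorem l1_plane (j : Fin (m + 2)) (r : F) :
    (fI j + r • eI j : Fin (m + 2) ⊕ Fin (m + 2) → F) ∈ T := by
  refine hhyp _ (hf j) _ (he j) ?_ r
  rw [l1_sf_eI, l1_fI_inr]; simp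

include hhyp he hf hadj in
theorem l1_step_up (v : Fin (m + 2) ⊕ Fin (m + 2) → F) (hv : v ∈ T)
    (hv0 : ∀ i, v (Sum.inr i) = 0) (j : Fin (m + 2)) (hj : j.val + 1 < m + 2)
    (hvj : v (Sum.inl j) ≠ 0) (r : F) :
    v + r • (eI ⟨j.val + 1, hj⟩ : Fin (m + 2) ⊕ Fin (m + 2) → F) ∈ T := by
  have hne : (⟨j.val + 1, hj⟩ : Fin (m + 2)) ≠ j := by
    intro h; have := congrArg Fin.val h; simp at this
  have h1 : v + (1 : F) • (fI j : Fin (m + 2) ⊕ Fin (m + 2) → F) ∈ T :=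
    hhyp v hv _ (hf j) (by rw [l1_sf_fI]; exact neg_ne_zero.mpr hvj) 1
  have h2 : (v + (1 : F) • (fI j : Fin (m + 2) ⊕ Fin (m + 2) → F)) +
      r • (eI j + eI ⟨j.val + 1, hj⟩ : Fin (m + 2) ⊕ Fin (m + 2) → F) ∈ T := by
    refine hhyp _ h1 _ (hadj j hj) ?_ r
    rw [sf_add_right, l1_sf_eI, l1_sf_eI]
    simp only [Pi.add_apply, Pi.smul_apply, hv0, l1_fI_inr, smul_eq_mul]
    simp [hne]
  have h3 : ((v + (1 : F) • (fI j : Fin (m + 2) ⊕ Fin (m + 2) → F)) +
      r • (eI j + eI ⟨j.val + 1, hj⟩ : Fin (m + 2) ⊕ Fin (m + 2) → F)) +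
      (-1 : F) • (fI j + r • eI j : Fin (m + 2) ⊕ Fin (m + 2) → F) ∈ T := by
    refine hhyp _ h2 _ (l1_plane T hhyp he hf j r) ?_ (-1)
    rw [sf_add_right, sf_smul_right, l1_sf_eI, l1_sf_fI]
    simp only [Pi.add_apply, Pi.smul_apply, hv0, l1_fI_inr, l1_fI_inl, l1_eI_inl, l1_eI_inr,
      smul_eq_mul]
    simp [hne.symm]
    exact hvj
  convert h3 using 1
  ext (i | i)
  · simp only [Pi.add_apply, Pi.smul_apply, l1_fI_inl, l1_eI_inl, smul_eq_mul]
    ring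
  · simp only [Pi.add_apply, Pi.smul_apply, l1_fI_inr, l1_eI_inr, smul_eq_mul]
    ring

include hhyp he hf hadj in
theorem l1_step_down (v : Fin (m + 2) ⊕ Fin (m + 2) → F) (hv : v ∈ T)
    (hv0 : ∀ i, v (Sum.inr i) = 0) (j : Fin (m + 2)) (hj : j.val + 1 < m + 2)
    (hvj : v (Sum.inl ⟨j.val + 1, hj⟩) ≠ 0) (r : F) :
    v + r • (eI j : Fin (m + 2) ⊕ Fin (m + 2) → F) ∈ T := by
  have hne : (⟨j.val + 1, hj⟩ : Fin (m + 2)) ≠ j := by
    intro h; have := congrArg Fin.val h; simp at this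
  have hadj' := hadj j hj
  obtain ⟨j', hj'⟩ : ∃ j' : Fin (m + 2), j' = ⟨j.val + 1, hj⟩ := ⟨_, rfl⟩
  rw [← hj'] at hadj' hvj hne
  have h1 : v + (1 : F) • (fI j' : Fin (m + 2) ⊕ Fin (m + 2) → F) ∈ T :=
    hhyp v hv _ (hf j') (by rw [l1_sf_fI]; exact neg_ne_zero.mpr hvj) 1
  have h2 : (v + (1 : F) • (fI j' : Fin (m + 2) ⊕ Fin (m + 2) → F)) +
      r • (eI j + eI j' : Fin (m + 2) ⊕ Fin (m + 2) → F) ∈ T := by
    refine hhyp _ h1 _ hadj' ?_ r
    rw [sf_add_right, l1_sf_eI, l1_sf_eI]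
    simp only [Pi.add_apply, Pi.smul_apply, hv0, l1_fI_inr, smul_eq_mul]
    simp [hne.symm]
  have h3 : ((v + (1 : F) • (fI j' : Fin (m + 2) ⊕ Fin (m + 2) → F)) +
      r • (eI j + eI j' : Fin (m + 2) ⊕ Fin (m + 2) → F)) +
      (-1 : F) • (fI j' + r • eI j' : Fin (m + 2) ⊕ Fin (m + 2) → F) ∈ T := by
    refine hhyp _ h2 _ (l1_plane T hhyp he hf j' r) ?_ (-1)
    rw [sf_add_right, sf_smul_right, l1_sf_eI, l1_sf_fI]
    simp only [Pi.add_apply, Pi.smul_apply, hv0, l1_fI_inr, l1_fI_inl, l1_eI_inl, l1_eI_inr,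
      smul_eq_mul]
    simp [hne]
    exact hvj
  convert h3 using 1
  ext (i | i)
  · simp only [Pi.add_apply, Pi.smul_apply, l1_fI_inl, l1_eI_inl, smul_eq_mul]
    ring
  · simp only [Pi.add_apply, Pi.smul_apply, l1_fI_inr, l1_eI_inr, smul_eq_mul]
    ring

include hsmul hhyp he hf hadj in
theorem l1_ind (K : ℕ) : ∀ w : Fin (m + 2) ⊕ Fin (m + 2) → F, (∀ i, w (Sum.inr i) = 0) →
    (∀ i : Fin (m + 2), K < i.val → w (Sum.inl i) = 0) → w ∈ T := by
  induction K with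
  | zero =>
    intro w hw0 hwK
    have hw : w = w (Sum.inl 0) • (eI 0 : Fin (m + 2) ⊕ Fin (m + 2) → F) := by
      ext (i | i)
      · simp only [Pi.smul_apply, l1_eI_inl, smul_eq_mul]
        by_cases hi : i = 0
        · subst hi; simp
        · rw [if_neg hi, mul_zero]
          apply hwK
          exact Nat.pos_of_ne_zero (fun h => hi (Fin.ext h))
      · simp only [Pi.smul_apply, l1_eI_inr, smul_eq_mul, mul_zero]
        exact hw0 i
    rw [hw]; exact hsmul _ (he 0) _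
  | succ K ih =>
    intro w hw0 hwK
    by_cases hK : K + 1 < m + 2
    · obtain ⟨jK, hjK⟩ : ∃ jK : Fin (m + 2), jK.val = K := ⟨⟨K, by omega⟩, rfl⟩
      have hj1 : jK.val + 1 < m + 2 := by omega
      obtain ⟨j1, hj1e⟩ : ∃ j1 : Fin (m + 2), j1 = ⟨jK.val + 1, hj1⟩ := ⟨_, rfl⟩
      have hj1v : j1.val = K + 1 := by rw [hj1e]; simp [hjK]
      have hne : j1 ≠ jK := by
        intro h; have := congrArg Fin.val h; omega
      have hup := l1_step_up T hhyp he hf hadj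
      have hdown := l1_step_down T hhyp he hf hadj
      obtain ⟨a, ha⟩ : ∃ a : F, a = w (Sum.inl j1) := ⟨_, rfl⟩
      obtain ⟨w', hw'⟩ : ∃ w' : Fin (m + 2) ⊕ Fin (m + 2) → F,
          w' = w - a • (eI j1 : Fin (m + 2) ⊕ Fin (m + 2) → F) := ⟨_, rfl⟩
      have hw'0 : ∀ i, w' (Sum.inr i) = 0 := by
        intro i; rw [hw']; simp [l1_eI_inr, hw0]
      have hw'K : ∀ i : Fin (m + 2), K < i.val → w' (Sum.inl i) = 0 := by
        intro i hi
        rw [hw']
        simp only [Pi.sub_apply, Pi.smul_apply, l1_eI_inl, smul_eq_mul]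
        by_cases h : i = j1
        · subst h; simp [ha]
        · rw [if_neg h, mul_zero, sub_zero]
          apply hwK
          have : i.val ≠ K + 1 := fun h' => h (Fin.ext (by omega))
          omega
      have hw'T := ih w' hw'0 hw'K
      have hw : w = w' + a • (eI j1 : Fin (m + 2) ⊕ Fin (m + 2) → F) := by
        rw [hw']; simp
      by_cases ha0 : a = 0
      · rw [hw, ha0, zero_smul, add_zero]; exact hw'T
      by_cases hwK' : w' (Sum.inl jK) ≠ 0
      · rw [hw, hj1e]; exact hup w' hw'T hw'0 jK hj1 hwK' a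
      · simp only [not_not] at hwK'
        obtain ⟨w'', hw''⟩ : ∃ w'' : Fin (m + 2) ⊕ Fin (m + 2) → F,
            w'' = w' + (eI jK : Fin (m + 2) ⊕ Fin (m + 2) → F) := ⟨_, rfl⟩
        have hw''0 : ∀ i, w'' (Sum.inr i) = 0 := by
          intro i; rw [hw'']; simp [l1_eI_inr, hw'0]
        have hw''K : ∀ i : Fin (m + 2), K < i.val → w'' (Sum.inl i) = 0 := by
          intro i hi
          rw [hw'']
          simp only [Pi.add_apply, l1_eI_inl]
          have : i ≠ jK := fun h => by rw [h] at hi; omega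
          rw [if_neg this, add_zero]
          exact hw'K i hi
        have hw''T := ih w'' hw''0 hw''K
        have hw''j : w'' (Sum.inl jK) ≠ 0 := by
          rw [hw'']; simp [l1_eI_inl, hwK']
        have h4 := hup w'' hw''T hw''0 jK hj1 hw''j a
        rw [← hj1e] at h4
        have h40 : ∀ i, (w'' + a • (eI j1 : Fin (m + 2) ⊕ Fin (m + 2) → F)) (Sum.inr i) = 0 := by
          intro i; simp [l1_eI_inr, hw''0]
        have h4j : (w'' + a • (eI j1 : Fin (m + 2) ⊕ Fin (m + 2) → F))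
            (Sum.inl ⟨jK.val + 1, hj1⟩) ≠ 0 := by
          rw [← hj1e]
          simp only [Pi.add_apply, Pi.smul_apply, l1_eI_inl, smul_eq_mul, if_true, mul_one]
          rw [hw''K j1 (by omega), zero_add]; exact ha0
        have h5 := hdown _ h4 h40 jK hj1 h4j (-1)
        convert h5 using 1
        rw [hw, hw'']
        ext i
        simp only [Pi.add_apply, Pi.smul_apply, smul_eq_mul]
        ring
    · exact ih w hw0 (fun i hi => absurd i.isLt (by omega))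

include hsmul hhyp he hf hadj in
theorem hW_of_adjacent :
    ∀ w : Fin (m + 2) ⊕ Fin (m + 2) → F, (∀ i, w (Sum.inr i) = 0) → w ∈ T := by
  intro w hw0
  exact l1_ind T hsmul hhyp he hf hadj (m + 2) w hw0 (fun i hi => absurd i.isLt (by omega))

end

end Cfsg.Agent.Lib.Helper83.Sp2G
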