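import Mathlib
import Cfsg.Prelude.Def_Characters
import Cfsg.Agent.Lib.Helper05.CharBasic

/-!
# Representations over an arbitrary field (helper83): complete reducibility

Generalisation to an arbitrary field `k` in which `|G|` is invertible of the complete
reducibility machinery of `Helper05.CharDecomp` (which is written over `ℂ`).
-/

set_option autoImplicit false

namespace Cfsg.Agent.Lib.Helper83

open Representation Module
open Cfsg.Agent.Lib.Helper05 (isIrreducible_iff)

universe u

section DecompK

variable {k : Type*} [Field k] {G : Type*} [Group G] {V : Type*} [AddCommGroup V] [Module k V]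

theorem charK_prod {W : Type*} [AddCommGroup W] [Module k W] [FiniteDimensional k V]
    [FiniteDimensional k W] (ρ : Representation k G V) (σ : Representation k G W) :
    (ρ.prod σ).character = ρ.character + σ.character := by
  ext g
  simp only [Representation.character, Pi.add_apply]
  have : (ρ.prod σ) g = (ρ g).prodMap (σ g) := rfl
  rw [this, LinearMap.trace_prodMap']

/-- A representation is equivalent to the product of two complementary subrepresentations. -/
noncomputable def equivProdOfIsComplK (ρ : Representation k G V) (U U' : Submodule k V)
    (hU : ∀ g, U ≤ U.comap (ρ g)) (hU' : ∀ g, U' ≤ U'.comap (ρ g)) (h : IsCompl U U') :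
    ((ρ.subrepresentation U hU).prod (ρ.subrepresentation U' hU')).Equiv ρ :=
  Representation.Equiv.mk (Submodule.prodEquivOfIsCompl U U' h) (fun g => by
    ext ⟨u, u'⟩
    all_goals simp [Representation.prod, Representation.subrepresentation])

theorem charK_eq_add_of_isCompl [FiniteDimensional k V] (ρ : Representation k G V)
    (U U' : Submodule k V)
    (hU : ∀ g, U ≤ U.comap (ρ g)) (hU' : ∀ g, U' ≤ U'.comap (ρ g)) (h : IsCompl U U') :
    ρ.character = (ρ.subrepresentation U hU).character + (ρ.subrepresentation U' hU').character := by
  rw [← charK_prod, Representation.char_iso (equivProdOfIsComplK ρ U U' hU hU' h)]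

/-- A non-zero finite-dimensional representation contains an irreducible subrepresentation. -/
theorem exists_irreducible_invariantK [FiniteDimensional k V] [Nontrivial V]
    (ρ : Representation k G V) :
    ∃ (U : Submodule k V) (hU : ∀ g, U ≤ U.comap (ρ g)),
      (ρ.subrepresentation U hU).IsIrreducible := by
  let S : Set (Submodule k V) := {U | U ≠ ⊥ ∧ ∀ g, U ≤ U.comap (ρ g)}
  have hS : S.Nonempty := ⟨⊤, top_ne_bot, fun g => le_top⟩
  obtain ⟨U, hUS, hmin⟩ :=
    (measure (fun U : Submodule k V => finrank k U)).wf.has_min S hS
  refine ⟨U, hUS.2, ?_⟩
  rw [isIrreducible_iff]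
  refine ⟨Submodule.nontrivial_iff_ne_bot.mpr hUS.1, ?_⟩
  intro X hX
  by_cases hX0 : X = ⊥
  · left; exact hX0
  · right
    have hmem : X.map U.subtype ∈ S := by
      refine ⟨?_, ?_⟩
      · intro h0
        apply hX0
        rw [Submodule.eq_bot_iff]
        intro x hx
        have : U.subtype x ∈ X.map U.subtype := ⟨x, hx, rfl⟩
        rw [h0, Submodule.mem_bot] at this
        exact Subtype.ext this
      · intro g v hv
        obtain ⟨x, hx, rfl⟩ := hv
        exact ⟨_, hX g x hx, rfl⟩
    have h1 := hmin _ hmem
    simp only [InvImage, WellFoundedRelation.rel, not_lt] at h1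
    have h2 : finrank k (X.map U.subtype) = finrank k X :=
      (Submodule.equivSubtypeMap U X).symm.finrank_eq
    apply Submodule.eq_top_of_finrank_eq
    have h3 := Submodule.finrank_le X
    omega

/-- Maschke: a non-zero finite-dimensional representation of a finite group splits as an
irreducible subrepresentation plus a complementary subrepresentation. -/
theorem exists_irreducible_isComplK [Finite G] [NeZero (Nat.card G : k)]
    [FiniteDimensional k V] [Nontrivial V]
    (ρ : Representation k G V) :
    ∃ (U U' : Submodule k V) (hU : ∀ g, U ≤ U.comap (ρ g)) (hU' : ∀ g, U' ≤ U'.comap (ρ g)),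
      IsCompl U U' ∧ (ρ.subrepresentation U hU).IsIrreducible := by
  obtain ⟨U, hU, hirr⟩ := exists_irreducible_invariantK ρ
  obtain ⟨U', hU'⟩ := exists_isCompl (⟨U, fun g v hv => hU g hv⟩ : Subrepresentation ρ)
  refine ⟨U, U'.toSubmodule, hU, fun g v hv => U'.apply_mem_toSubmodule g hv, ?_, hirr⟩
  constructor
  · rw [disjoint_iff]
    have := hU'.inf_eq_bot
    exact congrArg Subrepresentation.toSubmodule this
  · rw [codisjoint_iff]
    have := hU'.sup_eq_top
    exact congrArg Subrepresentation.toSubmodule this

/-- Induction principle for finite-dimensional representations of a finite group over a field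
in which the group order is invertible: peel off an irreducible direct summand. -/
theorem rep_inductionK [Finite G] [NeZero (Nat.card G : k)]
    {P : ∀ (V : Type u) [AddCommGroup V] [Module k V] [FiniteDimensional k V],
      Representation k G V → Prop}
    (h0 : ∀ (V : Type u) [AddCommGroup V] [Module k V] [FiniteDimensional k V]
      (ρ : Representation k G V), Subsingleton V → P V ρ)
    (hstep : ∀ (V : Type u) [AddCommGroup V] [Module k V] [FiniteDimensional k V]
      (ρ : Representation k G V) (U U' : Submodule k V)
      (hU : ∀ g, U ≤ U.comap (ρ g)) (hU' : ∀ g, U' ≤ U'.comap (ρ g)),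
      IsCompl U U' → (ρ.subrepresentation U hU).IsIrreducible →
      P U' (ρ.subrepresentation U' hU') → P V ρ)
    (V : Type u) [AddCommGroup V] [Module k V] [FiniteDimensional k V]
    (ρ : Representation k G V) : P V ρ := by
  induction hn : finrank k V using Nat.strong_induction_on generalizing V with
  | _ n ih =>
    by_cases hV : Subsingleton V
    · exact h0 V ρ hV
    · rw [not_subsingleton_iff_nontrivial] at hV
      obtain ⟨U, U', hU, hU', hc, hirr⟩ := exists_irreducible_isComplK ρ
      apply hstep V ρ U U' hU hU' hc hirr
      have hUpos : 0 < finrank k U := by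
        rw [Module.finrank_pos_iff]
        rw [isIrreducible_iff] at hirr
        exact hirr.1
      have hsum := Submodule.finrank_add_eq_of_isCompl hc
      exact ih (finrank k U') (by omega) U' (ρ.subrepresentation U' hU') rfl

/-- The character of a representation on a trivial space is zero. -/
theorem charK_eq_zero_of_subsingleton
    [Subsingleton V] (ρ : Representation k G V) : ρ.character = 0 := by
  ext g
  have : ρ g = 0 := Subsingleton.elim _ _
  simp [Representation.character, this]

end DecompK

end Cfsg.Agent.Lib.Helper83
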