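import Mathlib
import Cfsg.Prelude.Def_Characters
import Cfsg.Agent.Lib.Helper05.CharBasic
import Cfsg.Agent.Lib.Helper05.CharValues
import Cfsg.Agent.Lib.Helper05.CharOrtho
import Cfsg.Agent.Lib.Helper83.SplitField1

/-!
# Representations over a subfield of `ℂ` (helper83): complex characters

For a field `F` with `[Algebra F ℂ]` and an `F`-representation `σ`, `cchar σ` is the complex
valued character.  It is a complex character (`cchar_isCharacter`), and inner products of such
characters are dimensions of spaces of intertwining maps over `F` (`classInner_cchar`).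
-/

set_option autoImplicit false

namespace Cfsg.Agent.Lib.Helper83

open Representation Module

section MatRep

variable {R : Type*} [CommRing R] {G : Type*} [Monoid G] {n : Type*} [Fintype n] [DecidableEq n]

/-- The representation on `n → R` given by a homomorphism into square matrices. -/
noncomputable def matRep (M : G →* Matrix n n R) : Representation R G (n → R) where
  toFun g := Matrix.toLin' (M g)
  map_one' := by rw [map_one, Matrix.toLin'_one]; rfl
  map_mul' g h := by rw [map_mul, Matrix.toLin'_mul]; rfl

theorem matRep_apply (M : G →* Matrix n n R) (g : G) : matRep M g = Matrix.toLin' (M g) := rfl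

theorem toMatrix'_matRep (M : G →* Matrix n n R) (g : G) :
    LinearMap.toMatrix' (matRep M g) = M g := LinearMap.toMatrix'_toLin' _

theorem matRep_character (M : G →* Matrix n n R) (g : G) :
    LinearMap.trace R (n → R) (matRep M g) = (M g).trace := Matrix.trace_toLin'_eq _

end MatRep

section CChar

variable {F : Type*} [Field F] [Algebra F ℂ] {G : Type*} [Group G]
  {V : Type*} [AddCommGroup V] [Module F V]
  {W : Type*} [AddCommGroup W] [Module F W]

/-- The complex valued character of a representation over `F`. -/
noncomputable def cchar (σ : Representation F G V) : G → ℂ :=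
  fun g => algebraMap F ℂ (σ.character g)

theorem cchar_apply (σ : Representation F G V) (g : G) :
    cchar σ g = algebraMap F ℂ (σ.character g) := rfl

/-- The matrices of an `F`-representation in a basis, with entries mapped to `ℂ`. -/
noncomputable def cmat {n : Type*} [Fintype n] [DecidableEq n] (σ : Representation F G V)
    (b : Basis n F V) : G →* Matrix n n ℂ where
  toFun g := (LinearMap.toMatrix b b (σ g)).map (algebraMap F ℂ)
  map_one' := by
    rw [map_one, Module.End.one_eq_id, LinearMap.toMatrix_id]
    exact Matrix.map_one _ (map_zero _) (map_one _)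
  map_mul' g h := by
    rw [map_mul, Module.End.mul_eq_comp, LinearMap.toMatrix_comp b b b, Matrix.map_mul]

theorem cmat_apply {n : Type*} [Fintype n] [DecidableEq n] (σ : Representation F G V)
    (b : Basis n F V) (g : G) (i j : n) :
    cmat σ b g i j = algebraMap F ℂ (LinearMap.toMatrix b b (σ g) i j) := rfl

theorem cmat_trace {n : Type*} [Fintype n] [DecidableEq n] (σ : Representation F G V)
    (b : Basis n F V) (g : G) : (cmat σ b g).trace = cchar σ g := by
  rw [cchar_apply, Representation.character, LinearMap.trace_eq_matrix_trace F b]
  simp only [Matrix.trace, Matrix.diag_apply, cmat_apply, map_sum]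

theorem cchar_isCharacter [FiniteDimensional F V] (σ : Representation F G V) :
    Cfsg.IsCharacter G (cchar σ) := by
  refine ⟨finrank F V, matRep (cmat σ (finBasis F V)), ?_⟩
  ext g
  rw [Representation.character, matRep_character, cmat_trace]

theorem cchar_iso {σ : Representation F G V} {ρ : Representation F G W} (φ : σ.Equiv ρ) :
    cchar σ = cchar ρ := by
  ext g
  rw [cchar_apply, cchar_apply, Representation.char_iso φ]

theorem cchar_prod [FiniteDimensional F V] [FiniteDimensional F W]
    (σ : Representation F G V) (ρ : Representation F G W) :
    cchar (σ.prod ρ) = cchar σ + cchar ρ := by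
  ext g
  rw [cchar_apply, charK_prod, Pi.add_apply, Pi.add_apply, map_add, cchar_apply, cchar_apply]

theorem cchar_eq_add_of_isCompl [FiniteDimensional F V] (ρ : Representation F G V)
    (U U' : Submodule F V)
    (hU : ∀ g, U ≤ U.comap (ρ g)) (hU' : ∀ g, U' ≤ U'.comap (ρ g)) (h : IsCompl U U') :
    cchar ρ = cchar (ρ.subrepresentation U hU) + cchar (ρ.subrepresentation U' hU') := by
  ext g
  rw [cchar_apply, charK_eq_add_of_isCompl ρ U U' hU hU' h, Pi.add_apply, Pi.add_apply, map_add,
    cchar_apply, cchar_apply]

theorem cchar_eq_zero_of_subsingleton [Subsingleton V] (ρ : Representation F G V) :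
    cchar ρ = 0 := by
  ext g
  rw [cchar_apply, charK_eq_zero_of_subsingleton ρ]
  simp

theorem cchar_one [FiniteDimensional F V] (ρ : Representation F G V) :
    cchar ρ 1 = (finrank F V : ℂ) := by
  rw [cchar_apply, Representation.char_one, map_natCast]

theorem natCast_card_ne_zero (F : Type*) [Field F] [Algebra F ℂ] (G : Type*) [Finite G]
    [Nonempty G] : (Nat.card G : F) ≠ 0 := by
  intro h
  have h1 : algebraMap F ℂ (Nat.card G : F) = 0 := by rw [h, map_zero]
  rw [map_natCast] at h1
  have h2 : Nat.card G = 0 := by exact_mod_cast h1
  exact Nat.card_pos.ne' h2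

/-- The inner product of the complex characters of two `F`-representations is the `F`-dimension
of the space of intertwining maps. -/
theorem classInner_cchar [Fintype G] [FiniteDimensional F V] [FiniteDimensional F W]
    (σ : Representation F G V) (ρ : Representation F G W) :
    Cfsg.classInner (cchar σ) (cchar ρ) = (finrank F (IntertwiningMap ρ σ) : ℂ) := by
  haveI : Invertible (Nat.card G : F) := invertibleOfNonzero (natCast_card_ne_zero F G)
  have key := Representation.card_inv_mul_sum_char_mul_char_eq_finrank ρ σ
  have key2 := congrArg (algebraMap F ℂ) key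
  rw [map_mul, map_inv₀, map_natCast, map_natCast, map_sum] at key2
  rw [← key2]
  simp only [Cfsg.classInner]
  congr 1
  apply Finset.sum_congr rfl
  intro g _
  rw [map_mul]
  congr 1
  obtain ⟨n, τ, hτ⟩ := cchar_isCharacter ρ
  have h1 : algebraMap F ℂ (ρ.character g⁻¹) = τ.character g⁻¹ := by
    rw [hτ]; rfl
  have h2 : cchar ρ g = τ.character g := by rw [hτ]
  rw [h1, h2, Cfsg.Agent.Lib.Helper05.char_inv_eq_conj]

end CChar

end Cfsg.Agent.Lib.Helper83
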