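import Mathlib
import Cfsg.Prelude.Def_Characters
import Cfsg.Agent.Lib.Helper04.IndFun
import Cfsg.Agent.Lib.Helper05.CosetSum
import Cfsg.Agent.Lib.Helper83.SplitField2

/-!
# Monomial (induced) matrix representations over a field (helper83)

For a subgroup `E` of a finite group `G` and a multiplicative map `μ : E →* F` into a field,
`monoMat E μ : G →* Matrix (G ⧸ E) (G ⧸ E) F` is the induced monomial matrix representation;
its trace is the induced class function (`monoMat_trace_eq_indFun`).
-/

set_option autoImplicit false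

namespace Cfsg.Agent.Lib.Helper83

open Representation Module

section MonoMat

variable {F : Type*} [Field F] {G : Type*} [Group G] (E : Subgroup G) (μ : E →* F)

/-- Extension by zero of a multiplicative map on a subgroup. -/
noncomputable def extZ : G → F := by
  classical
  exact fun g => if h : g ∈ E then μ ⟨g, h⟩ else 0

theorem extZ_of_mem {g : G} (h : g ∈ E) : extZ E μ g = μ ⟨g, h⟩ := by
  unfold extZ; rw [dif_pos h]

theorem extZ_of_not_mem {g : G} (h : g ∉ E) : extZ E μ g = 0 := by
  unfold extZ; rw [dif_neg h]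

theorem extZ_one : extZ E μ 1 = 1 := by
  rw [extZ_of_mem E μ E.one_mem]
  exact map_one μ

theorem extZ_mul_left {x : G} (hx : x ∈ E) (y : G) :
    extZ E μ (x * y) = extZ E μ x * extZ E μ y := by
  by_cases hy : y ∈ E
  · rw [extZ_of_mem E μ (E.mul_mem hx hy), extZ_of_mem E μ hx, extZ_of_mem E μ hy, ← map_mul]
    rfl
  · have hxy : x * y ∉ E := fun h => hy (by simpa using E.mul_mem (E.inv_mem hx) h)
    rw [extZ_of_not_mem E μ hxy, extZ_of_not_mem E μ hy, mul_zero]

theorem extZ_mul_right (x : G) {y : G} (hy : y ∈ E) :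
    extZ E μ (x * y) = extZ E μ x * extZ E μ y := by
  by_cases hx : x ∈ E
  · exact extZ_mul_left E μ hx y
  · have hxy : x * y ∉ E := fun h => hx (by simpa using E.mul_mem h (E.inv_mem hy))
    rw [extZ_of_not_mem E μ hxy, extZ_of_not_mem E μ hx, zero_mul]

theorem extZ_conj (y : G) {z : G} (hz : z ∈ E) : extZ E μ (z⁻¹ * y * z) = extZ E μ y := by
  rw [extZ_mul_right E μ _ hz, extZ_mul_left E μ (E.inv_mem hz), mul_comm (extZ E μ z⁻¹),
    mul_assoc, ← extZ_mul_left E μ (E.inv_mem hz), inv_mul_cancel, extZ_one, mul_one]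

variable [Fintype (G ⧸ E)] [DecidableEq (G ⧸ E)]

/-- The induced monomial matrix representation. -/
noncomputable def monoMat : G →* Matrix (G ⧸ E) (G ⧸ E) F where
  toFun g := Matrix.of fun q q' => extZ E μ ((Quotient.out q)⁻¹ * g * Quotient.out q')
  map_one' := by
    ext q q'
    rw [Matrix.of_apply, mul_one, Matrix.one_apply]
    by_cases h : q = q'
    · subst h
      rw [if_pos rfl, inv_mul_cancel, extZ_one]
    · rw [if_neg h, extZ_of_not_mem]
      intro hmem
      apply h
      have := (QuotientGroup.eq (s := E)).mpr hmem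
      rwa [QuotientGroup.out_eq', QuotientGroup.out_eq'] at this
  map_mul' g h := by
    ext q q''
    rw [Matrix.mul_apply, Matrix.of_apply]
    set q₀ : G ⧸ E := ((g⁻¹ * Quotient.out q : G) : G ⧸ E) with hq₀
    have hx : (Quotient.out q)⁻¹ * g * Quotient.out q₀ ∈ E := by
      have h1 : ((g⁻¹ * Quotient.out q : G) : G ⧸ E) = ((Quotient.out q₀ : G) : G ⧸ E) := by
        rw [QuotientGroup.out_eq']
      have := (QuotientGroup.eq (s := E)).mp h1
      simpa [mul_assoc] using this
    rw [Finset.sum_eq_single q₀]
    · simp only [Matrix.of_apply]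
      rw [← extZ_mul_left E μ hx]
      congr 1
      group
    · intro q' _ hne
      simp only [Matrix.of_apply]
      rw [extZ_of_not_mem, zero_mul]
      intro hmem
      apply hne
      have h1 : (g⁻¹ * Quotient.out q)⁻¹ * Quotient.out q' ∈ E := by
        simpa [mul_assoc] using hmem
      have := (QuotientGroup.eq (s := E)).mpr h1
      rw [QuotientGroup.out_eq'] at this
      exact this.symm
    · intro h0
      exact absurd (Finset.mem_univ q₀) h0

theorem monoMat_apply (g : G) (q q' : G ⧸ E) :
    monoMat E μ g q q' = extZ E μ ((Quotient.out q)⁻¹ * g * Quotient.out q') := rfl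

theorem monoMat_trace (g : G) :
    (monoMat E μ g).trace = ∑ q : G ⧸ E, extZ E μ ((Quotient.out q)⁻¹ * g * Quotient.out q) := rfl

end MonoMat

section Ind

variable {F : Type*} [Field F] [Algebra F ℂ] {G : Type*} [Group G] [Fintype G]
  (E : Subgroup G) (μ : E →* F)

theorem extendByZero_eq_extZ (y : G) :
    Cfsg.extendByZero E (fun e => algebraMap F ℂ (μ e)) y = algebraMap F ℂ (extZ E μ y) := by
  by_cases hy : y ∈ E
  · rw [Cfsg.Agent.Lib.Helper04.extendByZero_apply_of_mem E _ y hy, extZ_of_mem E μ hy]
  · rw [Cfsg.Agent.Lib.Helper04.extendByZero_apply_not_mem E _ y hy, extZ_of_not_mem E μ hy,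
      map_zero]

variable [Fintype (G ⧸ E)] [DecidableEq (G ⧸ E)]

/-- The trace of the monomial matrix representation is the induced class function. -/
theorem monoMat_trace_eq_indFun (g : G) :
    algebraMap F ℂ ((monoMat E μ g).trace) =
      Cfsg.indFun E (fun e => algebraMap F ℂ (μ e)) g := by
  rw [Cfsg.Agent.Lib.Helper04.indFun_apply]
  have h1 : ∑ x : G, Cfsg.extendByZero E (fun e => algebraMap F ℂ (μ e)) (x⁻¹ * g * x) =
      Nat.card E • ∑ q : G ⧸ E, algebraMap F ℂ (extZ E μ ((Quotient.out q)⁻¹ * g * Quotient.out q)) := by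
    rw [← Cfsg.Agent.Lib.Helper05.sum_eq_card_nsmul_sum_out E
      (fun x => algebraMap F ℂ (extZ E μ (x⁻¹ * g * x)))]
    · apply Finset.sum_congr rfl
      intro x _
      rw [extendByZero_eq_extZ]
    · intro x z hz
      have : (x * z)⁻¹ * g * (x * z) = z⁻¹ * (x⁻¹ * g * x) * z := by group
      rw [this, extZ_conj E μ _ hz]
  rw [h1, monoMat_trace, map_sum, nsmul_eq_mul, ← mul_assoc, inv_mul_cancel₀, one_mul]
  exact_mod_cast Nat.card_pos.ne'

/-- The induced class function of a linear character with values in `F` is the complex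
character of a representation over `F`. -/
theorem cchar_matRep_monoMat :
    cchar (matRep (monoMat E μ)) = Cfsg.indFun E (fun e => algebraMap F ℂ (μ e)) := by
  ext g
  rw [cchar_apply, Representation.character, matRep_character, monoMat_trace_eq_indFun]

end Ind

end Cfsg.Agent.Lib.Helper83
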