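import Mathlib
import Cfsg.Prelude.Def_Characters
import Cfsg.Agent.Lib.Helper05.CharDecomp
import Cfsg.Agent.Lib.Helper83.Decompose
import Cfsg.Agent.Lib.Helper83.SplitField3
import Cfsg.Agent.S0163

/-!
# Brauer's splitting field theorem (helper83)

If a field `F ⊆ ℂ` contains the values of all linear characters of all subgroups of `G`, then
every complex character of `G` is the character of a representation over `F`
(`fReal_of_isCharacter`).  The proof combines Brauer's induction theorem with the orthogonality
relations for simple `F`-representations.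
-/

set_option autoImplicit false

namespace Cfsg.Agent.Lib.Helper83

open Representation Module Cfsg
open scoped ComplexConjugate

universe u v w

section FReal

variable (F : Type v) [Field F] [Algebra F ℂ] (G : Type u) [Group G]

/-- `χ` is the complex character of a representation over `F`. -/
def FReal (χ : G → ℂ) : Prop :=
  ∃ (V : Type (max u v)) (_ : AddCommGroup V) (_ : Module F V) (_ : FiniteDimensional F V)
    (σ : Representation F G V), cchar σ = χ

theorem fReal_zero : FReal F G 0 :=
  ⟨PUnit.{max u v + 1}, inferInstance, inferInstance, inferInstance,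
    Representation.trivial F G PUnit.{max u v + 1}, cchar_eq_zero_of_subsingleton _⟩

variable {F G} in
theorem fReal_add {χ ψ : G → ℂ} (h1 : FReal F G χ) (h2 : FReal F G ψ) : FReal F G (χ + ψ) := by
  obtain ⟨V, i1, i2, i3, σ, rfl⟩ := h1
  obtain ⟨W, j1, j2, j3, ρ, rfl⟩ := h2
  exact ⟨V × W, inferInstance, inferInstance, inferInstance, σ.prod ρ, cchar_prod σ ρ⟩

/-- Induced linear characters with values in `F` are realizable over `F`. -/
theorem fReal_indFun [Fintype G] (E : Subgroup G) (μ : E →* F) :
    FReal F G (Cfsg.indFun E (fun e => algebraMap F ℂ (μ e))) := by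
  classical
  exact ⟨(G ⧸ E) → F, inferInstance, inferInstance, inferInstance, matRep (monoMat E μ),
    cchar_matRep_monoMat E μ⟩

end FReal

section Simple

variable {F : Type v} [Field F] [Algebra F ℂ] {G : Type u} [Group G] [Fintype G]

/-- An `F`-representation whose character is not orthogonal to `χ` has a simple constituent
with the same property. -/
theorem exists_irreducible_classInner_ne_zero (χ : G → ℂ)
    (V : Type w) [AddCommGroup V] [Module F V] [FiniteDimensional F V]
    (σ : Representation F G V) (h : classInner (cchar σ) χ ≠ 0) :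
    ∃ (S : Type w) (_ : AddCommGroup S) (_ : Module F S) (_ : FiniteDimensional F S)
      (τ : Representation F G S), τ.IsIrreducible ∧ classInner (cchar τ) χ ≠ 0 := by
  have : NeZero (Nat.card G : F) := ⟨natCast_card_ne_zero F G⟩
  revert h
  revert σ
  revert V
  apply rep_inductionK
  · intro V _ _ _ ρ hV h
    exfalso
    apply h
    rw [cchar_eq_zero_of_subsingleton ρ, classInner_zero_left]
  · intro V _ _ _ ρ U U' hU hU' hc hirr ih h
    by_cases h1 : classInner (cchar (ρ.subrepresentation U hU)) χ = 0
    · apply ih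
      rw [cchar_eq_add_of_isCompl ρ U U' hU hU' hc, classInner_add_left, h1, zero_add] at h
      exact h
    · exact ⟨U, inferInstance, inferInstance, inferInstance, ρ.subrepresentation U hU, hirr, h1⟩

/-- The inner product of the character of any `F`-representation with the character of a simple
`F`-representation `τ` is a multiple of `dim_F End(τ)`. -/
theorem exists_nat_mul_finrank {S : Type w} [AddCommGroup S] [Module F S] [FiniteDimensional F S]
    (τ : Representation F G S) (hτ : τ.IsIrreducible)
    (V : Type w) [AddCommGroup V] [Module F V] [FiniteDimensional F V]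
    (σ : Representation F G V) :
    ∃ k : ℕ, classInner (cchar σ) (cchar τ) =
      (k : ℂ) * (finrank F (IntertwiningMap τ τ) : ℂ) := by
  have : NeZero (Nat.card G : F) := ⟨natCast_card_ne_zero F G⟩
  revert σ
  revert V
  apply rep_inductionK
  · intro V _ _ _ ρ hV
    refine ⟨0, ?_⟩
    rw [cchar_eq_zero_of_subsingleton ρ, classInner_zero_left]
    simp
  · intro V _ _ _ ρ U U' hU hU' hc hirr ih
    obtain ⟨k', hk'⟩ := ih
    rw [cchar_eq_add_of_isCompl ρ U U' hU hU' hc, classInner_add_left, hk']
    by_cases hne : ∃ f : IntertwiningMap τ (ρ.subrepresentation U hU), f ≠ 0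
    · obtain ⟨f, hf⟩ := hne
      have := hτ
      have := hirr
      have hb := (IsIrreducible.bijective_or_eq_zero f).resolve_right hf
      have φ : τ.Equiv (ρ.subrepresentation U hU) := f.ofBijective hb
      refine ⟨k' + 1, ?_⟩
      rw [← cchar_iso φ, classInner_cchar τ τ]
      push_cast
      ring
    · push Not at hne
      have : Subsingleton (IntertwiningMap τ (ρ.subrepresentation U hU)) :=
        ⟨fun a b => by rw [hne a, hne b]⟩
      refine ⟨k', ?_⟩
      rw [classInner_cchar (ρ.subrepresentation U hU) τ, Module.finrank_zero_of_subsingleton]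
      simp

end Simple

section Main

variable {F : Type v} [Field F] [Algebra F ℂ] {G : Type u} [Group G] [Fintype G]

/-- Induction over a Brauer list. -/
theorem brauer_list_induction (P : (G → ℂ) → Prop) (h0 : P 0)
    (hadd : ∀ a b, P a → P b → P (a + b)) (hsmul : ∀ (n : ℤ) a, P a → P ((n : ℂ) • a))
    (l : List ((E : Subgroup G) × ((E →* ℂˣ) × ℤ)))
    (hl : ∀ t ∈ l, P (Cfsg.indFun t.1 (fun e => (t.2.1 e : ℂ)))) :
    P (l.map fun t => (t.2.2 : ℂ) • Cfsg.indFun t.1 (fun e => (t.2.1 e : ℂ))).sum := by
  induction l with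
  | nil => simpa using h0
  | cons t l ih =>
    rw [List.map_cons, List.sum_cons]
    exact hadd _ _ (hsmul _ _ (hl t List.mem_cons_self))
      (ih fun s hs => hl s (List.mem_cons_of_mem _ hs))

/-- **Schur index one**: if `F` contains the values of all linear characters of subgroups of
`G`, then every irreducible complex character of `G` is afforded by an `F`-representation. -/
theorem fReal_of_irr
    (hF : ∀ (E : Subgroup G) (lam : E →* ℂˣ), ∃ μ : E →* F, ∀ e, algebraMap F ℂ (μ e) = (lam e : ℂ))
    {χ : G → ℂ} (hχ : IsIrrCharacter G χ) : FReal F G χ := by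
  classical
  haveI : Fintype (IrrCharacter G) := Fintype.ofFinite _
  have hχc : IsCharacter G χ := IrrCharacter_isCharacter ⟨χ, hχ⟩
  have hχχ : classInner χ χ = 1 := by
    have := irr_orthonormal (⟨χ, hχ⟩ : IrrCharacter G) ⟨χ, hχ⟩
    rwa [if_pos rfl] at this
  obtain ⟨l, -, hl⟩ := Cfsg.Agent.S0163.result χ hχc
  have hind : ∀ (E : Subgroup G) (lam : E →* ℂˣ),
      FReal F G (Cfsg.indFun E (fun e => (lam e : ℂ))) := by
    intro E lam
    obtain ⟨μ, hμ⟩ := hF E lam
    have := fReal_indFun F G E μ
    have h2 : (fun e => algebraMap F ℂ (μ e)) = fun e => (lam e : ℂ) := funext hμ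
    rwa [h2] at this
  -- some induced character is not orthogonal to `χ`
  have hex : ∃ t ∈ l, classInner (Cfsg.indFun t.1 (fun e => (t.2.1 e : ℂ))) χ ≠ 0 := by
    by_contra hall
    push Not at hall
    have := brauer_list_induction (fun φ => classInner φ χ = 0) (classInner_zero_left χ)
      (fun a b ha hb => by rw [classInner_add_left, ha, hb, add_zero])
      (fun n a ha => by rw [classInner_smul_left, ha, mul_zero]) l hall
    rw [← hl, hχχ] at this
    exact one_ne_zero this
  obtain ⟨t, -, hne⟩ := hex
  obtain ⟨V, i1, i2, i3, σ, hσ⟩ := hind t.1 t.2.1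
  rw [← hσ] at hne
  obtain ⟨S, j1, j2, j3, τ, hτirr, hτne⟩ := exists_irreducible_classInner_ne_zero χ V σ hne
  refine ⟨S, j1, j2, j3, τ, ?_⟩
  set ψ := cchar τ with hψdef
  set e := finrank F (IntertwiningMap τ τ) with hedef
  have hψψ : classInner ψ ψ = (e : ℂ) := classInner_cchar τ τ
  have hψc : IsCharacter G ψ := cchar_isCharacter τ
  obtain ⟨c, hc⟩ := classInner_char_nat hψc hχc
  have hc0 : c ≠ 0 := by
    intro h0
    apply hτne
    rw [hc, h0, Nat.cast_zero]
  -- `⟨χ, ψ⟩` is an integer multiple of `e`
  have hK : ∃ K : ℤ, classInner χ ψ = (K : ℂ) * (e : ℂ) := by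
    have := brauer_list_induction (fun φ => ∃ K : ℤ, classInner φ ψ = (K : ℂ) * (e : ℂ))
      ⟨0, by rw [classInner_zero_left]; simp⟩
      (fun a b ha hb => by
        obtain ⟨Ka, hKa⟩ := ha
        obtain ⟨Kb, hKb⟩ := hb
        exact ⟨Ka + Kb, by rw [classInner_add_left, hKa, hKb]; push_cast; ring⟩)
      (fun n a ha => by
        obtain ⟨Ka, hKa⟩ := ha
        exact ⟨n * Ka, by rw [classInner_smul_left, hKa]; push_cast; ring⟩) l
      (fun s _ => by
        obtain ⟨Vs, k1, k2, k3, σs, hσs⟩ := hind s.1 s.2.1
        obtain ⟨k, hk⟩ := exists_nat_mul_finrank τ hτirr Vs σs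
        rw [hσs] at hk
        exact ⟨k, by rw [hk]; push_cast; rfl⟩)
    rwa [← hl] at this
  obtain ⟨K, hK⟩ := hK
  have hχψ : classInner χ ψ = (c : ℂ) := by
    rw [← classInner_conj_symm ψ χ, hc, Complex.conj_natCast]
  have hcK : (c : ℤ) = K * (e : ℤ) := by
    have : ((c : ℤ) : ℂ) = ((K * (e : ℤ) : ℤ) : ℂ) := by
      push_cast
      rw [← hK, hχψ]
    exact_mod_cast this
  -- the norm of `ψ` is at least `c ^ 2`
  have hnorm : c * c ≤ e := by
    have hexp := char_eq_sum_irrMult hψc
    have hn := classInner_sum_irr_self (G := G) (fun φ => (irrMult ψ φ : ℂ))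
    rw [← hexp, hψψ] at hn
    have h2 : e = ∑ φ : IrrCharacter G, irrMult ψ φ * irrMult ψ φ := by
      have : ((e : ℕ) : ℂ) = ((∑ φ : IrrCharacter G, irrMult ψ φ * irrMult ψ φ : ℕ) : ℂ) := by
        push_cast
        rw [hn]
        apply Finset.sum_congr rfl
        intro φ _
        rw [Complex.conj_natCast]
      exact_mod_cast this
    have h3 : irrMult ψ ⟨χ, hχ⟩ = c := by
      have := irrMult_cast hψc ⟨χ, hχ⟩
      rw [hc] at this
      exact_mod_cast this
    rw [h2, ← h3]
    exact Finset.single_le_sum (f := fun φ : IrrCharacter G => irrMult ψ φ * irrMult ψ φ)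
      (fun _ _ => Nat.zero_le _) (Finset.mem_univ _)
  -- arithmetic: `c = e = 1`
  have hcpos : 0 < c := Nat.pos_of_ne_zero hc0
  have hKpos : 0 < K := by
    by_contra hK0
    push Not at hK0
    have : K * (e : ℤ) ≤ 0 := mul_nonpos_of_nonpos_of_nonneg hK0 (by positivity)
    have h2 : (0 : ℤ) < c := by exact_mod_cast hcpos
    omega
  have hec : e ≤ c := by
    have h1 : (e : ℤ) ≤ K * (e : ℤ) := by
      have : (0 : ℤ) ≤ e := by positivity
      nlinarith
    have : (e : ℤ) ≤ c := by rw [hcK]; exact h1
    exact_mod_cast this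
  have hc1 : c = 1 := by
    have : c * c ≤ c := le_trans hnorm hec
    nlinarith
  have he1 : e = 1 := by
    rw [hc1] at hnorm hec
    omega
  -- conclude
  rw [he1, Nat.cast_one] at hψψ
  have hψirr : IsIrrCharacter G ψ := isIrrCharacter_of_norm_one hψc hψψ
  have horth := irr_orthonormal (⟨ψ, hψirr⟩ : IrrCharacter G) ⟨χ, hχ⟩
  by_cases heq : (⟨ψ, hψirr⟩ : IrrCharacter G) = ⟨χ, hχ⟩
  · exact congrArg Subtype.val heq
  · rw [if_neg heq] at horth
    exact absurd horth hτne

/-- If `F` contains the values of all linear characters of subgroups of `G`, then every complex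
character of `G` is afforded by an `F`-representation. -/
theorem fReal_of_isCharacter
    (hF : ∀ (E : Subgroup G) (lam : E →* ℂˣ), ∃ μ : E →* F, ∀ e, algebraMap F ℂ (μ e) = (lam e : ℂ))
    {χ : G → ℂ} (hχ : IsCharacter G χ) : FReal F G χ := by
  obtain ⟨l, hl, rfl⟩ := Cfsg.Agent.Lib.Helper05.exists_multiset_irr hχ
  clear hχ
  induction l using Multiset.induction_on with
  | empty => simpa using fReal_zero F G
  | cons a l ih =>
    rw [Multiset.sum_cons]
    exact fReal_add (fReal_of_irr hF (hl a (Multiset.mem_cons_self a l)))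
      (ih fun ψ hψ => hl ψ (Multiset.mem_cons_of_mem hψ))

end Main

end Cfsg.Agent.Lib.Helper83
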